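/-
Squares in finite fields of odd characteristic.
-/
import Mathlib

set_option autoImplicit false

namespace CfsgLib.Classical

open Polynomial

variable {F : Type*} [Field F] [Finite F]

/-- `a x² + b y²` represents every element. -/
theorem exists_mul_sq_add_mul_sq (h2 : (2 : F) ≠ 0) {a b : F} (ha : a ≠ 0) (hb : b ≠ 0) (c : F) :
    ∃ x y : F, a * x ^ 2 + b * y ^ 2 = c := by
  have := Fintype.ofFinite F
  have hodd : Fintype.card F % 2 = 1 := by
    refine FiniteField.odd_card_of_char_ne_two fun h => h2 ?_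
    have : CharP F 2 := h ▸ ringChar.charP F
    exact CharTwo.two_eq_zero
  obtain ⟨x, y, hxy⟩ := FiniteField.exists_root_sum_quadratic (R := F)
    (f := C a * X ^ 2) (g := C b * X ^ 2 + C (-c))
    (degree_C_mul_X_pow 2 ha) (by
      rw [degree_add_eq_left_of_degree_lt]
      · exact degree_C_mul_X_pow 2 hb
      · rw [degree_C_mul_X_pow 2 hb]
        exact degree_C_le.trans_lt (by norm_num)) hodd
  refine ⟨x, y, ?_⟩
  simp only [eval_mul, eval_add, eval_C, eval_pow, eval_X] at hxy
  linear_combination hxy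

theorem exists_sq_add_sq (h2 : (2 : F) ≠ 0) (c : F) : ∃ x y : F, x ^ 2 + y ^ 2 = c := by
  obtain ⟨x, y, h⟩ := exists_mul_sq_add_mul_sq h2 (one_ne_zero (α := F)) one_ne_zero c
  exact ⟨x, y, by simpa using h⟩

theorem two_ne_zero_of_odd_card [Fintype F] (h : Odd (Fintype.card F)) : (2 : F) ≠ 0 := by
  refine Ring.two_ne_zero fun hc => ?_
  have := FiniteField.even_card_iff_char_two.1 hc
  rw [Nat.odd_iff] at h
  omega

end CfsgLib.Classical
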