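/-
The symplectic form `Cfsg.sympForm`, symplectic transvections, and transitivity of the groups
generated by transvections on non-zero vectors and on hyperbolic pairs.
-/
import Mathlib
import Cfsg.Prelude.Def_ClassicalGeometry

set_option autoImplicit false

namespace CfsgLib.Classical

open Matrix Cfsg

variable {F : Type*} [Field F] {m : ℕ}

theorem sympForm_eq (u v : Fin m ⊕ Fin m → F) :
    sympForm m F u v =
      ∑ i, (u (Sum.inr i) * v (Sum.inl i) - u (Sum.inl i) * v (Sum.inr i)) := by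
  rw [sympForm, J, fromBlocks_mulVec, dotProduct, Fintype.sum_sum_type]
  simp [Matrix.neg_mulVec, Finset.sum_sub_distrib, Finset.sum_neg_distrib]
  ring

theorem sympForm_add_left (u u' v : Fin m ⊕ Fin m → F) :
    sympForm m F (u + u') v = sympForm m F u v + sympForm m F u' v := by
  simp [sympForm, add_dotProduct]

theorem sympForm_add_right (u v v' : Fin m ⊕ Fin m → F) :
    sympForm m F u (v + v') = sympForm m F u v + sympForm m F u v' := by
  simp [sympForm, mulVec_add, dotProduct_add]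

theorem sympForm_smul_left (a : F) (u v : Fin m ⊕ Fin m → F) :
    sympForm m F (a • u) v = a * sympForm m F u v := by
  simp [sympForm, smul_dotProduct]

theorem sympForm_smul_right (a : F) (u v : Fin m ⊕ Fin m → F) :
    sympForm m F u (a • v) = a * sympForm m F u v := by
  simp [sympForm, mulVec_smul, dotProduct_smul]

theorem sympForm_sub_left (u u' v : Fin m ⊕ Fin m → F) :
    sympForm m F (u - u') v = sympForm m F u v - sympForm m F u' v := by
  simp [sympForm, sub_dotProduct]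

theorem sympForm_sub_right (u v v' : Fin m ⊕ Fin m → F) :
    sympForm m F u (v - v') = sympForm m F u v - sympForm m F u v' := by
  simp [sympForm, mulVec_sub, dotProduct_sub]

@[simp] theorem sympForm_zero_left (v : Fin m ⊕ Fin m → F) : sympForm m F 0 v = 0 := by
  simp [sympForm]

@[simp] theorem sympForm_zero_right (v : Fin m ⊕ Fin m → F) : sympForm m F v 0 = 0 := by
  simp [sympForm]

theorem sympForm_self (v : Fin m ⊕ Fin m → F) : sympForm m F v v = 0 := by
  rw [sympForm_eq]
  exact Finset.sum_eq_zero fun i _ => by ring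

theorem sympForm_swap (u v : Fin m ⊕ Fin m → F) : sympForm m F v u = - sympForm m F u v := by
  rw [sympForm_eq, sympForm_eq, ← Finset.sum_neg_distrib]
  exact Finset.sum_congr rfl fun i _ => by ring

theorem sympForm_single_inl (v : Fin m ⊕ Fin m → F) (i : Fin m) :
    sympForm m F v (Pi.single (Sum.inl i) 1) = v (Sum.inr i) := by
  rw [sympForm_eq, Finset.sum_eq_single i] <;> simp +contextual [Pi.single_apply]

theorem sympForm_single_inr (v : Fin m ⊕ Fin m → F) (i : Fin m) :
    sympForm m F v (Pi.single (Sum.inr i) 1) = - v (Sum.inl i) := by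
  rw [sympForm_eq, Finset.sum_eq_single i] <;> simp +contextual [Pi.single_apply]

theorem sympForm_nondeg {v : Fin m ⊕ Fin m → F} (h : ∀ w, sympForm m F v w = 0) : v = 0 := by
  funext i
  rcases i with i | i
  · simpa [sympForm_single_inr] using h (Pi.single (Sum.inr i) 1)
  · simpa [sympForm_single_inl] using h (Pi.single (Sum.inl i) 1)

theorem exists_sympForm_ne_zero {v : Fin m ⊕ Fin m → F} (h : v ≠ 0) :
    ∃ w, sympForm m F v w ≠ 0 := by
  by_contra hc
  exact h (sympForm_nondeg (by simpa using hc))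

/-- `sympForm` as a bilinear form. -/
def spBilin (m : ℕ) (F : Type*) [Field F] : LinearMap.BilinForm F (Fin m ⊕ Fin m → F) :=
  LinearMap.mk₂ F (sympForm m F) sympForm_add_left (fun a u v => sympForm_smul_left a u v)
    sympForm_add_right (fun a u v => sympForm_smul_right a u v)

@[simp] theorem spBilin_apply (u v : Fin m ⊕ Fin m → F) : spBilin m F u v = sympForm m F u v :=
  rfl

theorem spBilin_isAlt : (spBilin m F).IsAlt := fun v => sympForm_self v

theorem spBilin_nondegenerate : (spBilin m F).Nondegenerate :=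
  ⟨fun _ h => sympForm_nondeg h,
   fun v h => sympForm_nondeg fun w => by rw [sympForm_swap, ← spBilin_apply, h w, neg_zero]⟩

theorem sympForm_mulVec (A : Matrix (Fin m ⊕ Fin m) (Fin m ⊕ Fin m) F)
    (u v : Fin m ⊕ Fin m → F) :
    sympForm m F (A *ᵥ u) (A *ᵥ v) = u ⬝ᵥ ((Aᵀ * J (Fin m) F * A) *ᵥ v) := by
  rw [sympForm, ← mulVec_mulVec, ← mulVec_mulVec, dotProduct_mulVec u Aᵀ, vecMul_transpose]

/-- The symplectic group is the isometry group of `sympForm`. -/
theorem mem_sp_iff {A : Matrix (Fin m ⊕ Fin m) (Fin m ⊕ Fin m) F} :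
    A ∈ symplecticGroup (Fin m) F ↔
      ∀ u v, sympForm m F (A *ᵥ u) (A *ᵥ v) = sympForm m F u v := by
  rw [SymplecticGroup.mem_iff']
  constructor
  · intro h u v
    rw [sympForm_mulVec, h]
    rfl
  · intro h
    ext i j
    have := h (Pi.single i 1) (Pi.single j 1)
    rw [sympForm_mulVec] at this
    simpa [sympForm] using this

theorem sp_form (g : symplecticGroup (Fin m) F) (u v : Fin m ⊕ Fin m → F) :
    sympForm m F (g.1 *ᵥ u) (g.1 *ᵥ v) = sympForm m F u v :=
  mem_sp_iff.1 g.2 u v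

theorem sp_mulVec_injective (g : symplecticGroup (Fin m) F) :
    Function.Injective (g.1 *ᵥ ·) := by
  intro u v h
  refine sub_eq_zero.1 (sympForm_nondeg fun w => ?_)
  rw [← sp_form g, mulVec_sub, sub_eq_zero.2 h, sympForm_zero_left]

theorem sp_inv_mulVec (g : symplecticGroup (Fin m) F) (u : Fin m ⊕ Fin m → F) :
    g⁻¹.1 *ᵥ (g.1 *ᵥ u) = u := by
  rw [mulVec_mulVec, ← Submonoid.coe_mul, inv_mul_cancel, Submonoid.coe_one, one_mulVec]

theorem sp_mulVec_inv (g : symplecticGroup (Fin m) F) (u : Fin m ⊕ Fin m → F) :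
    g.1 *ᵥ (g⁻¹.1 *ᵥ u) = u := by
  rw [mulVec_mulVec, ← Submonoid.coe_mul, mul_inv_cancel, Submonoid.coe_one, one_mulVec]

theorem sp_ext {g h : symplecticGroup (Fin m) F} (H : ∀ u, g.1 *ᵥ u = h.1 *ᵥ u) : g = h :=
  Subtype.ext (Matrix.ext_of_mulVec_single fun i => H _)

theorem sympTransvection_mulVec (v : Fin m ⊕ Fin m → F) (c : F) (x : Fin m ⊕ Fin m → F) :
    sympTransvection m v c *ᵥ x = x + (c * sympForm m F x v) • v := by
  rw [sympTransvection, add_mulVec, one_mulVec, smul_mulVec, vecMulVec_mulVec]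
  simp [smul_smul, sympForm, dotProduct_comm x]

theorem sympTransvection_mem (v : Fin m ⊕ Fin m → F) (c : F) :
    sympTransvection m v c ∈ symplecticGroup (Fin m) F := by
  rw [mem_sp_iff]
  intro x y
  simp only [sympTransvection_mulVec, sympForm_add_left, sympForm_add_right, sympForm_smul_left,
    sympForm_smul_right, sympForm_self]
  rw [sympForm_swap y v]
  ring

/-- The symplectic transvection as a group element. -/
def spT (v : Fin m ⊕ Fin m → F) (c : F) : symplecticGroup (Fin m) F :=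
  ⟨sympTransvection m v c, sympTransvection_mem v c⟩

theorem spT_apply (v : Fin m ⊕ Fin m → F) (c : F) (x : Fin m ⊕ Fin m → F) :
    (spT v c).1 *ᵥ x = x + (c * sympForm m F x v) • v :=
  sympTransvection_mulVec v c x

theorem spT_fix {v x : Fin m ⊕ Fin m → F} (h : sympForm m F x v = 0) (c : F) :
    (spT v c).1 *ᵥ x = x := by
  simp [spT_apply, h]

theorem spT_mul (v : Fin m ⊕ Fin m → F) (c d : F) : spT v c * spT v d = spT v (c + d) := by
  refine sp_ext fun x => ?_
  rw [Submonoid.coe_mul, ← mulVec_mulVec, spT_apply v d, mulVec_add, mulVec_smul,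
    spT_fix (sympForm_self v), spT_apply, spT_apply, add_assoc, ← add_smul]
  congr 2
  ring

theorem spT_zero (v : Fin m ⊕ Fin m → F) : spT v 0 = 1 :=
  sp_ext fun x => by simp [spT_apply]

theorem spT_inv (v : Fin m ⊕ Fin m → F) (c : F) : (spT v c)⁻¹ = spT v (-c) :=
  inv_eq_of_mul_eq_one_right (by rw [spT_mul, add_neg_cancel, spT_zero])

theorem spT_smul (v : Fin m ⊕ Fin m → F) (a c : F) : spT (a • v) c = spT v (c * a ^ 2) :=
  sp_ext fun x => by
    simp only [spT_apply, sympForm_smul_right, smul_smul]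
    congr 2
    ring

theorem spT_conj (g : symplecticGroup (Fin m) F) (v : Fin m ⊕ Fin m → F) (c : F) :
    g * spT v c * g⁻¹ = spT (g.1 *ᵥ v) c := by
  refine sp_ext fun x => ?_
  rw [Submonoid.coe_mul, Submonoid.coe_mul, ← mulVec_mulVec, ← mulVec_mulVec, spT_apply,
    spT_apply, mulVec_add, mulVec_smul, sp_mulVec_inv, ← sp_form g (g⁻¹.1 *ᵥ x) v, sp_mulVec_inv]

/-- The subgroup generated by transvections along vectors of a set `S`. -/
def spTGroup (S : Set (Fin m ⊕ Fin m → F)) : Subgroup (symplecticGroup (Fin m) F) :=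
  Subgroup.closure {A | ∃ v ∈ S, ∃ c, A = spT v c}

theorem spT_mem_spTGroup {S : Set (Fin m ⊕ Fin m → F)} {v : Fin m ⊕ Fin m → F} (hv : v ∈ S)
    (c : F) : spT v c ∈ spTGroup S :=
  Subgroup.subset_closure ⟨v, hv, c, rfl⟩

theorem spTGroup_mono {S T : Set (Fin m ⊕ Fin m → F)} (h : S ⊆ T) : spTGroup S ≤ spTGroup T :=
  Subgroup.closure_mono fun _ ⟨v, hv, c, hc⟩ => ⟨v, h hv, c, hc⟩

theorem spTGroup_fix {S : Set (Fin m ⊕ Fin m → F)} {x : Fin m ⊕ Fin m → F}
    (hS : ∀ v ∈ S, sympForm m F x v = 0) {g : symplecticGroup (Fin m) F} (hg : g ∈ spTGroup S) :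
    g.1 *ᵥ x = x := by
  induction hg using Subgroup.closure_induction with
  | mem g hg => obtain ⟨v, hv, c, rfl⟩ := hg; exact spT_fix (hS v hv) c
  | one => simp
  | mul a b _ _ ha hb => rw [Submonoid.coe_mul, ← mulVec_mulVec, hb, ha]
  | inv a _ ha => conv_lhs => rw [← ha, sp_inv_mulVec]

/-- If two functionals `f(·, v)`, `f(·, w)` are non-zero on a subspace, some vector of the
subspace is non-zero on both. -/
theorem exists_both_ne_zero (W : Submodule F (Fin m ⊕ Fin m → F))
    {v w : Fin m ⊕ Fin m → F} (hv : ∃ z ∈ W, sympForm m F v z ≠ 0)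
    (hw : ∃ z ∈ W, sympForm m F w z ≠ 0) :
    ∃ z ∈ W, sympForm m F v z ≠ 0 ∧ sympForm m F w z ≠ 0 := by
  obtain ⟨a, ha, hva⟩ := hv
  obtain ⟨b, hb, hwb⟩ := hw
  by_cases h1 : sympForm m F w a = 0
  · by_cases h2 : sympForm m F v b = 0
    · exact ⟨a + b, W.add_mem ha hb, by simp [sympForm_add_right, h2, hva],
        by simp [sympForm_add_right, h1, hwb]⟩
    · exact ⟨b, hb, h2, hwb⟩
  · exact ⟨a, ha, hva, h1⟩

theorem spT_move {v w : Fin m ⊕ Fin m → F} (h : sympForm m F v w ≠ 0) :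
    (spT (w - v) (sympForm m F v w)⁻¹).1 *ᵥ v = w := by
  rw [spT_apply, sympForm_sub_right, sympForm_self, sub_zero, inv_mul_cancel₀ h, one_smul]
  abel

/-- Transitivity inside a subspace `W`: non-orthogonality to a common vector of `W` is enough. -/
theorem exists_spTGroup_move (W : Submodule F (Fin m ⊕ Fin m → F))
    {v w : Fin m ⊕ Fin m → F} (hv : v ∈ W) (hw : w ∈ W)
    (hv' : ∃ z ∈ W, sympForm m F v z ≠ 0) (hw' : ∃ z ∈ W, sympForm m F w z ≠ 0) :
    ∃ g ∈ spTGroup (W : Set (Fin m ⊕ Fin m → F)), g.1 *ᵥ v = w := by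
  obtain ⟨z, hz, hvz, hwz⟩ := exists_both_ne_zero W hv' hw'
  have hzw : sympForm m F z w ≠ 0 := by rwa [sympForm_swap, neg_ne_zero]
  refine ⟨_, mul_mem (spT_mem_spTGroup (W.sub_mem hw hz) (sympForm m F z w)⁻¹)
    (spT_mem_spTGroup (W.sub_mem hz hv) (sympForm m F v z)⁻¹), ?_⟩
  rw [Submonoid.coe_mul, ← mulVec_mulVec, spT_move hvz, spT_move hzw]

/-- With `u` fixed, any partner of `u` moves to any other. -/
theorem exists_spTGroup_move_partner (W : Submodule F (Fin m ⊕ Fin m → F))
    {u v v' : Fin m ⊕ Fin m → F} (hu : u ∈ W) (hv : v ∈ W) (hv' : v' ∈ W)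
    (h : sympForm m F u v = 1) (h' : sympForm m F u v' = 1) :
    ∃ g ∈ spTGroup (W : Set (Fin m ⊕ Fin m → F)), g.1 *ᵥ u = u ∧ g.1 *ᵥ v = v' := by
  by_cases hvv : sympForm m F v v' = 0
  · have h1 : sympForm m F v (u + v) ≠ 0 := by
      simp [sympForm_add_right, sympForm_self, sympForm_swap u v, h]
    have h2 : sympForm m F (u + v) v' ≠ 0 := by simp [sympForm_add_left, h', hvv]
    have hz : u + v ∈ W := W.add_mem hu hv
    refine ⟨_, mul_mem (spT_mem_spTGroup (W.sub_mem hv' hz) (sympForm m F (u + v) v')⁻¹)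
      (spT_mem_spTGroup (W.sub_mem hz hv) (sympForm m F v (u + v))⁻¹), ?_, ?_⟩
    · have e1 : (spT (u + v - v) (sympForm m F v (u + v))⁻¹).1 *ᵥ u = u :=
        spT_fix (by simp [sympForm_self]) _
      rw [Submonoid.coe_mul, ← mulVec_mulVec, e1,
        spT_fix (by simp [sympForm_sub_right, sympForm_add_right, sympForm_self, h, h'])]
    · rw [Submonoid.coe_mul, ← mulVec_mulVec, spT_move h1, spT_move h2]
  · exact ⟨_, spT_mem_spTGroup (W.sub_mem hv' hv) (sympForm m F v v')⁻¹,
      spT_fix (by simp [sympForm_sub_right, h, h']) _, spT_move hvv⟩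

/-- Transitivity on hyperbolic pairs inside a subspace. -/
theorem exists_spTGroup_move_pair (W : Submodule F (Fin m ⊕ Fin m → F))
    {u v u' v' : Fin m ⊕ Fin m → F} (hu : u ∈ W) (hv : v ∈ W) (hu' : u' ∈ W) (hv' : v' ∈ W)
    (h : sympForm m F u v = 1) (h' : sympForm m F u' v' = 1) :
    ∃ g ∈ spTGroup (W : Set (Fin m ⊕ Fin m → F)), g.1 *ᵥ u = u' ∧ g.1 *ᵥ v = v' := by
  obtain ⟨g, hg, hgu⟩ := exists_spTGroup_move W hu hu' ⟨v, hv, by simp [h]⟩ ⟨v', hv', by simp [h']⟩
  have hgv : g.1 *ᵥ v ∈ W := by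
    suffices ∀ g ∈ spTGroup (W : Set (Fin m ⊕ Fin m → F)), ∀ x ∈ W, g.1 *ᵥ x ∈ W from this g hg v hv
    intro g hg
    induction hg using Subgroup.closure_induction_left with
    | one => simp
    | mul_left a ha b _ hb =>
      obtain ⟨t, ht, c, rfl⟩ := ha
      intro x hx
      rw [Submonoid.coe_mul, ← mulVec_mulVec, spT_apply]
      exact W.add_mem (hb x hx) (W.smul_mem _ ht)
    | inv_mul_cancel a ha b _ hb =>
      obtain ⟨t, ht, c, rfl⟩ := ha
      intro x hx
      rw [Submonoid.coe_mul, ← mulVec_mulVec, spT_inv, spT_apply]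
      exact W.add_mem (hb x hx) (W.smul_mem _ ht)
  obtain ⟨k, hk, hku, hkv⟩ := exists_spTGroup_move_partner W hu' hgv hv'
    (by rw [← hgu, sp_form, h]) h'
  exact ⟨k * g, mul_mem hk hg, by rw [Submonoid.coe_mul, ← mulVec_mulVec, hgu, hku],
    by rw [Submonoid.coe_mul, ← mulVec_mulVec, hkv]⟩

theorem exists_sp_move {v w : Fin m ⊕ Fin m → F} (hv : v ≠ 0) (hw : w ≠ 0) :
    ∃ g ∈ spTGroup (Set.univ : Set (Fin m ⊕ Fin m → F)), g.1 *ᵥ v = w := by
  obtain ⟨a, ha⟩ := exists_sympForm_ne_zero hv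
  obtain ⟨b, hb⟩ := exists_sympForm_ne_zero hw
  simpa using exists_spTGroup_move ⊤ (Submodule.mem_top : v ∈ ⊤) (Submodule.mem_top : w ∈ ⊤)
    ⟨a, trivial, ha⟩ ⟨b, trivial, hb⟩

theorem exists_sp_move_pair {u v u' v' : Fin m ⊕ Fin m → F} (h : sympForm m F u v = 1)
    (h' : sympForm m F u' v' = 1) :
    ∃ g ∈ spTGroup (Set.univ : Set (Fin m ⊕ Fin m → F)), g.1 *ᵥ u = u' ∧ g.1 *ᵥ v = v' := by
  simpa using exists_spTGroup_move_pair ⊤ (Submodule.mem_top : u ∈ ⊤) (Submodule.mem_top : v ∈ ⊤)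
    (Submodule.mem_top : u' ∈ ⊤) (Submodule.mem_top : v' ∈ ⊤) h h'

/-- The span of the coordinate hyperbolic pairs outside a set of indices. -/
def coordPerp (s : Finset (Fin m)) : Submodule F (Fin m ⊕ Fin m → F) where
  carrier := {x | ∀ i ∈ s, x (Sum.inl i) = 0 ∧ x (Sum.inr i) = 0}
  add_mem' hx hy i hi := by simp [hx i hi, hy i hi]
  zero_mem' i _ := by simp
  smul_mem' a x hx i hi := by simp [hx i hi]

theorem sp_fix_mem_coordPerp {s : Finset (Fin m)} {g : symplecticGroup (Fin m) F}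
    (h : ∀ i ∈ s, g.1 *ᵥ Pi.single (Sum.inl i) 1 = Pi.single (Sum.inl i) 1 ∧
      g.1 *ᵥ Pi.single (Sum.inr i) 1 = Pi.single (Sum.inr i) 1)
    {x : Fin m ⊕ Fin m → F} (hx : x ∈ coordPerp s) : g.1 *ᵥ x ∈ coordPerp s := by
  intro i hi
  have h1 := sp_form g x (Pi.single (Sum.inl i) 1)
  have h2 := sp_form g x (Pi.single (Sum.inr i) 1)
  rw [(h i hi).1, sympForm_single_inl, sympForm_single_inl, (hx i hi).2] at h1
  rw [(h i hi).2, sympForm_single_inr, sympForm_single_inr, (hx i hi).1, neg_inj] at h2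
  exact ⟨h2, h1⟩

/-- The symplectic group is generated by transvections. -/
theorem spTGroup_univ : spTGroup (Set.univ : Set (Fin m ⊕ Fin m → F)) = ⊤ := by
  classical
  set T := spTGroup (Set.univ : Set (Fin m ⊕ Fin m → F))
  suffices H : ∀ (s : Finset (Fin m)) (g : symplecticGroup (Fin m) F),
      (∀ i ∉ s, g.1 *ᵥ Pi.single (Sum.inl i) 1 = Pi.single (Sum.inl i) 1 ∧
        g.1 *ᵥ Pi.single (Sum.inr i) 1 = Pi.single (Sum.inr i) 1) → g ∈ T by
    exact eq_top_iff.2 fun g _ => H Finset.univ g (by simp)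
  intro s
  induction s using Finset.induction_on with
  | empty =>
    intro g hg
    have : g = 1 := Subtype.ext (Matrix.ext_of_mulVec_single fun j => by
      rcases j with j | j
      · rw [(hg j (by simp)).1, Submonoid.coe_one, one_mulVec]
      · rw [(hg j (by simp)).2, Submonoid.coe_one, one_mulVec])
    rw [this]
    exact one_mem T
  | insert a s ha ih =>
    intro g hg
    set C := Finset.univ.filter (fun i => i ∉ insert a s) with hC
    have hCfix : ∀ i ∈ C, g.1 *ᵥ Pi.single (Sum.inl i) 1 = Pi.single (Sum.inl i) 1 ∧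
        g.1 *ᵥ Pi.single (Sum.inr i) 1 = Pi.single (Sum.inr i) 1 := by
      intro i hi
      exact hg i (Finset.mem_filter.1 hi).2
    have hea : (Pi.single (Sum.inl a) 1 : Fin m ⊕ Fin m → F) ∈ coordPerp C := by
      intro i hi
      have : i ≠ a := fun h => (Finset.mem_filter.1 hi).2 (by simp [h])
      simp [this]
    have hfa : (Pi.single (Sum.inr a) 1 : Fin m ⊕ Fin m → F) ∈ coordPerp C := by
      intro i hi
      have : i ≠ a := fun h => (Finset.mem_filter.1 hi).2 (by simp [h])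
      simp [this]
    have hpair : sympForm m F (Pi.single (Sum.inr a) 1) (Pi.single (Sum.inl a) 1) = 1 := by
      simp [sympForm_single_inl]
    obtain ⟨k, hk, hk1, hk2⟩ := exists_spTGroup_move_pair (coordPerp C)
      (sp_fix_mem_coordPerp hCfix hfa) (sp_fix_mem_coordPerp hCfix hea) hfa hea
      ((sp_form g _ _).trans hpair) hpair
    have hkg : k * g ∈ T := by
      apply ih
      intro i hi
      rw [Submonoid.coe_mul, ← mulVec_mulVec, ← mulVec_mulVec]
      by_cases hia : i = a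
      · subst hia
        exact ⟨hk2, hk1⟩
      · have hiC : i ∈ C := by simp [hC, hi, hia]
        rw [(hCfix i hiC).1, (hCfix i hiC).2]
        constructor
        · refine spTGroup_fix (fun v hv => ?_) hk
          rw [sympForm_swap, sympForm_single_inl, (hv i hiC).2, neg_zero]
        · refine spTGroup_fix (fun v hv => ?_) hk
          rw [sympForm_swap, sympForm_single_inr, (hv i hiC).1, neg_zero, neg_zero]
    have hkT : k ∈ T := spTGroup_mono (Set.subset_univ _) hk
    exact (mul_mem_cancel_left hkT).1 hkg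

theorem spT_closure_eq_top : Subgroup.closure {A : symplecticGroup (Fin m) F |
    ∃ (w : Fin m ⊕ Fin m → F) (c : F),
      (A : Matrix (Fin m ⊕ Fin m) (Fin m ⊕ Fin m) F) = sympTransvection m w c} = ⊤ := by
  rw [← spTGroup_univ]
  unfold spTGroup
  congr 1
  ext A
  constructor
  · rintro ⟨w, c, h⟩
    exact ⟨w, trivial, c, Subtype.ext h⟩
  · rintro ⟨w, -, c, rfl⟩
    exact ⟨w, c, rfl⟩

end CfsgLib.Classical
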