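/-
Symplectic bases of alternating forms, and isometries between alternating spaces.
-/
import Cfsg.Agent.Lib.Classical.SpBasic

set_option autoImplicit false

namespace CfsgLib.Classical

variable {F V : Type*} [Field F] [AddCommGroup V] [Module F V] [FiniteDimensional F V]

omit [FiniteDimensional F V] in
/-- A hyperbolic family for an alternating form is linearly independent modulo the radical. -/
theorem hyperbolic_coeff {m : ℕ} (B : LinearMap.BilinForm F V) (hA : B.IsAlt) (a c : Fin m → V)
    (hac : ∀ i j, B (a i) (c j) = if i = j then 1 else 0) (haa : ∀ i j, B (a i) (a j) = 0)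
    (hcc : ∀ i j, B (c i) (c j) = 0) (α γ : Fin m → F) (r : V) (hr : ∀ v, B v r = 0) (i : Fin m) :
    B (a i) ((∑ j, α j • a j) + (∑ j, γ j • c j) + r) = γ i ∧
      B (c i) ((∑ j, α j • a j) + (∑ j, γ j • c j) + r) = -α i := by
  have hca : ∀ i j, B (c i) (a j) = -(if j = i then 1 else 0) := fun i j => by
    rw [← LinearMap.IsAlt.neg hA, hac]
  constructor <;> simp [map_sum, haa, hac, hcc, hca, hr]

/-- Every alternating form has a symplectic basis. -/
theorem exists_alt_basis (B : LinearMap.BilinForm F V) (hA : B.IsAlt) :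
    ∃ (m k : ℕ) (b : Module.Basis ((Fin m ⊕ Fin m) ⊕ Fin k) F V),
      (∀ i j : Fin m, B (b (Sum.inl (Sum.inl i))) (b (Sum.inl (Sum.inr j))) = if i = j then 1 else 0) ∧
      (∀ i j : Fin m, B (b (Sum.inl (Sum.inl i))) (b (Sum.inl (Sum.inl j))) = 0) ∧
      (∀ i j : Fin m, B (b (Sum.inl (Sum.inr i))) (b (Sum.inl (Sum.inr j))) = 0) ∧
      (∀ (j : Fin k) (v : V), B (b (Sum.inr j)) v = 0) := by
  classical
  let P : ℕ → Prop := fun m => ∃ a c : Fin m → V, (∀ i j, B (a i) (c j) = if i = j then 1 else 0) ∧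
    (∀ i j, B (a i) (a j) = 0) ∧ (∀ i j, B (c i) (c j) = 0)
  have hbound : ∀ m, P m → m ≤ Module.finrank F V := by
    rintro m ⟨a, c, hac, haa, hcc⟩
    have hli : LinearIndependent F a := by
      rw [Fintype.linearIndependent_iff]
      intro α hα i
      have h := (hyperbolic_coeff B hA a c hac haa hcc α 0 0 (by simp) i).2
      simp [hα] at h
      exact h
    simpa using hli.fintype_card_le_finrank
  have h0 : P 0 := ⟨![], ![], fun i => i.elim0, fun i => i.elim0, fun i => i.elim0⟩
  have hex : ∃ m, P m ∧ ¬ P (m + 1) := by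
    by_contra hc
    push Not at hc
    have hall : ∀ m, P m := fun m => Nat.rec h0 (fun n ih => hc n ih) m
    exact absurd (hbound _ (hall (Module.finrank F V + 1))) (by omega)
  obtain ⟨m, ⟨a, c, hac, haa, hcc⟩, hmax⟩ := hex
  have hca : ∀ i j, B (c i) (a j) = -(if j = i then 1 else 0) := fun i j => by
    rw [← LinearMap.IsAlt.neg hA, hac]
  let p : V → V := fun x => x - (∑ i, (-B (c i) x) • a i) - ∑ i, B (a i) x • c i
  have hpa : ∀ i x, B (a i) (p x) = 0 := fun i x => by simp [p, map_sum, haa, hac]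
  have hpc : ∀ i x, B (c i) (p x) = 0 := fun i x => by simp [p, map_sum, hcc, hca]
  have hap : ∀ i x, B (p x) (a i) = 0 := fun i x => by rw [← LinearMap.IsAlt.neg hA, hpa, neg_zero]
  have hcp : ∀ i x, B (p x) (c i) = 0 := fun i x => by rw [← LinearMap.IsAlt.neg hA, hpc, neg_zero]
  have hpp : ∀ x y, B (p x) (p y) = 0 := by
    intro x y
    by_contra hne
    refine hmax ⟨Fin.snoc a (p x), Fin.snoc c ((B (p x) (p y))⁻¹ • p y), ?_, ?_, ?_⟩
    · intro i j
      induction i using Fin.lastCases <;> induction j using Fin.lastCases <;>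
        simp [hac, hpa, hcp, hne, Fin.castSucc_ne_last, (Fin.castSucc_ne_last _).symm]
    · intro i j
      induction i using Fin.lastCases <;> induction j using Fin.lastCases <;>
        simp [haa, hpa, hap, hA (p x)]
    · intro i j
      induction i using Fin.lastCases <;> induction j using Fin.lastCases <;>
        simp [hcc, hpc, hcp, hA (p y)]
  have hx : ∀ x, x = (∑ i, (-B (c i) x) • a i) + (∑ i, B (a i) x • c i) + p x := fun x => by
    simp [p]
  have hrad : ∀ x v, B v (p x) = 0 := fun x v => by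
    rw [hx v]
    simp [map_sum, hpa, hpc, hpp]
  let R := LinearMap.ker B
  have hR : ∀ x, x ∈ R ↔ ∀ v, B v x = 0 := fun x => by
    refine ⟨fun h v => ?_, fun h => LinearMap.mem_ker.2 (LinearMap.ext fun v => ?_)⟩
    · rw [← LinearMap.IsAlt.neg hA, LinearMap.mem_ker.1 h]; simp
    · rw [← LinearMap.IsAlt.neg hA, h v, neg_zero, LinearMap.zero_apply]
  let r := Module.finBasis F R
  let f : (Fin m ⊕ Fin m) ⊕ Fin (Module.finrank F R) → V :=
    Sum.elim (Sum.elim a c) fun j => (r j : V)
  have hsum : ∀ g : (Fin m ⊕ Fin m) ⊕ Fin (Module.finrank F R) → F,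
      ∑ i, g i • f i = (∑ i, g (.inl (.inl i)) • a i) + (∑ i, g (.inl (.inr i)) • c i) +
        ((∑ j, g (.inr j) • r j : R) : V) := fun g => by
    simp [f, Fintype.sum_sum_type]
  have hli : LinearIndependent F f := by
    rw [Fintype.linearIndependent_iff]
    intro g hg
    rw [hsum] at hg
    have hr : ∀ v, B v ((∑ j, g (.inr j) • r j : R) : V) = 0 :=
      (hR _).1 (Submodule.coe_mem _)
    have hα : ∀ i, g (.inl (.inl i)) = 0 ∧ g (.inl (.inr i)) = 0 := fun i => by
      obtain ⟨h1, h2⟩ := hyperbolic_coeff B hA a c hac haa hcc _ _ _ hr i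
      rw [hg, map_zero] at h1 h2
      exact ⟨neg_eq_zero.1 h2.symm, h1.symm⟩
    have h3 : (∑ j, g (.inr j) • r j : R) = 0 :=
      Subtype.ext (by simpa [(hα _).1, (hα _).2] using hg)
    intro i
    rcases i with (i | i) | i
    · exact (hα i).1
    · exact (hα i).2
    · exact Fintype.linearIndependent_iff.1 r.linearIndependent _ h3 i
  have hspan : ⊤ ≤ Submodule.span F (Set.range f) := by
    intro x _
    rw [hx x]
    refine Submodule.add_mem _ (Submodule.add_mem _ ?_ ?_) ?_
    · exact Submodule.sum_mem _ fun i _ => Submodule.smul_mem _ _ (Submodule.subset_span ⟨.inl (.inl i), rfl⟩)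
    · exact Submodule.sum_mem _ fun i _ => Submodule.smul_mem _ _ (Submodule.subset_span ⟨.inl (.inr i), rfl⟩)
    · have hp : p x ∈ R := (hR _).2 (hrad x)
      rw [show p x = ((∑ j, r.repr ⟨p x, hp⟩ j • r j : R) : V) by rw [r.sum_repr]]
      rw [Submodule.coe_sum]
      exact Submodule.sum_mem _ fun j _ => Submodule.smul_mem _ _ (Submodule.subset_span ⟨.inr j, rfl⟩)
  refine ⟨m, Module.finrank F R, Module.Basis.mk hli hspan, ?_, ?_, ?_, fun j v => ?_⟩ <;>
    simp only [Module.Basis.mk_apply, f, Sum.elim_inl, Sum.elim_inr]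
  · exact hac
  · exact haa
  · exact hcc
  · rw [LinearMap.mem_ker.1 (r j).2]
    rfl

/-- A non-degenerate alternating space is isometric to the standard symplectic space. -/
theorem exists_symp_equiv (B : LinearMap.BilinForm F V) (hA : B.IsAlt)
    (hB : ∀ v, (∀ w, B v w = 0) → v = 0) :
    ∃ m, Module.finrank F V = 2 * m ∧ ∃ e : (Fin m ⊕ Fin m → F) ≃ₗ[F] V,
      ∀ u v, B (e u) (e v) = Cfsg.sympForm m F u v := by
  classical
  obtain ⟨m, k, b, hac, haa, hcc, hr⟩ := exists_alt_basis B hA
  obtain rfl : k = 0 := by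
    by_contra hk
    exact b.ne_zero (.inr ⟨0, by omega⟩) (hB _ (hr _))
  refine ⟨m, by rw [Module.finrank_eq_card_basis b]; simp; omega, ?_⟩
  let f := (b.reindex (Equiv.sumEmpty _ (Fin 0))).reindex (Equiv.sumComm (Fin m) (Fin m))
  have hf1 : ∀ i, f (.inl i) = b (.inl (.inr i)) := fun i => by simp [f]
  have hf2 : ∀ i, f (.inr i) = b (.inl (.inl i)) := fun i => by simp [f]
  refine ⟨f.equivFun.symm, fun u v => ?_⟩
  have hca : ∀ i j, B (b (.inl (.inr i))) (b (.inl (.inl j))) = -(if j = i then 1 else 0) :=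
    fun i j => by rw [← LinearMap.IsAlt.neg hA, hac]
  rw [sympForm_eq]
  simp [Module.Basis.equivFun_symm_apply, Fintype.sum_sum_type, map_sum, hf1, hf2, hac, haa, hcc,
    hca, ← Finset.sum_sub_distrib, ← Finset.sum_add_distrib, ← Finset.sum_neg_distrib]
  exact Finset.sum_congr rfl fun i _ => by simp [Finset.sum_add_distrib]; ring

end CfsgLib.Classical
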