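/-
The standard Hermitian form `Cfsg.hermForm` over the field with `q²` elements, and counts of
vectors of given norm.
-/
import Mathlib
import Cfsg.Prelude.Def_Classical

set_option autoImplicit false

namespace CfsgLib.Classical

open Matrix Cfsg

variable {F : Type*} [Field F] [Fintype F] {q : ℕ}

theorem two_le_q (hF : Fintype.card F = q ^ 2) : 2 ≤ q := by
  have h : 1 < q ^ 2 := hF ▸ Fintype.one_lt_card
  rcases q with _ | _ | q <;> simp_all

/-- The involutory automorphism `x ↦ x ^ q`. -/
theorem exists_qPow (hF : Fintype.card F = q ^ 2) :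
    ∃ σ : F →+* F, (∀ a, σ a = a ^ q) ∧ (∀ a, σ (σ a) = a) ∧ σ ≠ RingHom.id F := by
  classical
  obtain ⟨p, _⟩ := CharP.exists F
  have hp : Fact p.Prime := ⟨CharP.char_is_prime F p⟩
  obtain ⟨k, -, hk⟩ := FiniteField.card F p
  rw [hF] at hk
  obtain ⟨j, -, hj⟩ := (Nat.dvd_prime_pow hp.out).1
    (hk ▸ dvd_pow_self q two_ne_zero : q ∣ p ^ (k : ℕ))
  have happ : ∀ a : F, iterateFrobenius F p j a = a ^ q := fun a => by
    simp [iterateFrobenius_def, hj]
  refine ⟨iterateFrobenius F p j, happ, fun a => ?_, fun h => ?_⟩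
  · rw [happ, happ, ← pow_mul, ← sq, ← hF, FiniteField.pow_card]
  · have hq := two_le_q hF
    obtain ⟨g, hg⟩ := IsCyclic.exists_generator (α := Fˣ)
    have hord : orderOf g = q ^ 2 - 1 := by
      rw [orderOf_eq_card_of_forall_mem_zpowers hg, Nat.card_units, Nat.card_eq_fintype_card, hF]
    have h1 : (g : F) ^ q = (g : F) := by rw [← happ, h, RingHom.id_apply]
    have h2 : g ^ (q - 1) = 1 := by
      refine Units.ext ?_
      have : (g : F) ^ (q - 1) * g = 1 * g := by
        rw [← pow_succ, Nat.sub_add_cancel (by omega : 1 ≤ q), h1, one_mul]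
      simpa using mul_right_cancel₀ g.ne_zero this
    have h3 := Nat.le_of_dvd (by omega) (hord ▸ orderOf_dvd_of_pow_eq_one h2)
    have h4 : q < q ^ 2 := by nlinarith
    omega

theorem pow_q_q (hF : Fintype.card F = q ^ 2) (a : F) : (a ^ q) ^ q = a := by
  rw [← pow_mul, ← sq, ← hF, FiniteField.pow_card]

/-- Every element fixed by `x ↦ x ^ q` is a norm. -/
theorem exists_norm_eq (hF : Fintype.card F = q ^ 2) {μ : F} (hμ : μ ^ q = μ) :
    ∃ x : F, x ^ (q + 1) = μ := by
  rcases eq_or_ne μ 0 with rfl | h0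
  · exact ⟨0, zero_pow (by omega)⟩
  have hq := two_le_q hF
  have hcard : Nat.card Fˣ = (q + 1) * (q - 1) := by
    rw [Nat.card_units, Nat.card_eq_fintype_card, hF, ← Nat.sq_sub_sq, one_pow]
  have hle : (powMonoidHom (q + 1) : Fˣ →* Fˣ).range = (powMonoidHom (q - 1) : Fˣ →* Fˣ).ker := by
    apply Subgroup.eq_of_le_of_card_ge
    · rintro _ ⟨y, rfl⟩
      simp only [MonoidHom.mem_ker, powMonoidHom_apply, ← pow_mul, ← hcard]
      exact pow_card_eq_one'
    · rw [IsCyclic.card_powMonoidHom_ker, IsCyclic.card_powMonoidHom_range, hcard,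
        Nat.gcd_eq_right (Dvd.intro_left _ rfl), Nat.gcd_eq_right (Dvd.intro _ rfl),
        Nat.mul_div_cancel_left _ (by omega)]
  obtain ⟨y, hy⟩ : Units.mk0 μ h0 ∈ (powMonoidHom (q + 1) : Fˣ →* Fˣ).range := by
    rw [hle, MonoidHom.mem_ker]
    refine Units.ext ?_
    have : μ ^ (q - 1) * μ = 1 * μ := by
      rw [← pow_succ, Nat.sub_add_cancel (by omega : 1 ≤ q), hμ, one_mul]
    simpa using mul_right_cancel₀ h0 this
  exact ⟨y, by simpa using congrArg Units.val hy⟩

theorem card_norm_one (hF : Fintype.card F = q ^ 2) :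
    Nat.card {x : F // x ^ (q + 1) = 1} = q + 1 := by
  have hq := two_le_q hF
  have hcard : Nat.card Fˣ = (q + 1) * (q - 1) := by
    rw [Nat.card_units, Nat.card_eq_fintype_card, hF, ← Nat.sq_sub_sq, one_pow]
  have h : Nat.card (powMonoidHom (q + 1) : Fˣ →* Fˣ).ker = q + 1 := by
    rw [IsCyclic.card_powMonoidHom_ker, hcard, Nat.gcd_eq_right (Dvd.intro _ rfl)]
  refine Eq.trans (Nat.card_congr ?_) h
  refine
    { toFun := fun x => ⟨Units.mk0 x.1 (by
        intro h0; have := x.2; rw [h0, zero_pow (by omega)] at this; exact zero_ne_one this), ?_⟩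
      invFun := fun k => ⟨((k.1 : Fˣ) : F), ?_⟩
      left_inv := fun x => rfl
      right_inv := fun k => ?_ }
  · exact MonoidHom.mem_ker.2 (Units.ext (by simpa using x.2))
  · simpa using congrArg Units.val (MonoidHom.mem_ker.1 k.2)
  · exact Subtype.ext (Units.ext rfl)

theorem hermForm_apply (n : ℕ) {σ : F →+* F} (hσ : ∀ a, σ a = a ^ q) (u v : Fin n → F) :
    hermForm n F q u v = ∑ i, u i * σ (v i) := by
  simp [hermForm, hσ]

theorem hermForm_conj (hF : Fintype.card F = q ^ 2) {n : ℕ} (u v : Fin n → F) :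
    (hermForm n F q u v) ^ q = hermForm n F q v u := by
  obtain ⟨σ, hσ, hσ2, -⟩ := exists_qPow hF
  rw [← hσ, hermForm_apply n hσ, hermForm_apply n hσ, map_sum]
  exact Finset.sum_congr rfl fun i _ => by rw [map_mul, hσ2, mul_comm]

/-- The number of vectors of norm `c`. -/
noncomputable def hermCount (n : ℕ) (F : Type*) [Field F] (q : ℕ) (c : F) : ℕ :=
  Nat.card {v : Fin n → F // hermForm n F q v v = c}

theorem hermCount_smul (n : ℕ) {c t : F} (ht : t ≠ 0) :
    hermCount n F q (t ^ (q + 1) * c) = hermCount n F q c := by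
  have key : ∀ (s : F) (v : Fin n → F),
      hermForm n F q (s • v) (s • v) = s ^ (q + 1) * hermForm n F q v v := fun s v => by
    simp only [hermForm, Pi.smul_apply, smul_eq_mul, mul_pow, pow_succ, Finset.mul_sum]
    exact Finset.sum_congr rfl fun i _ => by ring
  refine Nat.card_congr
    { toFun := fun v => ⟨t⁻¹ • v.1, by
        rw [key, v.2, inv_pow, ← mul_assoc, inv_mul_cancel₀ (pow_ne_zero _ ht), one_mul]⟩
      invFun := fun v => ⟨t • v.1, by rw [key, v.2]⟩
      left_inv := fun v => Subtype.ext (by simp [smul_smul, ht])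
      right_inv := fun v => Subtype.ext (by simp [smul_smul, ht]) }

theorem hermCount_succ (n : ℕ) (c : F) :
    hermCount (n + 1) F q c = ∑ a : F, hermCount n F q (c - a ^ (q + 1)) := by
  unfold hermCount
  rw [← Nat.card_sigma]
  have key : ∀ a : F, ∀ w : Fin n → F,
      hermForm (n + 1) F q (Fin.cons a w) (Fin.cons a w) = a ^ (q + 1) + hermForm n F q w w := by
    intro a w
    simp [hermForm, Fin.sum_univ_succ, pow_succ']
  refine Nat.card_congr
    { toFun := fun v => ⟨v.1 0, ⟨Fin.tail v.1, by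
        have := key (v.1 0) (Fin.tail v.1)
        rw [Fin.cons_self_tail, v.2] at this
        linear_combination -this⟩⟩
      invFun := fun s => ⟨Fin.cons s.1 s.2.1, by rw [key, s.2.2]; ring⟩
      left_inv := fun v => Subtype.ext (Fin.cons_self_tail v.1)
      right_inv := fun s => ?_ }
  refine Sigma.subtype_ext ?_ ?_ <;> simp

theorem sub_pow_q (hF : Fintype.card F = q ^ 2) {c d : F} (hc : c ^ q = c) (hd : d ^ q = d) :
    (c - d) ^ q = c - d := by
  obtain ⟨σ, hσ, -, -⟩ := exists_qPow hF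
  rw [← hσ, map_sub, hσ, hσ, hc, hd]

theorem norm_pow_q (hF : Fintype.card F = q ^ 2) (a : F) : (a ^ (q + 1)) ^ q = a ^ (q + 1) := by
  rw [← pow_mul, mul_comm, pow_mul, pow_succ, pow_q_q hF, ← pow_succ']

theorem hermCount_eq_one (hF : Fintype.card F = q ^ 2) (n : ℕ) {c : F} (hc : c ≠ 0)
    (hcq : c ^ q = c) : hermCount n F q c = hermCount n F q 1 := by
  obtain ⟨t, ht⟩ := exists_norm_eq hF hcq
  have ht0 : t ≠ 0 := by
    rintro rfl
    rw [zero_pow (by omega)] at ht
    exact hc ht.symm
  rw [← ht, ← hermCount_smul n (c := (1 : F)) ht0, mul_one]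

theorem hermCount_zero_succ (hF : Fintype.card F = q ^ 2) (n : ℕ) :
    hermCount (n + 1) F q 0 = hermCount n F q 0 + (q ^ 2 - 1) * hermCount n F q 1 := by
  classical
  rw [hermCount_succ, Finset.sum_eq_add_sum_sdiff_singleton_of_mem (Finset.mem_univ 0),
    zero_pow (by omega), sub_zero]
  congr 1
  rw [Finset.sum_congr rfl (g := fun _ => hermCount n F q 1) (fun a ha => ?_), Finset.sum_const,
    Finset.card_sdiff_of_subset (Finset.subset_univ _), Finset.card_univ, Finset.card_singleton, hF,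
    smul_eq_mul]
  simp only [Finset.mem_sdiff, Finset.mem_singleton] at ha
  refine hermCount_eq_one hF n ?_ (sub_pow_q hF (zero_pow (two_le_q hF |> fun h => by omega))
    (norm_pow_q hF a))
  simp [ha.2]

theorem hermCount_one_succ (hF : Fintype.card F = q ^ 2) (n : ℕ) :
    hermCount (n + 1) F q 1 =
      (q + 1) * hermCount n F q 0 + (q ^ 2 - (q + 1)) * hermCount n F q 1 := by
  classical
  rw [hermCount_succ, ← Finset.sum_filter_add_sum_filter_not Finset.univ
    (fun a : F => a ^ (q + 1) = 1)]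
  have hcard : (Finset.univ.filter fun a : F => a ^ (q + 1) = 1).card = q + 1 := by
    rw [← Fintype.card_subtype, ← Nat.card_eq_fintype_card, card_norm_one hF]
  congr 1
  · rw [Finset.sum_congr rfl (g := fun _ => hermCount n F q 0) (fun a ha => by
      rw [(Finset.mem_filter.1 ha).2, sub_self]), Finset.sum_const, hcard, smul_eq_mul]
  · rw [Finset.sum_congr rfl (g := fun _ => hermCount n F q 1) (fun a ha => ?_), Finset.sum_const,
      smul_eq_mul]
    · congr 1
      have := Finset.card_filter_add_card_filter_not (s := (Finset.univ : Finset F))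
        (fun a : F => a ^ (q + 1) = 1)
      rw [hcard, Finset.card_univ, hF] at this
      omega
    · refine hermCount_eq_one hF n ?_ (sub_pow_q hF (one_pow q) (norm_pow_q hF a))
      exact sub_ne_zero.2 (fun h => (Finset.mem_filter.1 ha).2 h.symm)

theorem hermCount_formula (hF : Fintype.card F = q ^ 2) : ∀ n : ℕ,
    (hermCount (n + 1) F q 1 : ℤ) = (q : ℤ) ^ n * ((q : ℤ) ^ (n + 1) - (-1) ^ (n + 1)) ∧
    (hermCount (n + 1) F q 0 : ℤ) =
      ((q : ℤ) ^ (n + 1) - (-1) ^ (n + 1)) * ((q : ℤ) ^ n + (-1) ^ (n + 1)) + 1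
  | 0 => by
    have h0 : hermCount 0 F q (0 : F) = 1 := by
      unfold hermCount
      rw [Nat.card_eq_one_iff_unique]
      exact ⟨⟨fun a b => Subtype.ext (Subsingleton.elim _ _)⟩, ⟨⟨0, by simp [hermForm]⟩⟩⟩
    have h1 : hermCount 0 F q (1 : F) = 0 := by
      unfold hermCount
      rw [Nat.card_eq_zero]
      refine Or.inl ⟨fun v => ?_⟩
      have := v.2
      simp [hermForm] at this
    rw [hermCount_one_succ hF, hermCount_zero_succ hF, h0, h1]
    push_cast
    constructor <;> ring
  | (n + 1) => by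
    obtain ⟨h1, h0⟩ := hermCount_formula hF n
    have hq := two_le_q hF
    have hle : q + 1 ≤ q ^ 2 := by nlinarith
    have hle' : 1 ≤ q ^ 2 := by nlinarith
    rw [hermCount_one_succ hF (n + 1), hermCount_zero_succ hF (n + 1)]
    push_cast [Nat.cast_sub hle, Nat.cast_sub hle']
    rw [h1, h0]
    rcases Nat.even_or_odd n with hp | hp <;> simp only [pow_succ, hp.neg_one_pow] <;>
      constructor <;> ring

end CfsgLib.Classical
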