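/-
Witt's extension theorem for alternating, quadratic and Hermitian forms.
-/
import Mathlib

set_option autoImplicit false

namespace CfsgLib.Classical

variable {F V : Type*} [Field F] [AddCommGroup V] [Module F V] [FiniteDimensional F V]

omit [FiniteDimensional F V] in
/-- Extend a linear injection preserving a binary invariant, given the one-vector step. -/
theorem witt_of_step {T : Type*} (S : V → V → T) [FiniteDimensional F V]
    (step : ∀ (X : Submodule F V) (x y : V), x ∉ X → y ∉ X →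
      (∀ z ∈ X, S x z = S y z ∧ S z x = S z y) → S x x = S y y →
      ∃ g : V ≃ₗ[F] V, (∀ u v, S (g u) (g v) = S u v) ∧ (∀ z ∈ X, g z = z) ∧ g x = y)
    (X : Submodule F V) (φ : X →ₗ[F] V) (hinj : Function.Injective φ)
    (hφ : ∀ a b : X, S (φ a) (φ b) = S (a : V) (b : V)) :
    ∃ g : V ≃ₗ[F] V, (∀ u v, S (g u) (g v) = S u v) ∧ ∀ a : X, g (a : V) = φ a := by
  classical
  let b := Module.finBasis F X
  suffices H : ∀ s : Finset (Fin (Module.finrank F X)), ∃ g : V ≃ₗ[F] V,
      (∀ u v, S (g u) (g v) = S u v) ∧ ∀ i ∈ s, g (b i : V) = φ (b i) by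
    obtain ⟨g, hg, hgb⟩ := H Finset.univ
    refine ⟨g, hg, fun a => ?_⟩
    have : g.toLinearMap.comp X.subtype = φ := b.ext fun i => hgb i (Finset.mem_univ i)
    exact LinearMap.congr_fun this a
  intro s
  induction s using Finset.induction_on with
  | empty => exact ⟨LinearEquiv.refl F V, fun _ _ => rfl, by simp⟩
  | insert i s his ih =>
    obtain ⟨g, hg, hgs⟩ := ih
    set X₀ : Submodule F X := Submodule.span F (b '' ↑s) with hX₀
    set U : Submodule F V := X₀.map φ with hU
    have hfix : ∀ a ∈ X₀, g (a : V) = φ a := by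
      intro a ha
      induction ha using Submodule.span_induction with
      | mem a ha => obtain ⟨j, hj, rfl⟩ := ha; exact hgs j hj
      | zero => simp
      | add a c _ _ h1 h2 => simp [h1, h2]
      | smul r a _ h1 => simp [h1]
    have hi : b i ∉ X₀ := fun hmem =>
      his (by simpa using (b.mem_span_image.1 hmem))
    have hx : g (b i : V) ∉ U := by
      rintro ⟨a, ha, hae⟩
      rw [← hfix a ha] at hae
      exact hi ((Subtype.ext (g.injective hae)) ▸ ha)
    have hy : φ (b i) ∉ U := by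
      rintro ⟨a, ha, hae⟩
      exact hi (hinj hae ▸ ha)
    obtain ⟨h, hh, hhU, hhx⟩ := step U (g (b i : V)) (φ (b i)) hx hy (by
      rintro _ ⟨a, ha, rfl⟩
      constructor
      · rw [hφ, ← hfix a ha, hg]
      · rw [hφ, ← hfix a ha, hg]) (by rw [hg, hφ])
    refine ⟨g.trans h, fun u v => by simp [hh, hg], fun j hj => ?_⟩
    rcases Finset.mem_insert.1 hj with rfl | hj
    · exact hhx
    · have hm : φ (b j) ∈ U :=
        ⟨b j, Submodule.subset_span ⟨j, hj, rfl⟩, rfl⟩
      simp [hgs j hj, hhU _ hm]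

/-- In a non-degenerate pairing some vector orthogonal to `U` has product one with `x ∉ U`. -/
theorem exists_perp_one {σ : F →+* F} (hσ : Function.Surjective σ)
    (B : V →ₛₗ[σ] V →ₗ[F] F) (hB : ∀ v, (∀ w, B v w = 0) → v = 0)
    (U : Submodule F V) (x : V) (hx : x ∉ U) :
    ∃ w, (∀ u ∈ U, B u w = 0) ∧ B x w = 1 := by
  let W : Submodule F (Module.Dual F V) :=
    { carrier := {f | ∃ u ∈ U, B u = f}
      add_mem' := by
        rintro _ _ ⟨u, hu, rfl⟩ ⟨v, hv, rfl⟩
        exact ⟨u + v, U.add_mem hu hv, map_add _ _ _⟩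
      zero_mem' := ⟨0, U.zero_mem, map_zero _⟩
      smul_mem' := by
        rintro r _ ⟨u, hu, rfl⟩
        obtain ⟨s, rfl⟩ := hσ r
        exact ⟨s • u, U.smul_mem s hu, map_smulₛₗ _ _ _⟩ }
  have hxW : B x ∉ W := by
    rintro ⟨u, hu, he⟩
    have : x - u = 0 := hB _ fun w => by simp [he]
    exact hx (sub_eq_zero.1 this ▸ hu)
  obtain ⟨Φ, hΦx, hΦW⟩ := Submodule.exists_dual_map_eq_bot_of_notMem hxW inferInstance
  obtain ⟨w, hw⟩ := (Module.evalEquiv F V).surjective ((Φ (B x))⁻¹ • Φ)
  have key : ∀ f : Module.Dual F V, f w = (Φ (B x))⁻¹ * Φ f := fun f => by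
    simpa using LinearMap.congr_fun hw f
  refine ⟨w, fun u hu => ?_, by rw [key, inv_mul_cancel₀ hΦx]⟩
  have : Φ (B u) = 0 :=
    (Submodule.mem_bot F).1 (hΦW ▸ Submodule.mem_map_of_mem (show B u ∈ W from ⟨u, hu, rfl⟩))
  rw [key, this, mul_zero]

omit [FiniteDimensional F V] in
theorem exists_not_mem_perp {σ : F →+* F} (B : V →ₛₗ[σ] V →ₗ[F] F) (U : Submodule F V) {x y w₁ w₂ : V}
    (h₁ : ∀ u ∈ U, B u w₁ = 0) (h₁' : B x w₁ ≠ 0) (h₂ : ∀ u ∈ U, B u w₂ = 0) (h₂' : B y w₂ ≠ 0) :
    ∃ w, (∀ u ∈ U, B u w = 0) ∧ B x w ≠ 0 ∧ B y w ≠ 0 := by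
  by_cases ha : B y w₁ = 0
  · by_cases hb : B x w₂ = 0
    · exact ⟨w₁ + w₂, fun u hu => by simp [h₁ u hu, h₂ u hu], by simp [hb, h₁'], by simp [ha, h₂']⟩
    · exact ⟨w₂, h₂, hb, h₂'⟩
  · exact ⟨w₁, h₁, h₁', ha⟩

/-- Witt's theorem for a non-degenerate alternating form. -/
theorem witt_alt (B : LinearMap.BilinForm F V) (hA : B.IsAlt) (hB : ∀ v, (∀ w, B v w = 0) → v = 0)
    (X : Submodule F V) (φ : X →ₗ[F] V) (hinj : Function.Injective φ)
    (hφ : ∀ a b : X, B (φ a) (φ b) = B (a : V) (b : V)) :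
    ∃ g : V ≃ₗ[F] V, (∀ u v, B (g u) (g v) = B u v) ∧ ∀ a : X, g (a : V) = φ a := by
  refine witt_of_step (fun u v => B u v) ?_ X φ hinj hφ
  intro X x y hx hy hz _
  have sw : ∀ u v, B v u = - B u v := fun u v => (LinearMap.IsAlt.neg hA u v).symm
  have move : ∀ a b, B a b ≠ 0 → (∀ z ∈ X, B z a = B z b) →
      ∃ g : V ≃ₗ[F] V, (∀ u v, B (g u) (g v) = B u v) ∧ (∀ z ∈ X, g z = z) ∧ g a = b := by
    intro a b hab hz
    set d := b - a with hd
    have had : B a d = B a b := by simp [hd, hA a]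
    let f : V →ₗ[F] V := LinearMap.id + ((B a b)⁻¹ • B.flip d).smulRight d
    have hf : ∀ v, f v = v + ((B a b)⁻¹ * B v d) • d := fun v => by simp [f]
    have hinv : Function.Injective f := by
      intro u v huv
      rw [hf, hf] at huv
      have := congrArg (fun t => B t d) huv
      simp [hA d] at this
      rwa [this, add_left_inj] at huv
    refine ⟨LinearEquiv.ofInjectiveEndo f hinv, fun u v => ?_, fun z hz' => ?_, ?_⟩
    · simp only [LinearEquiv.coe_ofInjectiveEndo, hf]
      simp [hA d, sw v d]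
      ring
    · simp [hf, hd, hz z hz', sub_self]
    · rw [LinearEquiv.coe_ofInjectiveEndo, hf, had, inv_mul_cancel₀ hab, one_smul, hd, add_sub_cancel]
  by_cases hxy : B x y = 0
  · obtain ⟨w₁, hw₁, hw₁'⟩ := exists_perp_one (σ := RingHom.id F) Function.surjective_id B hB X x hx
    obtain ⟨w₂, hw₂, hw₂'⟩ := exists_perp_one (σ := RingHom.id F) Function.surjective_id B hB X y hy
    obtain ⟨w, hw, hxw, hyw⟩ := exists_not_mem_perp B X (x := x) (y := y) hw₁
      (by rw [hw₁']; exact one_ne_zero) hw₂ (by rw [hw₂']; exact one_ne_zero)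
    obtain ⟨g₁, hg₁, hg₁X, hg₁x⟩ := move x (x + w) (by simp [hA x, hxw])
      (fun z hz' => by simp [hw z hz'])
    obtain ⟨g₂, hg₂, hg₂X, hg₂x⟩ := move (x + w) y (by simp [hxy, sw y w, hyw])
      (fun z hz' => by simp [hw z hz', (hz z hz').2])
    exact ⟨g₁.trans g₂, fun u v => by simp [hg₁, hg₂], fun z hz' => by simp [hg₁X z hz', hg₂X z hz'],
      by simp [hg₁x, hg₂x]⟩
  · exact move x y hxy (fun z hz' => (hz z hz').2)

/-- Witt's theorem for a quadratic form with non-degenerate polar form (any characteristic). -/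
theorem witt_quad (Q : QuadraticForm F V) (hQ : ∀ v, (∀ w, QuadraticMap.polar Q v w = 0) → v = 0)
    (X : Submodule F V) (φ : X →ₗ[F] V) (hinj : Function.Injective φ)
    (hφ : ∀ a : X, Q (φ a) = Q (a : V)) :
    ∃ g : V ≃ₗ[F] V, (∀ v, Q (g v) = Q v) ∧ ∀ a : X, g (a : V) = φ a := by
  refine (witt_of_step (fun u v => Q (u + v)) ?_ X φ hinj
    (fun a b => (congrArg Q (map_add φ a b).symm).trans ((hφ (a + b)).trans rfl))).elim
    fun g hg => ⟨g, fun v => by simpa using hg.1 v 0, hg.2⟩
  intro X x y hx hy hz hself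
  have hQx : Q x = Q y := by simpa using (hz 0 X.zero_mem).1
  have hpolar : ∀ z ∈ X, QuadraticMap.polar Q x z = QuadraticMap.polar Q y z := fun z hz' => by
    simp [QuadraticMap.polar, (hz z hz').1, hQx]
  suffices ∃ g : V ≃ₗ[F] V, (∀ v, Q (g v) = Q v) ∧ (∀ z ∈ X, g z = z) ∧ g x = y by
    obtain ⟨g, hg, h1, h2⟩ := this
    exact ⟨g, fun u v => by rw [← map_add, hg], h1, h2⟩
  have hadd : ∀ a b, Q (a + b) = Q a + Q b + QuadraticMap.polar Q a b := fun a b => by
    simp [QuadraticMap.polar]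
  set P : LinearMap.BilinForm F V := QuadraticMap.polarBilin Q with hP
  have hPapp : ∀ a b, P a b = QuadraticMap.polar Q a b := fun a b => rfl
  obtain ⟨d, hd⟩ : ∃ d, d = y - x := ⟨_, rfl⟩
  have hdX : ∀ z ∈ X, QuadraticMap.polar Q d z = 0 := fun z hz' => by
    simp [hd, hpolar z hz']
  have hxd : QuadraticMap.polar Q x d = - Q d := by
    have h := hadd x d
    rw [hd, add_sub_cancel, ← hQx] at h
    rw [hd]
    linear_combination -h
  by_cases hQd : Q d = 0
  swap
  · -- reflection
    let f : V →ₗ[F] V := LinearMap.id + ((-(Q d)⁻¹) • P.flip d).smulRight d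
    have hf : ∀ v, f v = v + (-(Q d)⁻¹ * QuadraticMap.polar Q v d) • d := fun v => by simp [f, hPapp]
    have hdd : QuadraticMap.polar Q d d = 2 * Q d := by simp [QuadraticMap.polar_self, two_mul]
    have hff : ∀ v, f (f v) = v := fun v => by
      rw [hf v, map_add, map_smul, hf v, hf d, hdd]
      have : -(Q d)⁻¹ * (2 * Q d) = -2 := by field_simp
      rw [this]
      module
    refine ⟨LinearEquiv.ofInjectiveEndo f (Function.LeftInverse.injective hff), fun v => ?_,
      fun z hz' => ?_, ?_⟩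
    · rw [LinearEquiv.coe_ofInjectiveEndo, hf, hadd, QuadraticMap.map_smul,
        QuadraticMap.polar_smul_right]
      simp only [smul_eq_mul]
      field_simp
      ring
    · rw [LinearEquiv.coe_ofInjectiveEndo, hf, QuadraticMap.polar_comm, hdX z hz', mul_zero,
        zero_smul, add_zero]
    · rw [LinearEquiv.coe_ofInjectiveEndo, hf, hxd, neg_mul_neg, inv_mul_cancel₀ hQd, one_smul, hd,
        add_sub_cancel]
  rcases eq_or_ne d 0 with hd0 | hd0
  · exact ⟨LinearEquiv.refl F V, fun _ => rfl, fun _ _ => rfl, (sub_eq_zero.1 (hd.symm.trans hd0)).symm⟩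
  have hdd : QuadraticMap.polar Q d d = 0 := by simp [QuadraticMap.polar_self, hQd]
  have hxd' : QuadraticMap.polar Q x d = 0 := by rw [hxd, hQd, neg_zero]
  by_cases hxU : x ∈ X ⊔ Submodule.span F {d}
  · -- scale `d`
    obtain ⟨z₀, hz₀, w₀, hw₀, rfl⟩ := Submodule.mem_sup.1 hxU
    obtain ⟨a, rfl⟩ := Submodule.mem_span_singleton.1 hw₀
    have ha : a ≠ 0 := by
      rintro rfl
      exact hx (by simpa using hz₀)
    have hdX' : d ∉ X := fun h => hx (X.add_mem hz₀ (X.smul_mem a h))
    obtain ⟨e₀, he₀, he₀d⟩ := exists_perp_one (σ := RingHom.id F) Function.surjective_id P hQ X d hdX'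
    set e := e₀ + (-Q e₀) • d with he
    have hed : QuadraticMap.polar Q e d = 1 := by
      rw [he, QuadraticMap.polar_add_left, QuadraticMap.polar_smul_left, hdd, smul_zero, add_zero,
        QuadraticMap.polar_comm]
      exact he₀d
    have hQe : Q e = 0 := by
      rw [he, hadd, QuadraticMap.map_smul, QuadraticMap.polar_smul_right, hQd,
        QuadraticMap.polar_comm, show QuadraticMap.polar Q d e₀ = 1 from he₀d]
      simp
    have heX : ∀ z ∈ X, QuadraticMap.polar Q z e = 0 := fun z hz' => by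
      rw [he, QuadraticMap.polar_add_right, QuadraticMap.polar_smul_right,
        QuadraticMap.polar_comm (⇑Q) z d, hdX z hz', smul_zero, add_zero]
      exact he₀ z hz'
    have hde : QuadraticMap.polar Q d e = 1 := by rw [QuadraticMap.polar_comm, hed]
    have hee : QuadraticMap.polar Q e e = 0 := by simp [QuadraticMap.polar_self, hQe]
    have hyd : y = z₀ + (a + 1) • d := by
      linear_combination (norm := module) -hd
    have ha1 : a + 1 ≠ 0 := fun h => hy (by rw [hyd, h, zero_smul, add_zero]; exact hz₀)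
    set s := (a + 1) / a with hs
    have hs0 : s ≠ 0 := div_ne_zero ha1 ha
    let f : V →ₗ[F] V := LinearMap.id + ((s - 1) • P.flip e).smulRight d +
      ((s⁻¹ - 1) • P.flip d).smulRight e
    have hf : ∀ v, f v = v + ((s - 1) * QuadraticMap.polar Q v e) • d +
        ((s⁻¹ - 1) * QuadraticMap.polar Q v d) • e := fun v => by simp [f, hPapp]
    have hfQ : ∀ v, Q (f v) = Q v := fun v => by
      rw [hf, hadd, hadd, QuadraticMap.map_smul, QuadraticMap.map_smul, hQd, hQe]
      simp only [QuadraticMap.polar_add_left, QuadraticMap.polar_smul_left,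
        QuadraticMap.polar_smul_right, smul_eq_mul, hde]
      field_simp
      ring
    have hinj' : Function.Injective f := by
      intro u v huv
      refine sub_eq_zero.1 (hQ _ fun w => ?_)
      have hp : QuadraticMap.polar Q (f (u - v)) (f w) = QuadraticMap.polar Q (u - v) w := by
        simp only [QuadraticMap.polar, ← map_add, hfQ]
      rw [← hp, map_sub, huv, sub_self, QuadraticMap.polar_zero_left]
    refine ⟨LinearEquiv.ofInjectiveEndo f hinj', hfQ, fun z hz' => ?_, ?_⟩
    · rw [LinearEquiv.coe_ofInjectiveEndo, hf, heX z hz', QuadraticMap.polar_comm, hdX z hz']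
      simp
    · rw [LinearEquiv.coe_ofInjectiveEndo, hf, QuadraticMap.polar_add_left,
        QuadraticMap.polar_add_left, heX z₀ hz₀, QuadraticMap.polar_comm (⇑Q) z₀ d, hdX z₀ hz₀,
        QuadraticMap.polar_smul_left, QuadraticMap.polar_smul_left, hde, hdd, hyd, hs]
      simp only [smul_eq_mul, mul_zero, zero_add, mul_one, add_zero, zero_smul]
      rw [add_assoc, ← add_smul]
      congr 2
      field_simp
      ring
  · -- Eichler transformation
    obtain ⟨w, hw, hxw⟩ := exists_perp_one (σ := RingHom.id F) Function.surjective_id P hQ _ x hxU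
    have hwX : ∀ z ∈ X, QuadraticMap.polar Q z w = 0 := fun z hz' => hw z (Submodule.mem_sup_left hz')
    have hdw : QuadraticMap.polar Q d w = 0 :=
      hw d (Submodule.mem_sup_right (Submodule.mem_span_singleton_self d))
    rw [hPapp] at hxw
    let f : V →ₗ[F] V := LinearMap.id + (P.flip w - Q w • P.flip d).smulRight d -
      (P.flip d).smulRight w
    have hf : ∀ v, f v = v + (QuadraticMap.polar Q v w - Q w * QuadraticMap.polar Q v d) • d +
        (-QuadraticMap.polar Q v d) • w := fun v => by simp [f, hPapp, sub_eq_add_neg]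
    have hfQ : ∀ v, Q (f v) = Q v := fun v => by
      rw [hf, hadd, hadd, QuadraticMap.map_smul, QuadraticMap.map_smul, hQd]
      simp only [QuadraticMap.polar_add_left, QuadraticMap.polar_smul_left,
        QuadraticMap.polar_smul_right, smul_eq_mul, hdw]
      ring
    have hinj' : Function.Injective f := by
      intro u v huv
      refine sub_eq_zero.1 (hQ _ fun t => ?_)
      have hp : QuadraticMap.polar Q (f (u - v)) (f t) = QuadraticMap.polar Q (u - v) t := by
        simp only [QuadraticMap.polar, ← map_add, hfQ]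
      rw [← hp, map_sub, huv, sub_self, QuadraticMap.polar_zero_left]
    refine ⟨LinearEquiv.ofInjectiveEndo f hinj', hfQ, fun z hz' => ?_, ?_⟩
    · rw [LinearEquiv.coe_ofInjectiveEndo, hf, hwX z hz', QuadraticMap.polar_comm, hdX z hz']
      simp
    · rw [LinearEquiv.coe_ofInjectiveEndo, hf, hxw, hxd', hd]
      simp

/-- An element of trace one. -/
theorem exists_trace_one (σ : F →+* F) (hσ : σ ≠ RingHom.id F) (hσ2 : ∀ a, σ (σ a) = a) :
    ∃ θ : F, θ + σ θ = 1 := by
  obtain ⟨a, ha⟩ : ∃ a : F, a + σ a ≠ 0 := by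
    by_contra hc
    push Not at hc
    apply hσ
    ext a
    have h1 := hc 1
    rw [map_one] at h1
    rw [RingHom.id_apply]
    linear_combination hc a - a * h1
  refine ⟨a / (a + σ a), ?_⟩
  rw [map_div₀, map_add, hσ2, add_comm (σ a) a]
  field_simp

/-- Witt's theorem for a non-degenerate Hermitian form. -/
theorem witt_herm (σ : F →+* F) (hσ : σ ≠ RingHom.id F) (hσ2 : ∀ a, σ (σ a) = a)
    (B : V →ₛₗ[σ] V →ₗ[F] F) (hS : ∀ u v, σ (B u v) = B v u)
    (hB : ∀ v, (∀ w, B v w = 0) → v = 0)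
    (X : Submodule F V) (φ : X →ₗ[F] V) (hinj : Function.Injective φ)
    (hφ : ∀ a b : X, B (φ a) (φ b) = B (a : V) (b : V)) :
    ∃ g : V ≃ₗ[F] V, (∀ u v, B (g u) (g v) = B u v) ∧ ∀ a : X, g (a : V) = φ a := by
  have hsurj : Function.Surjective σ := fun a => ⟨σ a, hσ2 a⟩
  have inj_of : ∀ f : V →ₗ[F] V, (∀ u v, B (f u) (f v) = B u v) → Function.Injective f := by
    intro f hf u v huv
    refine sub_eq_zero.1 (hB _ fun w => ?_)
    rw [← hf, map_sub, huv, sub_self]
    simp
  refine witt_of_step (fun u v => B u v) ?_ X φ hinj hφ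
  intro X x y hx hy hz hxy
  obtain ⟨d, hd⟩ : ∃ d, d = y - x := ⟨_, rfl⟩
  have hdX : ∀ z ∈ X, B d z = 0 := fun z hz' => by simp [hd, (hz z hz').1]
  have hdX' : ∀ z ∈ X, B z d = 0 := fun z hz' => by simp [hd, (hz z hz').2]
  have hnorm : B d x + B x d + B d d = 0 := by
    simp [hd]
    linear_combination -hxy
  by_cases hdx : B d x = 0
  swap
  · let c := (B d x)⁻¹
    let f : V →ₗ[F] V := LinearMap.id + (c • B d).smulRight d
    have hf : ∀ v, f v = v + (c * B d v) • d := fun v => by simp [f]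
    have hfB : ∀ u v, B (f u) (f v) = B u v := fun u v => by
      simp only [hf, map_add, map_smulₛₗ, LinearMap.add_apply, LinearMap.smul_apply, smul_eq_mul,
        map_mul, hS, RingHom.id_apply, c, map_inv₀]
      have hxd : B x d ≠ 0 := by rw [← hS d x]; exact (map_ne_zero σ).2 hdx
      field_simp
      linear_combination B u d * B d v * hnorm
    refine ⟨LinearEquiv.ofInjectiveEndo f (inj_of f hfB), hfB, fun z hz' => ?_, ?_⟩
    · rw [LinearEquiv.coe_ofInjectiveEndo, hf, hdX z hz', mul_zero, zero_smul, add_zero]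
    · rw [LinearEquiv.coe_ofInjectiveEndo, hf, inv_mul_cancel₀ hdx, one_smul, hd, add_sub_cancel]
  have hxd : B x d = 0 := by rw [← hS d x, hdx, map_zero]
  have hdd : B d d = 0 := by linear_combination hnorm - hdx - hxd
  rcases eq_or_ne d 0 with hd0 | hd0
  · exact ⟨LinearEquiv.refl F V, fun _ _ => rfl, fun _ _ => rfl, (sub_eq_zero.1 (hd.symm.trans hd0)).symm⟩
  obtain ⟨θ, hθ⟩ := exists_trace_one σ hσ hσ2
  by_cases hxU : x ∈ X ⊔ Submodule.span F {d}
  · obtain ⟨z₀, hz₀, w₀, hw₀, rfl⟩ := Submodule.mem_sup.1 hxU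
    obtain ⟨a, rfl⟩ := Submodule.mem_span_singleton.1 hw₀
    have ha : a ≠ 0 := by
      rintro rfl
      exact hx (by simpa using hz₀)
    have hdmem : d ∉ X := fun h => hx (X.add_mem hz₀ (X.smul_mem a h))
    obtain ⟨e₀, he₀, he₀d⟩ := exists_perp_one hsurj B hB X d hdmem
    set e := e₀ + (-(θ * B e₀ e₀)) • d with he
    have hed' : B e₀ d = 1 := by rw [← hS d e₀, he₀d, map_one]
    have hde : B d e = 1 := by simp [he, he₀d, hdd]
    have hed : B e d = 1 := by rw [← hS d e, hde, map_one]
    have hee : B e e = 0 := by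
      simp [he, he₀d, hed', hdd, hS]
      linear_combination -(B e₀ e₀) * hθ
    have heX : ∀ z ∈ X, B z e = 0 := fun z hz' => by simp [he, he₀ z hz', hdX' z hz']
    have hyd : y = z₀ + (a + 1) • d := by
      linear_combination (norm := module) -hd
    have ha1 : a + 1 ≠ 0 := fun h => hy (by rw [hyd, h, zero_smul, add_zero]; exact hz₀)
    set s := (a + 1) / a with hs
    have hs0 : s ≠ 0 := div_ne_zero ha1 ha
    let f : V →ₗ[F] V := LinearMap.id + ((s - 1) • B e).smulRight d +
      (((σ s)⁻¹ - 1) • B d).smulRight e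
    have hf : ∀ v, f v = v + ((s - 1) * B e v) • d + (((σ s)⁻¹ - 1) * B d v) • e :=
      fun v => by simp [f]
    have hfB : ∀ u v, B (f u) (f v) = B u v := fun u v => by
      have : σ s ≠ 0 := (map_ne_zero σ).2 hs0
      simp only [hf, map_add, map_smulₛₗ, LinearMap.add_apply, LinearMap.smul_apply, smul_eq_mul,
        map_mul, map_sub, map_one, map_inv₀, hσ2, hS, RingHom.id_apply, hde, hed, hdd, hee]
      field_simp
      ring
    refine ⟨LinearEquiv.ofInjectiveEndo f (inj_of f hfB), hfB, fun z hz' => ?_, ?_⟩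
    · rw [LinearEquiv.coe_ofInjectiveEndo, hf, hdX z hz', ← hS z e, heX z hz']
      simp
    · rw [LinearEquiv.coe_ofInjectiveEndo, hf]
      simp [hdX z₀ hz₀, ← hS z₀ e, heX z₀ hz₀, hdd, hed, hyd, hs]
      rw [add_assoc, ← add_smul]
      congr 2
      field_simp
      ring
  · obtain ⟨w, hw, hxw⟩ := exists_perp_one hsurj B hB _ x hxU
    have hwX : ∀ z ∈ X, B z w = 0 := fun z hz' => hw z (Submodule.mem_sup_left hz')
    have hdw : B d w = 0 := hw d (Submodule.mem_sup_right (Submodule.mem_span_singleton_self d))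
    have hwd : B w d = 0 := by rw [← hS d w, hdw, map_zero]
    have hwx : B w x = 1 := by rw [← hS x w, hxw, map_one]
    let f : V →ₗ[F] V := LinearMap.id + (B w).smulRight d - (B d).smulRight (w + (θ * B w w) • d)
    have hf : ∀ v, f v = v + (B w v - θ * B w w * B d v) • d + (-B d v) • w :=
      fun v => by simp [f]; module
    have hfB : ∀ u v, B (f u) (f v) = B u v := fun u v => by
      simp only [hf, map_add, map_smulₛₗ, LinearMap.add_apply, LinearMap.smul_apply, smul_eq_mul,
        map_mul, map_sub, map_neg, hS, RingHom.id_apply, hdd, hdw, hwd]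
      linear_combination -(B u d * B d v * B w w) * hθ
    refine ⟨LinearEquiv.ofInjectiveEndo f (inj_of f hfB), hfB, fun z hz' => ?_, ?_⟩
    · rw [LinearEquiv.coe_ofInjectiveEndo, hf, hdX z hz', ← hS z w, hwX z hz']
      simp
    · rw [LinearEquiv.coe_ofInjectiveEndo, hf, hdx, hwx, hd]
      simp

end CfsgLib.Classical
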