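/-
`hermForm` as a sesquilinear map, orthonormal families, and transitivity of `GU` on them.
-/
import Cfsg.Agent.Lib.Classical.HermBasic
import Cfsg.Agent.Lib.Classical.Witt
import Cfsg.Prelude.Def_LieClassical

set_option autoImplicit false

namespace CfsgLib.Classical

open Matrix Cfsg

variable {F : Type*} [Field F] {q n : ℕ}

theorem hermForm_zero_left (hq : 1 ≤ q) (v : Fin n → F) : hermForm n F q 0 v = 0 ∧ hermForm n F q v 0 = 0 := by
  constructor <;> simp [hermForm, zero_pow (show q ≠ 0 by omega)]

/-- The action of a unitary matrix on vectors. -/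
abbrev guApply (g : GU n F q) (x : Fin n → F) : Fin n → F :=
  ((g : GL (Fin n) F) : Matrix (Fin n) (Fin n) F) *ᵥ x

theorem guApply_form (g : GU n F q) (x y : Fin n → F) :
    hermForm n F q (guApply g x) (guApply g y) = hermForm n F q x y :=
  g.2 x y

theorem guApply_mul (g h : GU n F q) (x : Fin n → F) :
    guApply (g * h) x = guApply g (guApply h x) := by
  simp only [guApply, Subgroup.coe_mul, Units.val_mul, mulVec_mulVec]

theorem guApply_one (x : Fin n → F) : guApply (1 : GU n F q) x = x := by simp [guApply]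

theorem guApply_inv_apply (g : GU n F q) (x : Fin n → F) : guApply g⁻¹ (guApply g x) = x := by
  rw [← guApply_mul, inv_mul_cancel, guApply_one]

theorem guApply_apply_inv (g : GU n F q) (x : Fin n → F) : guApply g (guApply g⁻¹ x) = x := by
  rw [← guApply_mul, mul_inv_cancel, guApply_one]

theorem gu_ext {g h : GU n F q} (H : ∀ x, guApply g x = guApply h x) : g = h :=
  Subtype.ext (Units.ext (Matrix.ext_of_mulVec_single fun _ => H _))

theorem hermForm_single_one (hq : 1 ≤ q) (i j : Fin n) :
    hermForm n F q (Pi.single i 1) (Pi.single j 1) = if i = j then 1 else 0 := by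
  rw [hermForm, Finset.sum_eq_single i (fun k _ hk => by simp [hk])
    (fun h => absurd (Finset.mem_univ i) h)]
  rcases eq_or_ne i j with rfl | h <;> simp [*, zero_pow (show q ≠ 0 by omega)]

section Bilin

variable {σ : F →+* F}

/-- `hermForm` as a sesquilinear map, semilinear in the first variable: `hermB u v = h(v, u)`. -/
def hermB (n : ℕ) (q : ℕ) (hσ : ∀ a, σ a = a ^ q) : (Fin n → F) →ₛₗ[σ] (Fin n → F) →ₗ[F] F :=
  LinearMap.mk₂'ₛₗ σ (RingHom.id F) (fun u v => hermForm n F q v u)
    (fun u u' v => by simp [hermForm, ← hσ, mul_add, Finset.sum_add_distrib])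
    (fun c u v => by
      simp only [hermForm, ← hσ, Pi.smul_apply, smul_eq_mul, map_mul, Finset.mul_sum]
      exact Finset.sum_congr rfl fun i _ => by ring)
    (fun u v v' => by simp [hermForm, add_mul, Finset.sum_add_distrib])
    (fun c u v => by
      simp only [hermForm, Pi.smul_apply, smul_eq_mul, RingHom.id_apply, Finset.mul_sum]
      exact Finset.sum_congr rfl fun i _ => by ring)

@[simp] theorem hermB_apply (hσ : ∀ a, σ a = a ^ q) (u v : Fin n → F) :
    hermB n q hσ u v = hermForm n F q v u := rfl

theorem hermForm_nondeg (hσ : ∀ a, σ a = a ^ q) (hq : 1 ≤ q) {v : Fin n → F}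
    (h : ∀ w, hermB n q hσ v w = 0) : v = 0 := by
  funext i
  have := h (Pi.single i 1)
  rw [hermB_apply, hermForm, Finset.sum_eq_single i (fun k _ hk => by simp [hk])
    (fun h => absurd (Finset.mem_univ i) h), Pi.single_eq_same, one_mul] at this
  exact (pow_eq_zero_iff (by omega)).1 this

end Bilin

theorem hermForm_sum_left {κ : Type*} [Fintype κ] (a : κ → F) (b : κ → Fin n → F) (w : Fin n → F) :
    hermForm n F q (∑ i, a i • b i) w = ∑ i, a i * hermForm n F q (b i) w := by
  simp only [hermForm, Finset.sum_apply, Pi.smul_apply, smul_eq_mul, Finset.sum_mul, Finset.mul_sum]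
  rw [Finset.sum_comm]
  exact Finset.sum_congr rfl fun i _ => Finset.sum_congr rfl fun j _ => by ring

/-- Orthonormal families are linearly independent. -/
theorem orthonormal_li {κ : Type*} [Fintype κ] [DecidableEq κ] {b : κ → Fin n → F}
    (hb : ∀ i j, hermForm n F q (b i) (b j) = if i = j then 1 else 0) :
    LinearIndependent F b := by
  rw [Fintype.linearIndependent_iff]
  intro a ha i
  have hq : hermForm n F q (∑ j, a j • b j) (b i) = a i := by
    rw [hermForm_sum_left]
    simp [hb]
  rw [ha] at hq
  rw [← hq]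
  simp [hermForm]

theorem guMk_exists (f : (Fin n → F) ≃ₗ[F] (Fin n → F))
    (hf : ∀ u v, hermForm n F q (f u) (f v) = hermForm n F q u v) :
    ∃ g : GU n F q, ∀ x, guApply g x = f x := by
  refine ⟨⟨⟨LinearMap.toMatrix' f.toLinearMap, LinearMap.toMatrix' f.symm.toLinearMap, ?_, ?_⟩, ?_⟩,
    fun x => LinearMap.toMatrix'_mulVec _ x⟩
  · rw [← LinearMap.toMatrix'_comp]; simp
  · rw [← LinearMap.toMatrix'_comp]; simp
  · intro u v
    change hermForm n F q (LinearMap.toMatrix' f.toLinearMap *ᵥ u)
      (LinearMap.toMatrix' f.toLinearMap *ᵥ v) = _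
    rw [LinearMap.toMatrix'_mulVec, LinearMap.toMatrix'_mulVec]
    exact hf u v

/-- `GU` is transitive on orthonormal families. -/
theorem exists_gu_map [Fintype F] (hF : Fintype.card F = q ^ 2) {κ : Type*} [Fintype κ] [DecidableEq κ]
    {b c : κ → Fin n → F} (hb : ∀ i j, hermForm n F q (b i) (b j) = if i = j then 1 else 0)
    (hc : ∀ i j, hermForm n F q (c i) (c j) = if i = j then 1 else 0) :
    ∃ g : GU n F q, ∀ i, guApply g (b i) = c i := by
  obtain ⟨σ, hσ, hσ2, hne⟩ := exists_qPow hF
  have hq := two_le_q hF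
  have hli := orthonormal_li hb
  let bb := Module.Basis.span hli
  let φ : Submodule.span F (Set.range b) →ₗ[F] (Fin n → F) := bb.constr F c
  have hφb : ∀ i, φ (bb i) = c i := fun i => bb.constr_basis F c i
  have hbb : ∀ i, ((bb i : Submodule.span F (Set.range b)) : Fin n → F) = b i := fun i => by
    simp [bb, Module.Basis.span_apply]
  set B := hermB n q hσ
  obtain ⟨g, hg, hga⟩ := witt_herm σ hne hσ2 B
    (fun u v => by rw [hermB_apply, hermB_apply, hσ, hermForm_conj hF])
    (fun v h => hermForm_nondeg hσ (by omega) h) (Submodule.span F (Set.range b)) φ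
    (by
      rw [← LinearMap.ker_eq_bot, LinearMap.ker_eq_bot']
      intro a ha
      rw [← bb.sum_repr a, map_sum] at ha
      simp only [map_smul, hφb] at ha
      have := Fintype.linearIndependent_iff.1 (orthonormal_li hc) _ ha
      exact bb.ext_elem fun i => by simpa using this i)
    (by
      intro x y
      rw [← bb.sum_repr x, ← bb.sum_repr y]
      simp only [map_sum, map_smulₛₗ, LinearMap.sum_apply, LinearMap.smul_apply, Submodule.coe_sum,
        Submodule.coe_smul, RingHom.id_apply, hφb, hbb, hermB_apply, hb, hc, B])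
  obtain ⟨G, hG⟩ := guMk_exists (q := q) g (fun u v => hg v u)
  exact ⟨G, fun i => by rw [hG, ← hbb i, hga, hφb]⟩

end CfsgLib.Classical
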