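/-
Orders of GL, SL, PSL and PGL over finite fields, and of their centres.
-/
import Mathlib

set_option autoImplicit false

namespace CfsgLib.Classical

open Matrix

variable {F : Type*} [Field F] {ι : Type*} [Fintype ι] [DecidableEq ι]

/-- The image of `SL` in `GL` is the kernel of the determinant. -/
theorem range_toGL :
    (SpecialLinearGroup.toGL : SpecialLinearGroup ι F →* GL ι F).range =
      (GeneralLinearGroup.det : GL ι F →* Fˣ).ker := by
  ext g
  constructor
  · rintro ⟨s, rfl⟩
    ext
    simp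
  · intro hg
    refine ⟨⟨(g : Matrix ι ι F), ?_⟩, ?_⟩
    · simpa using congrArg Units.val (MonoidHom.mem_ker.1 hg)
    · ext i j
      rfl

theorem card_ker_det :
    Nat.card (GeneralLinearGroup.det : GL ι F →* Fˣ).ker =
      Nat.card (SpecialLinearGroup ι F) := by
  rw [← range_toGL]
  exact Nat.card_congr
    (MonoidHom.ofInjective (SpecialLinearGroup.toGL_injective (n := ι) (R := F))).toEquiv.symm

theorem card_units_mul_card_SL [Nonempty ι] :
    Nat.card Fˣ * Nat.card (SpecialLinearGroup ι F) = Nat.card (GL ι F) := by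
  rw [← card_ker_det, ← Subgroup.index_mul_card (GeneralLinearGroup.det : GL ι F →* Fˣ).ker,
    Subgroup.index_ker, MonoidHom.range_eq_top.2 GeneralLinearGroup.det_surjective,
    Subgroup.card_top]

theorem card_units_eq {q : ℕ} [Fintype F] (hF : Fintype.card F = q) :
    Nat.card Fˣ = q - 1 := by
  rw [Nat.card_units, Nat.card_eq_fintype_card, hF]

theorem card_center_GL [Nonempty ι] :
    Nat.card (Subgroup.center (GL ι F)) = Nat.card Fˣ := by
  rw [GeneralLinearGroup.center_eq_range_scalar]
  refine Nat.card_congr (MonoidHom.ofInjective ?_).toEquiv.symm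
  intro u v h
  obtain ⟨i⟩ := ‹Nonempty ι›
  have := congrArg (fun g : GL ι F => (g : Matrix ι ι F) i i) h
  ext
  simpa using this

theorem card_units_mul_card_PGL [Nonempty ι] :
    Nat.card Fˣ * Nat.card (ProjGenLinGroup ι F) = Nat.card (GL ι F) := by
  conv_rhs => rw [← Subgroup.index_mul_card (Subgroup.center (GL ι F))]
  rw [card_center_GL, mul_comm]
  rfl

theorem card_PGL_eq_card_SL [Finite F] :
    Nat.card (ProjGenLinGroup ι F) = Nat.card (SpecialLinearGroup ι F) := by
  cases isEmpty_or_nonempty ι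
  · have : Subsingleton (GL ι F) := ⟨fun a b => Units.ext (Subsingleton.elim _ _)⟩
    have : Subsingleton (ProjGenLinGroup ι F) :=
      (ProjGenLinGroup.mk_surjective (n := ι) (R := F)).subsingleton
    have : Nonempty (ProjGenLinGroup ι F) := ⟨ProjGenLinGroup.mk 1⟩
    simp
  · have h := (card_units_mul_card_PGL (F := F) (ι := ι)).trans
      (card_units_mul_card_SL (F := F) (ι := ι)).symm
    exact Nat.eq_of_mul_eq_mul_left Nat.card_pos h

theorem card_SL_mul {q : ℕ} [Fintype F] (hF : Fintype.card F = q) (n : ℕ) (hn : 1 ≤ n) :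
    (q - 1) * Nat.card (SpecialLinearGroup (Fin n) F) =
      ∏ i : Fin n, (q ^ n - q ^ (i : ℕ)) := by
  have : Nonempty (Fin n) := ⟨⟨0, hn⟩⟩
  rw [← card_units_eq hF, card_units_mul_card_SL, card_GL_field, hF]

/-- The centre of `SL` has order `gcd (n, q-1)`. -/
theorem card_center_SL [Finite F] [Nonempty ι] :
    Nat.card (Subgroup.center (SpecialLinearGroup ι F)) =
      Nat.gcd (Fintype.card ι) (Nat.card Fˣ) := by
  rw [Nat.card_congr (SpecialLinearGroup.center_equiv_rootsOfUnity'
    (n := ι) (R := F) (Classical.arbitrary ι)).toEquiv, Nat.gcd_comm,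
    ← IsCyclic.card_powMonoidHom_ker (G := Fˣ)]
  refine Nat.card_congr (Equiv.subtypeEquivRight fun u => ?_)
  simp [mem_rootsOfUnity]

theorem card_center_mul_card_PSL :
    Nat.card (Subgroup.center (SpecialLinearGroup ι F)) *
      Nat.card (ProjectiveSpecialLinearGroup ι F) = Nat.card (SpecialLinearGroup ι F) := by
  conv_rhs => rw [← Subgroup.index_mul_card (Subgroup.center (SpecialLinearGroup ι F))]
  rw [mul_comm]
  rfl

theorem card_PSL_mul {q : ℕ} [Fintype F] (hF : Fintype.card F = q) (n : ℕ) (hn : 1 ≤ n) :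
    Nat.gcd n (q - 1) * ((q - 1) * Nat.card (ProjectiveSpecialLinearGroup (Fin n) F)) =
      ∏ i : Fin n, (q ^ n - q ^ (i : ℕ)) := by
  have : Nonempty (Fin n) := ⟨⟨0, hn⟩⟩
  rw [← card_SL_mul hF n hn, ← card_center_mul_card_PSL (F := F) (ι := Fin n),
    card_center_SL, card_units_eq hF, Fintype.card_fin]
  ring

end CfsgLib.Classical
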