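/-
`SL` is generated by transvections; commutators; perfectness; simplicity of `PSL_n` for `n ≥ 3`.
-/
import Cfsg.Agent.Lib.Classical.GLOrder

set_option autoImplicit false

namespace CfsgLib.Classical

open Matrix
open scoped commutatorElement

variable {F : Type*} [Field F] {ι : Type*} [Fintype ι] [DecidableEq ι]

theorem diagonal_mul_single_left (d : ι → F) (i j : ι) (c : F) :
    diagonal d * single i j c = single i j (d i * c) := by
  ext x y
  simp only [diagonal_mul, single_apply]
  split_ifs with h
  · rw [h.1]
  · simp

theorem single_mul_diagonal_right (d : ι → F) (i j : ι) (c : F) :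
    single i j c * diagonal d = single i j (c * d j) := by
  ext x y
  simp only [mul_diagonal, single_apply]
  split_ifs with h
  · rw [h.2]
  · simp

theorem diag2n_eq_transvections {i j : ι} (hij : i ≠ j) (c : F) (hc : c ≠ 0) :
    SpecialLinearGroup.diag2n hij c hc =
      SpecialLinearGroup.transvection hij c * (SpecialLinearGroup.transvection hij.symm (-c⁻¹) *
        (SpecialLinearGroup.transvection hij c * (SpecialLinearGroup.transvection hij (-1) *
          (SpecialLinearGroup.transvection hij.symm 1 *
            SpecialLinearGroup.transvection hij (-1 : F))))) := by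
  apply Subtype.ext
  change _ = Matrix.transvection i j c * (Matrix.transvection j i (-c⁻¹) *
    (Matrix.transvection i j c * (Matrix.transvection i j (-1) *
      (Matrix.transvection j i 1 * Matrix.transvection i j (-1)))))
  have key : ∀ x y : ι, (Matrix.transvection i j (-1 : F)) x y =
      (1 : Matrix ι ι F) x y + if i = x ∧ j = y then -1 else 0 := fun x y => by
    simp [Matrix.transvection, Matrix.single_apply]
  ext x y
  rcases eq_or_ne x i with rfl | hxi
  · simp [transvection_mul_apply_same, transvection_mul_apply_of_ne, hij, hij.symm, key,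
      SpecialLinearGroup.diag2n_coe, Matrix.one_apply, Matrix.diagonal_apply]
    by_cases h1 : x = y <;> by_cases h2 : j = y <;> simp_all <;> field_simp <;> ring
  · rcases eq_or_ne x j with rfl | hxj
    · simp [transvection_mul_apply_same, transvection_mul_apply_of_ne, hij, hij.symm, key,
        SpecialLinearGroup.diag2n_coe, Matrix.one_apply, Matrix.diagonal_apply]
      by_cases h1 : x = y <;> by_cases h2 : i = y <;> simp_all <;> field_simp <;> ring
    · simp [transvection_mul_apply_of_ne, hxi, hxj, Ne.symm hxi, key,
        SpecialLinearGroup.diag2n_coe, Matrix.one_apply, Matrix.diagonal_apply]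

/-- A subgroup of `SL` containing all elementary transvections is everything. -/
theorem SL_le_of_transvections (H : Subgroup (SpecialLinearGroup ι F))
    (h : ∀ (i j : ι) (hij : i ≠ j) (c : F), SpecialLinearGroup.transvection hij c ∈ H) :
    H = ⊤ := by
  refine eq_top_iff.2 fun M _ => ?_
  cases subsingleton_or_nontrivial ι
  · rw [Subsingleton.elim M 1]
    exact H.one_mem
  · refine SpecialLinearGroup.diagonal_transvection_induction' (· ∈ H) M ?_
      (fun i j hij a => h i j hij a) (fun _ _ => H.mul_mem)
    intro i j hij c hc
    rw [diag2n_eq_transvections hij c hc]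
    exact H.mul_mem (h ..) (H.mul_mem (h ..) (H.mul_mem (h ..) (H.mul_mem (h ..)
      (H.mul_mem (h ..) (h ..)))))

theorem commutator_transvection_transvection {i j k : ι} (hij : i ≠ j) (hjk : j ≠ k) (hik : i ≠ k)
    (a b : F) :
    ⁅SpecialLinearGroup.transvection hij a, SpecialLinearGroup.transvection hjk b⁆ =
      SpecialLinearGroup.transvection hik (a * b) := by
  rw [commutatorElement_def, SpecialLinearGroup.transvection_inv,
    SpecialLinearGroup.transvection_inv]
  apply Subtype.ext
  change (1 + single i j a) * (1 + single j k b) * (1 + single i j (-a)) * (1 + single j k (-b)) =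
    1 + single i k (a * b)
  have hneg : ∀ (x y : ι) (e : F), single x y (-e) = - single x y e := fun x y e =>
    ((singleAddMonoidHom x y).map_neg e)
  simp [mul_add, add_mul, single_mul_single_of_ne, hij, hjk, hik, hij.symm, hjk.symm, hik.symm,
    hneg]
  abel

theorem commutator_diag2n_transvection {i j : ι} (hij : i ≠ j) {x : F} (hx : x ≠ 0) (b : F) :
    ⁅SpecialLinearGroup.diag2n hij x hx, SpecialLinearGroup.transvection hij b⁆ =
      SpecialLinearGroup.transvection hij ((x ^ 2 - 1) * b) := by
  have h : SpecialLinearGroup.diag2n hij x hx * SpecialLinearGroup.transvection hij b =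
      SpecialLinearGroup.transvection hij (x ^ 2 * b) * SpecialLinearGroup.diag2n hij x hx := by
    apply Subtype.ext
    change diagonal _ * (1 + single i j b) = (1 + single i j (x ^ 2 * b)) * diagonal _
    simp only [mul_add, add_mul, mul_one, one_mul]
    congr 1
    rw [diagonal_mul_single_left, single_mul_diagonal_right]
    simp [hij.symm]
    congr 1
    field_simp
  rw [commutatorElement_def, h, mul_inv_cancel_right, SpecialLinearGroup.transvection_inv,
    ← SpecialLinearGroup.transvection_add]
  congr 1
  ring

theorem transvection_mem_commutatorSet_of_three {i j : ι} (hij : i ≠ j)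
    (h3 : 3 ≤ Fintype.card ι) (c : F) :
    SpecialLinearGroup.transvection hij c ∈ commutatorSet (SpecialLinearGroup ι F) := by
  obtain ⟨k, hk⟩ : ∃ k, k ∉ ({i, j} : Finset ι) := by
    by_contra hc
    push Not at hc
    have h1 := Finset.card_le_card (fun x _ => hc x : Finset.univ ⊆ ({i, j} : Finset ι))
    have h2 := Finset.card_le_two (a := i) (b := j)
    rw [Finset.card_univ] at h1
    omega
  simp only [Finset.mem_insert, Finset.mem_singleton, not_or] at hk
  refine ⟨_, _, (commutator_transvection_transvection (Ne.symm hk.1) hk.2 hij c 1).trans ?_⟩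
  rw [mul_one]

theorem transvection_mem_commutatorSet_of_sq {i j : ι} (hij : i ≠ j)
    {x : F} (hx : x ≠ 0) (hx2 : x ^ 2 ≠ 1) (c : F) :
    SpecialLinearGroup.transvection hij c ∈ commutatorSet (SpecialLinearGroup ι F) := by
  refine ⟨_, _, (commutator_diag2n_transvection hij hx (c / (x ^ 2 - 1))).trans ?_⟩
  rw [mul_div_cancel₀ _ (sub_ne_zero.2 hx2)]

theorem commutator_SL_eq_top (h3 : 3 ≤ Fintype.card ι) :
    commutator (SpecialLinearGroup ι F) = ⊤ :=
  SL_le_of_transvections _ fun i j hij c => by
    rw [commutator_eq_closure]
    exact Subgroup.subset_closure (transvection_mem_commutatorSet_of_three hij h3 c)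

theorem commutator_PSL_eq_top (h3 : 3 ≤ Fintype.card ι) :
    commutator (ProjectiveSpecialLinearGroup ι F) = ⊤ := by
  have : Group.IsPerfect (SpecialLinearGroup ι F) := ⟨commutator_SL_eq_top h3⟩
  exact Group.IsPerfect.commutator_eq_top (G := ProjectiveSpecialLinearGroup ι F)

open scoped LinearAlgebra.Projectivization

/-- The Iwasawa structure of `PSL` on projective space. -/
noncomputable def pslIwasawa :
    MulAction.IwasawaStructure (ProjectiveSpecialLinearGroup ι F) (ℙ F (ι → F)) where
  T := PSL.iwasawaT
  is_comm p := by
    have hSL : IsMulCommutative (SpecialLinearGroup.lineStab (F := F) (ι := ι) p.submodule) := by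
      rw [← Projectivization.mk_rep p, Projectivization.submodule_mk]
      exact SpecialLinearGroup.lineStab_isMulCommutative_of_span p.rep p.rep_nonzero
    exact Subgroup.map_isMulCommutative _ _
  is_conj g p := by
    obtain ⟨g_SL, rfl⟩ := QuotientGroup.mk_surjective g
    rw [Matrix.ProjectiveSpecialLinearGroup.smul_proj_mk]
    change Subgroup.map _ _ = _
    rw [PSL.smul_submodule, Matrix.SpecialLinearGroup.lineStab_smul,
      PSL.iwasawaT_map_conj]
  is_generator := by
    have h : (⨆ p : ℙ F (ι → F), SpecialLinearGroup.lineStab p.submodule) =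
        (⊤ : Subgroup (SpecialLinearGroup ι F)) := by
      refine SL_le_of_transvections _ fun i j hij c => ?_
      have hne : (Pi.single i (1 : F) : ι → F) ≠ 0 := by simp
      refine Subgroup.mem_iSup_of_mem (Projectivization.mk F _ hne) ?_
      rw [Projectivization.submodule_mk, SpecialLinearGroup.mem_lineStab_iff]
      intro w
      refine Submodule.mem_span_singleton.2 ⟨c * w j, ?_⟩

      change _ = (1 + single i j c : Matrix ι ι F) • w - w
      simp [Matrix.smul_eq_mulVec, add_mulVec, single_mulVec_eq, mul_smul]
    rw [← Subgroup.map_top_of_surjective (QuotientGroup.mk' (Subgroup.center _))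
      (QuotientGroup.mk'_surjective _), ← h, Subgroup.map_iSup]

theorem isSimpleGroup_PSL (h3 : 3 ≤ Fintype.card ι) :
    IsSimpleGroup (ProjectiveSpecialLinearGroup ι F) := by
  have : Nontrivial ι := Fintype.one_lt_card_iff_nontrivial.1 (by omega)
  have : Nontrivial (ProjectiveSpecialLinearGroup ι F) := SL2Simple.PSL_nontrivial
  exact MulAction.IwasawaStructure.isSimpleGroup (commutator_PSL_eq_top h3) pslIwasawa inferInstance

/-- The commutator subgroup of `GL` is `SL`, away from `GL_2(2)`. -/
theorem commutator_GL_eq (h : Fintype.card ι = 2 → ∃ a : F, a ≠ 0 ∧ a ≠ 1) :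
    commutator (GL ι F) = (GeneralLinearGroup.det : GL ι F →* Fˣ).ker := by
  refine le_antisymm (Abelianization.commutator_subset_ker _) ?_
  suffices H : (commutator (GL ι F)).comap
      (SpecialLinearGroup.toGL : SpecialLinearGroup ι F →* GL ι F) = ⊤ by
    intro g hg
    rw [← range_toGL] at hg
    obtain ⟨s, rfl⟩ := hg
    exact (eq_top_iff.1 H) (Subgroup.mem_top s)
  refine SL_le_of_transvections _ fun i j hij c => ?_
  rw [Subgroup.mem_comap]
  have h2 : 2 ≤ Fintype.card ι := Fintype.one_lt_card_iff.2 ⟨i, j, hij⟩
  rcases h2.lt_or_eq with h3 | h3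
  · obtain ⟨a, b, hab⟩ := transvection_mem_commutatorSet_of_three hij h3 c
    rw [← hab, map_commutatorElement]
    exact Subgroup.commutator_mem_commutator (Subgroup.mem_top _) (Subgroup.mem_top _)
  · obtain ⟨a, ha0, ha1⟩ := h h3.symm
    let d : GL ι F := GeneralLinearGroup.mkOfDetNeZero
      (diagonal (Function.update (1 : ι → F) i a)) (by
        rw [det_diagonal, Finset.prod_ne_zero_iff]
        intro x _
        rcases eq_or_ne x i with rfl | hx <;> simp [*])
    have hd : d * SpecialLinearGroup.toGL (SpecialLinearGroup.transvection hij (c / (a - 1))) =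
        SpecialLinearGroup.toGL (SpecialLinearGroup.transvection hij (a * (c / (a - 1)))) * d := by
      apply Units.ext
      simp only [Units.val_mul, SpecialLinearGroup.coe_GL_coe_matrix,
        SpecialLinearGroup.transvection_coe]
      change diagonal _ * _ = _ * diagonal _
      rw [mul_add, add_mul, mul_one, one_mul, diagonal_mul_single_left, single_mul_diagonal_right]
      simp [hij.symm]
    have hc : ⁅d, SpecialLinearGroup.toGL (SpecialLinearGroup.transvection hij (c / (a - 1)))⁆ =
        SpecialLinearGroup.toGL (SpecialLinearGroup.transvection hij c) := by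
      rw [commutatorElement_def, hd, mul_inv_cancel_right, ← map_inv, ← map_mul,
        SpecialLinearGroup.transvection_inv, ← SpecialLinearGroup.transvection_add]
      congr 2
      have : a - 1 ≠ 0 := sub_ne_zero.2 ha1
      field_simp
      ring
    rw [← hc]
    exact Subgroup.commutator_mem_commutator (Subgroup.mem_top _) (Subgroup.mem_top _)

end CfsgLib.Classical
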