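/-
Isometry groups of quadratic forms given as functions: elements from linear maps, reflections.
-/
import Mathlib
import Cfsg.Prelude.Def_ClassicalGeometry

set_option autoImplicit false

namespace CfsgLib.Classical

open Matrix Cfsg
open scoped commutatorElement

variable {F : Type*} [Field F] {ι : Type} [Fintype ι] [DecidableEq ι]

/-- The action of an isometry on vectors. -/
abbrev isoApply {Q : (ι → F) → F} (g : isometryGroup F Q) (x : ι → F) : ι → F :=
  ((g : GL ι F) : Matrix ι ι F) *ᵥ x

theorem isoApply_Q {Q : (ι → F) → F} (g : isometryGroup F Q) (x : ι → F) :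
    Q (isoApply g x) = Q x :=
  g.2 x x

theorem isoApply_mul {Q : (ι → F) → F} (g h : isometryGroup F Q) (x : ι → F) :
    isoApply (g * h) x = isoApply g (isoApply h x) := by
  simp only [isoApply, Subgroup.coe_mul, Units.val_mul, mulVec_mulVec]

theorem isoApply_one {Q : (ι → F) → F} (x : ι → F) :
    isoApply (1 : isometryGroup F Q) x = x := by
  simp [isoApply]

theorem isoApply_inv_apply {Q : (ι → F) → F} (g : isometryGroup F Q) (x : ι → F) :
    isoApply g⁻¹ (isoApply g x) = x := by
  rw [← isoApply_mul, inv_mul_cancel, isoApply_one]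

theorem isoApply_apply_inv {Q : (ι → F) → F} (g : isometryGroup F Q) (x : ι → F) :
    isoApply g (isoApply g⁻¹ x) = x := by
  rw [← isoApply_mul, mul_inv_cancel, isoApply_one]

theorem iso_ext {Q : (ι → F) → F} {g h : isometryGroup F Q}
    (H : ∀ x, isoApply g x = isoApply h x) : g = h :=
  Subtype.ext (Units.ext (Matrix.ext_of_mulVec_single fun i => H _))

/-- An isometry from an injective linear map. -/
noncomputable def isoMk {Q : (ι → F) → F} (f : (ι → F) →ₗ[F] (ι → F))
    (hinj : Function.Injective f) (hQ : ∀ x, Q (f x) = Q x) : isometryGroup F Q :=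
  ⟨GeneralLinearGroup.mkOfDetNeZero (LinearMap.toMatrix' f) (by
    rw [LinearMap.det_toMatrix']
    exact fun h => (LinearMap.bot_lt_ker_of_det_eq_zero h).ne' (LinearMap.ker_eq_bot.2 hinj)), by
    intro u v
    change Q (LinearMap.toMatrix' f *ᵥ u) = Q u
    rw [LinearMap.toMatrix'_mulVec]
    exact hQ u⟩

@[simp] theorem isoMk_apply {Q : (ι → F) → F} (f : (ι → F) →ₗ[F] (ι → F))
    (hinj : Function.Injective f) (hQ : ∀ x, Q (f x) = Q x) (x : ι → F) :
    isoApply (isoMk f hinj hQ) x = f x :=
  LinearMap.toMatrix'_mulVec f x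

section Quadratic

variable (Q : QuadraticForm F (ι → F))

theorem qf_polar_self (v : ι → F) : QuadraticMap.polar Q v v = 2 * Q v := by
  simp [QuadraticMap.polar_self, two_mul]

theorem qf_map_add (x y : ι → F) : Q (x + y) = Q x + Q y + QuadraticMap.polar Q x y := by
  simp [QuadraticMap.polar]

theorem qf_polar_comm (x y : ι → F) : QuadraticMap.polar Q x y = QuadraticMap.polar Q y x :=
  QuadraticMap.polar_comm _ _ _

theorem qf_map_add_smul (x v : ι → F) (a : F) :
    Q (x + a • v) = Q x + a * QuadraticMap.polar Q x v + a * a * Q v := by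
  rw [qf_map_add, QuadraticMap.map_smul, QuadraticMap.polar_smul_right]
  simp only [smul_eq_mul]
  ring

theorem polarVec_dotProduct (v x : ι → F) : polarVec Q v ⬝ᵥ x = QuadraticMap.polar Q v x := by
  conv_rhs => rw [← Finset.univ_sum_single x]
  rw [← QuadraticMap.polarBilin_apply_apply, map_sum, dotProduct]
  refine Finset.sum_congr rfl fun i _ => ?_
  have : Pi.single i (x i) = x i • (Pi.single i 1 : ι → F) := by simp [← Pi.single_smul]
  rw [this, map_smul, QuadraticMap.polarBilin_apply_apply, smul_eq_mul, polarVec, mul_comm]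

theorem reflectionMatrix_mulVec (v x : ι → F) :
    reflectionMatrix Q v *ᵥ x = x - ((Q v)⁻¹ * QuadraticMap.polar Q x v) • v := by
  rw [reflectionMatrix, sub_mulVec, one_mulVec, smul_mulVec, vecMulVec_mulVec, op_smul_eq_smul,
    polarVec_dotProduct, smul_smul, qf_polar_comm]

theorem reflection_map (v : ι → F) (hv : Q v ≠ 0) (x : ι → F) :
    Q (reflectionMatrix Q v *ᵥ x) = Q x := by
  rw [reflectionMatrix_mulVec, sub_eq_add_neg, ← neg_smul, qf_map_add_smul]
  field_simp
  ring

theorem reflection_self (v : ι → F) (hv : Q v ≠ 0) : reflectionMatrix Q v *ᵥ v = -v := by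
  rw [reflectionMatrix_mulVec, qf_polar_self, ← mul_assoc, mul_comm _ (2 : F), mul_assoc,
    inv_mul_cancel₀ hv, mul_one, two_smul]
  abel

theorem reflection_involutive (v : ι → F) (hv : Q v ≠ 0) (x : ι → F) :
    reflectionMatrix Q v *ᵥ (reflectionMatrix Q v *ᵥ x) = x := by
  conv_lhs => arg 2; rw [reflectionMatrix_mulVec]
  rw [mulVec_sub, mulVec_smul, reflection_self Q v hv, reflectionMatrix_mulVec]
  module

/-- The reflection along a non-singular vector, as an isometry. -/
noncomputable def reflect (v : ι → F) (hv : Q v ≠ 0) : isometryGroup F ⇑Q :=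
  isoMk (reflectionMatrix Q v).mulVecLin
    (Function.LeftInverse.injective (g := (reflectionMatrix Q v).mulVecLin)
      (fun x => reflection_involutive Q v hv x))
    (fun x => reflection_map Q v hv x)

theorem reflect_apply (v : ι → F) (hv : Q v ≠ 0) (x : ι → F) :
    isoApply (reflect Q v hv) x = x - ((Q v)⁻¹ * QuadraticMap.polar Q x v) • v := by
  exact ((isoMk_apply (reflectionMatrix Q v).mulVecLin _ _ x).trans
    (mulVecLin_apply _ _)).trans (reflectionMatrix_mulVec Q v x)

theorem reflect_coe (v : ι → F) (hv : Q v ≠ 0) :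
    ((reflect Q v hv : GL ι F) : Matrix ι ι F) = reflectionMatrix Q v :=
  Matrix.ext_of_mulVec_single fun i =>
    (reflect_apply Q v hv _).trans (reflectionMatrix_mulVec Q v _).symm

theorem reflect_mul_self (v : ι → F) (hv : Q v ≠ 0) : reflect Q v hv * reflect Q v hv = 1 :=
  iso_ext fun x => by
    simp only [isoApply_mul, isoApply_one, isoApply, reflect_coe, reflection_involutive Q v hv x]

theorem reflect_inv (v : ι → F) (hv : Q v ≠ 0) : (reflect Q v hv)⁻¹ = reflect Q v hv :=
  inv_eq_of_mul_eq_one_right (reflect_mul_self Q v hv)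

theorem iso_polar (g : isometryGroup F ⇑Q) (x y : ι → F) :
    QuadraticMap.polar Q (isoApply g x) (isoApply g y) = QuadraticMap.polar Q x y := by
  simp only [QuadraticMap.polar, isoApply, ← mulVec_add]
  rw [show Q (((g : GL ι F) : Matrix ι ι F) *ᵥ (x + y)) = Q (x + y) from isoApply_Q g _,
    show Q (((g : GL ι F) : Matrix ι ι F) *ᵥ x) = Q x from isoApply_Q g _,
    show Q (((g : GL ι F) : Matrix ι ι F) *ᵥ y) = Q y from isoApply_Q g _]

theorem reflect_conj (g : isometryGroup F ⇑Q) (v : ι → F) (hv : Q v ≠ 0) :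
    g * reflect Q v hv * g⁻¹ =
      reflect Q (isoApply g v) (fun h => hv (((isoApply_Q g v).symm.trans h))) :=
  iso_ext fun x => by
    rw [isoApply_mul, isoApply_mul, reflect_apply, reflect_apply, isoApply_Q (Q := ⇑Q) g v]
    conv_rhs => rw [← isoApply_apply_inv g x, iso_polar]
    simp only [isoApply, mulVec_sub, mulVec_smul]

/-- The reflection along `u - v` exchanges `u` and `v` when `Q u = Q v`. -/
theorem reflect_exchange {u v : ι → F} (h : Q u = Q v) (huv : Q (u - v) ≠ 0) :
    isoApply (reflect Q (u - v) huv) u = v := by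
  have e : QuadraticMap.polar Q u (u - v) = Q (u - v) := by
    rw [QuadraticMap.polar_sub_right, qf_polar_self, sub_eq_add_neg u v, qf_map_add,
      QuadraticMap.map_neg, QuadraticMap.polar_neg_right, h]
    ring
  rw [reflect_apply, e, inv_mul_cancel₀ huv, one_smul]
  abel

theorem reflect_mul_mem_commutator {u v : ι → F} (hu : Q u ≠ 0) (hv : Q v ≠ 0) (h : Q u = Q v)
    (huv : Q (u - v) ≠ 0) :
    reflect Q u hu * reflect Q v hv ∈ Omega F ⇑Q := by
  have hc : reflect Q (u - v) huv * reflect Q u hu * (reflect Q (u - v) huv)⁻¹ = reflect Q v hv := by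
    rw [reflect_conj]
    exact iso_ext fun x => by simp only [reflect_apply, reflect_exchange Q h huv]
  have : reflect Q u hu * reflect Q v hv = ⁅reflect Q u hu, reflect Q (u - v) huv⁆ := by
    rw [← hc, commutatorElement_def, reflect_inv Q u hu]
    group
  rw [this]
  exact Subgroup.commutator_mem_commutator (Subgroup.mem_top _) (Subgroup.mem_top _)

end Quadratic

end CfsgLib.Classical
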