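/-
Automorphism groups of quadratic spaces, hyperbolic extension, and the recursions for zeros and orders.
-/
import Cfsg.Agent.Lib.Classical.OrthBasic
import Cfsg.Agent.Lib.Classical.Witt

set_option autoImplicit false

namespace CfsgLib.Classical

open Matrix Cfsg

variable {F V V' : Type*} [Field F] [AddCommGroup V] [Module F V] [AddCommGroup V'] [Module F V']

/-- The linear automorphisms preserving a quadratic form. -/
def qAut (Q : QuadraticForm F V) : Subgroup (V ≃ₗ[F] V) where
  carrier := {g | ∀ v, Q (g v) = Q v}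
  mul_mem' {a b} ha hb := fun v => (ha (b v)).trans (hb v)
  one_mem' := fun _ => rfl
  inv_mem' {a} ha := fun v => by
    conv_rhs => rw [← a.apply_symm_apply v]
    exact (ha _).symm

theorem qAut_map {Q : QuadraticForm F V} (g : qAut Q) (v : V) : Q (g.1 v) = Q v := g.2 v

theorem qAut_polar {Q : QuadraticForm F V} (g : qAut Q) (u v : V) :
    QuadraticMap.polar Q (g.1 u) (g.1 v) = QuadraticMap.polar Q u v := by
  simp only [QuadraticMap.polar, ← map_add, qAut_map]

theorem qAut_ext {Q : QuadraticForm F V} {g h : qAut Q} (H : ∀ v, g.1 v = h.1 v) : g = h :=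
  Subtype.ext (LinearEquiv.ext H)

theorem finite_qAut [Finite V] (Q : QuadraticForm F V) : Finite (qAut Q) :=
  Finite.of_injective (fun g => (g.1 : V → V)) fun _ _ h => qAut_ext fun v => congrFun h v

/-- An isometric linear equivalence conjugates the automorphism groups. -/
def qAutCongr {Q : QuadraticForm F V} {Q' : QuadraticForm F V'} (e : V ≃ₗ[F] V')
    (he : ∀ v, Q' (e v) = Q v) : qAut Q ≃* qAut Q' where
  toFun g := ⟨e.symm.trans (g.1.trans e), fun v => by
    simp only [LinearEquiv.trans_apply, he, qAut_map]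
    rw [← he, e.apply_symm_apply]⟩
  invFun g := ⟨e.trans (g.1.trans e.symm), fun v => by
    simp only [LinearEquiv.trans_apply]
    rw [← he, e.apply_symm_apply, qAut_map, he]⟩
  left_inv g := qAut_ext fun v => by simp
  right_inv g := qAut_ext fun v => by simp
  map_mul' g h := qAut_ext fun v => by
    simp only [Subgroup.coe_mul, LinearEquiv.trans_apply, LinearEquiv.mul_apply]
    rw [e.symm_apply_apply]

section Matrix

variable {ι : Type} [Fintype ι] [DecidableEq ι]

/-- The matrix isometry group is the automorphism group of the quadratic form. -/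
noncomputable def isoEquiv (Q : QuadraticForm F (ι → F)) : isometryGroup F ⇑Q ≃* qAut Q where
  toFun g := ⟨{ toFun := isoApply g
                map_add' := fun _ _ => mulVec_add _ _ _
                map_smul' := fun _ _ => mulVec_smul _ _ _
                invFun := isoApply g⁻¹
                left_inv := isoApply_inv_apply g
                right_inv := isoApply_apply_inv g }, isoApply_Q g⟩
  invFun g := isoMk g.1.toLinearMap g.1.injective g.2
  left_inv g := iso_ext fun x => isoMk_apply _ _ _ x
  right_inv g := qAut_ext fun x => isoMk_apply _ _ _ x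
  map_mul' g h := qAut_ext fun x => isoApply_mul g h x

@[simp] theorem isoEquiv_apply (Q : QuadraticForm F (ι → F)) (g : isometryGroup F ⇑Q) (x : ι → F) :
    (isoEquiv Q g).1 x = isoApply g x := rfl

end Matrix

/-- The hyperbolic plane `(x, y) ↦ x y`. -/
def hyp2 (F : Type*) [Field F] : QuadraticForm F (F × F) :=
  QuadraticMap.linMulLin (LinearMap.fst F F F) (LinearMap.snd F F F)

@[simp] theorem hyp2_apply (p : F × F) : hyp2 F p = p.1 * p.2 := rfl

theorem polar_hyp2 (p r : F × F) : QuadraticMap.polar (hyp2 F) p r = p.1 * r.2 + r.1 * p.2 := by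
  simp [QuadraticMap.polar]
  ring

/-- `H ⊥ Q`. -/
def hypSum (Q : QuadraticForm F V) : QuadraticForm F ((F × F) × V) := (hyp2 F).prod Q

theorem hypSum_apply (Q : QuadraticForm F V) (x : (F × F) × V) :
    hypSum Q x = x.1.1 * x.1.2 + Q x.2 := by
  simp [hypSum]

theorem polar_hypSum (Q : QuadraticForm F V) (x y : (F × F) × V) :
    QuadraticMap.polar (hypSum Q) x y = x.1.1 * y.1.2 + y.1.1 * x.1.2 + QuadraticMap.polar Q x.2 y.2 := by
  simp [hypSum, polar_hyp2]

/-- Non-degeneracy of the polar form. -/
def PolarNondeg (Q : QuadraticForm F V) : Prop := ∀ v, (∀ w, QuadraticMap.polar Q v w = 0) → v = 0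

theorem polarNondeg_of_nondegenerate {Q : QuadraticForm F V} (h : (QuadraticMap.polarBilin Q).Nondegenerate) :
    PolarNondeg Q := fun v hv => h.1 v hv

theorem PolarNondeg.nondegenerate {Q : QuadraticForm F V} (h : PolarNondeg Q) :
    (QuadraticMap.polarBilin Q).Nondegenerate :=
  ⟨fun v hv => h v hv, fun v hv => h v fun w => (QuadraticMap.polar_comm _ v w).trans (hv w)⟩

theorem polarNondeg_hypSum {Q : QuadraticForm F V} (h : PolarNondeg Q) : PolarNondeg (hypSum Q) := by
  intro x hx
  have h1 : x.1.2 = 0 := by simpa [polar_hypSum] using hx ((1, 0), 0)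
  have h2 : x.1.1 = 0 := by simpa [polar_hypSum] using hx ((0, 1), 0)
  have h3 : x.2 = 0 := h _ fun w => by simpa [polar_hypSum] using hx ((0, 0), w)
  exact Prod.ext (Prod.ext h2 h1) h3

theorem polarNondeg_congr {Q : QuadraticForm F V} {Q' : QuadraticForm F V'} (e : V ≃ₗ[F] V')
    (he : ∀ v, Q' (e v) = Q v) (h : PolarNondeg Q) : PolarNondeg Q' := by
  intro v hv
  obtain ⟨u, rfl⟩ := e.surjective v
  rw [h u fun w => ?_, map_zero]
  have := hv (e w)
  simp only [QuadraticMap.polar, ← map_add, he] at this ⊢
  exact this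

/-- The number of zeros, the origin included. -/
noncomputable def zeros (Q : QuadraticForm F V) : ℕ := Nat.card {v : V // Q v = 0}

theorem zeros_pos [Finite V] (Q : QuadraticForm F V) : 1 ≤ zeros Q :=
  Nat.card_pos_iff.2 ⟨⟨⟨0, map_zero Q⟩⟩, inferInstance⟩

theorem zeros_congr {Q : QuadraticForm F V} {Q' : QuadraticForm F V'} (e : V ≃ₗ[F] V')
    (he : ∀ v, Q' (e v) = Q v) : zeros Q' = zeros Q :=
  (Nat.card_congr (e.toEquiv.subtypeEquiv (p := fun v => Q v = 0) (q := fun v => Q' v = 0)
    fun v => by simp [he])).symm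

theorem zeros_hypSum [Fintype F] [Finite V] (Q : QuadraticForm F V) :
    zeros (hypSum Q) = (Fintype.card F - 1) * Nat.card V + Fintype.card F * zeros Q := by
  classical
  letI := Fintype.ofFinite V
  set q := Fintype.card F
  have hfib : ∀ v : V, Nat.card {p : F × F // p.1 * p.2 + Q v = 0} =
      (q - 1) + if Q v = 0 then q else 0 := by
    intro v
    have e : {p : F × F // p.1 * p.2 + Q v = 0} ≃ Σ x : F, {y : F // x * y + Q v = 0} :=
      { toFun := fun p => ⟨p.1.1, p.1.2, p.2⟩
        invFun := fun s => ⟨(s.1, s.2.1), s.2.2⟩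
        left_inv := fun _ => rfl
        right_inv := fun _ => rfl }
    rw [Nat.card_congr e, Nat.card_sigma, ← Finset.add_sum_erase _ _ (Finset.mem_univ (0 : F)), add_comm]
    congr 1
    · rw [Finset.sum_congr rfl (g := fun _ => 1) (fun x hx => ?_), Finset.sum_const,
        Finset.card_erase_of_mem (Finset.mem_univ _), Finset.card_univ, smul_eq_mul, mul_one]
      have hx0 := (Finset.mem_erase.1 hx).1
      refine Nat.card_eq_one_iff_unique.2
        ⟨⟨fun a b => Subtype.ext (mul_left_cancel₀ hx0 ?_)⟩, ⟨⟨-Q v / x, by field_simp; ring⟩⟩⟩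
      linear_combination a.2 - b.2
    · split_ifs with h
      · simp [h, q]
      · simp [h]
  have e : {x : (F × F) × V // hypSum Q x = 0} ≃ Σ v : V, {p : F × F // p.1 * p.2 + Q v = 0} :=
    { toFun := fun x => ⟨x.1.2, x.1.1, by rw [← hypSum_apply]; exact x.2⟩
      invFun := fun s => ⟨(s.2.1, s.1), by rw [hypSum_apply]; exact s.2.2⟩
      left_inv := fun _ => rfl
      right_inv := fun _ => rfl }
  rw [zeros, Nat.card_congr e, Nat.card_sigma, Finset.sum_congr rfl (fun v _ => hfib v),
    Finset.sum_add_distrib, Finset.sum_const, Finset.card_univ, smul_eq_mul, ← Finset.sum_filter,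
    Finset.sum_const, smul_eq_mul, zeros, Nat.card_eq_fintype_card, Nat.card_eq_fintype_card,
    Fintype.card_subtype]
  ring

section Pairs

variable [Fintype F] [Finite V]

/-- Hyperbolic pairs. -/
def HypPairs (Q : QuadraticForm F V) : Type _ :=
  {p : V × V // Q p.1 = 0 ∧ Q p.2 = 0 ∧ QuadraticMap.polar Q p.1 p.2 = 1}

theorem card_hypPairs [FiniteDimensional F V] {Q : QuadraticForm F V} (hQ : PolarNondeg Q) {n : ℕ}
    (hn : Module.finrank F V = n + 2) :
    Nat.card (HypPairs Q) = (zeros Q - 1) * Fintype.card F ^ n := by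
  classical
  letI := Fintype.ofFinite V
  set q := Fintype.card F
  have hq : 0 < q := Fintype.card_pos
  have hfib : ∀ u : {u : V // Q u = 0 ∧ u ≠ 0},
      Nat.card {w : V // Q w = 0 ∧ QuadraticMap.polar Q u w = 1} = q ^ n := by
    rintro ⟨u, hu, hu0⟩
    change Nat.card {w : V // Q w = 0 ∧ QuadraticMap.polar Q u w = 1} = q ^ n
    set φ := QuadraticMap.polarBilin Q u with hφ
    obtain ⟨w₀, hw₀⟩ : ∃ w, QuadraticMap.polar Q u w ≠ 0 := by
      by_contra hc
      push Not at hc
      exact hu0 (hQ u hc)
    have hsurj : LinearMap.range φ = ⊤ := LinearMap.range_eq_top.2 fun a =>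
      ⟨(a / QuadraticMap.polar Q u w₀) • w₀, by simp [hφ, hw₀]⟩
    obtain ⟨w₁, hw₁⟩ := LinearMap.range_eq_top.1 hsurj 1
    have hker : Module.finrank F (LinearMap.ker φ) = n + 1 := by
      have := LinearMap.finrank_range_add_finrank_ker φ
      rw [hsurj, finrank_top, Module.finrank_self] at this
      omega
    have huu : QuadraticMap.polar Q u u = 0 := by simp [QuadraticMap.polar_self, hu]
    have e1 : {w : V // Q w = 0 ∧ QuadraticMap.polar Q u w = 1} × F ≃ {w : V // φ w = 1} :=
      { toFun := fun p => ⟨p.1.1 + p.2 • u, by simp [hφ, p.1.2.2, huu]⟩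
        invFun := fun w => (⟨w.1 + (-Q w.1) • u, by
          have hw : QuadraticMap.polar Q u w.1 = 1 := w.2
          refine ⟨?_, by simp [hw, huu]⟩
          have hadd : ∀ a b, Q (a + b) = Q a + Q b + QuadraticMap.polar Q a b := fun a b => by
            simp [QuadraticMap.polar]
          rw [hadd, QuadraticMap.map_smul, hu, QuadraticMap.polar_smul_right, QuadraticMap.polar_comm, hw]
          simp⟩, Q w.1)
        left_inv := fun p => by
          obtain ⟨⟨w, hw, hw'⟩, t⟩ := p
          have hadd : ∀ a b, Q (a + b) = Q a + Q b + QuadraticMap.polar Q a b := fun a b => by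
            simp [QuadraticMap.polar]
          have hQt : Q (w + t • u) = t := by
            rw [hadd, QuadraticMap.map_smul, hu, QuadraticMap.polar_smul_right, QuadraticMap.polar_comm, hw', hw]
            simp
          refine Prod.ext (Subtype.ext ?_) hQt
          simp [hQt]
        right_inv := fun w => Subtype.ext (by simp) }
    have e2 : {w : V // φ w = 1} ≃ LinearMap.ker φ :=
      { toFun := fun w => ⟨w.1 - w₁, by simp [LinearMap.mem_ker, map_sub, w.2, hw₁]⟩
        invFun := fun k => ⟨k.1 + w₁, by simp [map_add, LinearMap.mem_ker.1 k.2, hw₁]⟩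
        left_inv := fun w => Subtype.ext (by simp)
        right_inv := fun k => Subtype.ext (by simp) }
    have h := Nat.card_congr (e1.trans e2)
    rw [Nat.card_prod, Module.natCard_eq_pow_finrank (K := F) (V := LinearMap.ker φ), hker,
      Nat.card_eq_fintype_card (α := F), pow_succ] at h
    exact Nat.eq_of_mul_eq_mul_right hq h
  have e : HypPairs Q ≃ Σ u : {u : V // Q u = 0 ∧ u ≠ 0}, {w : V // Q w = 0 ∧ QuadraticMap.polar Q u w = 1} :=
    { toFun := fun p => ⟨⟨p.1.1, p.2.1, fun h => by simpa [h, QuadraticMap.polar] using p.2.2.2⟩,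
        ⟨p.1.2, p.2.2.1, p.2.2.2⟩⟩
      invFun := fun s => ⟨(s.1.1, s.2.1), s.1.2.1, s.2.2.1, s.2.2.2⟩
      left_inv := fun _ => rfl
      right_inv := fun _ => rfl }
  rw [Nat.card_congr e, Nat.card_sigma, Finset.sum_congr rfl (fun u _ => hfib u), Finset.sum_const,
    Finset.card_univ, smul_eq_mul]
  congr 1
  have e2 : {u : V // Q u = 0 ∧ u ≠ 0} ≃ {u : {u : V // Q u = 0} // u ≠ ⟨0, map_zero Q⟩} :=
    { toFun := fun u => ⟨⟨u.1, u.2.1⟩, fun h => u.2.2 (congrArg Subtype.val h)⟩
      invFun := fun u => ⟨u.1.1, u.1.2, fun h => u.2 (Subtype.ext h)⟩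
      left_inv := fun _ => rfl
      right_inv := fun _ => rfl }
  rw [Fintype.card_congr e2, zeros, Nat.card_eq_fintype_card, Fintype.card_subtype_compl,
    Fintype.card_subtype_eq]

/-- The orbit-stabiliser step. -/
theorem card_qAut_hypSum [FiniteDimensional F V] {Q : QuadraticForm F V} (hQ : PolarNondeg Q) :
    Nat.card (qAut (hypSum Q)) =
      (zeros (hypSum Q) - 1) * Fintype.card F ^ Module.finrank F V * Nat.card (qAut Q) := by
  classical
  set W := (F × F) × V
  set QW := hypSum Q
  have hW : PolarNondeg QW := polarNondeg_hypSum hQ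
  let e : W := ((1, 0), 0)
  let f : W := ((0, 1), 0)
  have hef : QW e = 0 ∧ QW f = 0 ∧ QuadraticMap.polar QW e f = 1 := by
    simp [QW, e, f, hypSum_apply, polar_hypSum]
  have hex : ∀ p : HypPairs QW, ∃ g : qAut QW, g.1 e = p.1.1 ∧ g.1 f = p.1.2 := by
    rintro ⟨⟨u, v⟩, hu, hv, huv⟩
    let ι₂ : (F × F) →ₗ[F] W := LinearMap.inl F (F × F) V
    let ψ : (F × F) →ₗ[F] W :=
      (LinearMap.fst F F F).smulRight u + (LinearMap.snd F F F).smulRight v
    let φ : LinearMap.range ι₂ →ₗ[F] W :=
      ψ.comp (LinearEquiv.ofInjective ι₂ LinearMap.inl_injective).symm.toLinearMap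
    have hψQ : ∀ p, QW (ψ p) = p.1 * p.2 := fun p => by
      have hadd : ∀ a b, QW (a + b) = QW a + QW b + QuadraticMap.polar QW a b := fun a b => by
        simp [QuadraticMap.polar]
      simp only [ψ, LinearMap.add_apply, LinearMap.smulRight_apply, LinearMap.fst_apply,
        LinearMap.snd_apply]
      rw [hadd, QuadraticMap.map_smul, QuadraticMap.map_smul, QuadraticMap.polar_smul_left,
        QuadraticMap.polar_smul_right, hu, hv, huv]
      simp
    have hψ : Function.Injective ψ := by
      rw [← LinearMap.ker_eq_bot, LinearMap.ker_eq_bot']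
      intro p hp
      have h1 := congrArg (fun x => QuadraticMap.polar QW x v) hp
      have h2 := congrArg (fun x => QuadraticMap.polar QW u x) hp
      simp [ψ, huv, QuadraticMap.polar_self, hu, hv] at h1 h2
      exact Prod.ext h1 h2
    obtain ⟨g, hg, hgφ⟩ := witt_quad QW hW (LinearMap.range ι₂) φ
      (hψ.comp (LinearEquiv.injective _)) (by
        rintro ⟨_, p, rfl⟩
        change QW (ψ ((LinearEquiv.ofInjective ι₂ LinearMap.inl_injective).symm ⟨ι₂ p, _⟩)) = _
        rw [show (⟨ι₂ p, _⟩ : LinearMap.range ι₂) = LinearEquiv.ofInjective ι₂ LinearMap.inl_injective p from rfl,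
          LinearEquiv.symm_apply_apply, hψQ]
        simp [QW, ι₂, hypSum_apply])
    have key : ∀ p, g (ι₂ p) = ψ p := fun p => by
      have h := hgφ (LinearEquiv.ofInjective ι₂ LinearMap.inl_injective p)
      simp only [φ, LinearMap.comp_apply, LinearEquiv.coe_coe, LinearEquiv.symm_apply_apply] at h
      exact h
    refine ⟨⟨g, hg⟩, (key (1, 0)).trans ?_, (key (0, 1)).trans ?_⟩ <;> simp [ψ]
  choose s hs1 hs2 using hex
  let S := {g : qAut QW // g.1 e = e ∧ g.1 f = f}
  have e1 : qAut QW ≃ HypPairs QW × S :=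
    { toFun := fun g =>
        let p : HypPairs QW := ⟨(g.1 e, g.1 f), (qAut_map g e).trans hef.1, (qAut_map g f).trans hef.2.1,
          (qAut_polar g e f).trans hef.2.2⟩
        (p, ⟨(s p)⁻¹ * g, by
          constructor
          · change (s p).1.symm (g.1 e) = e
            rw [LinearEquiv.symm_apply_eq]
            exact (hs1 p).symm
          · change (s p).1.symm (g.1 f) = f
            rw [LinearEquiv.symm_apply_eq]
            exact (hs2 p).symm⟩)
      invFun := fun r => s r.1 * r.2.1
      left_inv := fun g => by simp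
      right_inv := fun r => by
        obtain ⟨p, g, hge, hgf⟩ := r
        have hp : ∀ pf, (⟨((s p * g).1 e, (s p * g).1 f), pf⟩ : HypPairs QW) = p := fun pf =>
          Subtype.ext (Prod.ext ((congrArg (s p).1 hge).trans (hs1 p)) ((congrArg (s p).1 hgf).trans (hs2 p)))
        refine Prod.ext (hp _) (Subtype.ext ?_)
        simp only [hp, inv_mul_cancel_left] }
  have hperp : ∀ g : S, ∀ v : V, g.1.1 ((0, 0), v) = ((0, 0), (g.1.1 ((0, 0), v)).2) := fun g v => by
    have h1 := qAut_polar g.1 ((0, 0), v) e
    have h2 := qAut_polar g.1 ((0, 0), v) f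
    rw [g.2.1] at h1
    rw [g.2.2] at h2
    simp [QW, e, f, polar_hypSum] at h1 h2
    exact Prod.ext (Prod.ext h2 h1) rfl
  let e2 : S ≃ qAut Q :=
    { toFun := fun g => ⟨LinearEquiv.ofLinear
          ((LinearMap.snd F (F × F) V).comp (g.1.1.toLinearMap.comp (LinearMap.inr F (F × F) V)))
          ((LinearMap.snd F (F × F) V).comp (g.1.1.symm.toLinearMap.comp (LinearMap.inr F (F × F) V)))
          (by
            refine LinearMap.ext fun v => ?_
            have hinv : g.1⁻¹.1 e = e ∧ g.1⁻¹.1 f = f :=
              ⟨(g.1.1.symm_apply_eq).2 g.2.1.symm, (g.1.1.symm_apply_eq).2 g.2.2.symm⟩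
            have := hperp ⟨g.1⁻¹, hinv⟩ v
            change (g.1.1 ((0, 0), (g.1.1.symm ((0, 0), v)).2)).2 = v
            rw [show ((0, 0), (g.1.1.symm ((0, 0), v)).2) = g.1.1.symm ((0, 0), v) from this.symm,
              LinearEquiv.apply_symm_apply])
          (by
            refine LinearMap.ext fun v => ?_
            change (g.1.1.symm ((0, 0), (g.1.1 ((0, 0), v)).2)).2 = v
            rw [← hperp g v, LinearEquiv.symm_apply_apply]),
        fun v => by
          have h := qAut_map g.1 ((0, 0), v)
          rw [hperp g v] at h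
          simp [QW, hypSum_apply] at h
          exact h⟩
      invFun := fun h => ⟨⟨(LinearEquiv.refl F (F × F)).prodCongr h.1, fun x => by
          simp [QW, hypSum_apply, qAut_map]⟩, by simp [e], by simp [f]⟩
      left_inv := fun g => by
        refine Subtype.ext (qAut_ext fun x => ?_)
        have hx : x = x.1.1 • e + x.1.2 • f + ((0, 0), x.2) := by
          change x = (x.1.1 • (((1, 0), 0) : (F × F) × V) + x.1.2 • (((0, 1), 0) : (F × F) × V) +
            (((0, 0), x.2) : (F × F) × V) : (F × F) × V)
          simp [Prod.ext_iff]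
        change (x.1, (g.1.1 ((0, 0), x.2)).2) = g.1.1 x
        conv_rhs => rw [hx, map_add, map_add, map_smul, map_smul, g.2.1, g.2.2, hperp g x.2]
        simp [e, f]
      right_inv := fun h => qAut_ext fun v => rfl }
  have hfin : Module.finrank F W = Module.finrank F V + 2 := by
    simp [W, Module.finrank_prod]
    omega
  rw [Nat.card_congr e1, Nat.card_prod, Nat.card_congr e2, card_hypPairs hW hfin]

end Pairs

end CfsgLib.Classical
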