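/-
Binary quadratic spaces: the anisotropic norm form, the hyperbolic plane, and their dihedral groups.
-/
import Cfsg.Agent.Lib.Classical.QuadSpace
import Cfsg.Agent.Lib.Classical.FiniteFieldSq

set_option autoImplicit false

namespace CfsgLib.Classical

open Matrix Cfsg

/-- Recognition of a dihedral group. -/
theorem dihedral_of_rotation {G : Type*} [Group G] [Finite G] {n : ℕ} (hn : 0 < n) {r s : G}
    (hr : orderOf r = n) (hs : s * s = 1) (hsr : s * r * s = r⁻¹) (hns : s ∉ Subgroup.zpowers r)
    (hcard : Nat.card G = 2 * n) : Nonempty (G ≃* DihedralGroup n) := by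
  haveI : NeZero n := ⟨hn.ne'⟩
  let p : ZMod n → G := fun i => r ^ i.val
  have padd : ∀ i j, p (i + j) = p i * p j := fun i j => by
    simp only [p]
    rw [← pow_add, pow_eq_pow_iff_modEq, hr, ZMod.val_add]
    exact Nat.mod_modEq _ _
  have p0 : p 0 = 1 := by simp [p]
  have psub : ∀ i j, p (i - j) = p i * (p j)⁻¹ := fun i j => by
    rw [eq_mul_inv_iff_mul_eq, ← padd, sub_add_cancel]
  have hsinv : s⁻¹ = s := inv_eq_of_mul_eq_one_right hs
  have hsp : ∀ i, s * p i * s = (p i)⁻¹ := fun i => by
    simp only [p]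
    have := conj_pow (a := s) (b := r) (i := i.val)
    rw [hsinv, hsr, inv_pow] at this
    exact this.symm
  have hps : ∀ i, p i * s = s * (p i)⁻¹ := fun i => by
    rw [← hsp i, ← mul_assoc, ← mul_assoc, hs, one_mul]
  let f : DihedralGroup n → G
    | .r i => p i
    | .sr i => s * p i
  have hf : ∀ a b, f (a * b) = f a * f b := by
    rintro (i | i) (j | j)
    · exact padd i j
    · change s * p (j - i) = p i * (s * p j)
      rw [← mul_assoc, hps, psub, mul_assoc]
      congr 1
      rw [← psub, sub_eq_neg_add, padd, ← zero_sub, psub, p0, one_mul]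
    · change s * p (i + j) = s * p i * p j
      rw [padd, mul_assoc]
    · change p (j - i) = s * p i * (s * p j)
      rw [mul_assoc, ← mul_assoc (p i), hps, mul_assoc, ← mul_assoc s, hs, one_mul, sub_eq_neg_add,
        padd, ← zero_sub, psub, p0, one_mul]
  have hinj : Function.Injective f := by
    have hp : Function.Injective p := fun i j h => by
      simp only [p] at h
      rw [pow_eq_pow_iff_modEq, hr] at h
      exact ZMod.val_injective n (Nat.ModEq.eq_of_lt_of_lt h (ZMod.val_lt i) (ZMod.val_lt j))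
    have hne : ∀ i j, s * p i ≠ p j := fun i j h => hns (by
      rw [eq_mul_inv_of_mul_eq h]
      exact Subgroup.mul_mem _ (Subgroup.pow_mem _ (Subgroup.mem_zpowers r) _)
        (Subgroup.inv_mem _ (Subgroup.pow_mem _ (Subgroup.mem_zpowers r) _)))
    rintro (i | i) (j | j) h
    · exact congrArg _ (hp h)
    · exact absurd h.symm (hne _ _)
    · exact absurd h (hne _ _)
    · exact congrArg _ (hp (mul_left_cancel h))
  exact ⟨(MulEquiv.ofBijective (MonoidHom.mk' f hf) ((Nat.bijective_iff_injective_and_card _).2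
    ⟨hinj, by rw [DihedralGroup.nat_card, hcard]⟩)).symm⟩

variable {F : Type*} [Field F]

/-- `z₁² + a z₁ z₂ + b z₂²`. -/
def qBin (a b : F) : QuadraticForm F (Fin 2 → F) :=
  QuadraticMap.proj 0 0 + a • QuadraticMap.proj 0 1 + b • QuadraticMap.proj 1 1

theorem qBin_apply (a b : F) (z : Fin 2 → F) :
    qBin a b z = z 0 ^ 2 + a * z 0 * z 1 + b * z 1 ^ 2 := by
  simp [qBin]
  ring

/-- The binary form is anisotropic. -/
def BinAniso (a b : F) : Prop := ∀ z₁ z₂ : F, z₁ ^ 2 + a * z₁ * z₂ + b * z₂ ^ 2 = 0 → z₁ = 0 ∧ z₂ = 0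

theorem zeros_qBin {a b : F} (h : BinAniso a b) : zeros (qBin a b) = 1 :=
  Nat.card_eq_one_iff_unique.2 ⟨⟨fun x y => by
    have hx := h _ _ ((qBin_apply a b x.1).symm.trans x.2)
    have hy := h _ _ ((qBin_apply a b y.1).symm.trans y.2)
    refine Subtype.ext (funext fun i => ?_)
    fin_cases i
    · simp [hx.1, hy.1]
    · simp [hx.2, hy.2]⟩, ⟨⟨0, map_zero _⟩⟩⟩

theorem binAniso_disc [Finite F] {a b : F} (h : BinAniso a b) : 4 * b - a * a ≠ 0 := by
  intro hd
  by_cases h2 : (2 : F) = 0
  · have ha : a = 0 := by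
      have : a * a = 0 := by linear_combination -hd + 2 * b * h2
      exact mul_self_eq_zero.1 this
    have : CharP F 2 := CharTwo.of_one_ne_zero_of_two_eq_zero one_ne_zero h2
    have hc : ringChar F = 2 := ringChar.eq F 2
    obtain ⟨r, hr⟩ := FiniteField.isSquare_of_char_two hc b
    exact one_ne_zero (h r 1 (by rw [ha, hr]; linear_combination r * r * h2)).2
  · refine one_ne_zero (h (-a / 2) 1 ?_).2
    field_simp
    linear_combination hd

theorem polarNondeg_qBin [Finite F] {a b : F} (h : BinAniso a b) : PolarNondeg (qBin a b) := by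
  intro v hv
  have h0 := hv (Pi.single 0 1)
  have h1 := hv (Pi.single 1 1)
  simp [QuadraticMap.polar, qBin_apply] at h0 h1
  have e0 : 2 * v 0 + a * v 1 = 0 := by linear_combination h0
  have e1 : a * v 0 + 2 * b * v 1 = 0 := by linear_combination h1
  have hd := binAniso_disc h
  have z0 : (4 * b - a * a) * v 0 = 0 := by linear_combination 2 * b * e0 - a * e1
  have z1 : (4 * b - a * a) * v 1 = 0 := by linear_combination 2 * e1 - a * e0
  funext i
  fin_cases i
  · exact (mul_eq_zero.1 z0).resolve_left hd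
  · exact (mul_eq_zero.1 z1).resolve_left hd

open QuadraticAlgebra in
/-- The isometry group of an anisotropic plane is dihedral of order `2(q+1)`. -/
theorem qBin_dihedral [Fintype F] {a b : F} (h : BinAniso a b) :
    Nat.card (qAut (qBin a b)) = 2 * (Fintype.card F + 1) ∧
      Nonempty (qAut (qBin a b) ≃* DihedralGroup (Fintype.card F + 1)) := by
  classical
  set q := Fintype.card F with hq
  have hq2 : 2 ≤ q := Fintype.one_lt_card
  haveI : Fact (∀ r : F, r ^ 2 ≠ -b + a * r) := ⟨fun r hr => one_ne_zero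
    (h (-r) 1 (by linear_combination hr)).2⟩
  let L : (QuadraticAlgebra F (-b) a) ≃ₗ[F] (Fin 2 → F) :=
    { toFun := fun x => ![x.re, x.im]
      map_add' := fun x y => by ext i; fin_cases i <;> simp
      map_smul' := fun c x => by ext i; fin_cases i <;> simp
      invFun := fun z => ⟨z 0, z 1⟩
      left_inv := fun x => by ext <;> simp
      right_inv := fun z => by ext i; fin_cases i <;> simp }
  let N : QuadraticForm F (QuadraticAlgebra F (-b) a) := (qBin a b).comp L.toLinearMap
  have hN : ∀ x, N x = QuadraticAlgebra.norm x := fun x => by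
    simp [N, qBin_apply, L, QuadraticAlgebra.norm_def]
    ring
  suffices H : Nat.card (qAut N) = 2 * (q + 1) ∧ Nonempty (qAut N ≃* DihedralGroup (q + 1)) by
    let e : qAut N ≃* qAut (qBin a b) := qAutCongr L fun v => rfl
    obtain ⟨h1, ⟨f⟩⟩ := H
    exact ⟨(Nat.card_congr e.toEquiv).symm.trans h1, ⟨e.symm.trans f⟩⟩
  haveI : Finite (QuadraticAlgebra F (-b) a) := Finite.of_equiv _ L.symm.toEquiv
  haveI := finite_qAut N
  let ν : (QuadraticAlgebra F (-b) a)ˣ →* Fˣ := Units.map (QuadraticAlgebra.norm : (QuadraticAlgebra F (-b) a) →* F)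
  have hrange : Function.Surjective ν := by
    intro c
    obtain ⟨x, hx⟩ : ∃ x : (QuadraticAlgebra F (-b) a), QuadraticAlgebra.norm x = (c : F) := by
      by_cases h2 : (2 : F) = 0
      · have : CharP F 2 := CharTwo.of_one_ne_zero_of_two_eq_zero one_ne_zero h2
        obtain ⟨r, hr⟩ := FiniteField.isSquare_of_char_two (ringChar.eq F 2) (c : F)
        exact ⟨⟨r, 0⟩, by simp [QuadraticAlgebra.norm_def, hr]⟩
      · have hd : b - a * a / 4 ≠ 0 := fun hd => binAniso_disc h (by
          have h4 : (4 : F) ≠ 0 := by rw [show (4 : F) = 2 * 2 by norm_num]; exact mul_ne_zero h2 h2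
          field_simp at hd
          linear_combination hd)
        obtain ⟨u, v, huv⟩ := exists_mul_sq_add_mul_sq h2 (one_ne_zero (α := F)) hd (c : F)
        refine ⟨⟨u - a / 2 * v, v⟩, ?_⟩
        rw [QuadraticAlgebra.norm_def]
        have h4 : (4 : F) ≠ 0 := by rw [show (4 : F) = 2 * 2 by norm_num]; exact mul_ne_zero h2 h2
        linear_combination (norm := skip) huv
        field_simp
        ring
    have hx0 : x ≠ 0 := fun h0 => c.ne_zero (by rw [← hx, h0, QuadraticAlgebra.norm_zero])
    exact ⟨Units.mk0 x hx0, Units.ext hx⟩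
  have hK : Nat.card (QuadraticAlgebra F (-b) a)ˣ = (q + 1) * (q - 1) := by
    rw [Nat.card_units, Nat.card_congr L.toEquiv, Nat.card_fun, Nat.card_eq_fintype_card (α := F),
      Nat.card_eq_fintype_card, Fintype.card_fin, ← hq, ← Nat.sq_sub_sq, one_pow]
  have hker : Nat.card ν.ker = q + 1 := by
    have h' := Subgroup.index_mul_card ν.ker
    rw [Subgroup.index_ker, MonoidHom.range_eq_top.2 hrange, Subgroup.card_top, Nat.card_units, hK,
      Nat.card_eq_fintype_card, ← hq, mul_comm (q + 1)] at h'
    exact Nat.eq_of_mul_eq_mul_left (by omega) h'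
  have hu1 : ∀ u : ν.ker, QuadraticAlgebra.norm ((u : (QuadraticAlgebra F (-b) a)ˣ) : (QuadraticAlgebra F (-b) a)) = 1 := fun u => by
    simpa [ν] using congrArg Units.val (MonoidHom.mem_ker.1 u.2)
  let ρ : ν.ker →* qAut N := MonoidHom.mk' (fun u => ⟨
      { toFun := fun x => ((u : (QuadraticAlgebra F (-b) a)ˣ) : (QuadraticAlgebra F (-b) a)) * x
        map_add' := fun x y => mul_add _ _ _
        map_smul' := fun c x => mul_smul_comm c _ x
        invFun := fun x => (((u⁻¹ : ν.ker) : (QuadraticAlgebra F (-b) a)ˣ) : (QuadraticAlgebra F (-b) a)) * x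
        left_inv := fun x => by simp [← mul_assoc]
        right_inv := fun x => by simp [← mul_assoc] },
      fun x => by
        change N (((u : (QuadraticAlgebra F (-b) a)ˣ) : (QuadraticAlgebra F (-b) a)) * x) = N x
        rw [hN, hN, map_mul, hu1, one_mul]⟩)
    fun u v => qAut_ext fun x => by
      change (((u * v : ν.ker) : (QuadraticAlgebra F (-b) a)ˣ) : (QuadraticAlgebra F (-b) a)) * x = ((u : (QuadraticAlgebra F (-b) a)ˣ) : (QuadraticAlgebra F (-b) a)) * (((v : (QuadraticAlgebra F (-b) a)ˣ) : (QuadraticAlgebra F (-b) a)) * x)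
      simp [mul_assoc]
  have hρ : ∀ u x, (ρ u).1 x = ((u : (QuadraticAlgebra F (-b) a)ˣ) : (QuadraticAlgebra F (-b) a)) * x := fun _ _ => rfl
  let σ : qAut N := ⟨
      { toFun := star
        map_add' := fun x y => star_add x y
        map_smul' := fun c x => by ext <;> simp <;> ring
        invFun := star
        left_inv := star_star
        right_inv := star_star },
      fun x => by
        change N (star x) = N x
        rw [hN, hN, QuadraticAlgebra.norm_star]⟩
  have hσ : ∀ x, σ.1 x = star x := fun _ => rfl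
  have hω : star (ω : (QuadraticAlgebra F (-b) a)) ≠ ω := by
    intro he
    have e1 := congrArg QuadraticAlgebra.re he
    have e2 := congrArg QuadraticAlgebra.im he
    simp at e1 e2
    refine binAniso_disc h ?_
    linear_combination -(2 * b) * e2 - a * e1
  let Φ : ν.ker × Bool → qAut N := fun p => if p.2 then ρ p.1 * σ else ρ p.1
  have hΦ1 : ∀ p, (Φ p).1 1 = ((p.1 : (QuadraticAlgebra F (-b) a)ˣ) : (QuadraticAlgebra F (-b) a)) := by
    rintro ⟨u, t⟩
    cases t <;> simp [Φ, hρ, hσ, LinearEquiv.mul_apply]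
  have hbij : Function.Bijective Φ := by
    refine ⟨fun p r he => ?_, fun g => ?_⟩
    · obtain ⟨u, t⟩ := p
      obtain ⟨v, t'⟩ := r
      obtain rfl : u = v := Subtype.ext (Units.ext (by rw [← hΦ1 (u, t), ← hΦ1 (v, t'), he]))
      have hw := congrArg (fun g : qAut N => g.1 (ω : (QuadraticAlgebra F (-b) a))) he
      cases t <;> cases t' <;> simp [Φ, hρ, hσ, LinearEquiv.mul_apply] at hw <;>
        first
          | rfl
          | exact absurd hw hω
          | exact absurd hw.symm hω
    · have h1 : QuadraticAlgebra.norm (g.1 1) = 1 := by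
        rw [← hN, qAut_map, hN, map_one]
      have hne : g.1 1 ≠ 0 := fun h0 => by
        rw [h0, QuadraticAlgebra.norm_zero] at h1
        exact zero_ne_one h1
      let u : ν.ker := ⟨Units.mk0 (g.1 1) hne, MonoidHom.mem_ker.2 (Units.ext h1)⟩
      set k := (ρ u)⁻¹ * g
      have hk1 : k.1 1 = 1 := by
        change (((u⁻¹ : ν.ker) : (QuadraticAlgebra F (-b) a)ˣ) : (QuadraticAlgebra F (-b) a)) * g.1 1 = 1
        simp [u, hne]
      set x := k.1 (ω : (QuadraticAlgebra F (-b) a))
      have hnx : QuadraticAlgebra.norm x = QuadraticAlgebra.norm (ω : (QuadraticAlgebra F (-b) a)) := by rw [← hN, qAut_map, hN]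
      have htx : QuadraticMap.polar N x 1 = QuadraticMap.polar N (ω : (QuadraticAlgebra F (-b) a)) 1 := by
        conv_lhs => rw [← hk1]
        exact qAut_polar k _ _
      simp only [QuadraticMap.polar, hN] at htx
      simp [QuadraticAlgebra.norm_def] at htx hnx
      have htx' : 2 * x.re + a * x.im = a := by linear_combination htx
      have hprod : (x - ω) * (x - star (ω : (QuadraticAlgebra F (-b) a))) = 0 := by
        ext <;> simp <;> first | linear_combination -hnx + x.re * htx' | linear_combination x.im * htx'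
      have hcases : x = ω ∨ x = star (ω : (QuadraticAlgebra F (-b) a)) :=
        (mul_eq_zero.1 hprod).imp sub_eq_zero.1 sub_eq_zero.1
      have hkl : ∀ y : (QuadraticAlgebra F (-b) a), k.1 y = y.re • (1 : (QuadraticAlgebra F (-b) a)) + y.im • x := fun y => by
        conv_lhs => rw [show y = y.re • (1 : (QuadraticAlgebra F (-b) a)) + y.im • (ω : (QuadraticAlgebra F (-b) a)) by ext <;> simp]
        rw [map_add, map_smul, map_smul, hk1]
      rcases hcases with hx | hx
      · refine ⟨(u, false), ?_⟩
        have hk : k = 1 := qAut_ext fun y => by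
          rw [hkl, hx]; ext <;> simp
        simp only [Φ, Bool.false_eq_true, if_false]
        exact (mul_one _).symm.trans (by rw [← hk]; simp [k])
      · refine ⟨(u, true), ?_⟩
        have hk : k = σ := qAut_ext fun y => by
          rw [hkl, hx, hσ]; ext <;> simp <;> ring
        simp only [Φ, if_true, ← hk, k, mul_inv_cancel_left]
  have hcard : Nat.card (qAut N) = 2 * (q + 1) := by
    rw [← Nat.card_congr (Equiv.ofBijective Φ hbij), Nat.card_prod, hker, Nat.card_eq_fintype_card,
      Fintype.card_bool, mul_comm]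
  refine ⟨hcard, ?_⟩
  haveI : IsCyclic ν.ker := inferInstance
  obtain ⟨g, hg⟩ := IsCyclic.exists_generator (α := ν.ker)
  have hρinj : Function.Injective ρ := fun u v he =>
    congrArg Prod.fst (hbij.1 (show Φ (u, false) = Φ (v, false) from he))
  refine dihedral_of_rotation (r := ρ g) (s := σ) (by omega) ?_ ?_ ?_ ?_ hcard
  · rw [orderOf_injective ρ hρinj, orderOf_eq_card_of_forall_mem_zpowers hg, hker]
  · exact qAut_ext fun x => star_star x
  · rw [← map_inv]
    refine qAut_ext fun x => ?_
    rw [hρ]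
    change star (((g : (QuadraticAlgebra F (-b) a)ˣ) : (QuadraticAlgebra F (-b) a)) * star x) = _
    rw [star_mul', star_star]
    congr 1
    rw [Subgroup.coe_inv, Units.val_inv_eq_inv_val]
    refine eq_inv_of_mul_eq_one_left ?_
    rw [mul_comm, ← QuadraticAlgebra.algebraMap_norm_eq_mul_star, hu1, map_one]
  · rintro ⟨i, hi⟩
    have he : Φ (g ^ i, false) = Φ (1, true) := by
      simp only [Φ, Bool.false_eq_true, if_false, if_true, map_one, one_mul, map_zpow]
      exact hi
    simpa using congrArg Prod.snd (hbij.1 he)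

/-- The isometry group of the hyperbolic plane is dihedral of order `2(q-1)`. -/
theorem hyp2_dihedral [Fintype F] :
    Nat.card (qAut (hyp2 F)) = 2 * (Fintype.card F - 1) ∧
      Nonempty (qAut (hyp2 F) ≃* DihedralGroup (Fintype.card F - 1)) := by
  classical
  haveI := finite_qAut (hyp2 F)
  let ρ : Fˣ →* qAut (hyp2 F) := MonoidHom.mk' (fun t => ⟨
      (LinearEquiv.smulOfUnit t : F ≃ₗ[F] F).prodCongr (LinearEquiv.smulOfUnit t⁻¹ : F ≃ₗ[F] F),
      fun p => by
        change ((t : F) * p.1) * (((t⁻¹ : Fˣ) : F) * p.2) = p.1 * p.2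
        rw [mul_mul_mul_comm, ← Units.val_mul, mul_inv_cancel, Units.val_one, one_mul]⟩)
    fun t u => qAut_ext fun p => by
      refine Prod.ext ?_ ?_
      · change ((t * u : Fˣ) : F) * p.1 = (t : F) * ((u : F) * p.1)
        rw [Units.val_mul, mul_assoc]
      · change (((t * u)⁻¹ : Fˣ) : F) * p.2 = ((t⁻¹ : Fˣ) : F) * (((u⁻¹ : Fˣ) : F) * p.2)
        rw [mul_inv, Units.val_mul, mul_assoc]
  have hρ : ∀ (t : Fˣ) (p : F × F), (ρ t).1 p = ((t : F) * p.1, ((t⁻¹ : Fˣ) : F) * p.2) := fun _ _ => rfl
  let σ : qAut (hyp2 F) := ⟨LinearEquiv.prodComm F F F, fun p => mul_comm _ _⟩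
  have hσ : ∀ p : F × F, σ.1 p = (p.2, p.1) := fun _ => rfl
  let Φ : Fˣ × Bool → qAut (hyp2 F) := fun p => if p.2 then σ * ρ p.1 else ρ p.1
  have hbij : Function.Bijective Φ := by
    refine ⟨fun p r he => ?_, fun g => ?_⟩
    · obtain ⟨u, t⟩ := p
      obtain ⟨v, t'⟩ := r
      have hw := congrArg (fun g : qAut (hyp2 F) => g.1 (1, 0)) he
      cases t <;> cases t' <;> simp [Φ, hρ, hσ, LinearEquiv.mul_apply, Units.ext_iff] at hw ⊢ <;>
        first
          | exact hw
          | exact hw.2
    · set e := g.1 (1, 0)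
      set f := g.1 (0, 1)
      have he : e.1 * e.2 = 0 := by
        have := qAut_map g (1, 0); simpa using this
      have hf : f.1 * f.2 = 0 := by
        have := qAut_map g (0, 1); simpa using this
      have hef : e.1 * f.2 + f.1 * e.2 = 1 := by
        have := qAut_polar g (1, 0) (0, 1)
        rw [polar_hyp2, polar_hyp2] at this
        simpa using this
      have hg : ∀ p : F × F, g.1 p = p.1 • e + p.2 • f := fun p => by
        conv_lhs => rw [show p = p.1 • ((1, 0) : F × F) + p.2 • ((0, 1) : F × F) by ext <;> simp]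
        rw [map_add, map_smul, map_smul]
      rcases mul_eq_zero.1 he with h1 | h2
      · rw [h1, zero_mul, zero_add] at hef
        have hf1 : f.1 ≠ 0 := left_ne_zero_of_mul_eq_one hef
        have hf2 : f.2 = 0 := (mul_eq_zero.1 hf).resolve_left hf1
        refine ⟨(Units.mkOfMulEqOne e.2 f.1 (by rw [mul_comm]; exact hef), true), qAut_ext fun p => ?_⟩
        rw [hg]
        simp [Φ, hρ, hσ, LinearEquiv.mul_apply, Prod.ext_iff, h1, hf2, mul_comm, eq_inv_of_mul_eq_one_left hef]
      · rw [h2, mul_zero, add_zero] at hef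
        have hf2 : f.2 ≠ 0 := right_ne_zero_of_mul_eq_one hef
        have hf1 : f.1 = 0 := (mul_eq_zero.1 hf).resolve_right hf2
        refine ⟨(Units.mkOfMulEqOne e.1 f.2 hef, false), qAut_ext fun p => ?_⟩
        rw [hg]
        simp [Φ, hρ, Prod.ext_iff, h2, hf1, mul_comm, eq_inv_of_mul_eq_one_right hef]
  have hcard : Nat.card (qAut (hyp2 F)) = 2 * (Fintype.card F - 1) := by
    rw [← Nat.card_congr (Equiv.ofBijective Φ hbij), Nat.card_prod, Nat.card_units]
    simp [Nat.card_eq_fintype_card, mul_comm]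
  refine ⟨hcard, ?_⟩
  obtain ⟨g, hg⟩ := IsCyclic.exists_generator (α := Fˣ)
  have hρinj : Function.Injective ρ := fun u v he =>
    congrArg Prod.fst (hbij.1 (show Φ (u, false) = Φ (v, false) from he))
  refine dihedral_of_rotation (r := ρ g) (s := σ) (by have := Fintype.one_lt_card (α := F); omega)
    ?_ ?_ ?_ ?_ hcard
  · rw [orderOf_injective ρ hρinj, orderOf_eq_card_of_forall_mem_zpowers hg, Nat.card_units,
      Nat.card_eq_fintype_card]
  · exact qAut_ext fun p => rfl
  · rw [← map_inv]
    refine qAut_ext fun p => ?_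
    rw [hρ, inv_inv]
    rfl
  · rintro ⟨i, hi⟩
    have he : Φ (g ^ i, false) = Φ (1, true) := by
      simp only [Φ, Bool.false_eq_true, if_false, if_true, map_one, mul_one, map_zpow]
      exact hi
    simpa using congrArg Prod.snd (hbij.1 he)

end CfsgLib.Classical
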