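/-
Sylow `p`-subgroups of `GL_2(q)` and `SL_2(q)` in the defining characteristic.
-/
import Cfsg.Agent.Lib.Classical.SLBasic

set_option autoImplicit false

namespace CfsgLib.Classical

open Matrix
open scoped MatrixGroups

variable {F : Type*} [Field F]

/-- The upper unipotent homomorphism into `GL_2`. -/
def upperUni : Multiplicative F →* GL (Fin 2) F where
  toFun t := ⟨!![1, t.toAdd; 0, 1], !![1, -t.toAdd; 0, 1],
    by ext i j; fin_cases i <;> fin_cases j <;> simp [Matrix.mul_apply, Fin.sum_univ_two],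
    by ext i j; fin_cases i <;> fin_cases j <;> simp [Matrix.mul_apply, Fin.sum_univ_two]⟩
  map_one' := Units.ext (by ext i j; fin_cases i <;> fin_cases j <;> simp)
  map_mul' a b := Units.ext (by
    ext i j; fin_cases i <;> fin_cases j <;> simp [Matrix.mul_apply, Fin.sum_univ_two, add_comm])

theorem upperUni_val (t : Multiplicative F) :
    (upperUni t).val = !![1, t.toAdd; 0, 1] := rfl

theorem upperUni_injective : Function.Injective (upperUni : Multiplicative F →* GL (Fin 2) F) := by
  intro a b h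
  have := congrArg (fun g : GL (Fin 2) F => g.val 0 1) h
  simpa [upperUni_val] using this

theorem mem_upperUni_range {g : GL (Fin 2) F} :
    g ∈ (upperUni (F := F)).range ↔ g.val 0 0 = 1 ∧ g.val 1 0 = 0 ∧ g.val 1 1 = 1 := by
  constructor
  · rintro ⟨t, rfl⟩
    simp [upperUni_val]
  · rintro ⟨h1, h2, h3⟩
    refine ⟨Multiplicative.ofAdd (g.val 0 1), Units.ext ?_⟩
    ext i j
    fin_cases i <;> fin_cases j <;> simp [upperUni_val, h1, h2, h3]

/-- An element conjugating a nontrivial upper unipotent into the upper unipotents is upper triangular. -/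
theorem conj_upperUni_lower {g : GL (Fin 2) F} {x : GL (Fin 2) F} (hx : x ∈ (upperUni (F := F)).range)
    (hx1 : x ≠ 1) (h : g⁻¹ * x * g ∈ (upperUni (F := F)).range) : g.val 1 0 = 0 := by
  obtain ⟨t, rfl⟩ := hx
  obtain ⟨s, hs⟩ := h
  have e : g * upperUni s = upperUni t * g := by rw [hs]; group
  have e' := congrArg (fun g : GL (Fin 2) F => g.val 0 0) e
  simp [upperUni_val, Matrix.mul_apply, Fin.sum_univ_two] at e'
  refine e'.resolve_left fun h0 => hx1 ?_
  rw [show t = 1 from toAdd_eq_zero.1 h0, map_one]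

/-- The upper triangular matrices normalise the upper unipotents. -/
theorem conj_upperUni_mem {g : GL (Fin 2) F} (hg : g.val 1 0 = 0) {x : GL (Fin 2) F}
    (hx : x ∈ (upperUni (F := F)).range) : g * x * g⁻¹ ∈ (upperUni (F := F)).range := by
  obtain ⟨t, rfl⟩ := hx
  have hdet : g.val 0 0 * g.val 1 1 ≠ 0 := by
    have := ((Matrix.isUnit_iff_isUnit_det g.val).1 g.isUnit).ne_zero
    rwa [Matrix.det_fin_two, hg, mul_zero, sub_zero] at this
  refine ⟨Multiplicative.ofAdd (g.val 0 0 * t.toAdd / g.val 1 1), eq_mul_inv_iff_mul_eq.2 (Units.ext ?_)⟩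
  have h11 : g.val 1 1 ≠ 0 := right_ne_zero_of_mul hdet
  ext i j
  fin_cases i <;> fin_cases j <;> simp [upperUni_val, Matrix.mul_apply, Fin.sum_univ_two, hg]
  field_simp
  ring

/-- Upper triangular invertible matrices as triples. -/
def upperTriEquiv : {g : GL (Fin 2) F // g.val 1 0 = 0} ≃ Fˣ × Fˣ × F where
  toFun g :=
    ⟨Units.mk0 (g.1.val 0 0) (fun h => ((Matrix.isUnit_iff_isUnit_det g.1.val).1 g.1.isUnit).ne_zero
        (by rw [Matrix.det_fin_two, g.2, h]; ring)),
      Units.mk0 (g.1.val 1 1) (fun h => ((Matrix.isUnit_iff_isUnit_det g.1.val).1 g.1.isUnit).ne_zero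
        (by rw [Matrix.det_fin_two, g.2, h]; ring)),
      g.1.val 0 1⟩
  invFun x := ⟨Matrix.GeneralLinearGroup.mkOfDetNeZero !![(x.1 : F), x.2.2; 0, (x.2.1 : F)]
    (by simp [Matrix.det_fin_two]), rfl⟩
  left_inv g := Subtype.ext (Units.ext (by
    ext i j; fin_cases i <;> fin_cases j <;> simp [g.2, Matrix.GeneralLinearGroup.mkOfDetNeZero]))
  right_inv x := by simp [Matrix.GeneralLinearGroup.mkOfDetNeZero]

section Finite

variable [Fintype F] {q : ℕ} (p : ℕ) [Fact p.Prime] [CharP F p]

theorem card_upperUni_range (hF : Fintype.card F = q) : Nat.card (upperUni (F := F)).range = q := by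
  rw [← Nat.card_congr (MonoidHom.ofInjective upperUni_injective).toEquiv,
    Nat.card_congr (Multiplicative.toAdd (α := F)), Nat.card_eq_fintype_card, hF]

theorem not_dvd_q_sub_one : ¬ p ∣ Fintype.card F - 1 := by
  have hp : p.Prime := Fact.out
  obtain ⟨k, -, hk⟩ := FiniteField.card F p
  intro h
  have h1 : p ∣ Fintype.card F := hk ▸ dvd_pow_self p k.pos.ne'
  have h2 := Nat.dvd_sub h1 h
  rw [Nat.sub_sub_self Fintype.card_pos] at h2
  exact hp.not_dvd_one h2

theorem card_GL_two (hF : Fintype.card F = q) :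
    Nat.card (GL (Fin 2) F) = q * ((q - 1) * (q - 1) * (q + 1)) := by
  have h2 := Fintype.one_lt_card (α := F)
  rw [hF] at h2
  rw [Matrix.card_GL_field, hF, Fin.prod_univ_two]
  obtain ⟨m, rfl⟩ : ∃ m, q = m + 1 := ⟨q - 1, by omega⟩
  have h1 : (m + 1) ^ 2 - 1 = m * (m + 2) := by
    rw [show (m + 1) ^ 2 = m * (m + 2) + 1 by ring, Nat.add_sub_cancel]
  have h3 : (m + 1) ^ 2 - (m + 1) = m * (m + 1) := by
    rw [show (m + 1) ^ 2 = m * (m + 1) + (m + 1) by ring, Nat.add_sub_cancel]
  simp [h1, h3]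
  ring

theorem not_dvd_index_upperUni : ¬ p ∣ (upperUni (F := F)).range.index := by
  have hp : p.Prime := Fact.out
  have h := Subgroup.index_mul_card (upperUni (F := F)).range
  rw [card_upperUni_range rfl, card_GL_two rfl, mul_comm] at h
  rw [Nat.eq_of_mul_eq_mul_left Fintype.card_pos h]
  have hp1 := not_dvd_q_sub_one (F := F) p
  have hq : ¬ p ∣ Fintype.card F + 1 := fun hd => by
    obtain ⟨k, -, hk⟩ := FiniteField.card F p
    have h1 : p ∣ Fintype.card F := hk ▸ dvd_pow_self p k.pos.ne'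
    exact hp.not_dvd_one ((Nat.dvd_add_right h1).1 hd)
  intro hd
  rcases hp.dvd_mul.1 hd with hd | hd
  · exact (hp.dvd_mul.1 hd).elim hp1 hp1
  · exact hq hd

theorem isPGroup_upperUni : IsPGroup p (upperUni (F := F)).range := by
  obtain ⟨k, -, hk⟩ := FiniteField.card F p
  exact IsPGroup.of_card (n := k) ((card_upperUni_range rfl).trans hk)

/-- The Sylow subgroup of upper unipotent matrices. -/
noncomputable def upperSylow : Sylow p (GL (Fin 2) F) :=
  (isPGroup_upperUni p).toSylow (not_dvd_index_upperUni p)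

theorem coe_upperSylow : ((upperSylow p : Sylow p (GL (Fin 2) F)) : Subgroup (GL (Fin 2) F)) =
    (upperUni (F := F)).range := rfl

theorem mem_upperSylow {g : GL (Fin 2) F} :
    g ∈ (upperSylow p : Sylow p (GL (Fin 2) F)) ↔ g ∈ (upperUni (F := F)).range := Iff.rfl

theorem exists_conj_sylow {G : Type*} [Group G] [Finite G] (P Q : Sylow p G) :
    ∃ g : G, ∀ x, x ∈ Q ↔ g⁻¹ * x * g ∈ P := by
  obtain ⟨g, rfl⟩ := MulAction.exists_smul_eq G P Q
  refine ⟨g, fun x => ?_⟩
  rw [← SetLike.mem_coe, Sylow.coe_smul, Set.mem_smul_set_iff_inv_smul_mem, SetLike.mem_coe]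
  simp [MulAut.smul_def]

theorem normalizer_upperUni :
    (Subgroup.normalizer ((upperUni (F := F)).range : Set (GL (Fin 2) F)) : Set (GL (Fin 2) F)) =
      {g | g.val 1 0 = 0} := by
  ext g
  simp only [SetLike.mem_coe, Set.mem_setOf_eq]
  rw [Subgroup.mem_normalizer_iff'']
  constructor
  · intro h
    have h1 : upperUni (Multiplicative.ofAdd (1 : F)) ∈ (upperUni (F := F)).range := ⟨_, rfl⟩
    refine conj_upperUni_lower h1 (fun h0 => ?_) ((h _).1 h1)
    have := congrArg Multiplicative.toAdd (upperUni_injective (h0.trans (map_one _).symm))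
    simp at this
  · intro hg x
    have hinv : (g⁻¹).val 1 0 = 0 := by
      have e := congrFun (congrFun g.inv_mul 1) 0
      simp only [Matrix.mul_apply, Fin.sum_univ_two, hg, mul_zero, add_zero,
        Matrix.one_apply_ne (show (1 : Fin 2) ≠ 0 by decide), mul_eq_zero] at e
      rcases e with e | e
      · exact e
      · exact absurd (by rw [Matrix.det_fin_two, hg, e]; ring)
          ((Matrix.isUnit_iff_isUnit_det g.val).1 g.isUnit).ne_zero
    constructor
    · intro hx
      simpa using conj_upperUni_mem hinv hx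
    · intro hx
      have := conj_upperUni_mem hg hx
      simpa [mul_assoc] using this

theorem card_normalizer_sylow_GL_two (hF : Fintype.card F = q) (P : Sylow p (GL (Fin 2) F)) :
    Nat.card (Subgroup.normalizer ((P : Subgroup (GL (Fin 2) F)) : Set (GL (Fin 2) F))) =
      q * (q - 1) ^ 2 := by
  have h1 : Nat.card (Sylow p (GL (Fin 2) F)) =
      (Subgroup.normalizer ((P : Subgroup (GL (Fin 2) F)) : Set (GL (Fin 2) F))).index :=
    Sylow.card_eq_index_normalizer P
  have h2 : Nat.card (Sylow p (GL (Fin 2) F)) =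
      (Subgroup.normalizer (((upperSylow p : Sylow p (GL (Fin 2) F)) : Subgroup (GL (Fin 2) F)) :
        Set (GL (Fin 2) F))).index := Sylow.card_eq_index_normalizer _
  rw [coe_upperSylow] at h2
  have h3 := Subgroup.card_mul_index (Subgroup.normalizer ((P : Subgroup (GL (Fin 2) F)) : Set (GL (Fin 2) F)))
  rw [← Subgroup.card_mul_index (Subgroup.normalizer ((upperUni (F := F)).range : Set (GL (Fin 2) F))),
    ← h1, ← h2] at h3
  rw [Nat.eq_of_mul_eq_mul_right Nat.card_pos h3]
  refine (Nat.card_congr ((Equiv.setCongr normalizer_upperUni).trans upperTriEquiv)).trans ?_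
  rw [Nat.card_prod, Nat.card_prod,
    Nat.card_units, Nat.card_eq_fintype_card, hF]
  ring

theorem card_sylow_GL_two (hF : Fintype.card F = q) : Nat.card (Sylow p (GL (Fin 2) F)) = q + 1 := by
  have h2 := Fintype.one_lt_card (α := F)
  rw [hF] at h2
  let P : Sylow p (GL (Fin 2) F) := upperSylow p
  have h := Subgroup.index_mul_card (Subgroup.normalizer ((P : Subgroup (GL (Fin 2) F)) : Set (GL (Fin 2) F)))
  have hi : Nat.card (Sylow p (GL (Fin 2) F)) =
      (Subgroup.normalizer ((P : Subgroup (GL (Fin 2) F)) : Set (GL (Fin 2) F))).index :=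
    Sylow.card_eq_index_normalizer P
  rw [card_normalizer_sylow_GL_two p hF, card_GL_two hF, ← hi] at h
  refine Nat.eq_of_mul_eq_mul_right (Nat.mul_pos (by omega : 0 < q) (pow_pos (by omega : 0 < q - 1) 2)) ?_
  rw [h]
  ring

theorem sylow_GL_two_disjoint (P Q : Sylow p (GL (Fin 2) F)) (h : P ≠ Q) :
    (P : Subgroup (GL (Fin 2) F)) ⊓ (Q : Subgroup (GL (Fin 2) F)) = ⊥ := by
  rw [eq_bot_iff]
  intro x hx
  obtain ⟨hxP, hxQ⟩ := Subgroup.mem_inf.1 hx
  obtain ⟨a, ha⟩ := exists_conj_sylow p (upperSylow p) P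
  obtain ⟨b, hb⟩ := exists_conj_sylow p (upperSylow p) Q
  by_contra hx1
  rw [Subgroup.mem_bot] at hx1
  have hy := (ha x).1 hxP
  have hy1 : a⁻¹ * x * a ≠ 1 := fun he => hx1 (by
    rw [show x = a * (a⁻¹ * x * a) * a⁻¹ by group, he]; group)
  have hz := (hb x).1 hxQ
  rw [mem_upperSylow] at hy hz
  have hc := conj_upperUni_lower (g := a⁻¹ * b) hy hy1 (by
    rwa [show (a⁻¹ * b)⁻¹ * (a⁻¹ * x * a) * (a⁻¹ * b) = b⁻¹ * x * b by group])
  refine h (Sylow.ext (SetLike.ext fun z => ?_))
  have hn : a⁻¹ * b ∈ Subgroup.normalizer ((upperUni (F := F)).range : Set (GL (Fin 2) F)) := by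
    rw [← SetLike.mem_coe, normalizer_upperUni]
    exact hc
  show z ∈ P ↔ z ∈ Q
  rw [ha, hb, mem_upperSylow, mem_upperSylow, Subgroup.mem_normalizer_iff''.1 hn (a⁻¹ * z * a)]
  rw [show (a⁻¹ * b)⁻¹ * (a⁻¹ * z * a) * (a⁻¹ * b) = b⁻¹ * z * b by group]

/-- The centraliser of a nontrivial upper unipotent. -/
def centUpperEquiv {t : F} (ht : t ≠ 0) :
    Subgroup.centralizer ({upperUni (Multiplicative.ofAdd t)} : Set (GL (Fin 2) F)) ≃ Fˣ × F where
  toFun g :=
    ⟨Units.mk0 (g.1.val 0 0) (fun h0 => by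
      have e := congrArg Units.val (Subgroup.mem_centralizer_singleton_iff.1 g.2)
      have e0 := congrFun (congrFun e 0) 0
      simp [upperUni_val, Matrix.mul_apply, Fin.sum_univ_two, ht] at e0
      refine ((Matrix.isUnit_iff_isUnit_det g.1.val).1 g.1.isUnit).ne_zero ?_
      rw [Matrix.det_fin_two, h0, e0]
      ring),
      g.1.val 0 1⟩
  invFun x := ⟨Matrix.GeneralLinearGroup.mkOfDetNeZero !![(x.1 : F), x.2; 0, (x.1 : F)]
    (by simp [Matrix.det_fin_two]), Subgroup.mem_centralizer_singleton_iff.2 (Units.ext (by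
      ext i j
      fin_cases i <;> fin_cases j <;>
        simp [upperUni_val, Matrix.GeneralLinearGroup.mkOfDetNeZero, Matrix.mul_apply, Fin.sum_univ_two]
      ring))⟩
  left_inv g := by
    have e := congrArg Units.val (Subgroup.mem_centralizer_singleton_iff.1 g.2)
    have e0 := congrFun (congrFun e 0) 0
    have e1 := congrFun (congrFun e 0) 1
    simp [upperUni_val, Matrix.mul_apply, Fin.sum_univ_two, ht] at e0 e1
    have h11 : g.1.val 1 1 = g.1.val 0 0 := by
      refine mul_left_cancel₀ ht ?_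
      linear_combination -e1
    refine Subtype.ext (Units.ext ?_)
    ext i j
    fin_cases i <;> fin_cases j <;> simp [Matrix.GeneralLinearGroup.mkOfDetNeZero, e0, h11]
  right_inv x := by simp [Matrix.GeneralLinearGroup.mkOfDetNeZero]

theorem card_centralizer_unipotent_GL_two (hF : Fintype.card F = q) (P : Sylow p (GL (Fin 2) F))
    (a : GL (Fin 2) F) (ha : a ∈ P) (ha1 : a ≠ 1) :
    Nat.card (Subgroup.centralizer ({a} : Set (GL (Fin 2) F))) = q * (q - 1) := by
  obtain ⟨g, hg⟩ := exists_conj_sylow p (upperSylow p) P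
  have h := (hg a).1 ha
  rw [mem_upperSylow] at h
  obtain ⟨t, ht⟩ := h
  have ht0 : t.toAdd ≠ 0 := fun h0 => ha1 (by
    rw [show t = 1 from toAdd_eq_zero.1 h0, map_one] at ht
    rw [show a = g * (g⁻¹ * a * g) * g⁻¹ by group, ← ht]; group)
  have he : ∀ y : GL (Fin 2) F, y ∈ Subgroup.centralizer ({a} : Set (GL (Fin 2) F)) ↔
      MulAut.conj g⁻¹ y ∈ Subgroup.centralizer ({upperUni t} : Set (GL (Fin 2) F)) := fun y => by
    rw [Subgroup.mem_centralizer_singleton_iff, Subgroup.mem_centralizer_singleton_iff, ht]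
    constructor
    · intro h'
      simp only [MulAut.conj_apply, inv_inv]
      rw [show g⁻¹ * y * g * (g⁻¹ * a * g) = g⁻¹ * (y * a) * g by group, h']
      group
    · intro h'
      have := congrArg (fun z => g * z * g⁻¹) h'
      simpa [mul_assoc] using this
  rw [Nat.card_congr ((MulAut.conj g⁻¹).toEquiv.subtypeEquiv he), ← ofAdd_toAdd t,
    Nat.card_congr (centUpperEquiv ht0), Nat.card_prod, Nat.card_units, Nat.card_eq_fintype_card, hF,
    mul_comm]

/-! ### `SL_2` -/

/-- The upper unipotent homomorphism into `SL_2`. -/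
def upperUniSL : Multiplicative F →* SpecialLinearGroup (Fin 2) F where
  toFun t := ⟨!![1, t.toAdd; 0, 1], by simp [Matrix.det_fin_two]⟩
  map_one' := Subtype.ext (by ext i j; fin_cases i <;> fin_cases j <;> simp)
  map_mul' a b := Subtype.ext (by
    change !![1, (a * b).toAdd; 0, 1] = !![1, a.toAdd; 0, 1] * !![1, b.toAdd; 0, 1]
    ext i j; fin_cases i <;> fin_cases j <;> simp [Matrix.mul_apply, Fin.sum_univ_two, add_comm])

theorem upperUniSL_val (t : Multiplicative F) :
    (upperUniSL t).1 = !![1, t.toAdd; 0, 1] := rfl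

theorem upperUniSL_injective :
    Function.Injective (upperUniSL : Multiplicative F →* SpecialLinearGroup (Fin 2) F) := by
  intro a b h
  have := congrArg (fun g : SpecialLinearGroup (Fin 2) F => g.1 0 1) h
  simpa [upperUniSL_val] using this

theorem card_SL_two (hF : Fintype.card F = q) :
    Nat.card (SpecialLinearGroup (Fin 2) F) = q * ((q - 1) * (q + 1)) := by
  have h2 := Fintype.one_lt_card (α := F)
  rw [hF] at h2
  have h := card_units_mul_card_SL (F := F) (ι := Fin 2)
  rw [card_GL_two hF, card_units_eq hF] at h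
  refine Nat.eq_of_mul_eq_mul_left (by omega : 0 < q - 1) (h.trans ?_)
  ring

theorem not_dvd_index_upperUniSL : ¬ p ∣ (upperUniSL (F := F)).range.index := by
  have hp : p.Prime := Fact.out
  have h := Subgroup.index_mul_card (upperUniSL (F := F)).range
  rw [← Nat.card_congr (MonoidHom.ofInjective upperUniSL_injective).toEquiv,
    Nat.card_congr (Multiplicative.toAdd (α := F)), Nat.card_eq_fintype_card, card_SL_two rfl, mul_comm] at h
  rw [Nat.eq_of_mul_eq_mul_left Fintype.card_pos h]
  intro hd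
  rcases hp.dvd_mul.1 hd with hd | hd
  · exact not_dvd_q_sub_one (F := F) p hd
  · obtain ⟨k, -, hk⟩ := FiniteField.card F p
    have h1 : p ∣ Fintype.card F := hk ▸ dvd_pow_self p k.pos.ne'
    exact hp.not_dvd_one ((Nat.dvd_add_right h1).1 hd)

theorem isPGroup_upperUniSL : IsPGroup p (upperUniSL (F := F)).range := by
  obtain ⟨k, -, hk⟩ := FiniteField.card F p
  refine IsPGroup.of_card (n := k) ?_
  rw [← Nat.card_congr (MonoidHom.ofInjective upperUniSL_injective).toEquiv,
    Nat.card_congr (Multiplicative.toAdd (α := F)), Nat.card_eq_fintype_card, hk]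

/-- The Sylow subgroup of upper unipotent matrices of determinant one. -/
noncomputable def upperSylowSL : Sylow p (SpecialLinearGroup (Fin 2) F) :=
  (isPGroup_upperUniSL p).toSylow (not_dvd_index_upperUniSL p)

theorem coe_upperSylowSL : ((upperSylowSL p : Sylow p (SpecialLinearGroup (Fin 2) F)) :
    Subgroup (SpecialLinearGroup (Fin 2) F)) = (upperUniSL (F := F)).range := rfl

/-- Upper unipotents and a conjugate by an element outside the Borel subgroup generate. -/
theorem upperUniSL_sup_conj (H : Subgroup (SpecialLinearGroup (Fin 2) F))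
    (hU : (upperUniSL (F := F)).range ≤ H) (g : SpecialLinearGroup (Fin 2) F) (hg : g.1 1 0 ≠ 0)
    (hconj : ∀ x ∈ (upperUniSL (F := F)).range, g * x * g⁻¹ ∈ H) : H = ⊤ := by
  have hup : ∀ c : F, SpecialLinearGroup.transvection (Fin.zero_ne_one : (0 : Fin 2) ≠ 1) c ∈ H := fun c =>
    hU ⟨Multiplicative.ofAdd c, Subtype.ext (by
      rw [upperUniSL_val, SpecialLinearGroup.transvection_coe]
      ext i j; fin_cases i <;> fin_cases j <;> simp [Matrix.single_apply])⟩
  refine SL_le_of_transvections H fun i j hij c => ?_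
  fin_cases i <;> fin_cases j <;> simp at hij
  · exact hup c
  · set u := SpecialLinearGroup.transvection (Fin.zero_ne_one : (0 : Fin 2) ≠ 1) (g.1 0 0 / g.1 1 0) with hu
    set x := upperUniSL (Multiplicative.ofAdd (-c / (g.1 1 0 * g.1 1 0)))
    have hmem : u⁻¹ * (g * x * g⁻¹) * u ∈ H :=
      H.mul_mem (H.mul_mem (H.inv_mem (hup _)) (hconj x ⟨_, rfl⟩)) (hup _)
    convert hmem using 1
    rw [show u⁻¹ * (g * x * g⁻¹) * u = (u⁻¹ * g * x) * (u⁻¹ * g)⁻¹ by group, eq_mul_inv_iff_mul_eq]
    have hdet : g.1 0 0 * g.1 1 1 - g.1 0 1 * g.1 1 0 = 1 := by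
      rw [← Matrix.det_fin_two]; exact g.2
    refine Subtype.ext ?_
    simp only [Matrix.SpecialLinearGroup.coe_mul, Matrix.SpecialLinearGroup.coe_inv, hu, x, upperUniSL_val,
      SpecialLinearGroup.transvection_coe]
    ext a b
    fin_cases a <;> fin_cases b <;>
      simp [Matrix.single_apply, Matrix.adjugate_fin_two, Matrix.mul_apply, Matrix.vecMul, dotProduct,
        Fin.sum_univ_two] <;>
      field_simp <;> first | (left; ring1) | (right; left; ring1) | (right; ring1) | linear_combination c * hdet | linear_combination (-c) * hdet | ring1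

theorem sylow_SL_two_sup (P Q : Sylow p (SpecialLinearGroup (Fin 2) F)) (h : P ≠ Q) :
    (P : Subgroup (SpecialLinearGroup (Fin 2) F)) ⊔ (Q : Subgroup (SpecialLinearGroup (Fin 2) F)) = ⊤ := by
  obtain ⟨a, ha⟩ := exists_conj_sylow p (upperSylowSL p) P
  obtain ⟨b, hb⟩ := exists_conj_sylow p (upperSylowSL p) Q
  replace ha : ∀ x, x ∈ P ↔ a⁻¹ * x * a ∈ (upperUniSL (F := F)).range := ha
  replace hb : ∀ x, x ∈ Q ↔ b⁻¹ * x * b ∈ (upperUniSL (F := F)).range := hb
  set H := ((P : Subgroup (SpecialLinearGroup (Fin 2) F)) ⊔ (Q : Subgroup (SpecialLinearGroup (Fin 2) F))).comap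
    (MulAut.conj a).toMonoidHom with hH
  have hc : (a⁻¹ * b).1 1 0 ≠ 0 := by
    intro hc
    refine h (Sylow.ext (SetLike.ext fun z => ?_))
    show z ∈ P ↔ z ∈ Q
    rw [ha, hb]
    have key : ∀ (g : SpecialLinearGroup (Fin 2) F), g.1 1 0 = 0 → ∀ y ∈ (upperUniSL (F := F)).range,
        g * y * g⁻¹ ∈ (upperUniSL (F := F)).range := by
      rintro g hg _ ⟨t, rfl⟩
      have hdet : g.1 0 0 * g.1 1 1 = 1 := by
        have := g.2
        rw [Matrix.det_fin_two, hg, mul_zero, sub_zero] at this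
        exact this
      refine ⟨Multiplicative.ofAdd (g.1 0 0 * g.1 0 0 * t.toAdd), eq_mul_inv_iff_mul_eq.2 (Subtype.ext ?_)⟩
      ext i j
      fin_cases i <;> fin_cases j <;> simp [upperUniSL_val, Matrix.mul_apply, Fin.sum_univ_two, hg]
      linear_combination g.1 0 0 * t.toAdd * hdet
    constructor
    · intro hz
      have := key (a⁻¹ * b)⁻¹ (by
        rw [Matrix.SpecialLinearGroup.coe_inv, Matrix.adjugate_fin_two]
        simpa using hc) _ hz
      rwa [show (a⁻¹ * b)⁻¹ * (a⁻¹ * z * a) * ((a⁻¹ * b)⁻¹)⁻¹ = b⁻¹ * z * b by group] at this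
    · intro hz
      have := key _ hc _ hz
      rwa [show a⁻¹ * b * (b⁻¹ * z * b) * (a⁻¹ * b)⁻¹ = a⁻¹ * z * a by group] at this
  have htop := upperUniSL_sup_conj H (fun x hx => Subgroup.mem_sup_left ((ha _).2 (by
      simpa [mul_assoc] using hx))) _ hc (fun x hx => Subgroup.mem_sup_right ((hb _).2 (by
      simpa [mul_assoc] using hx)))
  rw [eq_top_iff]
  intro x _
  have hx : (MulAut.conj a).symm x ∈ H := htop ▸ Subgroup.mem_top _
  simpa [hH, mul_assoc] using hx

end Finite

end CfsgLib.Classical
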