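/-
`GL_2`, `PGL_2` and `SL_2` on the projective line.
-/
import Cfsg.Agent.Lib.Classical.SL2Sylow

set_option autoImplicit false

namespace CfsgLib.Classical

open Matrix Projectivization
open scoped MatrixGroups LinearAlgebra.Projectivization

variable {F : Type*} [Field F]

/-- The point `[x : y]`, `y ≠ 0 ∨ x ≠ 0`. -/
def ptMk (v : Fin 2 → F) (hv : v ≠ 0) : ℙ F (Fin 2 → F) := Projectivization.mk F v hv

theorem pt10_ne : (![1, 0] : Fin 2 → F) ≠ 0 := fun h => by simpa using congrFun h 0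
theorem pt01_ne : (![0, 1] : Fin 2 → F) ≠ 0 := fun h => by simpa using congrFun h 1
theorem pt11_ne : (![1, 1] : Fin 2 → F) ≠ 0 := fun h => by simpa using congrFun h 0

/-- The point `[1 : 0]`. -/
abbrev p10 : ℙ F (Fin 2 → F) := Projectivization.mk F _ pt10_ne
/-- The point `[0 : 1]`. -/
abbrev p01 : ℙ F (Fin 2 → F) := Projectivization.mk F _ pt01_ne
/-- The point `[1 : 1]`. -/
abbrev p11 : ℙ F (Fin 2 → F) := Projectivization.mk F _ pt11_ne

/-- Any three distinct points are the image of the standard ones. -/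
theorem exists_frame (a b c : ℙ F (Fin 2 → F)) (hab : a ≠ b) (hac : a ≠ c) (hbc : b ≠ c) :
    ∃ g : GL (Fin 2) F, g • p10 = a ∧
      g • p01 = b ∧ g • p11 = c := by
  induction a using Projectivization.ind with | _ v hv =>
  induction b using Projectivization.ind with | _ w hw =>
  induction c using Projectivization.ind with | _ u hu =>
  have hd : v 0 * w 1 - w 0 * v 1 ≠ 0 := by
    intro hd
    apply hab
    rw [Projectivization.mk_eq_mk_iff']
    by_cases h0 : w 0 = 0
    · have h1 : w 1 ≠ 0 := fun h1 => hw (by ext i; fin_cases i <;> assumption)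
      refine ⟨v 1 / w 1, ?_⟩
      have : v 0 = 0 := by
        rw [h0, zero_mul, sub_zero] at hd
        exact (mul_eq_zero.1 hd).resolve_right h1
      ext i; fin_cases i <;> simp [h0, this, h1]
    · refine ⟨v 0 / w 0, ?_⟩
      ext i; fin_cases i <;> simp [h0]
      field_simp
      linear_combination hd
  set α := (u 0 * w 1 - w 0 * u 1) / (v 0 * w 1 - w 0 * v 1) with hα
  set β := (v 0 * u 1 - u 0 * v 1) / (v 0 * w 1 - w 0 * v 1) with hβ
  have hu' : α • v + β • w = u := by
    ext i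
    fin_cases i <;>
      (rw [Pi.add_apply, Pi.smul_apply, Pi.smul_apply, smul_eq_mul, smul_eq_mul, hα, hβ, div_mul_eq_mul_div,
        div_mul_eq_mul_div, ← add_div, div_eq_iff hd]
       simp only [Fin.mk_one, Fin.zero_eta]
       ring)
  have hα0 : α ≠ 0 := fun h => hbc (by
    rw [h, zero_smul, zero_add] at hu'
    refine ((Projectivization.mk_eq_mk_iff' F u w hu hw).2 ⟨β, hu'⟩).symm)
  have hβ0 : β ≠ 0 := fun h => hac (by
    rw [h, zero_smul, add_zero] at hu'
    refine ((Projectivization.mk_eq_mk_iff' F u v hu hv).2 ⟨α, hu'⟩).symm)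
  refine ⟨Matrix.GeneralLinearGroup.mkOfDetNeZero !![α * v 0, β * w 0; α * v 1, β * w 1] ?_, ?_, ?_, ?_⟩
  · rw [Matrix.det_fin_two]
    simp only [Matrix.of_apply, Matrix.cons_val', Matrix.cons_val_zero, Matrix.cons_val_one, Matrix.empty_val',
      Matrix.cons_val_fin_one]
    rw [show α * v 0 * (β * w 1) - β * w 0 * (α * v 1) = α * β * (v 0 * w 1 - w 0 * v 1) by ring]
    exact mul_ne_zero (mul_ne_zero hα0 hβ0) hd
  · rw [Projectivization.smul_mk, Projectivization.mk_eq_mk_iff']
    refine ⟨α, ?_⟩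
    ext i; fin_cases i <;>
      simp [Units.smul_def, Matrix.GeneralLinearGroup.mkOfDetNeZero, Matrix.smul_eq_mulVec, Matrix.mulVec,
        dotProduct, Fin.sum_univ_two]
  · rw [Projectivization.smul_mk, Projectivization.mk_eq_mk_iff']
    refine ⟨β, ?_⟩
    ext i; fin_cases i <;>
      simp [Units.smul_def, Matrix.GeneralLinearGroup.mkOfDetNeZero, Matrix.smul_eq_mulVec, Matrix.mulVec,
        dotProduct, Fin.sum_univ_two]
  · rw [Projectivization.smul_mk, Projectivization.mk_eq_mk_iff']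
    refine ⟨1, ?_⟩
    rw [one_smul]
    refine hu'.symm.trans ?_
    ext i; fin_cases i <;>
      simp [Units.smul_def, Matrix.GeneralLinearGroup.mkOfDetNeZero, Matrix.smul_eq_mulVec, Matrix.mulVec,
        dotProduct, Fin.sum_univ_two]

/-- Fixing the standard three points forces a scalar. -/
theorem scalar_of_fix (g : GL (Fin 2) F)
    (h1 : g • (p10 : ℙ F (Fin 2 → F)) = p10)
    (h2 : g • (p01 : ℙ F (Fin 2 → F)) = p01)
    (h3 : g • (p11 : ℙ F (Fin 2 → F)) = p11) :
    g.val 1 0 = 0 ∧ g.val 0 1 = 0 ∧ g.val 0 0 = g.val 1 1 := by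
  rw [Projectivization.smul_mk, Projectivization.mk_eq_mk_iff'] at h1 h2 h3
  obtain ⟨a, ha⟩ := h1
  obtain ⟨b, hb⟩ := h2
  obtain ⟨c, hc⟩ := h3
  have a1 := congrFun ha 1
  have b0 := congrFun hb 0
  have c0 := congrFun hc 0
  have c1 := congrFun hc 1
  simp [Units.smul_def, Matrix.smul_eq_mulVec, Matrix.mulVec, dotProduct, Fin.sum_univ_two] at a1 b0 c0 c1
  refine ⟨a1.symm, b0.symm, ?_⟩
  rw [← a1, zero_add] at c1
  rw [← b0, add_zero] at c0
  rw [← c0, c1]

theorem pgl_two_sharply_three_transitive :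
    MulAction.IsMultiplyPretransitive (Matrix.ProjGenLinGroup (Fin 2) F) (ℙ F (Fin 2 → F)) 3 ∧
      ∀ (g : Matrix.ProjGenLinGroup (Fin 2) F) (a b c : ℙ F (Fin 2 → F)), a ≠ b → a ≠ c → b ≠ c →
        g • a = a → g • b = b → g • c = c → g = 1 := by
  have hsm : ∀ (g : GL (Fin 2) F) (x : ℙ F (Fin 2 → F)), Matrix.ProjGenLinGroup.mk g • x = g • x := by
    intro g x
    induction x using Projectivization.ind with | _ v hv =>
    rw [Projectivization.PGL.mk_smul_mk, Projectivization.smul_mk]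
  constructor
  · rw [MulAction.isMultiplyPretransitive_iff]
    intro x y
    obtain ⟨f, hf0, hf1, hf2⟩ := exists_frame (x 0) (x 1) (x 2) (by simp) (by simp) (by simp)
    obtain ⟨f', hf0', hf1', hf2'⟩ := exists_frame (y 0) (y 1) (y 2) (by simp) (by simp) (by simp)
    refine ⟨Matrix.ProjGenLinGroup.mk (f' * f⁻¹), Function.Embedding.ext fun i => ?_⟩
    rw [Function.Embedding.smul_apply, hsm]
    fin_cases i
    · show (f' * f⁻¹) • x 0 = y 0
      rw [mul_smul, ← hf0, inv_smul_smul, hf0']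
    · show (f' * f⁻¹) • x 1 = y 1
      rw [mul_smul, ← hf1, inv_smul_smul, hf1']
    · show (f' * f⁻¹) • x 2 = y 2
      rw [mul_smul, ← hf2, inv_smul_smul, hf2']
  · intro g a b c hab hac hbc ha hb hc
    obtain ⟨g, rfl⟩ := Matrix.ProjGenLinGroup.mk_surjective g
    rw [hsm] at ha hb hc
    obtain ⟨f, hf0, hf1, hf2⟩ := exists_frame a b c hab hac hbc
    have key : ∀ (p : ℙ F (Fin 2 → F)) (x : ℙ F (Fin 2 → F)), f • p = x → g • x = x → (f⁻¹ * g * f) • p = p := by
      intro p x hp hx
      rw [mul_smul, mul_smul, hp, hx, ← hp, inv_smul_smul]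
    obtain ⟨k1, k2, k3⟩ := scalar_of_fix _ (key _ _ hf0 ha) (key _ _ hf1 hb) (key _ _ hf2 hc)
    have hne : (f⁻¹ * g * f).val 0 0 ≠ 0 := fun h0 =>
      ((Matrix.isUnit_iff_isUnit_det _).1 (f⁻¹ * g * f).isUnit).ne_zero
        (by rw [Matrix.det_fin_two, k1, h0]; ring)
    have hsc : f⁻¹ * g * f = Matrix.GeneralLinearGroup.scalar (Fin 2) (Units.mk0 _ hne) := by
      refine Units.ext ?_
      ext i j
      fin_cases i <;> fin_cases j
      · simp [Matrix.scalar_apply]
      · simpa [Matrix.scalar_apply] using k2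
      · simpa [Matrix.scalar_apply] using k1
      · simpa [Matrix.scalar_apply] using k3.symm
    have := congrArg Matrix.ProjGenLinGroup.mk hsc
    rw [map_mul, map_mul, map_inv, Matrix.ProjGenLinGroup.mk_scalar] at this
    have h4 := congrArg (fun z => Matrix.ProjGenLinGroup.mk f * z * (Matrix.ProjGenLinGroup.mk f)⁻¹) this
    simpa [mul_assoc] using h4

theorem sl_two_three_transitive_iff [Fintype F] :
    MulAction.IsMultiplyPretransitive (SpecialLinearGroup (Fin 2) F) (ℙ F (Fin 2 → F)) 3 ↔ ringChar F = 2 := by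
  have hsm : ∀ (g : SpecialLinearGroup (Fin 2) F) (v : Fin 2 → F), g • v = g.1 *ᵥ v := fun g v => rfl
  rw [MulAction.isMultiplyPretransitive_iff]
  constructor
  · intro h
    by_contra h2
    obtain ⟨s, hs⟩ := FiniteField.exists_nonsquare (F := F) h2
    have hs0 : s ≠ 0 := fun h0 => hs (h0 ▸ ⟨0, (mul_zero 0).symm⟩)
    have hsne : (![1, s] : Fin 2 → F) ≠ 0 := fun h => by simpa using congrFun h 0
    have hne : ∀ t : F, t ≠ 0 → ∀ ht : (![1, t] : Fin 2 → F) ≠ 0,
        Function.Injective ![p10, p01,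
          Projectivization.mk F ![1, t] ht] := by
      intro t ht0 ht i j hij
      fin_cases i <;> fin_cases j <;> first | rfl |
        (exfalso
         simp only [Matrix.cons_val_zero, Matrix.cons_val_one, Matrix.cons_val, Projectivization.mk_eq_mk_iff',
           Fin.mk_one, Fin.zero_eta, Fin.reduceFinMk] at hij
         obtain ⟨a, ha⟩ := hij
         have e0 := congrFun ha 0
         have e1 := congrFun ha 1
         simp [ht0] at e0 e1
         all_goals first | exact ht0 e1 | exact ht0 e1.symm | simp_all)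
    obtain ⟨g, hg⟩ := h ⟨_, hne 1 one_ne_zero pt11_ne⟩ ⟨_, hne s hs0 hsne⟩
    have g0 := DFunLike.congr_fun hg 0
    have g1 := DFunLike.congr_fun hg 1
    have g2 := DFunLike.congr_fun hg 2
    simp only [Function.Embedding.smul_apply, Function.Embedding.coeFn_mk, Matrix.cons_val_zero,
      Matrix.cons_val_one, Matrix.cons_val, Projectivization.smul_mk, Projectivization.mk_eq_mk_iff', hsm] at g0 g1 g2
    obtain ⟨a, ha⟩ := g0
    obtain ⟨b, hb⟩ := g1
    obtain ⟨c, hc⟩ := g2
    have a1 := congrFun ha 1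
    have b0 := congrFun hb 0
    have c0 := congrFun hc 0
    have c1 := congrFun hc 1
    simp [Matrix.mulVec, dotProduct, Fin.sum_univ_two] at a1 b0 c0 c1
    have hdet : g.1 0 0 * g.1 1 1 - g.1 0 1 * g.1 1 0 = 1 := by
      rw [← Matrix.det_fin_two]; exact g.2
    rw [← b0, add_zero] at c0
    rw [← a1, zero_add] at c1
    rw [← a1, ← b0, ← c0, ← c1] at hdet
    refine hs ⟨c * s, ?_⟩
    linear_combination (-s) * hdet
  · intro h2 x y
    obtain ⟨f, hf0, hf1, hf2⟩ := exists_frame (x 0) (x 1) (x 2) (by simp) (by simp) (by simp)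
    obtain ⟨f', hf0', hf1', hf2'⟩ := exists_frame (y 0) (y 1) (y 2) (by simp) (by simp) (by simp)
    obtain ⟨r, hr⟩ := FiniteField.isSquare_of_char_two h2 (f' * f⁻¹).val.det
    have hd0 : (f' * f⁻¹).val.det ≠ 0 := ((Matrix.isUnit_iff_isUnit_det _).1 (f' * f⁻¹).isUnit).ne_zero
    have hr0 : r ≠ 0 := fun h0 => hd0 (by rw [hr, h0, mul_zero])
    let g : SpecialLinearGroup (Fin 2) F := ⟨r⁻¹ • (f' * f⁻¹).val, by
      rw [Matrix.det_smul, Fintype.card_fin, hr]; field_simp⟩
    have hgp : ∀ p : ℙ F (Fin 2 → F), g • p = (f' * f⁻¹) • p := by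
      intro p
      induction p using Projectivization.ind with | _ v hv =>
      rw [Projectivization.smul_mk, Projectivization.smul_mk, Projectivization.mk_eq_mk_iff', hsm]
      exact ⟨r⁻¹, (Matrix.smul_mulVec r⁻¹ (f' * f⁻¹).val v).symm⟩
    refine ⟨g, Function.Embedding.ext fun i => ?_⟩
    rw [Function.Embedding.smul_apply, hgp]
    fin_cases i
    · show (f' * f⁻¹) • x 0 = y 0
      rw [mul_smul, ← hf0, inv_smul_smul, hf0']
    · show (f' * f⁻¹) • x 1 = y 1
      rw [mul_smul, ← hf1, inv_smul_smul, hf1']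
    · show (f' * f⁻¹) • x 2 = y 2
      rw [mul_smul, ← hf2, inv_smul_smul, hf2']

end CfsgLib.Classical
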