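/-
Orders of semisimple elements of `SL_2(q)`.
-/
import Cfsg.Agent.Lib.Spectrum.SL2
import Mathlib

set_option autoImplicit false

namespace CfsgLib.Classical

open Matrix Polynomial CfsgLib.Spectrum

theorem sl2Coef_root {K : Type*} [CommRing K] (t r : K) (hr : r * r = t * r - 1) :
    ∀ n : ℕ, (sl2Coef t n).1 * r + (sl2Coef t n).2 = r ^ n
  | 0 => by simp [sl2Coef]
  | n + 1 => by
    rw [pow_succ, ← sl2Coef_root t r hr n]
    simp only [sl2Coef]
    linear_combination -(sl2Coef t n).1 * hr

theorem sl2Coef_double {K : Type*} [CommRing K] (r : K) (hr : r * r = 1) :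
    ∀ n : ℕ, (sl2Coef (2 * r) n).1 = n * r ^ (n + 1) ∧ (sl2Coef (2 * r) n).2 = (1 - n) * r ^ n
  | 0 => by simp [sl2Coef]
  | n + 1 => by
    obtain ⟨h1, h2⟩ := sl2Coef_double r hr n
    constructor
    · simp only [sl2Coef, h1, h2, Nat.cast_add, Nat.cast_one, pow_succ]
      linear_combination ((n : K) - 1) * r ^ n * hr
    · simp only [sl2Coef, h1, Nat.cast_add, Nat.cast_one, pow_succ]
      ring

theorem sl2Coef_map {R K : Type*} [CommRing R] [CommRing K] (φ : R →+* K) (t : R) :
    ∀ n : ℕ, φ (sl2Coef t n).1 = (sl2Coef (φ t) n).1 ∧ φ (sl2Coef t n).2 = (sl2Coef (φ t) n).2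
  | 0 => by simp [sl2Coef]
  | n + 1 => by
    obtain ⟨h1, h2⟩ := sl2Coef_map φ t n
    simp [sl2Coef, h1, h2]

theorem sl_two_semisimple_order_dvd {F : Type*} [Field F] [Fintype F] {q : ℕ} (hF : Fintype.card F = q) (p : ℕ)
    [Fact p.Prime] [CharP F p] (g : Matrix.SpecialLinearGroup (Fin 2) F) (hg : Nat.Coprime (orderOf g) p) :
    orderOf g ∣ q - 1 ∨ orderOf g ∣ q + 1 := by
  set t := (g : Matrix (Fin 2) (Fin 2) F).trace with ht
  let φ : F →+* AlgebraicClosure F := algebraMap F (AlgebraicClosure F)
  obtain ⟨r, hr⟩ := IsAlgClosed.exists_root (X ^ 2 - C (φ t) * X + 1 : (AlgebraicClosure F)[X])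
    (by
      rw [show (X ^ 2 - C (φ t) * X + 1 : (AlgebraicClosure F)[X]) = C 1 * X ^ 2 + C (-φ t) * X + C 1 by
        simp; ring, degree_quadratic one_ne_zero]
      decide)
  have hr' : r * r = φ t * r - 1 := by
    simp [IsRoot] at hr
    linear_combination hr
  have hr0 : r ≠ 0 := fun h0 => one_ne_zero (by linear_combination hr' - (r - φ t) * h0 : (1 : AlgebraicClosure F) = 0)
  obtain ⟨k, -, hk⟩ := FiniteField.card F p
  have hq : Fintype.card F = q := hF
  have hq2 := Fintype.one_lt_card (α := F)
  haveI : CharP (AlgebraicClosure F) p := charP_of_injective_algebraMap φ.injective p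
  have hfrob : r ^ q * r ^ q = φ t * r ^ q - 1 := by
    have h := congrArg (fun x => iterateFrobenius (AlgebraicClosure F) p (k : ℕ) x) hr'
    simp only [map_mul, map_sub, map_one] at h
    simp only [iterateFrobenius_def] at h
    rw [← hk, hq, ← map_pow, show t ^ q = t by rw [← hq]; exact FiniteField.pow_card t] at h
    exact h
  have hor : r ^ q = r ∨ r ^ q * r = 1 := by
    by_contra hcon
    push Not at hcon
    have h1 : r ^ q + r = φ t := mul_left_cancel₀ (sub_ne_zero.2 hcon.1) (by linear_combination hfrob - hr')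
    exact hcon.2 (by linear_combination r * h1 - hr')
  have key : ∀ m : ℕ, r * r ≠ 1 → r ^ m = 1 → orderOf g ∣ m := by
    intro m hne hm
    refine orderOf_dvd_of_pow_eq_one (sl2_pow_eq_one g m ?_)
    have e1 := sl2Coef_root (φ t) r hr' m
    have e2 := sl2Coef_root (φ t) r⁻¹ (by field_simp; linear_combination hr') m
    rw [hm] at e1
    rw [inv_pow, hm, inv_one] at e2
    have ha : (sl2Coef (φ t) m).1 * (r - r⁻¹) = 0 := by linear_combination e1 - e2
    have hne' : r - r⁻¹ ≠ 0 := fun h => hne (by field_simp at h; linear_combination h)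
    have ha0 := (mul_eq_zero.1 ha).resolve_right hne'
    rw [ha0, zero_mul, zero_add] at e1
    obtain ⟨m1, m2⟩ := sl2Coef_map φ t m
    exact Prod.ext (φ.injective (by rw [m1, ha0, map_zero])) (φ.injective (by rw [m2, e1, map_one]))
  by_cases hne : r * r = 1
  · left
    have ht2 : φ t = 2 * r := mul_right_cancel₀ hr0 (by linear_combination -hr' - hne)
    have hdvd : orderOf g ∣ (q - 1) * p := by
      refine orderOf_dvd_of_pow_eq_one (sl2_pow_eq_one g _ ?_)
      obtain ⟨m1, m2⟩ := sl2Coef_map φ t ((q - 1) * p)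
      obtain ⟨d1, d2⟩ := sl2Coef_double r hne ((q - 1) * p)
      have hcast : (((q - 1) * p : ℕ) : AlgebraicClosure F) = 0 := by
        rw [Nat.cast_mul, CharP.cast_eq_zero (AlgebraicClosure F) p, mul_zero]
      have hrq : r ^ ((q - 1) * p) = 1 := by
        rcases mul_self_eq_one_iff.1 hne with rfl | rfl
        · rw [one_pow]
        · rcases Nat.even_or_odd ((q - 1) * p) with he | ho
          · exact he.neg_one_pow
          · have h2 : p = 2 ∨ Odd p := (Fact.out : p.Prime).eq_two_or_odd'
            rcases h2 with rfl | hodd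
            · exact absurd ho (by simp [parity_simps])
            · exfalso
              have hqodd : Odd q := hq ▸ hk ▸ hodd.pow
              obtain ⟨j, rfl⟩ := hqodd
              rw [Nat.add_sub_cancel, mul_assoc] at ho
              exact absurd ho (by simp [parity_simps])
      exact Prod.ext (φ.injective (by rw [m1, ht2, d1, hcast, zero_mul, map_zero]))
        (φ.injective (by rw [m2, ht2, d2, hcast, hrq, sub_zero, one_mul, map_one]))
    exact hg.dvd_of_dvd_mul_right hdvd
  · rcases hor with h | h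
    · refine Or.inl (key _ hne (mul_right_cancel₀ hr0 ?_))
      rw [← pow_succ, Nat.sub_add_cancel (by omega), h, one_mul]
    · exact Or.inr (key _ hne (by rw [pow_succ]; exact h))

end CfsgLib.Classical
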