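/-
The quarter turn of `SL_2(q)`, `q` odd: centraliser, normaliser, quaternion Sylow 2-subgroups.
-/
import Cfsg.Agent.Lib.Fusion.PSL2Simple
import Cfsg.Agent.Lib.Solvable.UniqueSubgroup
import Cfsg.Agent.Lib.Classical.SL2Sylow

set_option autoImplicit false

namespace CfsgLib.Classical.SL2Q

open Matrix CfsgLib.Fusion.PSL2
open scoped MatrixGroups

variable {F : Type*} [Field F]

theorem wM_val : (wM : SpecialLinearGroup (Fin 2) F).1 = !![0, -1; 1, 0] := rfl

theorem negOne_coe : (negOne : SpecialLinearGroup (Fin 2) F).1 = -1 := by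
  ext i j; fin_cases i <;> fin_cases j <;> simp [negOne]

theorem negOne_mul_entry (g : SpecialLinearGroup (Fin 2) F) (i j : Fin 2) : (negOne * g).1 i j = -g.1 i j := by
  rw [Matrix.SpecialLinearGroup.coe_mul, negOne_coe, neg_one_mul, Matrix.neg_apply]

theorem negOne_comm (g : SpecialLinearGroup (Fin 2) F) : negOne * g = g * negOne :=
  (Subgroup.mem_center_iff.1 (mem_center_iff'.2 (Or.inr rfl)) g).symm

theorem negOne_sq : (negOne : SpecialLinearGroup (Fin 2) F) * negOne = 1 := by
  refine Subtype.ext ?_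
  rw [Matrix.SpecialLinearGroup.coe_mul, negOne_coe, neg_one_mul, neg_neg, Matrix.SpecialLinearGroup.coe_one]

theorem commute_wM_iff {g : SpecialLinearGroup (Fin 2) F} : g * wM = wM * g ↔ g ∈ torus := by
  constructor
  · intro h
    have e00 := congrArg (fun x : SpecialLinearGroup (Fin 2) F => x.1 0 0) h
    have e01 := congrArg (fun x : SpecialLinearGroup (Fin 2) F => x.1 0 1) h
    simp [mul_entry, wM_val] at e00 e01
    exact ⟨e01, e00⟩
  · rintro ⟨h1, h2⟩
    refine ext2 ?_ ?_ ?_ ?_ <;> simp [mul_entry, wM_val, h1, h2]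

/-- The elements inverting the quarter turn. -/
def IsFlip (g : SpecialLinearGroup (Fin 2) F) : Prop := g.1 0 1 = g.1 1 0 ∧ g.1 1 1 = -g.1 0 0

theorem isFlip_iff {g : SpecialLinearGroup (Fin 2) F} : IsFlip g ↔ g * wM = negOne * wM * g := by
  constructor
  · rintro ⟨h1, h2⟩
    rw [mul_assoc negOne]
    refine ext2 ?_ ?_ ?_ ?_ <;> rw [negOne_mul_entry] <;> simp [mul_entry, wM_val, h1, h2]
  · intro h
    rw [mul_assoc negOne] at h
    have e00 := congrArg (fun x : SpecialLinearGroup (Fin 2) F => x.1 0 0) h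
    have e01 := congrArg (fun x : SpecialLinearGroup (Fin 2) F => x.1 0 1) h
    simp only [negOne_mul_entry] at e00 e01
    simp [mul_entry, wM_val] at e00 e01
    exact ⟨e00, by linear_combination -e01⟩

theorem IsFlip.trace {g : SpecialLinearGroup (Fin 2) F} (h : IsFlip g) : g.1 0 0 + g.1 1 1 = 0 := by
  rw [h.2, add_neg_cancel]

theorem IsFlip.sq {g : SpecialLinearGroup (Fin 2) F} (h : IsFlip g) : g * g = negOne := sq_of_trace_zero h.trace

theorem IsFlip.mul_torus {g t : SpecialLinearGroup (Fin 2) F} (h : IsFlip g) (ht : t ∈ torus) : IsFlip (g * t) := by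
  obtain ⟨h1, h2⟩ := h
  obtain ⟨t1, t2⟩ := ht
  constructor <;> simp only [mul_entry] <;> rw [h1, h2, t1, t2] <;> ring

theorem IsFlip.mul_flip {g j : SpecialLinearGroup (Fin 2) F} (h : IsFlip g) (hj : IsFlip j) : g * j ∈ torus := by
  obtain ⟨h1, h2⟩ := h
  obtain ⟨t1, t2⟩ := hj
  constructor <;> simp only [mul_entry] <;> rw [h1, h2, t1, t2] <;> ring

theorem IsFlip.inverts {g t : SpecialLinearGroup (Fin 2) F} (h : IsFlip g) (ht : t ∈ torus) : g * t = t⁻¹ * g := by
  rw [eq_inv_mul_iff_mul_eq]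
  obtain ⟨h1, h2⟩ := h
  obtain ⟨t1, t2⟩ := ht
  have hd := det_eq t
  rw [t1, t2] at hd
  refine ext2 ?_ ?_ ?_ ?_ <;> simp only [mul_entry, h1, h2, t1, t2]
  · linear_combination g.1 0 0 * hd
  · linear_combination g.1 1 0 * hd
  · linear_combination g.1 1 0 * hd
  · linear_combination -g.1 0 0 * hd

theorem negOne_mem_torus : (negOne : SpecialLinearGroup (Fin 2) F) ∈ torus :=
  ⟨by simp [negOne], by simp [negOne]⟩

theorem wM_mem_torus : (wM : SpecialLinearGroup (Fin 2) F) ∈ torus := ⟨by simp [wM], by simp [wM]⟩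

theorem wM_trace : (wM : SpecialLinearGroup (Fin 2) F).1 0 0 + (wM : SpecialLinearGroup (Fin 2) F).1 1 1 = 0 := by
  simp [wM]

variable (h2 : (2 : F) ≠ 0)
include h2

theorem IsFlip.notMem_torus {g : SpecialLinearGroup (Fin 2) F} (h : IsFlip g) : g ∉ torus := by
  rintro ⟨t1, t2⟩
  have hd := det_eq g
  obtain ⟨h1, h2'⟩ := h
  have e0 : g.1 0 0 = 0 :=
    (mul_eq_zero.1 (show (2 : F) * g.1 0 0 = 0 by linear_combination t1 + h2')).resolve_left h2
  have e1 : g.1 1 0 = 0 :=
    (mul_eq_zero.1 (show (2 : F) * g.1 1 0 = 0 by linear_combination t2 - h1)).resolve_left h2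
  rw [h1, e1, e0, zero_mul, zero_mul, sub_zero] at hd
  exact zero_ne_one hd

theorem orderOf_of_sq_negOne {g : SpecialLinearGroup (Fin 2) F} (h : g * g = negOne) : orderOf g = 4 := by
  have := orderOf_eq_prime_pow (p := 2) (n := 1) (x := g) (by
    rw [pow_one, pow_two, h]; exact negOne_ne_one h2) (by
    rw [show (2 : ℕ) ^ (1 + 1) = 2 + 2 from rfl, pow_add, pow_two, h, negOne_sq])
  exact this

/-- An element of square one is central. -/
theorem eq_of_mul_self {g : SpecialLinearGroup (Fin 2) F} (h : g * g = 1) : g = 1 ∨ g = negOne := by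
  by_cases hc : g ∈ Subgroup.center (SpecialLinearGroup (Fin 2) F)
  · exact mem_center_iff'.1 hc
  · exact absurd ((sq_of_trace_zero (trace_zero_of_sq h2 (h ▸ one_mem _) hc)).symm.trans h) (negOne_ne_one h2)

variable [Fintype F]

theorem exists_isFlip : ∃ g : SpecialLinearGroup (Fin 2) F, IsFlip g := by
  obtain ⟨a, b, hab⟩ := CfsgLib.Classical.exists_sq_add_sq h2 (-1 : F)
  exact ⟨⟨!![a, b; b, -a], by simp [Matrix.det_fin_two]; linear_combination -hab⟩, rfl, rfl⟩

theorem card_torus_eq : Nat.card (torus : Subgroup (SpecialLinearGroup (Fin 2) F)) =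
    if Fintype.card F % 4 = 3 then Fintype.card F + 1 else Fintype.card F - 1 := by
  have h := card_torus h2 (F := F)
  have hq1 : 1 < Fintype.card F := Fintype.one_lt_card
  split
  · next h3 =>
    have : IsEmpty {t : F // 1 + t ^ 2 = 0} := ⟨fun t =>
      (FiniteField.isSquare_neg_one_iff.1 ⟨t.1, by linear_combination -t.2⟩) h3⟩
    rw [Nat.card_of_isEmpty (α := {t : F // 1 + t ^ 2 = 0})] at h
    omega
  · next h3 =>
    obtain ⟨r, hr⟩ : IsSquare (-1 : F) := FiniteField.isSquare_neg_one_iff.2 h3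
    have hrne : r ≠ -r := fun h' => by
      have : r = 0 := (mul_eq_zero.1 (show (2 : F) * r = 0 by linear_combination h')).resolve_left h2
      simp [this] at hr
    have hset : {t : F | 1 + t ^ 2 = 0} = {r, -r} := by
      ext t
      simp only [Set.mem_ofPred_eq, Set.mem_insert_iff, Set.mem_singleton_iff]
      constructor
      · intro ht
        exact mul_self_eq_mul_self_iff.1 (by linear_combination ht + hr)
      · rintro (rfl | rfl) <;> linear_combination -hr
    have hc : Nat.card {t : F // 1 + t ^ 2 = 0} = 2 := by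
      refine (Nat.card_coe_set_eq {t : F | 1 + t ^ 2 = 0}).trans ?_
      rw [hset]
      exact Set.ncard_pair hrne
    omega

omit [Fintype F] in
theorem mem_zpowers_wM {x : SpecialLinearGroup (Fin 2) F} (hx : x ∈ Subgroup.zpowers wM) :
    x = 1 ∨ x = wM ∨ x = negOne ∨ x = negOne * wM := by
  have hsq : (wM : SpecialLinearGroup (Fin 2) F) * wM = negOne := sq_of_trace_zero wM_trace
  have ho : orderOf (wM : SpecialLinearGroup (Fin 2) F) = 4 := orderOf_of_sq_negOne h2 hsq
  obtain ⟨k, rfl⟩ := Subgroup.mem_zpowers_iff.1 hx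
  rw [← zpow_mod_orderOf, ho]
  have h0 := Int.emod_nonneg k (show ((4 : ℕ) : ℤ) ≠ 0 by decide)
  have h1 := Int.emod_lt_of_pos k (show (0 : ℤ) < ((4 : ℕ) : ℤ) by decide)
  obtain ⟨m, hm⟩ := Int.eq_ofNat_of_zero_le h0
  rw [hm] at h1 ⊢
  rw [zpow_natCast]
  have hm4 : m < 4 := by exact_mod_cast h1
  interval_cases m
  · exact Or.inl (pow_zero _)
  · exact Or.inr (Or.inl (pow_one _))
  · exact Or.inr (Or.inr (Or.inl (by rw [pow_two, hsq])))
  · exact Or.inr (Or.inr (Or.inr (by rw [show 3 = 2 + 1 from rfl, pow_succ, pow_two, hsq])))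

theorem mem_normalizer_wM {g : SpecialLinearGroup (Fin 2) F} :
    g ∈ Subgroup.normalizer
      (Subgroup.zpowers (wM : SpecialLinearGroup (Fin 2) F) : Set (SpecialLinearGroup (Fin 2) F)) ↔
      g ∈ torus ∨ IsFlip g := by
  have hsq : (wM : SpecialLinearGroup (Fin 2) F) * wM = negOne := sq_of_trace_zero wM_trace
  constructor
  · intro h
    have hm := (Subgroup.mem_normalizer_iff.1 h wM).1 (Subgroup.mem_zpowers _)
    have hne : ∀ c : SpecialLinearGroup (Fin 2) F, c * c = 1 → g * wM * g⁻¹ ≠ c := by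
      intro c hc he
      refine negOne_ne_one h2 ?_
      have : g * wM * g⁻¹ * (g * wM * g⁻¹) = 1 := by rw [he, hc]
      rw [show g * wM * g⁻¹ * (g * wM * g⁻¹) = g * (wM * wM) * g⁻¹ by group, hsq, ← negOne_comm,
        mul_inv_cancel_right] at this
      exact this
    rcases mem_zpowers_wM h2 hm with e | e | e | e
    · exact absurd e (hne 1 (one_mul 1))
    · exact Or.inl (commute_wM_iff.1 (mul_inv_eq_iff_eq_mul.1 e))
    · exact absurd e (hne _ negOne_sq)
    · exact Or.inr (isFlip_iff.2 (mul_inv_eq_iff_eq_mul.1 e))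
  · intro h
    have hfwd : ∀ g : SpecialLinearGroup (Fin 2) F, g ∈ torus ∨ IsFlip g →
        ∀ x ∈ Subgroup.zpowers (wM : SpecialLinearGroup (Fin 2) F),
          g * x * g⁻¹ ∈ Subgroup.zpowers (wM : SpecialLinearGroup (Fin 2) F) := by
      intro g h x hx
      obtain ⟨k, rfl⟩ := Subgroup.mem_zpowers_iff.1 hx
      rw [← conj_zpow]
      refine Subgroup.zpow_mem _ ?_ k
      rcases h with ht | hf
      · rw [commute_wM_iff.2 ht, mul_inv_cancel_right]
        exact Subgroup.mem_zpowers _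
      · rw [isFlip_iff.1 hf, mul_inv_cancel_right, ← hsq]
        exact Subgroup.mul_mem _ (Subgroup.mul_mem _ (Subgroup.mem_zpowers _) (Subgroup.mem_zpowers _))
          (Subgroup.mem_zpowers _)
    have hinv : g⁻¹ ∈ torus ∨ IsFlip g⁻¹ := h.imp inv_mem fun hf => by
      rw [inv_eq_of_mul_eq_one_left (show negOne * g * g = 1 by rw [mul_assoc, hf.sq, negOne_sq])]
      exact ⟨by rw [negOne_mul_entry, negOne_mul_entry, hf.1], by rw [negOne_mul_entry, negOne_mul_entry, hf.2]⟩
    refine Subgroup.mem_normalizer_iff.2 fun x => ⟨hfwd g h x, fun hx => ?_⟩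
    have := hfwd _ hinv _ hx
    rwa [show g⁻¹ * (g * x * g⁻¹) * g⁻¹⁻¹ = x by group] at this

theorem card_normalizer_wM :
    Nat.card (Subgroup.normalizer
      (Subgroup.zpowers (wM : SpecialLinearGroup (Fin 2) F) : Set (SpecialLinearGroup (Fin 2) F))) =
      2 * Nat.card (torus : Subgroup (SpecialLinearGroup (Fin 2) F)) := by
  obtain ⟨j, hj⟩ := exists_isFlip (F := F) h2
  rw [two_mul, ← Nat.card_sum]
  refine (Nat.card_congr (Equiv.ofBijective (fun s => match s with
    | Sum.inl t => ⟨t.1, (mem_normalizer_wM h2).2 (Or.inl t.2)⟩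
    | Sum.inr t => ⟨j * t.1, (mem_normalizer_wM h2).2 (Or.inr (hj.mul_torus t.2))⟩) ⟨?_, ?_⟩)).symm
  · rintro (a | a) (b | b) hab <;> have h' := congrArg Subtype.val hab <;> simp only at h'
    · exact congrArg Sum.inl (Subtype.ext h')
    · exact absurd (h' ▸ a.2) ((hj.mul_torus b.2).notMem_torus h2)
    · exact absurd (h'.symm ▸ b.2) ((hj.mul_torus a.2).notMem_torus h2)
    · exact congrArg Sum.inr (Subtype.ext (mul_left_cancel h'))
  · rintro ⟨g, hg⟩
    rcases (mem_normalizer_wM h2).1 hg with h | h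
    · exact ⟨Sum.inl ⟨g, h⟩, rfl⟩
    · refine ⟨Sum.inr ⟨negOne * (j * g), mul_mem negOne_mem_torus (hj.mul_flip h)⟩, Subtype.ext ?_⟩
      show j * (negOne * (j * g)) = g
      rw [← mul_assoc, ← negOne_comm, mul_assoc, ← mul_assoc j j g, hj.sq, ← mul_assoc, negOne_sq, one_mul]

theorem order_four_subgroup {A : Subgroup (SpecialLinearGroup (Fin 2) F)} (hA : Nat.card A = 4) :
    ∃ P : SpecialLinearGroup (Fin 2) F, A = (Subgroup.zpowers wM).map (MulAut.conj P).toMonoidHom := by
  obtain ⟨g, hgA, hg⟩ : ∃ g ∈ A, g ∉ Subgroup.center (SpecialLinearGroup (Fin 2) F) ∧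
      g * g ∈ Subgroup.center (SpecialLinearGroup (Fin 2) F) := by
    have h4 : ∀ x ∈ A, x ^ 4 = 1 := fun x hx => by
      have h := congrArg Subtype.val (pow_card_eq_one' (x := (⟨x, hx⟩ : A)))
      rwa [SubmonoidClass.coe_pow, hA, OneMemClass.coe_one] at h
    by_contra hcon
    push Not at hcon
    have hle : (A : Set (SpecialLinearGroup (Fin 2) F)) ⊆ {1, negOne} := by
      intro x hx
      by_contra hx'
      refine hcon x hx (fun hc => hx' (mem_center_iff'.1 hc)) ?_
      refine mem_center_iff'.2 (eq_of_mul_self h2 ?_)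
      rw [← h4 x hx]
      simp [pow_succ, mul_assoc]
    have := (Set.ncard_le_ncard hle (Set.toFinite _)).trans (Set.ncard_insert_le _ _)
    rw [← Nat.card_coe_set_eq, Set.ncard_singleton] at this
    simp only [SetLike.coe_sort_coe] at this
    omega
  have ht := trace_zero_of_sq h2 hg.2 hg.1
  obtain ⟨P, hP⟩ := exists_conj_wM h2 ht
  refine ⟨P, ?_⟩
  have hcg : (MulAut.conj P).toMonoidHom wM = g := by
    show P * wM * P⁻¹ = g
    rw [← hP, mul_inv_cancel_right]
  rw [MonoidHom.map_zpowers, hcg]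
  refine (Subgroup.eq_of_le_of_card_ge (Subgroup.zpowers_le.2 hgA) ?_).symm
  rw [hA, Nat.card_zpowers, orderOf_of_sq_negOne h2 (sq_of_trace_zero ht)]

theorem sylow_two_quaternion (P : Sylow 2 (SpecialLinearGroup (Fin 2) F)) :
    ∃ k : ℕ, 1 ≤ k ∧ Nonempty ((P : Subgroup (SpecialLinearGroup (Fin 2) F)) ≃* QuaternionGroup (2 ^ k)) := by
  have hu : ∀ x y : (P : Subgroup (SpecialLinearGroup (Fin 2) F)), orderOf x = 2 → orderOf y = 2 →
      x ∈ Subgroup.zpowers y := by
    intro x y hx hy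
    have key : ∀ z : (P : Subgroup (SpecialLinearGroup (Fin 2) F)), orderOf z = 2 →
        (z : SpecialLinearGroup (Fin 2) F) = negOne := fun z hz => by
      obtain ⟨hz2, hz1⟩ := orderOf_eq_prime_iff.1 hz
      refine (eq_of_mul_self h2 (congrArg Subtype.val ((pow_two z).symm.trans hz2))).resolve_left ?_
      exact fun h => hz1 (Subtype.ext h)
    rw [show x = y from Subtype.ext ((key x hx).trans (key y hy).symm)]
    exact Subgroup.mem_zpowers y
  obtain ⟨j, hj⟩ := exists_isFlip (F := F) h2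
  have hsq : (wM : SpecialLinearGroup (Fin 2) F) * wM = negOne := sq_of_trace_zero wM_trace
  have hpow : ∀ g : SpecialLinearGroup (Fin 2) F, g * g = negOne → IsPGroup 2 (Subgroup.zpowers g) := fun g hg =>
    IsPGroup.of_card (n := 2) (by rw [Nat.card_zpowers, orderOf_of_sq_negOne h2 hg]; rfl)
  have hsup : IsPGroup 2 (Subgroup.zpowers j ⊔ Subgroup.zpowers wM : Subgroup (SpecialLinearGroup (Fin 2) F)) := by
    refine IsPGroup.to_sup_of_normal_right' (hpow j hj.sq) (hpow wM hsq) ?_
    rw [Subgroup.zpowers_le]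
    exact (mem_normalizer_wM h2).2 (Or.inr hj)
  obtain ⟨Q, hQ⟩ := hsup.exists_le_sylow
  have hnc : ¬ ∀ a b : (P : Subgroup (SpecialLinearGroup (Fin 2) F)), a * b = b * a := by
    intro hc
    obtain ⟨g, hg⟩ := exists_conj_sylow 2 P Q
    have hjQ : j ∈ Q := hQ (Subgroup.mem_sup_left (Subgroup.mem_zpowers j))
    have hwQ : wM ∈ Q := hQ (Subgroup.mem_sup_right (Subgroup.mem_zpowers wM))
    have h := congrArg Subtype.val (hc ⟨_, (hg j).1 hjQ⟩ ⟨_, (hg wM).1 hwQ⟩)
    simp only [Subgroup.coe_mul] at h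
    have h' : j * wM = wM * j := by
      have := congrArg (fun z => g * z * g⁻¹) h
      simpa [mul_assoc] using this
    exact hj.notMem_torus h2 (commute_wM_iff.1 h')
  rcases CfsgLib.Solvable.isCyclic_or_quaternion P.isPGroup' hu with hcyc | ⟨-, n, ⟨e⟩⟩
  · exact absurd (fun a b => hcyc.isMulCommutative.is_comm.comm a b) hnc
  · refine ⟨n, Nat.one_le_iff_ne_zero.2 fun h0 => hnc fun a b => ?_, ⟨e⟩⟩
    subst h0
    refine e.injective ?_
    rw [map_mul, map_mul]
    exact (show ∀ u v : QuaternionGroup (2 ^ 0), u * v = v * u by decide) _ _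

theorem order_four_conj {A B : Subgroup (SpecialLinearGroup (Fin 2) F)} (hA : Nat.card A = 4)
    (hB : Nat.card B = 4) : ∃ g : SpecialLinearGroup (Fin 2) F, B = A.map (MulAut.conj g).toMonoidHom := by
  obtain ⟨a, rfl⟩ := order_four_subgroup h2 hA
  obtain ⟨b, rfl⟩ := order_four_subgroup h2 hB
  refine ⟨b * a⁻¹, ?_⟩
  rw [Subgroup.map_map]
  congr 1
  ext x : 1
  simp [mul_assoc]

theorem card_normalizer_order_four {A : Subgroup (SpecialLinearGroup (Fin 2) F)} (hA : Nat.card A = 4) :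
    Nat.card (Subgroup.normalizer (A : Set (SpecialLinearGroup (Fin 2) F))) =
      2 * Nat.card (torus : Subgroup (SpecialLinearGroup (Fin 2) F)) := by
  obtain ⟨a, rfl⟩ := order_four_subgroup h2 hA
  rw [← Subgroup.map_equiv_normalizer_eq, Subgroup.card_map_of_injective (MulAut.conj a).injective,
    card_normalizer_wM h2]

end CfsgLib.Classical.SL2Q
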