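/-
Klein four-subgroups of `PSL_2(q)`, `q` odd.
-/
import Cfsg.Agent.Lib.Classical.SL2Quat

set_option autoImplicit false

namespace CfsgLib.Classical.SL2Q

open Matrix CfsgLib.Fusion.PSL2
open scoped MatrixGroups Pointwise

/-! ### Generalities on commuting pairs of involutions -/

section Generic

variable {G : Type*} [Group G]

/-- The subgroup `{1, x, y, x * y}`. -/
def kleinOf (x y : G) (hx : x * x = 1) (hy : y * y = 1) (h : x * y = y * x) : Subgroup G where
  carrier := {1, x, y, x * y}
  one_mem' := Or.inl rfl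
  mul_mem' := by
    have hxy : y * (x * y) = x := by rw [← mul_assoc, ← h, mul_assoc, hy, mul_one]
    have hyx : y * x = x * y := h.symm
    have hxxy : x * (x * y) = y := by rw [← mul_assoc, hx, one_mul]
    intro a b ha hb
    simp only [Set.mem_insert_iff, Set.mem_singleton_iff] at ha hb ⊢
    rcases ha with rfl | rfl | rfl | rfl <;> rcases hb with rfl | rfl | rfl | rfl <;>
      simp [hx, hy, hxy, hyx, hxxy, mul_assoc]
  inv_mem' := by
    intro a ha
    simp only [Set.mem_insert_iff, Set.mem_singleton_iff] at ha ⊢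
    rcases ha with rfl | rfl | rfl | rfl
    · exact Or.inl inv_one
    · exact Or.inr (Or.inl (inv_eq_of_mul_eq_one_left hx))
    · exact Or.inr (Or.inr (Or.inl (inv_eq_of_mul_eq_one_left hy)))
    · refine Or.inr (Or.inr (Or.inr ?_))
      rw [_root_.mul_inv_rev, inv_eq_of_mul_eq_one_left hx, inv_eq_of_mul_eq_one_left hy, h]

theorem mem_kleinOf {x y z : G} {hx : x * x = 1} {hy : y * y = 1} {h : x * y = y * x} :
    z ∈ kleinOf x y hx hy h ↔ z = 1 ∨ z = x ∨ z = y ∨ z = x * y := Iff.rfl

/-- `(x, y)` is a pair of distinct commuting involutions. -/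
def IsInvPair (p : G × G) : Prop := orderOf p.1 = 2 ∧ orderOf p.2 = 2 ∧ Commute p.1 p.2 ∧ p.1 ≠ p.2

theorem mul_self_of_order_two {x : G} (h : orderOf x = 2) : x * x = 1 := by
  rw [← pow_two, ← h, pow_orderOf_eq_one]

theorem exists_klein {x y : G} (hp : IsInvPair (x, y)) :
    ∃ V : Subgroup G, IsKleinFour V ∧ x ∈ V ∧ y ∈ V ∧ ∀ z ∈ V, z = 1 ∨ z = x ∨ z = y ∨ z = x * y := by
  obtain ⟨hx, hy, hc, hne⟩ := hp
  have hx1 : x ≠ 1 := fun h => by simp [h] at hx
  have hy1 : y ≠ 1 := fun h => by simp [h] at hy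
  have hxx := mul_self_of_order_two hx
  have hyy := mul_self_of_order_two hy
  refine ⟨kleinOf x y hxx hyy hc, ⟨?_, ?_⟩, mem_kleinOf.2 (Or.inr (Or.inl rfl)),
    mem_kleinOf.2 (Or.inr (Or.inr (Or.inl rfl))), fun z hz => mem_kleinOf.1 hz⟩
  · refine (Nat.card_coe_set_eq ({1, x, y, x * y} : Set G)).trans ?_
    have h1 : x * y ≠ 1 := fun h => hne (mul_right_cancel (h.trans hyy.symm))
    have h2 : x * y ≠ x := fun h => hy1 (by simpa using h)
    have h3 : x * y ≠ y := fun h => hx1 (by simpa using h)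
    rw [Set.ncard_insert_of_notMem (by simp [hx1.symm, hy1.symm, h1.symm]) (Set.toFinite _),
      Set.ncard_insert_of_notMem (by simp [hne, h2.symm]) (Set.toFinite _), Set.ncard_pair h3.symm]
  · refine Nat.dvd_antisymm (Monoid.exponent_dvd_of_forall_pow_eq_one fun z => ?_) ?_
    · apply Subtype.ext
      rw [SubmonoidClass.coe_pow, pow_two, OneMemClass.coe_one]
      rcases mem_kleinOf.1 z.2 with e | e | e | e <;> rw [e]
      · exact one_mul 1
      · exact hxx
      · exact hyy
      · rw [mul_assoc, ← mul_assoc y, ← hc.eq, mul_assoc x y y, hyy, mul_one, hxx]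
    · have := Monoid.order_dvd_exponent (⟨x, mem_kleinOf.2 (Or.inr (Or.inl rfl))⟩ : kleinOf x y hxx hyy hc)
      rwa [← Subgroup.orderOf_coe, Subgroup.coe_mk, hx] at this

theorem klein_mul_self {V : Subgroup G} (hV : IsKleinFour V) {x : G} (hx : x ∈ V) : x * x = 1 := by
  haveI := hV
  exact congrArg Subtype.val (IsKleinFour.mul_self (⟨x, hx⟩ : V))

theorem klein_orderOf {V : Subgroup G} (hV : IsKleinFour V) {x : G} (hx : x ∈ V) (hx1 : x ≠ 1) :
    orderOf x = 2 := orderOf_eq_prime (by rw [pow_two]; exact klein_mul_self hV hx) hx1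

theorem klein_pair {V : Subgroup G} (hV : IsKleinFour V) {x y : G} (hx : x ∈ V) (hy : y ∈ V) (hx1 : x ≠ 1)
    (hy1 : y ≠ 1) (hne : x ≠ y) : IsInvPair (x, y) := by
  refine ⟨klein_orderOf hV hx hx1, klein_orderOf hV hy hy1, ?_, hne⟩
  have h := klein_mul_self hV (mul_mem hx hy)
  rw [commute_iff_eq, eq_comm]
  calc y * x = x * x * (y * x) * (y * y) := by rw [klein_mul_self hV hx, klein_mul_self hV hy]; group
    _ = x * (x * y * (x * y)) * y := by group
    _ = x * y := by rw [h, mul_one]

theorem klein_eq {V W : Subgroup G} (hV : IsKleinFour V) (hW : IsKleinFour W) {x y : G} (hp : IsInvPair (x, y))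
    (hxV : x ∈ V) (hyV : y ∈ V) (hxW : x ∈ W) (hyW : y ∈ W) : V = W := by
  obtain ⟨U, hU, hxU, hyU, hmem⟩ := exists_klein hp
  have key : ∀ T : Subgroup G, IsKleinFour T → x ∈ T → y ∈ T → U = T := by
    intro T hT hx hy
    haveI : Finite T := Nat.finite_of_card_ne_zero (by rw [hT.card_four]; decide)
    refine Subgroup.eq_of_le_of_card_ge (fun z hz => ?_) (by rw [hT.card_four, hU.card_four])
    rcases hmem z hz with rfl | rfl | rfl | rfl
    · exact one_mem _
    · exact hx
    · exact hy
    · exact mul_mem hx hy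
  rw [← key V hV hxV hyV, ← key W hW hxW hyW]

theorem exists_pair_in_klein {V : Subgroup G} (hV : IsKleinFour V) {x : G} (hx : x ∈ V) :
    ∃ y ∈ V, y ≠ 1 ∧ y ≠ x := by
  by_contra h
  push Not at h
  have hle : (V : Set G) ⊆ {1, x} := fun y hy => by
    by_contra hy'
    simp only [Set.mem_insert_iff, Set.mem_singleton_iff, not_or] at hy'
    exact hy'.2 (h y hy hy'.1)
  have := (Set.ncard_le_ncard hle (Set.toFinite _)).trans (Set.ncard_insert_le _ _)
  rw [← Nat.card_coe_set_eq, Set.ncard_singleton] at this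
  have h4 := hV.card_four
  simp only [SetLike.coe_sort_coe] at this
  omega

theorem isKleinFour_map {V : Subgroup G} (hV : IsKleinFour V) (g : G) :
    IsKleinFour (V.map (MulAut.conj g).toMonoidHom) where
  card_four := by
    rw [Subgroup.card_map_of_injective (MulAut.conj g).injective, hV.card_four]
  exponent_two :=
    (Monoid.exponent_eq_of_mulEquiv ((MulAut.conj g).subgroupMap V)).symm.trans hV.exponent_two

theorem six_mul_card_klein [Finite G] :
    6 * Nat.card {V : Subgroup G // IsKleinFour V} = Nat.card {p : G × G // IsInvPair p} := by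
  classical
  haveI : Fintype G := Fintype.ofFinite G
  have hsix : ∀ V : {V : Subgroup G // IsKleinFour V},
      Nat.card {f : Fin 2 ↪ {v : V.1 // v ≠ 1} // True} = 6 := by
    intro V
    rw [Nat.card_congr (Equiv.subtypeUnivEquiv (fun _ => trivial)), Nat.card_eq_fintype_card,
      Fintype.card_embedding_eq, Fintype.card_fin, Fintype.card_subtype_compl, Fintype.card_subtype_eq,
      ← Nat.card_eq_fintype_card, V.2.card_four]
    rfl
  let e : (Σ V : {V : Subgroup G // IsKleinFour V}, {f : Fin 2 ↪ {v : V.1 // v ≠ 1} // True}) →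
      {p : G × G // IsInvPair p} := fun s =>
    ⟨((s.2.1 0).1.1, (s.2.1 1).1.1), klein_pair s.1.2 (s.2.1 0).1.2 (s.2.1 1).1.2
      (fun h => (s.2.1 0).2 (Subtype.ext h)) (fun h => (s.2.1 1).2 (Subtype.ext h))
      (fun h => absurd (s.2.1.injective (Subtype.ext (Subtype.ext h))) (by decide))⟩
  have he : Function.Bijective e := by
    constructor
    · rintro ⟨V, f, hf⟩ ⟨W, g, hg⟩ h
      have h0 := congrArg (fun p => p.1.1) h
      have h1 := congrArg (fun p => p.1.2) h
      simp only [e] at h0 h1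
      have hp := (e ⟨V, f, hf⟩).2
      obtain rfl : V = W := Subtype.ext (klein_eq V.2 W.2 hp (f 0).1.2 (f 1).1.2
        (h0 ▸ (g 0).1.2) (h1 ▸ (g 1).1.2))
      refine Sigma.ext rfl (heq_of_eq (Subtype.ext (Function.Embedding.ext fun i => Subtype.ext (Subtype.ext ?_))))
      fin_cases i
      · exact h0
      · exact h1
    · rintro ⟨⟨x, y⟩, hp⟩
      obtain ⟨V, hV, hx, hy, -⟩ := exists_klein hp
      have hx1 : x ≠ 1 := fun h => by simp [IsInvPair, h] at hp
      have hy1 : y ≠ 1 := fun h => by simp [IsInvPair, h] at hp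
      refine ⟨⟨⟨V, hV⟩, ⟨⟨![⟨⟨x, hx⟩, fun h => hx1 (congrArg Subtype.val h)⟩,
        ⟨⟨y, hy⟩, fun h => hy1 (congrArg Subtype.val h)⟩], ?_⟩, trivial⟩⟩, rfl⟩
      intro i j hij
      fin_cases i <;> fin_cases j <;> simp at hij <;> first | rfl | exact absurd hij hp.2.2.2 |
        exact absurd hij.symm hp.2.2.2
  haveI : Fintype {V : Subgroup G // IsKleinFour V} := Fintype.ofFinite _
  rw [← Nat.card_congr (Equiv.ofBijective e he), Nat.card_sigma, Finset.sum_congr rfl (fun V _ => hsix V),
    Finset.sum_const, smul_eq_mul, Finset.card_univ, mul_comm, Nat.card_eq_fintype_card]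

theorem mem_map_conj {V : Subgroup G} {g x : G} :
    x ∈ V.map (MulAut.conj g).toMonoidHom ↔ g⁻¹ * x * g ∈ V := by
  rw [Subgroup.mem_map]
  constructor
  · rintro ⟨y, hy, rfl⟩
    simpa [mul_assoc] using hy
  · intro h
    exact ⟨_, h, by simp [mul_assoc]⟩

theorem map_conj_eq_iff {V : Subgroup G} {g h : G} :
    V.map (MulAut.conj g).toMonoidHom = V.map (MulAut.conj h).toMonoidHom ↔
      g⁻¹ * h ∈ Subgroup.normalizer (V : Set G) := by
  rw [Subgroup.mem_normalizer_iff, SetLike.ext_iff]
  constructor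
  · intro H x
    have := H (h * x * h⁻¹)
    rw [mem_map_conj, mem_map_conj, show h⁻¹ * (h * x * h⁻¹) * h = x by group] at this
    rw [← this, show g⁻¹ * h * x * (g⁻¹ * h)⁻¹ = g⁻¹ * (h * x * h⁻¹) * g by group]
  · intro H z
    rw [mem_map_conj, mem_map_conj, H (h⁻¹ * z * h),
      show g⁻¹ * h * (h⁻¹ * z * h) * (g⁻¹ * h)⁻¹ = g⁻¹ * z * g by group]

theorem card_conjugates_mul (V : Subgroup G) :
    Nat.card {W : Subgroup G // ∃ g : G, W = V.map (MulAut.conj g).toMonoidHom} *
      Nat.card (Subgroup.normalizer (V : Set G)) = Nat.card G := by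
  rw [Subgroup.card_eq_card_quotient_mul_card_subgroup (Subgroup.normalizer (V : Set G))]
  congr 1
  refine (Nat.card_congr (Equiv.ofBijective (Quotient.lift
    (fun g : G => (⟨V.map (MulAut.conj g).toMonoidHom, g, rfl⟩ :
      {W : Subgroup G // ∃ g : G, W = V.map (MulAut.conj g).toMonoidHom})) fun a b hab =>
      Subtype.ext (map_conj_eq_iff.2 (QuotientGroup.leftRel_apply.1 hab))) ⟨?_, ?_⟩)).symm
  · intro a b
    induction a using Quotient.inductionOn with | _ a =>
    induction b using Quotient.inductionOn with | _ b =>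
    intro h
    exact Quotient.sound (QuotientGroup.leftRel_apply.2 (map_conj_eq_iff.1 (congrArg Subtype.val h)))
  · rintro ⟨W, g, rfl⟩
    exact ⟨Quotient.mk _ g, rfl⟩

/-- The self-centralising Klein four-subgroup has normaliser of order `4`, `8`, `12` or `24`. -/
theorem card_normalizer_klein {V : Subgroup G} (hV : IsKleinFour V)
    (hc : ∀ z : G, (∀ v ∈ V, v * z = z * v) → z ∈ V) :
    ∃ φ : Subgroup.normalizer (V : Set G) →* MulAut V,
      (∀ n, φ n = 1 ↔ (n : G) ∈ V) ∧ Nat.card (Subgroup.normalizer (V : Set G)) = 4 * Nat.card φ.range ∧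
        Nat.card φ.range ∣ 6 := by
  classical
  let φ : Subgroup.normalizer (V : Set G) →* MulAut V := Subgroup.normalizerMonoidHom V
  have hker : ∀ n, φ n = 1 ↔ (n : G) ∈ V := by
    intro n
    constructor
    · intro h
      refine hc _ fun v hv => ?_
      have := congrArg (fun e : MulAut V => ((e ⟨v, hv⟩ : V) : G)) h
      simp [φ] at this
      rw [mul_inv_eq_iff_eq_mul] at this
      exact this.symm
    · intro h
      refine MulEquiv.ext fun v => Subtype.ext ?_
      rcases eq_or_ne (v : G) 1 with e | e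
      · simp [φ, e]
      rcases eq_or_ne (n : G) 1 with e' | e'
      · simp [φ, e']
      rcases eq_or_ne (v : G) (n : G) with e'' | e''
      · simp [φ, e'']
      · simp only [φ]
        have hcm := (klein_pair hV v.2 h e e' e'').2.2.1
        simp [← hcm.eq, mul_assoc]
  refine ⟨φ, hker, ?_, ?_⟩
  · rw [Subgroup.card_eq_card_quotient_mul_card_subgroup φ.ker, mul_comm,
      Nat.card_congr (QuotientGroup.quotientKerEquivRange φ).toEquiv]
    congr 1
    rw [show φ.ker = V.subgroupOf (Subgroup.normalizer (V : Set G)) from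
      SetLike.ext fun n => by rw [MonoidHom.mem_ker, hker, Subgroup.mem_subgroupOf],
      Nat.card_congr (Subgroup.subgroupOfEquivOfLe Subgroup.le_normalizer).toEquiv, hV.card_four]
  · haveI : Finite V := Nat.finite_of_card_ne_zero (by rw [hV.card_four]; decide)
    haveI : Fintype V := Fintype.ofFinite _
    let ψ : MulAut V →* Equiv.Perm {v : V // v ≠ 1} :=
      { toFun := fun e => e.toEquiv.subtypeEquiv fun v => (map_ne_one_iff e e.injective).symm
        map_one' := Equiv.ext fun _ => rfl
        map_mul' := fun _ _ => Equiv.ext fun _ => rfl }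
    have hψ : Function.Injective ψ := fun a b h => MulEquiv.ext fun v => by
      rcases eq_or_ne v 1 with rfl | hv
      · rw [map_one, map_one]
      · exact congrArg Subtype.val (Equiv.congr_fun h ⟨v, hv⟩)
    have h6 : Nat.card (Equiv.Perm {v : V // v ≠ 1}) = 6 := by
      rw [Nat.card_perm, Nat.card_eq_fintype_card, Fintype.card_subtype_compl, Fintype.card_subtype_eq,
        ← Nat.card_eq_fintype_card, hV.card_four]
      rfl
    rw [← h6]
    exact (Subgroup.card_dvd_of_injective (ψ.comp φ.range.subtype) (hψ.comp Subtype.val_injective))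

end Generic

/-! ### `PSL_2(q)` -/

variable {F : Type*} [Field F]

/-- The projection onto `PSL_2`. -/
abbrev proj : SpecialLinearGroup (Fin 2) F →* ProjectiveSpecialLinearGroup (Fin 2) F :=
  QuotientGroup.mk' (Subgroup.center (SpecialLinearGroup (Fin 2) F))

theorem proj_surjective : Function.Surjective (proj (F := F)) := QuotientGroup.mk'_surjective _

theorem proj_eq_iff {g h : SpecialLinearGroup (Fin 2) F} : proj g = proj h ↔ g = h ∨ g = negOne * h := by
  rw [eq_comm, QuotientGroup.mk'_eq_mk']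
  constructor
  · rintro ⟨z, hz, e⟩
    rcases mem_center_iff'.1 hz with rfl | rfl
    · exact Or.inl (by rw [← e, mul_one])
    · exact Or.inr (by rw [← e, ← negOne_comm])
  · rintro (rfl | rfl)
    · exact ⟨1, one_mem _, mul_one g⟩
    · exact ⟨negOne, mem_center_iff'.2 (Or.inr rfl), (negOne_comm h).symm⟩

theorem proj_negOne : proj (negOne : SpecialLinearGroup (Fin 2) F) = 1 :=
  (QuotientGroup.eq_one_iff _).2 (mem_center_iff'.2 (Or.inr rfl))

variable [Fintype F] (h2 : (2 : F) ≠ 0)
include h2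

theorem two_mul_card_PSL :
    2 * Nat.card (ProjectiveSpecialLinearGroup (Fin 2) F) = Nat.card (SpecialLinearGroup (Fin 2) F) := by
  rw [← CfsgLib.Classical.card_center_mul_card_PSL (F := F) (ι := Fin 2), CfsgLib.Classical.card_center_SL,
    Fintype.card_fin, Nat.gcd_eq_left]
  have hodd : Fintype.card F % 2 = 1 := FiniteField.odd_card_of_char_ne_two (fun h => h2 (by
    haveI := ringChar.of_eq h
    exact CharP.cast_eq_zero F 2))
  rw [CfsgLib.Classical.card_units_eq rfl]
  omega

theorem orderOf_proj_of_trace {g : SpecialLinearGroup (Fin 2) F} (h : g.1 0 0 + g.1 1 1 = 0) :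
    orderOf (proj g) = 2 := by
  refine orderOf_eq_prime (by rw [pow_two, ← map_mul, sq_of_trace_zero h, proj_negOne]) fun h1 => ?_
  have hne := negOne_ne_one h2 (F := F)
  rw [← sq_of_trace_zero h] at hne
  rcases mem_center_iff'.1 ((QuotientGroup.eq_one_iff g).1 h1) with e | e <;> rw [e] at hne
  · exact hne (one_mul 1)
  · exact hne negOne_sq

theorem mem_centralizer_proj_wM {g : SpecialLinearGroup (Fin 2) F} :
    proj g ∈ Subgroup.centralizer ({proj wM} : Set (ProjectiveSpecialLinearGroup (Fin 2) F)) ↔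
      g ∈ torus ∨ IsFlip g := by
  rw [Subgroup.mem_centralizer_singleton_iff, ← map_mul, ← map_mul, proj_eq_iff, commute_wM_iff, isFlip_iff,
    mul_assoc negOne]

theorem card_centralizer_proj_wM :
    Nat.card (Subgroup.centralizer ({proj wM} : Set (ProjectiveSpecialLinearGroup (Fin 2) F))) =
      Nat.card (torus : Subgroup (SpecialLinearGroup (Fin 2) F)) := by
  set H := Subgroup.centralizer ({proj wM} : Set (ProjectiveSpecialLinearGroup (Fin 2) F))
  have hcm : H.comap proj = Subgroup.normalizer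
      (Subgroup.zpowers (wM : SpecialLinearGroup (Fin 2) F) : Set (SpecialLinearGroup (Fin 2) F)) := by
    ext g
    rw [Subgroup.mem_comap, mem_centralizer_proj_wM h2, mem_normalizer_wM h2]
  have h1 := Subgroup.card_mul_index (H.comap proj)
  rw [Subgroup.index_comap_of_surjective _ proj_surjective, ← two_mul_card_PSL h2, hcm, card_normalizer_wM h2,
    ← Subgroup.card_mul_index H, mul_assoc] at h1
  exact (Nat.eq_of_mul_eq_mul_right (Nat.pos_of_ne_zero Subgroup.FiniteIndex.index_ne_zero)
    (Nat.eq_of_mul_eq_mul_left two_pos h1)).symm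

theorem card_torus_proj :
    2 * Nat.card ((torus : Subgroup (SpecialLinearGroup (Fin 2) F)).map proj) =
      Nat.card (torus : Subgroup (SpecialLinearGroup (Fin 2) F)) := by
  have hker : (proj (F := F)).ker ≤ torus := by
    intro g hg
    rw [QuotientGroup.ker_mk'] at hg
    rcases mem_center_iff'.1 hg with rfl | rfl
    · exact one_mem _
    · exact negOne_mem_torus
  have h1 := Subgroup.card_mul_index (torus : Subgroup (SpecialLinearGroup (Fin 2) F))
  have h3 := Subgroup.index_comap_of_surjective ((torus : Subgroup (SpecialLinearGroup (Fin 2) F)).map proj)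
    proj_surjective
  rw [Subgroup.comap_map_eq_self hker] at h3
  rw [h3, ← two_mul_card_PSL h2,
    ← Subgroup.card_mul_index ((torus : Subgroup (SpecialLinearGroup (Fin 2) F)).map proj), ← mul_assoc] at h1
  exact (Nat.eq_of_mul_eq_mul_right (Nat.pos_of_ne_zero Subgroup.FiniteIndex.index_ne_zero) h1).symm

theorem involution_conj {x : ProjectiveSpecialLinearGroup (Fin 2) F} (hx : orderOf x = 2) :
    ∃ g, g * proj wM * g⁻¹ = x :=
  isConj_iff.1 (isConj_of_orderOf_two h2 _ _ (orderOf_proj_of_trace h2 wM_trace) hx)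

/-- The partners of the quarter turn. -/
theorem partner_iff {j : SpecialLinearGroup (Fin 2) F} (hj : IsFlip j)
    {y : ProjectiveSpecialLinearGroup (Fin 2) F} :
    IsInvPair (proj wM, y) ↔ (proj j)⁻¹ * y ∈ (torus : Subgroup (SpecialLinearGroup (Fin 2) F)).map proj := by
  constructor
  · rintro ⟨-, hy, hc, hne⟩
    obtain ⟨g, rfl⟩ := proj_surjective y
    rcases (mem_centralizer_proj_wM h2).1 (Subgroup.mem_centralizer_singleton_iff.2 hc.symm.eq) with hg | hg
    · exfalso
      have hsq := mul_self_of_order_two hy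
      rw [← map_mul] at hsq
      have hgc : g ∉ Subgroup.center (SpecialLinearGroup (Fin 2) F) := fun h => by
        rw [show proj g = 1 from (QuotientGroup.eq_one_iff g).2 h, orderOf_one] at hy
        omega
      have ht := trace_zero_of_sq h2 ((QuotientGroup.eq_one_iff _).1 hsq) hgc
      obtain ⟨g1, g2⟩ := hg
      have h0 : g.1 0 0 = 0 :=
        (mul_eq_zero.1 (show (2 : F) * g.1 0 0 = 0 by linear_combination ht + g1)).resolve_left h2
      have hd := det_eq g
      rw [g2, h0, ← g1, h0] at hd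
      refine hne (proj_eq_iff.2 ?_)
      rcases mul_self_eq_one_iff.1 (show g.1 1 0 * g.1 1 0 = 1 by linear_combination hd) with e | e
      · exact Or.inl (ext2 (by simp [wM_val, h0]) (by simp [wM_val, g2, e]) (by simp [wM_val, e])
          (by simp [wM_val, ← g1, h0]))
      · refine Or.inr (ext2 ?_ ?_ ?_ ?_) <;> rw [negOne_mul_entry] <;> simp [wM_val, h0, g2, e, ← g1]
    · exact ⟨negOne * (j * g), mul_mem negOne_mem_torus (hj.mul_flip hg), by
        rw [map_mul, proj_negOne, one_mul, map_mul, ← map_inv, ← map_mul, ← map_mul, proj_eq_iff]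
        refine Or.inr ?_
        rw [← hj.sq]
        group⟩
  · rintro ⟨t, ht, he⟩
    rw [eq_inv_mul_iff_mul_eq, ← map_mul] at he
    subst he
    have hjt := hj.mul_torus ht
    refine ⟨orderOf_proj_of_trace h2 wM_trace, orderOf_proj_of_trace h2 hjt.trace,
      (Subgroup.mem_centralizer_singleton_iff.1 ((mem_centralizer_proj_wM h2).2 (Or.inr hjt))).symm, fun h => ?_⟩
    rcases proj_eq_iff.1 h with e | e
    · exact hjt.notMem_torus h2 (e ▸ wM_mem_torus)
    · have : wM ∈ (torus : Subgroup (SpecialLinearGroup (Fin 2) F)) := wM_mem_torus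
      rw [e] at this
      exact hjt.notMem_torus h2 ((Subgroup.mul_mem_cancel_left _ negOne_mem_torus).1 this)

theorem two_mul_card_pairs :
    2 * Nat.card {p : ProjectiveSpecialLinearGroup (Fin 2) F × ProjectiveSpecialLinearGroup (Fin 2) F //
      IsInvPair p} = Nat.card (ProjectiveSpecialLinearGroup (Fin 2) F) := by
  classical
  haveI : Fintype (ProjectiveSpecialLinearGroup (Fin 2) F) := Fintype.ofFinite _
  obtain ⟨j, hj⟩ := exists_isFlip (F := F) h2
  let e0 : {p : ProjectiveSpecialLinearGroup (Fin 2) F × ProjectiveSpecialLinearGroup (Fin 2) F // IsInvPair p} ≃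
      Σ x : {x : ProjectiveSpecialLinearGroup (Fin 2) F // orderOf x = 2}, {y // IsInvPair (x.1, y)} :=
    { toFun := fun p => ⟨⟨p.1.1, p.2.1⟩, ⟨p.1.2, p.2⟩⟩
      invFun := fun s => ⟨(s.1.1, s.2.1), s.2.2⟩
      left_inv := fun _ => rfl
      right_inv := fun _ => rfl }
  have hfib : ∀ x : {x : ProjectiveSpecialLinearGroup (Fin 2) F // orderOf x = 2},
      Nat.card {y // IsInvPair (x.1, y)} =
        Nat.card ((torus : Subgroup (SpecialLinearGroup (Fin 2) F)).map proj) := by
    rintro ⟨x, hx⟩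
    obtain ⟨g, rfl⟩ := involution_conj h2 hx
    refine Nat.card_congr ?_
    refine Equiv.subtypeEquiv ((MulAut.conj g⁻¹).toEquiv.trans (Equiv.mulLeft (proj j)⁻¹)) fun y => ?_
    show _ ↔ (proj j)⁻¹ * (MulAut.conj g⁻¹ y) ∈ (torus : Subgroup (SpecialLinearGroup (Fin 2) F)).map proj
    rw [← partner_iff h2 hj]
    have hwx : MulAut.conj g⁻¹ (g * proj wM * g⁻¹) = proj wM := by simp [mul_assoc]
    simp only [IsInvPair]
    conv_rhs => rw [← hwx]
    simp only [MulEquiv.orderOf_eq, commute_iff_eq, ← map_mul, (MulAut.conj g⁻¹).injective.eq_iff,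
      (MulAut.conj g⁻¹).injective.ne_iff]
  have hcl : Nat.card {x : ProjectiveSpecialLinearGroup (Fin 2) F // orderOf x = 2} *
      Nat.card (Subgroup.centralizer ({proj wM} : Set (ProjectiveSpecialLinearGroup (Fin 2) F))) =
        Nat.card (ProjectiveSpecialLinearGroup (Fin 2) F) := by
    rw [Subgroup.card_eq_card_quotient_mul_card_subgroup
      (Subgroup.centralizer ({proj wM} : Set (ProjectiveSpecialLinearGroup (Fin 2) F)))]
    congr 1
    refine (Nat.card_congr (Equiv.ofBijective (Quotient.lift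
      (fun g => (⟨g * proj wM * g⁻¹, by
        rw [show g * proj wM * g⁻¹ = MulAut.conj g (proj wM) from rfl, MulEquiv.orderOf_eq]
        exact orderOf_proj_of_trace h2 wM_trace⟩ :
        {x : ProjectiveSpecialLinearGroup (Fin 2) F // orderOf x = 2})) fun a b hab => Subtype.ext ?_) ⟨?_, ?_⟩)).symm
    · have h := Subgroup.mem_centralizer_singleton_iff.1 (QuotientGroup.leftRel_apply.1 hab)
      show a * proj wM * a⁻¹ = b * proj wM * b⁻¹
      rw [eq_mul_inv_iff_mul_eq, mul_assoc, mul_assoc, ← h]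
      group
    · intro a b
      induction a using Quotient.inductionOn with | _ a =>
      induction b using Quotient.inductionOn with | _ b =>
      intro h
      have h' : a * proj wM * a⁻¹ = b * proj wM * b⁻¹ := congrArg Subtype.val h
      refine Quotient.sound (QuotientGroup.leftRel_apply.2 (Subgroup.mem_centralizer_singleton_iff.2 ?_))
      have h'' := congrArg (fun z => a⁻¹ * z * b) h'
      simpa [mul_assoc] using h''.symm
    · rintro ⟨x, hx⟩
      obtain ⟨g, rfl⟩ := involution_conj h2 hx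
      exact ⟨Quotient.mk _ g, rfl⟩
  rw [Nat.card_congr e0, Nat.card_sigma, Finset.sum_congr rfl (fun x _ => hfib x), Finset.sum_const, smul_eq_mul,
    Finset.card_univ, mul_left_comm, card_torus_proj h2, ← Nat.card_eq_fintype_card, ← card_centralizer_proj_wM h2,
    hcl]

theorem twelve_mul_card_klein :
    12 * Nat.card {V : Subgroup (ProjectiveSpecialLinearGroup (Fin 2) F) // IsKleinFour V} =
      Nat.card (ProjectiveSpecialLinearGroup (Fin 2) F) := by
  rw [← two_mul_card_pairs h2, ← six_mul_card_klein]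
  ring

theorem klein_self_centralizing {V : Subgroup (ProjectiveSpecialLinearGroup (Fin 2) F)} (hV : IsKleinFour V)
    (z : ProjectiveSpecialLinearGroup (Fin 2) F) (hz : ∀ v ∈ V, v * z = z * v) : z ∈ V := by
  obtain ⟨x, hxV, hx1, -⟩ := exists_pair_in_klein hV (one_mem V)
  obtain ⟨y, hyV, hy1, hyx⟩ := exists_pair_in_klein hV hxV
  obtain ⟨g, hg⟩ := involution_conj h2 (klein_orderOf hV hxV hx1)
  obtain ⟨j, hj⟩ := exists_isFlip (F := F) h2
  have hxW : g⁻¹ * x * g = proj wM := by rw [← hg]; group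
  have hp : IsInvPair (proj wM, g⁻¹ * y * g) := by
    rw [← hxW]
    refine klein_pair (isKleinFour_map hV g⁻¹) ?_ ?_ ?_ ?_ ?_
    · rw [mem_map_conj]; simpa [mul_assoc] using hxV
    · rw [mem_map_conj]; simpa [mul_assoc] using hyV
    · exact fun h => hx1 (by simpa [mul_assoc] using congrArg (fun u => g * u * g⁻¹) h)
    · exact fun h => hy1 (by simpa [mul_assoc] using congrArg (fun u => g * u * g⁻¹) h)
    · exact fun h => hyx (by simpa [mul_assoc] using congrArg (fun u => g * u * g⁻¹) h.symm)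
  obtain ⟨t, ht, het⟩ := (partner_iff h2 hj).1 hp
  rw [eq_inv_mul_iff_mul_eq, ← map_mul] at het
  have hjt := hj.mul_torus ht
  set k := j * t
  clear_value k
  have hcw : proj wM * (g⁻¹ * z * g) = g⁻¹ * z * g * proj wM := by
    rw [← hxW, show g⁻¹ * x * g * (g⁻¹ * z * g) = g⁻¹ * (x * z) * g by group, hz x hxV]
    group
  have hck : proj k * (g⁻¹ * z * g) = g⁻¹ * z * g * proj k := by
    rw [het, show g⁻¹ * y * g * (g⁻¹ * z * g) = g⁻¹ * (y * z) * g by group, hz y hyV]
    group
  have tor : ∀ u : SpecialLinearGroup (Fin 2) F, u ∈ torus → proj k * proj u = proj u * proj k →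
      proj u = 1 ∨ proj u = proj wM := by
    intro u hu hcu
    rw [← map_mul, ← map_mul, hjt.inverts hu, map_mul, map_mul] at hcu
    have hsq : proj u * proj u = 1 := by
      have := mul_right_cancel hcu
      rw [map_inv] at this
      nth_rewrite 1 [← this]
      exact inv_mul_cancel _
    by_cases h1 : proj u = 1
    · exact Or.inl h1
    · refine Or.inr ?_
      have ho : orderOf (proj u) = 2 := orderOf_eq_prime (by rw [pow_two]; exact hsq) h1
      by_contra hne
      have hpair : IsInvPair (proj wM, proj u) := ⟨orderOf_proj_of_trace h2 wM_trace, ho,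
        (Subgroup.mem_centralizer_singleton_iff.1 ((mem_centralizer_proj_wM h2).2 (Or.inl hu))).symm,
        fun h => hne h.symm⟩
      obtain ⟨t', ht', het'⟩ := (partner_iff h2 hj).1 hpair
      rw [eq_inv_mul_iff_mul_eq, ← map_mul, proj_eq_iff] at het'
      refine (hj.mul_torus ht').notMem_torus h2 ?_
      rcases het' with e | e
      · exact e ▸ hu
      · exact e ▸ mul_mem negOne_mem_torus hu
  obtain ⟨u, hu⟩ := proj_surjective (g⁻¹ * z * g)
  rw [← hu] at hcw hck
  have hback : ∀ v, v ∈ ({1, proj wM, proj k, proj k * proj wM} :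
      Set (ProjectiveSpecialLinearGroup (Fin 2) F)) → g * v * g⁻¹ ∈ V := by
    have h1 : g * proj wM * g⁻¹ ∈ V := hg ▸ hxV
    have h3 : g * proj k * g⁻¹ ∈ V := by
      rw [het, show g * (g⁻¹ * y * g) * g⁻¹ = y by group]; exact hyV
    rintro v (rfl | rfl | rfl | rfl)
    · simpa using one_mem V
    · exact h1
    · exact h3
    · have := mul_mem h3 h1
      simpa [mul_assoc] using this
  have hz' : z = g * proj u * g⁻¹ := by rw [hu]; group
  rw [hz']
  refine hback _ ?_
  rcases (mem_centralizer_proj_wM h2).1 (Subgroup.mem_centralizer_singleton_iff.2 hcw.symm) with h | h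
  · rcases tor u h hck with e | e <;> simp [e]
  · have hkk : proj k * proj k = 1 := by rw [← map_mul, hjt.sq, proj_negOne]
    have hd : proj u = proj k * proj (k * u) := by rw [map_mul, ← mul_assoc, hkk, one_mul]
    rcases tor (k * u) (hjt.mul_flip h) (by
      rw [map_mul, ← mul_assoc, hkk, one_mul, mul_assoc, ← hck, ← mul_assoc, hkk, one_mul]) with e | e <;>
      rw [hd, e] <;> simp

theorem sylow_two_klein (hq : Fintype.card F % 8 = 3 ∨ Fintype.card F % 8 = 5)
    (P : Sylow 2 (ProjectiveSpecialLinearGroup (Fin 2) F)) :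
    IsKleinFour (P : Subgroup (ProjectiveSpecialLinearGroup (Fin 2) F)) := by
  obtain ⟨j, hj⟩ := exists_isFlip (F := F) h2
  obtain ⟨V, hV, -, -, -⟩ := exists_klein ((partner_iff h2 hj (y := proj j)).2 (by
    rw [inv_mul_cancel]; exact one_mem _))
  have hidx : ¬ 2 ∣ V.index := by
    have h := Subgroup.card_mul_index V
    have hs := two_mul_card_PSL h2 (F := F)
    rw [CfsgLib.Classical.card_SL_two rfl] at hs
    rw [hV.card_four] at h
    intro hd
    have hdvd : 16 ∣ Fintype.card F * ((Fintype.card F - 1) * (Fintype.card F + 1)) := by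
      rw [← hs, ← h]
      obtain ⟨c, hc⟩ := hd
      exact ⟨c, by rw [hc]; ring⟩
    rw [Nat.dvd_iff_mod_eq_zero, Nat.mul_mod, Nat.mul_mod (Fintype.card F - 1)] at hdvd
    obtain ⟨a, b, ha, hb, e⟩ : ∃ a b, Fintype.card F % 16 = a ∧ (Fintype.card F - 1) % 16 = b ∧
        (Fintype.card F + 1) % 16 = (a + 1) % 16 :=
      ⟨_, _, rfl, rfl, by omega⟩
    rw [ha, hb, e] at hdvd
    rcases (show (a = 3 ∧ b = 2) ∨ (a = 5 ∧ b = 4) ∨ (a = 11 ∧ b = 10) ∨ (a = 13 ∧ b = 12) by omega) with
      ⟨rfl, rfl⟩ | ⟨rfl, rfl⟩ | ⟨rfl, rfl⟩ | ⟨rfl, rfl⟩ <;> norm_num at hdvd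
  let Q : Sylow 2 (ProjectiveSpecialLinearGroup (Fin 2) F) :=
    (IsPGroup.of_card (p := 2) (n := 2) (hV.card_four.trans (by norm_num))).toSylow hidx
  obtain ⟨g, hg⟩ := MulAction.exists_smul_eq (ProjectiveSpecialLinearGroup (Fin 2) F) Q P
  rw [← hg]
  exact isKleinFour_map hV g

theorem klein_classes_one (hq : Fintype.card F % 8 = 3 ∨ Fintype.card F % 8 = 5)
    {V W : Subgroup (ProjectiveSpecialLinearGroup (Fin 2) F)} (hV : IsKleinFour V) (hW : IsKleinFour W) :
    ∃ g, W = V.map (MulAut.conj g).toMonoidHom := by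
  haveI : Fact (Nat.Prime 2) := ⟨Nat.prime_two⟩
  obtain ⟨P, hP⟩ := (IsPGroup.of_card (p := 2) (n := 2) (hV.card_four.trans (by norm_num))).exists_le_sylow
  obtain ⟨Q, hQ⟩ := (IsPGroup.of_card (p := 2) (n := 2) (hW.card_four.trans (by norm_num))).exists_le_sylow
  have eP : V = P := Subgroup.eq_of_le_of_card_ge hP (by
    rw [hV.card_four, (sylow_two_klein h2 hq P).card_four])
  have eQ : W = Q := Subgroup.eq_of_le_of_card_ge hQ (by
    rw [hW.card_four, (sylow_two_klein h2 hq Q).card_four])
  obtain ⟨g, hg⟩ := MulAction.exists_smul_eq (ProjectiveSpecialLinearGroup (Fin 2) F) P Q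
  refine ⟨g, ?_⟩
  rw [eP, eQ, ← hg]
  rfl

theorem exists_klein_large (hq : Fintype.card F % 8 = 1 ∨ Fintype.card F % 8 = 7) :
    ∃ V : Subgroup (ProjectiveSpecialLinearGroup (Fin 2) F), IsKleinFour V ∧
      Nat.card (Subgroup.normalizer (V : Set (ProjectiveSpecialLinearGroup (Fin 2) F))) = 24 := by
  obtain ⟨a, b, hab⟩ := CfsgLib.Classical.exists_sq_add_sq h2 (-1 : F)
  obtain ⟨r, hr⟩ : IsSquare (2 : F) := FiniteField.isSquare_two_iff.2 (by omega)
  have hr0 : r ≠ 0 := fun h => h2 (by rw [hr, h, mul_zero])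
  let j : SpecialLinearGroup (Fin 2) F := ⟨!![a, b; b, -a], by simp [Matrix.det_fin_two]; linear_combination -hab⟩
  have hj : IsFlip j := ⟨rfl, rfl⟩
  let s : SpecialLinearGroup (Fin 2) F := ⟨!![1 / r, -1 / r; 1 / r, 1 / r], by
    simp [Matrix.det_fin_two]
    field_simp
    linear_combination hr⟩
  let u : SpecialLinearGroup (Fin 2) F :=
    ⟨!![(-1 + a - b) / 2, (-1 + b + a) / 2; (1 + b + a) / 2, (-1 - a + b) / 2], by
      simp [Matrix.det_fin_two]
      field_simp
      linear_combination -2 * hab⟩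
  obtain ⟨V, hV, hwV, hjV, hmem⟩ := exists_klein ((partner_iff h2 hj (y := proj j)).2 (by
    rw [inv_mul_cancel]; exact one_mem _))
  have uw : u * wM = wM * j * u := by
    refine ext2 ?_ ?_ ?_ ?_ <;> simp only [mul_entry] <;> simp [u, j, wM_val] <;> field_simp <;>
      first | linear_combination hab | linear_combination -hab | ring1
  have uj : u * j = wM * u := by
    refine ext2 ?_ ?_ ?_ ?_ <;> simp only [mul_entry] <;> simp [u, j, wM_val] <;> field_simp <;>
      first | linear_combination hab | linear_combination -hab | ring1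
  have sw : s * wM = wM * s := by
    refine ext2 ?_ ?_ ?_ ?_ <;> simp only [mul_entry] <;> simp [s, wM_val] <;> ring
  have sj : s * j = wM * j * s := by
    refine ext2 ?_ ?_ ?_ ?_ <;> simp only [mul_entry] <;> simp [s, j, wM_val] <;> ring
  have ss : s * s = wM := by
    refine ext2 ?_ ?_ ?_ ?_ <;> simp only [mul_entry] <;> simp [s, wM_val] <;> field_simp <;>
      first | linear_combination hr | linear_combination -hr | ring1
  have hnorm : ∀ g : SpecialLinearGroup (Fin 2) F, ∀ c d : SpecialLinearGroup (Fin 2) F,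
      g * wM = c * g → g * j = d * g → proj c ∈ V → proj d ∈ V →
      proj g ∈ Subgroup.normalizer (V : Set (ProjectiveSpecialLinearGroup (Fin 2) F)) := by
    intro g c d h1 h3 hc hd
    have key : V.map (MulAut.conj (proj g)).toMonoidHom = V := by
      refine Subgroup.eq_of_le_of_card_ge ?_ (le_of_eq
        (Subgroup.card_map_of_injective (MulAut.conj (proj g)).injective).symm)
      rintro _ ⟨v, hv, rfl⟩
      have e1 : proj g * proj wM * (proj g)⁻¹ = proj c := by rw [← map_mul, h1, map_mul, mul_inv_cancel_right]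
      have e2 : proj g * proj j * (proj g)⁻¹ = proj d := by rw [← map_mul, h3, map_mul, mul_inv_cancel_right]
      show proj g * v * (proj g)⁻¹ ∈ V
      rcases hmem v hv with rfl | rfl | rfl | rfl
      · simpa using one_mem V
      · rwa [e1]
      · rwa [e2]
      · rw [show proj g * (proj wM * proj j) * (proj g)⁻¹ =
          proj g * proj wM * (proj g)⁻¹ * (proj g * proj j * (proj g)⁻¹) by group, e1, e2]
        exact mul_mem hc hd
    have key1 : V.map (MulAut.conj (proj g)).toMonoidHom =
        V.map (MulAut.conj (1 : ProjectiveSpecialLinearGroup (Fin 2) F)).toMonoidHom := by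
      rw [key]
      ext x
      simp [mem_map_conj]
    simpa using inv_mem (map_conj_eq_iff.1 key1)
  have hu := hnorm u _ _ uw uj (by rw [map_mul]; exact mul_mem hwV hjV) hwV
  have hs := hnorm s _ _ sw sj hwV (by rw [map_mul]; exact mul_mem hwV hjV)
  have hu3 : u * u * u = 1 := by
    refine ext2 ?_ ?_ ?_ ?_ <;> simp only [mul_entry] <;> simp [u] <;> field_simp <;>
      first
        | linear_combination (6 + (0 : F)) * hab
        | linear_combination (-6 : F) * hab
        | linear_combination (2 * a - 2 * b - 6) * hab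
        | linear_combination (2 * a + 2 * b - 2) * hab
        | linear_combination (2 * a + 2 * b + 2) * hab
        | linear_combination (-2 * a + 2 * b - 6) * hab
  obtain ⟨φ, hφ, hcard, hdvd⟩ := card_normalizer_klein hV (klein_self_centralizing h2 hV)
  have hu' : φ ⟨_, hu⟩ ≠ 1 := by
    rw [Ne, hφ]
    intro hm
    have h1 := klein_mul_self hV hm
    have h3 : proj u = 1 := by
      have h3' : proj u * proj u * proj u = 1 := by rw [← map_mul, ← map_mul, hu3, map_one]
      rwa [h1, one_mul] at h3'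
    rcases proj_eq_iff.1 (h3.trans (map_one proj).symm) with e | e
    all_goals
      try rw [mul_one] at e
      have e3 := congrArg (fun x : SpecialLinearGroup (Fin 2) F => x.1 0 1) e
      have e4 := congrArg (fun x : SpecialLinearGroup (Fin 2) F => x.1 1 0) e
      simp [u, negOne, h2] at e3 e4
      exact h2 (by linear_combination e4 - e3)
  have hs' : φ ⟨_, hs⟩ ≠ 1 := by
    rw [Ne, hφ]
    intro hm
    have h1 := klein_mul_self hV hm
    rw [← map_mul, ss] at h1
    have := orderOf_proj_of_trace h2 (wM_trace (F := F))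
    rw [h1, orderOf_one] at this
    omega
  have h3 : orderOf (φ ⟨_, hu⟩) = 3 := by
    haveI : Fact (Nat.Prime 3) := ⟨Nat.prime_three⟩
    refine orderOf_eq_prime ?_ hu'
    rw [← map_pow, hφ, SubmonoidClass.coe_pow]
    show proj u ^ 3 ∈ V
    rw [← map_pow, pow_succ, pow_two, hu3, map_one]
    exact one_mem V
  have h2' : orderOf (φ ⟨_, hs⟩) = 2 := by
    haveI : Fact (Nat.Prime 2) := ⟨Nat.prime_two⟩
    refine orderOf_eq_prime ?_ hs'
    rw [← map_pow, hφ, SubmonoidClass.coe_pow]
    show proj s ^ 2 ∈ V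
    rw [← map_pow, pow_two, ss]
    exact hwV
  refine ⟨V, hV, ?_⟩
  have d3 : 3 ∣ Nat.card φ.range := (dvd_of_eq h3.symm).trans (Subgroup.orderOf_dvd_natCard φ.range ⟨_, rfl⟩)
  have d2 : 2 ∣ Nat.card φ.range := (dvd_of_eq h2'.symm).trans (Subgroup.orderOf_dvd_natCard φ.range ⟨_, rfl⟩)
  rw [hcard, Nat.dvd_antisymm hdvd (Nat.Coprime.mul_dvd_of_dvd_of_dvd (by norm_num : Nat.Coprime 2 3) d2 d3)]

theorem klein_classes_two (hq : Fintype.card F % 8 = 1 ∨ Fintype.card F % 8 = 7) :
    ∃ V₁ V₂ : Subgroup (ProjectiveSpecialLinearGroup (Fin 2) F), IsKleinFour V₁ ∧ IsKleinFour V₂ ∧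
      (¬ ∃ g, V₂ = V₁.map (MulAut.conj g).toMonoidHom) ∧
      ∀ W : Subgroup (ProjectiveSpecialLinearGroup (Fin 2) F), IsKleinFour W → (∃ g, W = V₁.map (MulAut.conj g).toMonoidHom) ∨
        (∃ g, W = V₂.map (MulAut.conj g).toMonoidHom) := by
  classical
  obtain ⟨V₁, hV₁, hN⟩ := exists_klein_large h2 hq
  let O : Subgroup (ProjectiveSpecialLinearGroup (Fin 2) F) → Set (Subgroup (ProjectiveSpecialLinearGroup (Fin 2) F)) :=
    fun V => {W | ∃ g, W = V.map (MulAut.conj g).toMonoidHom}
  let K : Set (Subgroup (ProjectiveSpecialLinearGroup (Fin 2) F)) := {V | IsKleinFour V}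
  have hOK : ∀ V : Subgroup (ProjectiveSpecialLinearGroup (Fin 2) F), IsKleinFour V → O V ⊆ K := fun V hV W ⟨g, hg⟩ => hg ▸ isKleinFour_map hV g
  have hO : ∀ V : Subgroup (ProjectiveSpecialLinearGroup (Fin 2) F), IsKleinFour V →
      (O V).ncard * Nat.card (Subgroup.normalizer (V : Set (ProjectiveSpecialLinearGroup (Fin 2) F))) =
        Nat.card (ProjectiveSpecialLinearGroup (Fin 2) F) := fun V _ => card_conjugates_mul V
  have hK : 12 * K.ncard = Nat.card (ProjectiveSpecialLinearGroup (Fin 2) F) := twelve_mul_card_klein h2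
  have h1 := hO V₁ hV₁
  rw [hN] at h1
  have hpos : 0 < Nat.card (ProjectiveSpecialLinearGroup (Fin 2) F) := Nat.card_pos
  obtain ⟨V₂, hV₂, hnot⟩ : ∃ V₂ : Subgroup (ProjectiveSpecialLinearGroup (Fin 2) F), IsKleinFour V₂ ∧ V₂ ∉ O V₁ := by
    by_contra hcon
    push Not at hcon
    have := Set.ncard_le_ncard (show K ⊆ O V₁ from hcon) (Set.toFinite _)
    omega
  refine ⟨V₁, V₂, hV₁, hV₂, hnot, fun W hW => ?_⟩
  have hdisj : Disjoint (O V₁) (O V₂) := Set.disjoint_left.2 fun U hU1 hU2 => by
    obtain ⟨g, rfl⟩ := hU1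
    obtain ⟨g', hg'⟩ := hU2
    refine hnot ⟨g'⁻¹ * g, SetLike.ext fun x => ?_⟩
    have := SetLike.ext_iff.1 hg' (g' * x * g'⁻¹)
    rw [mem_map_conj, mem_map_conj, show g'⁻¹ * (g' * x * g'⁻¹) * g' = x by group] at this
    rw [mem_map_conj, ← this, show (g'⁻¹ * g)⁻¹ * x * (g'⁻¹ * g) = g⁻¹ * (g' * x * g'⁻¹) * g by group]
  obtain ⟨φ, -, hcard, hdvd⟩ := card_normalizer_klein hV₂ (klein_self_centralizing h2 hV₂)
  have h24 : Nat.card (Subgroup.normalizer (V₂ : Set (ProjectiveSpecialLinearGroup (Fin 2) F))) ≤ 24 := by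
    rw [hcard]
    have := Nat.le_of_dvd (by norm_num) hdvd
    omega
  have h3 := hO V₂ hV₂
  have hle : (O V₁).ncard ≤ (O V₂).ncard := by
    refine Nat.le_of_mul_le_mul_right ?_ (by norm_num : 0 < 24)
    calc (O V₁).ncard * 24 = (O V₂).ncard * _ := h1.trans h3.symm
      _ ≤ (O V₂).ncard * 24 := Nat.mul_le_mul_left _ h24
  have hun : O V₁ ∪ O V₂ = K := by
    refine Set.eq_of_subset_of_ncard_le (Set.union_subset (hOK _ hV₁) (hOK _ hV₂)) ?_ (Set.toFinite _)
    rw [Set.ncard_union_eq hdisj (Set.toFinite _) (Set.toFinite _)]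
    omega
  exact (show W ∈ O V₁ ∪ O V₂ by rw [hun]; exact hW)

end CfsgLib.Classical.SL2Q
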