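/-
Small linear groups acting on the projective line; `SL_2(3)`.
-/
import Cfsg.Agent.Lib.Classical.SL2Line
import Mathlib

set_option autoImplicit false

namespace CfsgLib.Classical

open Matrix
open scoped MatrixGroups LinearAlgebra.Projectivization

variable {F : Type*} [Field F] [Fintype F]

theorem card_line {q : ℕ} (hF : Fintype.card F = q) : Nat.card (ℙ F (Fin 2 → F)) = q + 1 := by
  rw [Projectivization.card_of_finrank_two (k := F) (V := Fin 2 → F) (by simp), Nat.card_eq_fintype_card, hF]

theorem sl_two_card_two (hF : Fintype.card F = 2) :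
    Nonempty (SpecialLinearGroup (Fin 2) F ≃* Equiv.Perm (Fin 3)) := by
  classical
  haveI : Fintype (ℙ F (Fin 2 → F)) := Fintype.ofFinite _
  let e : ℙ F (Fin 2 → F) ≃ Fin 3 := Fintype.equivFinOfCardEq (by
    rw [← Nat.card_eq_fintype_card, card_line hF])
  let f := (e.permCongrHom.toMonoidHom).comp
    (MulAction.toPermHom (SpecialLinearGroup (Fin 2) F) (ℙ F (Fin 2 → F)))
  have hinj : Function.Injective f := by
    refine e.permCongrHom.injective.comp ?_
    rw [← MonoidHom.ker_eq_bot_iff, Projectivization.SL_mulAction_ker, ← Subgroup.card_eq_one, card_center_SL,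
      card_units_eq hF, Fintype.card_fin]
    rfl
  refine ⟨MulEquiv.ofBijective f ((Nat.bijective_iff_injective_and_card f).2 ⟨hinj, ?_⟩)⟩
  rw [card_SL_two hF, Nat.card_perm, Nat.card_eq_fintype_card, Fintype.card_fin]
  rfl

theorem psl_two_card_three (hF : Fintype.card F = 3) :
    Nonempty (ProjectiveSpecialLinearGroup (Fin 2) F ≃* alternatingGroup (Fin 4)) := by
  classical
  haveI : Fintype (ℙ F (Fin 2 → F)) := Fintype.ofFinite _
  let e : ℙ F (Fin 2 → F) ≃ Fin 4 := Fintype.equivFinOfCardEq (by
    rw [← Nat.card_eq_fintype_card, card_line hF])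
  let f := (e.permCongrHom.toMonoidHom).comp
    (Projectivization.PSLAction.toPermHom (ι := Fin 2) (K := F))
  have hinj : Function.Injective f :=
    e.permCongrHom.injective.comp Matrix.ProjectiveSpecialLinearGroup.toPermHom_injective
  have hidx : f.range.index = 2 := by
    have h := Subgroup.card_mul_index f.range
    rw [← Nat.card_congr (MonoidHom.ofInjective hinj).toEquiv, Nat.card_perm, Nat.card_fin] at h
    have h2 := card_PSL_mul (F := F) hF 2 (by norm_num)
    norm_num [Fin.prod_univ_two] at h2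
    rw [← Nat.card_eq_fintype_card] at h2
    rw [show Nat.card (ProjectiveSpecialLinearGroup (Fin 2) F) = 12 by omega] at h
    norm_num [Nat.factorial] at h
    omega
  exact ⟨(MonoidHom.ofInjective hinj).trans
    (MulEquiv.subgroupCongr (Equiv.Perm.eq_alternatingGroup_of_index_eq_two hidx))⟩

/-- A quarter turn in `SL_2(3)`. -/
def quatI : SL(2, ZMod 3) := ⟨!![0, -1; 1, 0], by decide⟩

/-- A second element of order four in `SL_2(3)`. -/
def quatJ : SL(2, ZMod 3) := ⟨!![1, 1; 1, -1], by decide⟩

/-- The quaternion group in `SL_2(3)`. -/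
def quatFun : QuaternionGroup 2 → SL(2, ZMod 3)
  | .a i => quatI ^ i.val
  | .xa i => quatJ * quatI ^ i.val

theorem quatFun_mul : ∀ x y : QuaternionGroup 2, quatFun (x * y) = quatFun x * quatFun y := by decide

theorem quatFun_injective : ∀ x y : QuaternionGroup 2, quatFun x = quatFun y → x = y := by decide

/-- The quaternion homomorphism. -/
def quatHom : QuaternionGroup 2 →* SL(2, ZMod 3) := MonoidHom.mk' quatFun quatFun_mul

theorem quatFun_spec : ∀ x : QuaternionGroup 2,
    (quatFun x).1 0 0 + (quatFun x).1 1 1 = 0 ∨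
      ((quatFun x).1 0 1 = 0 ∧ (quatFun x).1 1 0 = 0 ∧ (quatFun x).1 0 0 = (quatFun x).1 1 1) := by decide

theorem quatFun_surj : ∀ a b c d : ZMod 3, a * d - b * c = 1 → (a + d = 0 ∨ (b = 0 ∧ c = 0 ∧ a = d)) →
    ∃ x : QuaternionGroup 2, (quatFun x).1 0 0 = a ∧ (quatFun x).1 0 1 = b ∧ (quatFun x).1 1 0 = c ∧
      (quatFun x).1 1 1 = d := by decide

theorem mem_quatRange {g : SL(2, ZMod 3)} :
    g ∈ quatHom.range ↔ g.1 0 0 + g.1 1 1 = 0 ∨ (g.1 0 1 = 0 ∧ g.1 1 0 = 0 ∧ g.1 0 0 = g.1 1 1) := by
  constructor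
  · rintro ⟨x, rfl⟩
    exact quatFun_spec x
  · intro h
    obtain ⟨x, h1, h2, h3, h4⟩ := quatFun_surj _ _ _ _ (by rw [← Matrix.det_fin_two]; exact g.2) h
    refine ⟨x, Subtype.ext ?_⟩
    ext i j
    fin_cases i <;> fin_cases j <;> assumption

instance quatRange_normal : quatHom.range.Normal where
  conj_mem n hn g := by
    rw [mem_quatRange] at hn ⊢
    rcases hn with hn | ⟨h01, h10, h00⟩
    · left
      rw [← Matrix.trace_fin_two] at hn ⊢
      rw [Matrix.SpecialLinearGroup.coe_mul, Matrix.SpecialLinearGroup.coe_mul, Matrix.trace_mul_cycle,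
        ← Matrix.SpecialLinearGroup.coe_mul g⁻¹, inv_mul_cancel, Matrix.SpecialLinearGroup.coe_one, one_mul]
      exact hn
    · right
      have hs : n.1 = n.1 0 0 • (1 : Matrix (Fin 2) (Fin 2) (ZMod 3)) := by
        ext i j; fin_cases i <;> fin_cases j <;> simp [h01, h10, h00]
      rw [Matrix.SpecialLinearGroup.coe_mul, Matrix.SpecialLinearGroup.coe_mul, hs, mul_smul_comm, mul_one,
        smul_mul_assoc, ← Matrix.SpecialLinearGroup.coe_mul, mul_inv_cancel, Matrix.SpecialLinearGroup.coe_one]
      simp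

theorem sl_two_card_three (hF : Fintype.card F = 3) :
    (∃ Q : Subgroup (SpecialLinearGroup (Fin 2) F), Q.Normal ∧ Q.index = 3 ∧ Nonempty (Q ≃* QuaternionGroup 2)) ∧
      Nat.card (Subgroup.center (SpecialLinearGroup (Fin 2) F)) = 2 := by
  refine ⟨?_, by rw [card_center_SL, card_units_eq hF, Fintype.card_fin]; rfl⟩
  let φ : ZMod 3 ≃+* F := ZMod.ringEquivOfPrime F Nat.prime_three hF
  let e : SL(2, ZMod 3) ≃* SpecialLinearGroup (Fin 2) F :=
    MulEquiv.ofBijective (Matrix.SpecialLinearGroup.map φ.toRingHom) ((Nat.bijective_iff_injective_and_card _).2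
      ⟨fun a b h => Subtype.ext (Matrix.ext fun i j => φ.injective
        (congrArg (fun m : SpecialLinearGroup (Fin 2) F => m.1 i j) h)), by
        rw [card_SL_two hF, card_SL_two (ZMod.card 3)]⟩)
  refine ⟨quatHom.range.map e.toMonoidHom, quatRange_normal.map e.toMonoidHom e.surjective, ?_, ?_⟩
  · have h := Subgroup.card_mul_index (quatHom.range.map e.toMonoidHom)
    rw [Subgroup.card_map_of_injective (K := quatHom.range) (f := e.toMonoidHom) e.injective,
      ← Nat.card_congr (MonoidHom.ofInjective (f := quatHom) quatFun_injective).toEquiv,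
      Nat.card_eq_fintype_card, QuaternionGroup.card, card_SL_two hF] at h
    omega
  · exact ⟨(e.subgroupMap quatHom.range).symm.trans
      (MonoidHom.ofInjective (f := quatHom) quatFun_injective).symm⟩

end CfsgLib.Classical
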