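/-
The order of the symplectic group over a finite field.
-/
import Cfsg.Agent.Lib.Classical.SpBasic

set_option autoImplicit false

namespace CfsgLib.Classical

open Matrix Cfsg

variable {F : Type*} [Field F] {m : ℕ}

/-- The set of hyperbolic pairs. -/
abbrev SpPairs (m : ℕ) (F : Type*) [Field F] : Type _ :=
  {p : (Fin m ⊕ Fin m → F) × (Fin m ⊕ Fin m → F) // sympForm m F p.1 p.2 = 1}

theorem card_sympForm_eq_one [Fintype F] {u : Fin m ⊕ Fin m → F} (hu : u ≠ 0) :
    Nat.card {v // sympForm m F u v = 1} * Fintype.card F = Fintype.card F ^ (2 * m) := by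
  obtain ⟨w, hw⟩ := exists_sympForm_ne_zero hu
  set v₁ := (sympForm m F u w)⁻¹ • w with hv₁
  have h₁ : sympForm m F u v₁ = 1 := by rw [hv₁, sympForm_smul_right, inv_mul_cancel₀ hw]
  let e : {v // sympForm m F u v = 1} × F ≃ (Fin m ⊕ Fin m → F) :=
    { toFun := fun p => p.1.1 + p.2 • v₁
      invFun := fun x => (⟨x - (sympForm m F u x - 1) • v₁, by
          rw [sympForm_sub_right, sympForm_smul_right, h₁]; ring⟩, sympForm m F u x - 1)
      left_inv := fun p => by
        rcases p with ⟨⟨v, hv⟩, a⟩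
        have hc : sympForm m F u (v + a • v₁) - 1 = a := by
          rw [sympForm_add_right, sympForm_smul_right, hv, h₁]; ring
        refine Prod.ext (Subtype.ext ?_) hc
        simp [hc]
      right_inv := fun x => by simp }
  rw [← Nat.card_eq_fintype_card (α := F), ← Nat.card_prod, Nat.card_congr e, Nat.card_fun,
    Nat.card_sum, Nat.card_fin, Nat.card_eq_fintype_card, ← two_mul]

theorem card_spPairs [Fintype F] :
    Nat.card (SpPairs m F) * Fintype.card F =
      (Fintype.card F ^ (2 * m) - 1) * Fintype.card F ^ (2 * m) := by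
  classical
  let e : SpPairs m F ≃
      Σ u : {u : Fin m ⊕ Fin m → F // u ≠ 0}, {v // sympForm m F u.1 v = 1} :=
    { toFun := fun p => ⟨⟨p.1.1, fun h => zero_ne_one (by rw [← p.2, h, sympForm_zero_left])⟩,
        ⟨p.1.2, p.2⟩⟩
      invFun := fun s => ⟨(s.1.1, s.2.1), s.2.2⟩
      left_inv := fun p => rfl
      right_inv := fun s => rfl }
  rw [Nat.card_congr e, Nat.card_sigma, Finset.sum_mul,
    Finset.sum_congr rfl (fun u _ => card_sympForm_eq_one u.2), Finset.sum_const,
    Finset.card_univ, smul_eq_mul, Fintype.card_subtype_compl, Fintype.card_subtype_eq,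
    Fintype.card_fun, Fintype.card_sum, Fintype.card_fin, ← two_mul]

/-- Forget the coordinates of the first hyperbolic pair. -/
def spTail (m : ℕ) (F : Type*) [Field F] :
    (Fin (m + 1) ⊕ Fin (m + 1) → F) →ₗ[F] (Fin m ⊕ Fin m → F) :=
  LinearMap.funLeft F F (Sum.map Fin.succ Fin.succ)

/-- Extend by zero at the first hyperbolic pair. -/
def spJoin (m : ℕ) (F : Type*) [Field F] :
    (Fin m ⊕ Fin m → F) →ₗ[F] (Fin (m + 1) ⊕ Fin (m + 1) → F) where
  toFun y := Sum.elim (Fin.cons 0 (y ∘ Sum.inl)) (Fin.cons 0 (y ∘ Sum.inr))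
  map_add' y z := by
    funext i
    rcases i with i | i <;> refine Fin.cases ?_ (fun j => ?_) i <;> simp
  map_smul' a y := by
    funext i
    rcases i with i | i <;> refine Fin.cases ?_ (fun j => ?_) i <;> simp

/-- The component in the first hyperbolic pair. -/
def spHead (m : ℕ) (F : Type*) [Field F] :
    (Fin (m + 1) ⊕ Fin (m + 1) → F) →ₗ[F] (Fin (m + 1) ⊕ Fin (m + 1) → F) :=
  LinearMap.id - spJoin m F ∘ₗ spTail m F

theorem spTail_apply_inl (x : Fin (m + 1) ⊕ Fin (m + 1) → F) (i : Fin m) :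
    spTail m F x (Sum.inl i) = x (Sum.inl i.succ) := rfl

theorem spTail_apply_inr (x : Fin (m + 1) ⊕ Fin (m + 1) → F) (i : Fin m) :
    spTail m F x (Sum.inr i) = x (Sum.inr i.succ) := rfl

theorem spTail_join (y : Fin m ⊕ Fin m → F) : spTail m F (spJoin m F y) = y := by
  funext i
  rcases i with i | i <;> simp [spTail, spJoin, LinearMap.funLeft]

theorem spHead_eq (x : Fin (m + 1) ⊕ Fin (m + 1) → F) :
    spHead m F x = x (Sum.inl 0) • Pi.single (Sum.inl 0) 1 +
      x (Sum.inr 0) • Pi.single (Sum.inr 0) 1 := by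
  funext i
  rcases i with i | i <;> refine Fin.cases ?_ (fun j => ?_) i <;>
    simp [spHead, spJoin, spTail, LinearMap.funLeft]

theorem spHead_add_join (x : Fin (m + 1) ⊕ Fin (m + 1) → F) :
    spHead m F x + spJoin m F (spTail m F x) = x := by
  simp [spHead]

theorem sympForm_succ (u v : Fin (m + 1) ⊕ Fin (m + 1) → F) :
    sympForm (m + 1) F u v =
      (u (Sum.inr 0) * v (Sum.inl 0) - u (Sum.inl 0) * v (Sum.inr 0)) +
        sympForm m F (spTail m F u) (spTail m F v) := by
  rw [sympForm_eq, sympForm_eq, Fin.sum_univ_succ]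
  rfl

/-- The embedding of `Sp_{2m}` into `Sp_{2m+2}` fixing the first hyperbolic pair. -/
noncomputable def spEmb (h : symplecticGroup (Fin m) F) : symplecticGroup (Fin (m + 1)) F :=
  ⟨LinearMap.toMatrix' (spHead m F + spJoin m F ∘ₗ h.1.mulVecLin ∘ₗ spTail m F), by
    rw [mem_sp_iff]
    intro u v
    simp only [LinearMap.toMatrix'_mulVec, LinearMap.add_apply, LinearMap.comp_apply,
      mulVecLin_apply]
    have hh : ∀ x, spTail m F (spHead m F x + spJoin m F (h.1 *ᵥ spTail m F x)) =
        h.1 *ᵥ spTail m F x := fun x => by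
      simp [spHead, spTail_join]
    rw [sympForm_succ, hh, hh, sp_form, sympForm_succ u v]
    congr 1
    simp [spHead_eq, spJoin]⟩

theorem spEmb_mulVec (h : symplecticGroup (Fin m) F) (x : Fin (m + 1) ⊕ Fin (m + 1) → F) :
    (spEmb h).1 *ᵥ x = spHead m F x + spJoin m F (h.1 *ᵥ spTail m F x) := by
  simp [spEmb, LinearMap.toMatrix'_mulVec, -map_add]

/-- The stabiliser of the first hyperbolic pair is `Sp_{2m}`. -/
noncomputable def spStabEquiv (m : ℕ) (F : Type*) [Field F] :
    {g : symplecticGroup (Fin (m + 1)) F //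
      g.1 *ᵥ Pi.single (Sum.inl 0) 1 = Pi.single (Sum.inl 0) 1 ∧
      g.1 *ᵥ Pi.single (Sum.inr 0) 1 = Pi.single (Sum.inr 0) 1} ≃
    symplecticGroup (Fin m) F where
  toFun g := ⟨LinearMap.toMatrix' (spTail m F ∘ₗ g.1.1.mulVecLin ∘ₗ spJoin m F), by
    rw [mem_sp_iff]
    intro u v
    simp only [LinearMap.toMatrix'_mulVec, LinearMap.comp_apply, mulVecLin_apply]
    have h := sp_form g.1 (spJoin m F u) (spJoin m F v)
    have h0 : ∀ w, (g.1.1 *ᵥ spJoin m F w) (Sum.inl 0) = 0 ∧
        (g.1.1 *ᵥ spJoin m F w) (Sum.inr 0) = 0 := by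
      intro w
      have h1 := sp_form g.1 (spJoin m F w) (Pi.single (Sum.inl 0) 1)
      have h2 := sp_form g.1 (spJoin m F w) (Pi.single (Sum.inr 0) 1)
      rw [g.2.1, sympForm_single_inl, sympForm_single_inl] at h1
      rw [g.2.2, sympForm_single_inr, sympForm_single_inr, neg_inj] at h2
      exact ⟨by rw [h2]; simp [spJoin], by rw [h1]; simp [spJoin]⟩
    rw [sympForm_succ, sympForm_succ] at h
    simp only [(h0 u).1, (h0 u).2, (h0 v).1, (h0 v).2, spTail_join] at h
    simpa [spJoin] using h⟩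
  invFun h := ⟨spEmb h, by
    constructor <;>
    · rw [spEmb_mulVec]
      simp [spHead, spJoin, spTail, LinearMap.funLeft, Function.comp_def]
      funext i
      rcases i with i | i <;> refine Fin.cases ?_ (fun j => ?_) i <;> simp [mulVec, dotProduct]⟩
  left_inv g := by
    apply Subtype.ext
    refine sp_ext fun x => ?_
    rw [spEmb_mulVec]
    simp only [LinearMap.toMatrix'_mulVec, LinearMap.comp_apply, mulVecLin_apply]
    have hhead : g.1.1 *ᵥ spHead m F x = spHead m F x := by
      rw [spHead_eq, mulVec_add, mulVec_smul, mulVec_smul, g.2.1, g.2.2]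
    have h1 := sp_form g.1 (spJoin m F (spTail m F x)) (Pi.single (Sum.inl 0) 1)
    have h2 := sp_form g.1 (spJoin m F (spTail m F x)) (Pi.single (Sum.inr 0) 1)
    rw [g.2.1, sympForm_single_inl, sympForm_single_inl] at h1
    rw [g.2.2, sympForm_single_inr, sympForm_single_inr, neg_inj] at h2
    have hj : spJoin m F (spTail m F (g.1.1 *ᵥ spJoin m F (spTail m F x))) =
        g.1.1 *ᵥ spJoin m F (spTail m F x) := by
      conv_rhs => rw [← spHead_add_join (g.1.1 *ᵥ spJoin m F (spTail m F x))]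
      rw [spHead_eq, h1, h2]
      simp [spJoin]
    rw [hj, ← hhead, ← mulVec_add, spHead_add_join]
  right_inv h := by
    refine sp_ext fun y => ?_
    simp only [LinearMap.toMatrix'_mulVec, LinearMap.comp_apply, mulVecLin_apply, spEmb_mulVec]
    simp [spHead, spTail_join]

theorem card_sp_succ [Fintype F] :
    Nat.card (symplecticGroup (Fin (m + 1)) F) =
      Nat.card (SpPairs (m + 1) F) * Nat.card (symplecticGroup (Fin m) F) := by
  classical
  let f₀ : Fin (m + 1) ⊕ Fin (m + 1) → F := Pi.single (Sum.inr 0) 1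
  let e₀ : Fin (m + 1) ⊕ Fin (m + 1) → F := Pi.single (Sum.inl 0) 1
  have hfe : sympForm (m + 1) F f₀ e₀ = 1 := by simp [f₀, e₀, sympForm_single_inl]
  choose s hs using fun p : SpPairs (m + 1) F => exists_sp_move_pair hfe p.2
  rw [← Nat.card_congr (spStabEquiv m F), ← Nat.card_prod]
  refine Nat.card_congr
    { toFun := fun g =>
        let p : SpPairs (m + 1) F := ⟨(g.1 *ᵥ f₀, g.1 *ᵥ e₀), (sp_form g _ _).trans hfe⟩
        (p, ⟨(s p)⁻¹ * g, by
          constructor
          · rw [Submonoid.coe_mul, ← mulVec_mulVec]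
            have := (hs p).2.2
            change (s p)⁻¹.1 *ᵥ (p.1.2) = _
            rw [← this, sp_inv_mulVec]
          · rw [Submonoid.coe_mul, ← mulVec_mulVec]
            have := (hs p).2.1
            change (s p)⁻¹.1 *ᵥ (p.1.1) = _
            rw [← this, sp_inv_mulVec]⟩)
      invFun := fun q => s q.1 * q.2.1
      left_inv := fun g => by simp
      right_inv := fun q => by
        obtain ⟨p, h, he, hf⟩ := q
        have hp : ∀ pf, (⟨((s p * h).1 *ᵥ f₀, (s p * h).1 *ᵥ e₀), pf⟩ : SpPairs (m + 1) F) = p := by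
          intro pf
          apply Subtype.ext
          simp only [Submonoid.coe_mul, ← mulVec_mulVec]
          rw [show h.1 *ᵥ f₀ = f₀ from hf, show h.1 *ᵥ e₀ = e₀ from he, (hs p).2.1, (hs p).2.2]
        refine Prod.ext (hp _) (Subtype.ext ?_)
        simp only [hp, inv_mul_cancel_left] }

theorem card_sp [Fintype F] :
    ∀ m : ℕ, Nat.card (symplecticGroup (Fin m) F) =
      Fintype.card F ^ (m ^ 2) * ∏ i ∈ Finset.range m, (Fintype.card F ^ (2 * (i + 1)) - 1)
  | 0 => by
    have : Subsingleton (symplecticGroup (Fin 0) F) :=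
      ⟨fun a b => Subtype.ext (Subsingleton.elim _ _)⟩
    simp
  | (m + 1) => by
    have hq : 0 < Fintype.card F := Fintype.card_pos
    apply Nat.eq_of_mul_eq_mul_right hq
    rw [card_sp_succ, mul_right_comm, card_spPairs, card_sp m, Finset.prod_range_succ]
    have : (m + 1) ^ 2 + 1 = 2 * (m + 1) + m ^ 2 := by ring
    calc _ = Fintype.card F ^ (2 * (m + 1) + m ^ 2) *
          ((∏ i ∈ Finset.range m, (Fintype.card F ^ (2 * (i + 1)) - 1)) *
            (Fintype.card F ^ (2 * (m + 1)) - 1)) := by ring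
      _ = _ := by rw [← this]; ring

end CfsgLib.Classical
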