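/-
Determinants of isometries and reflections.
-/
import Cfsg.Agent.Lib.Classical.OrthBasic

set_option autoImplicit false

namespace CfsgLib.Classical

open Matrix Cfsg

variable {F : Type*} [Field F] {ι : Type} [Fintype ι] [DecidableEq ι]

theorem det_reflectionMatrix (Q : QuadraticForm F (ι → F)) {v : ι → F} (hv : Q v ≠ 0) :
    (reflectionMatrix Q v).det = -1 := by
  have h := det_one_add_replicateCol_mul_replicateRow (ι := Unit) (-(Q v)⁻¹ • v) (polarVec Q v)
  rw [← vecMulVec_eq Unit, smul_vecMulVec, neg_smul, ← sub_eq_add_neg] at h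
  rw [reflectionMatrix, h, polarVec_dotProduct]
  simp only [QuadraticMap.polar_neg_right, QuadraticMap.polar_smul_right, smul_eq_mul, qf_polar_self]
  field_simp
  ring

theorem det_isometry (Q : QuadraticForm F (ι → F)) (hQ : (QuadraticMap.polarBilin Q).Nondegenerate)
    (g : isometryGroup F ⇑Q) :
    ((g : GL ι F) : Matrix ι ι F).det = 1 ∨ ((g : GL ι F) : Matrix ι ι F).det = -1 := by
  set A := ((g : GL ι F) : Matrix ι ι F) with hA
  let P : LinearMap.BilinForm F (ι → F) := QuadraticMap.polarBilin Q
  set B := LinearMap.BilinForm.toMatrix' P with hB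
  have hBdet : B.det ≠ 0 :=
    (LinearMap.BilinForm.nondegenerate_iff_det_ne_zero (Pi.basisFun F ι)).1 hQ
  have hcomp : LinearMap.BilinForm.comp P A.toLin' A.toLin' = P :=
    LinearMap.ext₂ fun x y => by
      rw [LinearMap.BilinForm.comp_apply, Matrix.toLin'_apply, Matrix.toLin'_apply]
      exact iso_polar Q g x y
  have h := congrArg LinearMap.BilinForm.toMatrix' hcomp
  rw [LinearMap.BilinForm.toMatrix'_comp, LinearMap.toMatrix'_toLin'] at h
  have hd := congrArg Matrix.det h
  rw [det_mul, det_mul, det_transpose, ← hB] at hd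
  have : A.det * A.det = 1 := by
    have : (A.det * A.det - 1) * B.det = 0 := by linear_combination hd
    exact sub_eq_zero.1 ((mul_eq_zero.1 this).resolve_right hBdet)
  exact mul_self_eq_one_iff.1 this

end CfsgLib.Classical
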