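/-
Reflections of quadratic spaces: generation of the automorphism group and the rank parity homomorphism.
-/
import Cfsg.Agent.Lib.Classical.QuadSpace

set_option autoImplicit false

namespace CfsgLib.Classical

variable {F V : Type*} [Field F] [AddCommGroup V] [Module F V] (Q : QuadraticForm F V)

theorem quad_add (a b : V) : Q (a + b) = Q a + Q b + QuadraticMap.polar Q a b := by
  simp [QuadraticMap.polar]

theorem quad_polar_self (a : V) : QuadraticMap.polar Q a a = 2 * Q a := by
  simp [QuadraticMap.polar_self, two_mul]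

theorem quad_sub (a b : V) : Q (a - b) = Q a + Q b - QuadraticMap.polar Q a b := by
  rw [sub_eq_add_neg a b, quad_add, QuadraticMap.map_neg, QuadraticMap.polar_neg_right]
  ring

theorem quad_smul (t : F) (a : V) : Q (t • a) = t * t * Q a := by
  rw [QuadraticMap.map_smul, smul_eq_mul]

/-- The linear map `x ↦ x - Q(v)⁻¹ polar(x, v) v`. -/
noncomputable def reflLin (v : V) : V →ₗ[F] V :=
  LinearMap.id - (Q v)⁻¹ • ((QuadraticMap.polarBilin Q).flip v).smulRight v

theorem reflLin_apply (v x : V) : reflLin Q v x = x - ((Q v)⁻¹ * QuadraticMap.polar Q x v) • v := by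
  simp [reflLin, smul_smul]

theorem reflLin_involutive {v : V} (hv : Q v ≠ 0) (x : V) : reflLin Q v (reflLin Q v x) = x := by
  have hvv : reflLin Q v v = -v := by
    rw [reflLin_apply, quad_polar_self, mul_comm (2 : F), ← mul_assoc, inv_mul_cancel₀ hv, one_mul, two_smul]
    abel
  rw [reflLin_apply Q v x, map_sub, map_smul, hvv, reflLin_apply]
  module

/-- The reflection in `v`. -/
noncomputable def qRefl {v : V} (hv : Q v ≠ 0) : qAut Q :=
  ⟨LinearEquiv.ofInvolutive (reflLin Q v) (reflLin_involutive Q hv), fun x => by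
    change Q (reflLin Q v x) = Q x
    rw [reflLin_apply, quad_sub, quad_smul, QuadraticMap.polar_smul_right, smul_eq_mul]
    field_simp
    ring⟩

theorem qRefl_apply {v : V} (hv : Q v ≠ 0) (x : V) :
    (qRefl Q hv).1 x = x - ((Q v)⁻¹ * QuadraticMap.polar Q x v) • v := reflLin_apply Q v x

theorem qRefl_fix {v : V} (hv : Q v ≠ 0) {x : V} (h : QuadraticMap.polar Q x v = 0) :
    (qRefl Q hv).1 x = x := by simp [qRefl_apply, h]

theorem qRefl_self {v : V} (hv : Q v ≠ 0) : (qRefl Q hv).1 v = -v := by
  rw [qRefl_apply, quad_polar_self, mul_comm (2 : F), ← mul_assoc, inv_mul_cancel₀ hv, one_mul, two_smul]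
  abel

theorem qRefl_mul_self {v : V} (hv : Q v ≠ 0) : qRefl Q hv * qRefl Q hv = 1 :=
  qAut_ext fun x => reflLin_involutive Q hv x

theorem qRefl_inv {v : V} (hv : Q v ≠ 0) : (qRefl Q hv)⁻¹ = qRefl Q hv :=
  inv_eq_of_mul_eq_one_right (qRefl_mul_self Q hv)

theorem qRefl_exchange {u w : V} (h : Q u = Q w) (huw : Q (u - w) ≠ 0) :
    (qRefl Q huw).1 u = w := by
  have e : QuadraticMap.polar Q u (u - w) = Q (u - w) := by
    rw [QuadraticMap.polar_sub_right, quad_polar_self, quad_sub, h]
    ring
  rw [qRefl_apply, e, inv_mul_cancel₀ huw, one_smul, sub_sub_cancel]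

theorem qRefl_smul {v : V} (hv : Q v ≠ 0) {t : F} (htv : Q (t • v) ≠ 0) : qRefl Q htv = qRefl Q hv :=
  qAut_ext fun x => by
    have ht : t ≠ 0 := by rintro rfl; simp at htv
    rw [qRefl_apply, qRefl_apply, QuadraticMap.polar_smul_right, quad_smul, smul_smul, smul_eq_mul]
    congr 2
    field_simp

theorem qRefl_conj (g : qAut Q) {v : V} (hv : Q v ≠ 0) (hgv : Q (g.1 v) ≠ 0) :
    g * qRefl Q hv * g⁻¹ = qRefl Q hgv := by
  rw [mul_inv_eq_iff_eq_mul]
  refine qAut_ext fun x => ?_
  change g.1 ((qRefl Q hv).1 x) = (qRefl Q hgv).1 (g.1 x)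
  rw [qRefl_apply, qRefl_apply, map_sub, map_smul, qAut_polar, qAut_map]

theorem qAut_mul_apply (g h : qAut Q) (x : V) : (g * h).1 x = g.1 (h.1 x) := rfl

/-- The subgroup generated by the reflections. -/
noncomputable def reflGroup : Subgroup (qAut Q) :=
  Subgroup.closure {g | ∃ (v : V) (hv : Q v ≠ 0), g = qRefl Q hv}

theorem qRefl_mem {v : V} (hv : Q v ≠ 0) : qRefl Q hv ∈ reflGroup Q :=
  Subgroup.subset_closure ⟨v, hv, rfl⟩

/-- An Eichler transformation as a product of four reflections. -/
theorem exists_eichler {u z d w : V} (hu : Q u = 0) (huz : QuadraticMap.polar Q u z = 1)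
    (hd : Q d = 0) (hud : QuadraticMap.polar Q u d = 0) (hzd : QuadraticMap.polar Q z d = 0)
    (huw : QuadraticMap.polar Q u w = 0) (hzw : QuadraticMap.polar Q z w = 0)
    (hw : Q w ≠ 0) (hwd : Q (w - d) ≠ 0) :
    ∃ h ∈ reflGroup Q, h.1 z = z + d ∧
      ∀ x, QuadraticMap.polar Q x u = 0 → QuadraticMap.polar Q x d = 0 → h.1 x = x := by
  have step : ∀ (v : V) (t : F) (hv : Q v ≠ 0), QuadraticMap.polar Q u v = 0 → ∃ h ∈ reflGroup Q,
      (∀ x, QuadraticMap.polar Q x u = 0 → h.1 x = x - (t / Q v * QuadraticMap.polar Q x v) • u) ∧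
      (QuadraticMap.polar Q z v = 0 → h.1 z = z + (t / Q v) • v - (t * t / Q v) • u) := by
    intro v t hv huv
    have huu : QuadraticMap.polar Q u u = 0 := by simp [quad_polar_self, hu]
    have hq : Q (v + t • u) = Q v := by
      rw [quad_add, quad_smul, hu, QuadraticMap.polar_smul_right, QuadraticMap.polar_comm, huv]
      simp
    have hv' : Q (v + t • u) ≠ 0 := hq ▸ hv
    refine ⟨qRefl Q hv * qRefl Q hv', mul_mem (qRefl_mem Q hv) (qRefl_mem Q hv'), fun x hx => ?_,
      fun hzv => ?_⟩
    · have e : (qRefl Q hv).1 (v + t • u) = -v + t • u := by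
        rw [map_add, map_smul, qRefl_self, qRefl_fix Q hv huv]
      rw [qAut_mul_apply, qRefl_apply Q hv', map_sub, map_smul, e, qRefl_apply, hq,
        QuadraticMap.polar_add_right, QuadraticMap.polar_smul_right, hx]
      simp only [smul_eq_mul, mul_zero, add_zero]
      module
    · have e : (qRefl Q hv).1 (v + t • u) = -v + t • u := by
        rw [map_add, map_smul, qRefl_self, qRefl_fix Q hv huv]
      rw [qAut_mul_apply, qRefl_apply Q hv', map_sub, map_smul, e, qRefl_fix Q hv hzv, hq,
        QuadraticMap.polar_add_right, QuadraticMap.polar_smul_right, hzv, QuadraticMap.polar_comm Q z u,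
        huz]
      simp only [smul_eq_mul, mul_one, zero_add]
      module
  obtain ⟨h₁, hm₁, hx₁, hz₁⟩ := step w (Q w) hw huw
  obtain ⟨h₂, hm₂, hx₂, hz₂⟩ := step (w - d) (-Q (w - d)) hwd
    (by rw [QuadraticMap.polar_sub_right, huw, hud, sub_zero])
  have e1 : Q w / Q w = 1 := div_self hw
  have e2 : -Q (w - d) / Q (w - d) = -1 := by rw [neg_div, div_self hwd]
  have huu : QuadraticMap.polar Q u u = 0 := by simp [quad_polar_self, hu]
  have hfix : h₂.1 u = u := by
    rw [hx₂ u huu, QuadraticMap.polar_sub_right, huw, hud]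
    simp
  refine ⟨h₂ * h₁, mul_mem hm₂ hm₁, ?_, fun x hxu hxd => ?_⟩
  · rw [qAut_mul_apply, hz₁ hzw, map_sub, map_add, map_smul, map_smul, hfix, hz₂ (by
      rw [QuadraticMap.polar_sub_right, hzw, hzd, sub_zero]),
      hx₂ w (by rw [QuadraticMap.polar_comm, huw]), QuadraticMap.polar_sub_right, quad_polar_self,
      e1, e2]
    have hc : Q (w - d) = Q w - QuadraticMap.polar Q w d := by rw [quad_sub, hd, add_zero]
    rw [show (-Q (w - d) * -Q (w - d) / Q (w - d)) = Q (w - d) by field_simp,
      show Q w * Q w / Q w = Q w by field_simp, hc]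
    module
  · rw [qAut_mul_apply, hx₁ x hxu, map_sub, map_smul, hfix, hx₂ x hxu, QuadraticMap.polar_sub_right,
      hxd, e1, e2]
    module

/-- `Q` is non-degenerate on `P`. -/
def NdOn (P : Submodule F V) : Prop := ∀ x ∈ P, (∀ y ∈ P, QuadraticMap.polar Q x y = 0) → x = 0

theorem exists_aniso_in {P : Submodule F V} (hP : NdOn Q P) (h : P ≠ ⊥) : ∃ v ∈ P, Q v ≠ 0 := by
  obtain ⟨x, hx, hx0⟩ := P.ne_bot_iff.1 h
  by_contra hc
  push Not at hc
  exact hx0 (hP x hx fun y hy => by
    simp [QuadraticMap.polar, hc _ (P.add_mem hx hy), hc x hx, hc y hy])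

theorem exists_partner {P : Submodule F V} (hP : NdOn Q P) {u : V} (hu : u ∈ P) (hu0 : u ≠ 0)
    (hQu : Q u = 0) : ∃ z ∈ P, Q z = 0 ∧ QuadraticMap.polar Q u z = 1 := by
  obtain ⟨y, hy, hy0⟩ : ∃ y ∈ P, QuadraticMap.polar Q u y ≠ 0 := by
    by_contra hc
    push Not at hc
    exact hu0 (hP u hu hc)
  obtain ⟨z, hz⟩ : ∃ z, z = (QuadraticMap.polar Q u y)⁻¹ • y := ⟨_, rfl⟩
  have h1 : QuadraticMap.polar Q u z = 1 := by
    rw [hz, QuadraticMap.polar_smul_right, smul_eq_mul, inv_mul_cancel₀ hy0]
  refine ⟨z + (-Q z) • u, P.add_mem (hz ▸ P.smul_mem _ hy) (P.smul_mem _ hu), ?_, ?_⟩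
  · rw [quad_add, quad_smul, hQu, QuadraticMap.polar_smul_right, QuadraticMap.polar_comm, h1]
    simp
  · rw [QuadraticMap.polar_add_right, QuadraticMap.polar_smul_right, quad_polar_self, hQu, h1]
    simp

/-- Removal of the `u, z` components. -/
theorem proj_pair {u z : V} (hu : Q u = 0) (hz : Q z = 0) (huz : QuadraticMap.polar Q u z = 1) (x : V) :
    QuadraticMap.polar Q (x - QuadraticMap.polar Q x z • u - QuadraticMap.polar Q x u • z) u = 0 ∧
    QuadraticMap.polar Q (x - QuadraticMap.polar Q x z • u - QuadraticMap.polar Q x u • z) z = 0 := by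
  have hzu : QuadraticMap.polar Q z u = 1 := by rw [QuadraticMap.polar_comm, huz]
  constructor <;> simp [quad_polar_self, hu, hz, huz, hzu]

theorem ndOn_pairPerp {P : Submodule F V} (hP : NdOn Q P) {u z : V} (huP : u ∈ P) (hzP : z ∈ P)
    (hu : Q u = 0) (hz : Q z = 0) (huz : QuadraticMap.polar Q u z = 1) :
    NdOn Q (P ⊓ LinearMap.ker (QuadraticMap.polarBilin Q u) ⊓ LinearMap.ker (QuadraticMap.polarBilin Q z)) := by
  rintro x ⟨⟨hxP, hxu⟩, hxz⟩ hall
  refine hP x hxP fun y hy => ?_
  simp only [SetLike.mem_coe, LinearMap.mem_ker, QuadraticMap.polarBilin_apply_apply] at hxu hxz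
  obtain ⟨h1, h2⟩ := proj_pair Q hu hz huz y
  have h := hall (y - QuadraticMap.polar Q y z • u - QuadraticMap.polar Q y u • z)
    ⟨⟨P.sub_mem (P.sub_mem hy (P.smul_mem _ huP)) (P.smul_mem _ hzP),
      LinearMap.mem_ker.2 ((QuadraticMap.polar_comm Q u _).trans h1)⟩,
      LinearMap.mem_ker.2 ((QuadraticMap.polar_comm Q z _).trans h2)⟩
  rw [QuadraticMap.polar_sub_right, QuadraticMap.polar_sub_right, QuadraticMap.polar_smul_right,
    QuadraticMap.polar_smul_right, QuadraticMap.polar_comm Q x u, hxu, QuadraticMap.polar_comm Q x z, hxz] at h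
  simpa using h

/-- Reflections of `P` move any singular vector of `P` to any other. -/
theorem exists_move_singular {P : Submodule F V} (hP : NdOn Q P) {u w : V} (hu : u ∈ P) (hw : w ∈ P)
    (hu0 : u ≠ 0) (hw0 : w ≠ 0) (hQu : Q u = 0) (hQw : Q w = 0) :
    ∃ h ∈ reflGroup Q, h.1 u = w ∧ ∀ x, (∀ y ∈ P, QuadraticMap.polar Q x y = 0) → h.1 x = x := by
  have move : ∀ a ∈ P, ∀ b ∈ P, Q a = 0 → Q b = 0 → QuadraticMap.polar Q a b ≠ 0 →
      ∃ h ∈ reflGroup Q, h.1 a = b ∧ ∀ x, (∀ y ∈ P, QuadraticMap.polar Q x y = 0) → h.1 x = x := by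
    intro a ha b hb hQa hQb hab
    have hne : Q (a - b) ≠ 0 := by simpa [quad_sub, hQa, hQb] using hab
    exact ⟨qRefl Q hne, qRefl_mem Q hne, qRefl_exchange Q (hQa.trans hQb.symm) hne,
      fun x hx => qRefl_fix Q hne (hx _ (P.sub_mem ha hb))⟩
  by_cases huw : QuadraticMap.polar Q u w ≠ 0
  · exact move u hu w hw hQu hQw huw
  push Not at huw
  obtain ⟨z₁, hz₁P, hz₁, huz₁⟩ := exists_partner Q hP hu hu0 hQu
  obtain ⟨z, hzP, hz, huz, hwz⟩ : ∃ z ∈ P, Q z = 0 ∧ QuadraticMap.polar Q u z ≠ 0 ∧
      QuadraticMap.polar Q w z ≠ 0 := by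
    by_cases h1 : QuadraticMap.polar Q w z₁ ≠ 0
    · exact ⟨z₁, hz₁P, hz₁, by rw [huz₁]; exact one_ne_zero, h1⟩
    push Not at h1
    obtain ⟨d, hd, hd0⟩ : ∃ d ∈ P, QuadraticMap.polar Q w d ≠ 0 := by
      by_contra hc
      push Not at hc
      exact hw0 (hP w hw hc)
    set d' := d - QuadraticMap.polar Q u d • z₁ with hd'
    have hud' : QuadraticMap.polar Q u d' = 0 := by simp [hd', huz₁]
    have hwd' : QuadraticMap.polar Q w d' ≠ 0 := by simpa [hd', h1] using hd0
    set z := z₁ + d' + (-Q (z₁ + d')) • u with hz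
    have hzu : QuadraticMap.polar Q u (z₁ + d') = 1 := by rw [QuadraticMap.polar_add_right, huz₁, hud', add_zero]
    refine ⟨z, P.add_mem (P.add_mem hz₁P (P.sub_mem hd (P.smul_mem _ hz₁P))) (P.smul_mem _ hu), ?_, ?_, ?_⟩
    · rw [hz, quad_add, quad_smul, hQu, QuadraticMap.polar_smul_right, QuadraticMap.polar_comm, hzu]
      simp
    · rw [hz, QuadraticMap.polar_add_right, hzu, QuadraticMap.polar_smul_right, quad_polar_self, hQu]
      simp
    · rw [hz, QuadraticMap.polar_add_right, QuadraticMap.polar_add_right, QuadraticMap.polar_smul_right,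
        QuadraticMap.polar_comm Q w u, huw, h1]
      simpa using hwd'
  obtain ⟨h₁, hm₁, he₁, hf₁⟩ := move u hu z hzP hQu hz huz
  obtain ⟨h₂, hm₂, he₂, hf₂⟩ := move z hzP w hw hz hQw (by rwa [QuadraticMap.polar_comm])
  refine ⟨h₂ * h₁, mul_mem hm₂ hm₁, ?_, fun x hx => ?_⟩
  · rw [qAut_mul_apply, he₁, he₂]
  · rw [qAut_mul_apply, hf₁ x hx, hf₂ x hx]

variable [FiniteDimensional F V]

/-- Orthogonal decomposition along a non-degenerate subspace. -/
theorem exists_decomp {P : Submodule F V} (hP : NdOn Q P) (x : V) :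
    ∃ a ∈ P, ∀ y ∈ P, QuadraticMap.polar Q (x - a) y = 0 := by
  have href : (QuadraticMap.polarBilin Q).IsRefl := fun a b h => (QuadraticMap.polar_comm Q b a).trans h
  have hnd : (LinearMap.BilinForm.restrict (QuadraticMap.polarBilin Q) P).Nondegenerate :=
    ⟨fun a ha => Subtype.ext (hP a a.2 fun y hy => ha ⟨y, hy⟩),
      fun a ha => Subtype.ext (hP a a.2 fun y hy => (QuadraticMap.polar_comm Q _ _).trans (ha ⟨y, hy⟩))⟩
  have hc := LinearMap.BilinForm.isCompl_orthogonal_of_restrict_nondegenerate href hnd
  obtain ⟨a, ha, b, hb, rfl⟩ := Submodule.mem_sup.1 (hc.sup_eq_top ▸ Submodule.mem_top :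
    x ∈ P ⊔ LinearMap.BilinForm.orthogonal (QuadraticMap.polarBilin Q) P)
  refine ⟨a, ha, fun y hy => ?_⟩
  rw [add_sub_cancel_left, QuadraticMap.polar_comm]
  exact LinearMap.BilinForm.mem_orthogonal_iff.1 hb y hy

/-- The Cartan–Dieudonné theorem. -/
theorem reflGroup_eq_top [Fintype F] (hQ : PolarNondeg Q)
    (hex : Fintype.card F ≠ 2 ∨ Module.finrank F V ≠ 4) : reflGroup Q = ⊤ := by
  classical
  suffices H : ∀ (k : ℕ) (P : Submodule F V), Module.finrank F P ≤ k → NdOn Q P → ∀ g : qAut Q,
      (∀ x, (∀ y ∈ P, QuadraticMap.polar Q x y = 0) → g.1 x = x) → g ∈ reflGroup Q by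
    refine eq_top_iff.2 fun g _ => H _ ⊤ le_rfl (fun x _ h => hQ x fun y => h y trivial) g fun x hx => ?_
    rw [hQ x fun y => hx y trivial, map_zero]
  intro k
  induction k with
  | zero =>
    intro P hk _ g hg
    have hbot : P = ⊥ := Submodule.finrank_eq_zero.1 (Nat.le_zero.1 hk)
    have : g = 1 := qAut_ext fun x => hg x fun y hy => by
      rw [(Submodule.mem_bot F).1 (hbot ▸ hy : y ∈ (⊥ : Submodule F V))]
      exact QuadraticMap.polar_zero_right _ x
    rw [this]
    exact one_mem _
  | succ k ih =>
    intro P hk hP g hg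
    have hgP : ∀ g : qAut Q, (∀ x, (∀ y ∈ P, QuadraticMap.polar Q x y = 0) → g.1 x = x) →
        ∀ v ∈ P, g.1 v ∈ P := by
      intro g hg v hv
      obtain ⟨a, ha, hperp⟩ := exists_decomp Q hP (g.1 v)
      suffices g.1 v - a = 0 by rw [sub_eq_zero.1 this]; exact ha
      refine hQ _ fun w => ?_
      obtain ⟨a', ha', hperp'⟩ := exists_decomp Q hP w
      rw [show w = a' + (w - a') by abel, QuadraticMap.polar_add_right, hperp a' ha', zero_add,
        QuadraticMap.polar_sub_left]
      rw [show QuadraticMap.polar Q a (w - a') = 0 by rw [QuadraticMap.polar_comm]; exact hperp' a ha, sub_zero]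
      conv_lhs => rw [← hg (w - a') hperp', qAut_polar, QuadraticMap.polar_comm]
      exact hperp' v hv
    by_cases hsing : ∃ u ∈ P, u ≠ 0 ∧ Q u = 0
    · obtain ⟨u, huP, hu0, hu⟩ := hsing
      obtain ⟨h₁, hm₁, he₁, hf₁⟩ := exists_move_singular Q hP (hgP g hg u huP) huP
        (fun h => hu0 (g.1.map_eq_zero_iff.1 h)) hu0 ((qAut_map g u).trans hu) hu
      set g₁ := h₁ * g with hg₁
      have hg₁fix : ∀ x, (∀ y ∈ P, QuadraticMap.polar Q x y = 0) → g₁.1 x = x := fun x hx => by
        rw [hg₁, qAut_mul_apply, hg x hx, hf₁ x hx]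
      have hg₁u : g₁.1 u = u := he₁
      obtain ⟨z, hzP, hz, huz⟩ := exists_partner Q hP huP hu0 hu
      set z' := g₁.1 z with hz'
      have hz'P : z' ∈ P := hgP g₁ hg₁fix z hzP
      have hQz' : Q z' = 0 := (qAut_map g₁ z).trans hz
      have huz' : QuadraticMap.polar Q u z' = 1 := by rw [hz', ← hg₁u, qAut_polar, huz]
      obtain ⟨h₂, hm₂, he₂, hu₂, hf₂⟩ : ∃ h ∈ reflGroup Q, h.1 z' = z ∧ h.1 u = u ∧
          ∀ x, (∀ y ∈ P, QuadraticMap.polar Q x y = 0) → h.1 x = x := by
        by_cases hne : Q (z' - z) ≠ 0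
        · exact ⟨qRefl Q hne, qRefl_mem Q hne, qRefl_exchange Q (hQz'.trans hz.symm) hne,
            qRefl_fix Q hne (by rw [QuadraticMap.polar_sub_right, huz', huz, sub_self]),
            fun x hx => qRefl_fix Q hne (hx _ (P.sub_mem hz'P hzP))⟩
        push Not at hne
        set d := z' - z with hd
        rcases eq_or_ne d 0 with hd0 | hd0
        · exact ⟨1, one_mem _, sub_eq_zero.1 hd0, rfl, fun _ _ => rfl⟩
        have hud : QuadraticMap.polar Q u d = 0 := by rw [hd, QuadraticMap.polar_sub_right, huz', huz, sub_self]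
        have hzd : QuadraticMap.polar Q z d = 0 := by
          have h := hne
          rw [hd, quad_sub, hQz', hz] at h
          rw [hd, QuadraticMap.polar_sub_right, quad_polar_self, hz, QuadraticMap.polar_comm]
          linear_combination -h
        have hamb : NdOn Q (⊤ : Submodule F V) := fun x _ h => hQ x fun y => h y trivial
        set P₀ := (⊤ : Submodule F V) ⊓ LinearMap.ker (QuadraticMap.polarBilin Q u) ⊓
          LinearMap.ker (QuadraticMap.polarBilin Q z) with hP₀
        have hP₀nd : NdOn Q P₀ := ndOn_pairPerp Q hamb trivial trivial hu hz huz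
        have hdP₀ : d ∈ P₀ := ⟨⟨trivial, hud⟩, hzd⟩
        obtain ⟨f, hfP, hf, hdf⟩ := exists_partner Q hP₀nd hdP₀ hd0 hne
        obtain ⟨⟨-, huf⟩, hzf⟩ := hfP
        simp only [SetLike.mem_coe, LinearMap.mem_ker, QuadraticMap.polarBilin_apply_apply] at huf hzf
        obtain ⟨w, huw, hzw, hw, hwd⟩ : ∃ w, QuadraticMap.polar Q u w = 0 ∧ QuadraticMap.polar Q z w = 0 ∧
            Q w ≠ 0 ∧ Q (w - d) ≠ 0 := by
          by_cases ha : ∃ a : F, a ≠ 0 ∧ a ≠ 1
          · obtain ⟨a, ha0, ha1⟩ := ha
            refine ⟨a • d + f, by simp [hud, huf], by simp [hzd, hzf], ?_, ?_⟩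
            · rw [quad_add, quad_smul, hne, hf, QuadraticMap.polar_smul_left, hdf]
              simpa using ha0
            · rw [show a • d + f - d = (a - 1) • d + f by module, quad_add, quad_smul, hne, hf,
                QuadraticMap.polar_smul_left, hdf]
              simpa [sub_eq_zero] using ha1
          · push Not at ha
            have hF2 : Fintype.card F = 2 := by
              have hu2 : (Finset.univ : Finset F) = {0, 1} := by
                ext x
                simp only [Finset.mem_univ, Finset.mem_insert, Finset.mem_singleton, true_iff]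
                tauto
              rw [← Finset.card_univ, hu2, Finset.card_pair zero_ne_one]
            set P₁ := P₀ ⊓ LinearMap.ker (QuadraticMap.polarBilin Q d) ⊓
              LinearMap.ker (QuadraticMap.polarBilin Q f) with hP₁
            have hP₁nd : NdOn Q P₁ := ndOn_pairPerp Q hP₀nd hdP₀ ⟨⟨trivial, huf⟩, hzf⟩ hne hf hdf
            have hne1 : P₁ ≠ ⊥ := by
              intro hbot
              have hle : (⊤ : Submodule F V) ≤ Submodule.span F (({u, z, d, f} : Finset V) : Set V) := by
                intro x _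
                obtain ⟨a1, a2⟩ := proj_pair Q hu hz huz x
                set y := x - QuadraticMap.polar Q x z • u - QuadraticMap.polar Q x u • z with hy
                obtain ⟨b1, b2⟩ := proj_pair Q hne hf hdf y
                set y' := y - QuadraticMap.polar Q y f • d - QuadraticMap.polar Q y d • f with hy'
                have hy'P : y' ∈ P₁ := by
                  refine ⟨⟨⟨⟨trivial, ?_⟩, ?_⟩, ?_⟩, ?_⟩
                  · refine LinearMap.mem_ker.2 ((QuadraticMap.polar_comm Q _ _).trans ?_)
                    simp [hy', QuadraticMap.polar_comm Q d u, QuadraticMap.polar_comm Q f u, hud, huf, a1]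
                  · refine LinearMap.mem_ker.2 ((QuadraticMap.polar_comm Q _ _).trans ?_)
                    simp [hy', QuadraticMap.polar_comm Q d z, QuadraticMap.polar_comm Q f z, hzd, hzf, a2]
                  · exact LinearMap.mem_ker.2 ((QuadraticMap.polar_comm Q _ _).trans b1)
                  · exact LinearMap.mem_ker.2 ((QuadraticMap.polar_comm Q _ _).trans b2)
                rw [hbot, Submodule.mem_bot] at hy'P
                have hxe : x = QuadraticMap.polar Q x z • u + QuadraticMap.polar Q x u • z +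
                    QuadraticMap.polar Q y f • d + QuadraticMap.polar Q y d • f := by
                  linear_combination (norm := module) hy'P + hy' - hy
                rw [hxe]
                refine Submodule.add_mem _ (Submodule.add_mem _ (Submodule.add_mem _ ?_ ?_) ?_) ?_ <;>
                  exact Submodule.smul_mem _ _ (Submodule.subset_span (by simp))
              have h1 := Submodule.finrank_mono hle
              rw [finrank_top] at h1
              have h2 : Set.finrank F (({u, z, d, f} : Finset V) : Set V) ≤ ({u, z, d, f} : Finset V).card :=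
                finrank_span_finset_le_card _
              have h3 := Finset.card_le_four (a := u) (b := z) (c := d) (d := f)
              rw [Set.finrank] at h2
              have h4 : 4 ≤ Module.finrank F V := by
                have hli : LinearIndependent F ![u, z, d, f] := by
                  rw [Fintype.linearIndependent_iff]
                  intro c hc
                  simp only [Fin.sum_univ_four, Matrix.cons_val_zero, Matrix.cons_val_one, Matrix.cons_val] at hc
                  have hc0 := congrArg (fun x => QuadraticMap.polar Q z x) hc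
                  have hc1 := congrArg (fun x => QuadraticMap.polar Q u x) hc
                  have hc2 := congrArg (fun x => QuadraticMap.polar Q f x) hc
                  have hc3 := congrArg (fun x => QuadraticMap.polar Q d x) hc
                  simp [quad_polar_self, hu, hz, hne, hf, huz, hud, huf, hzd, hzf, hdf,
                    QuadraticMap.polar_comm Q z u, QuadraticMap.polar_comm Q d u, QuadraticMap.polar_comm Q f u,
                    QuadraticMap.polar_comm Q d z, QuadraticMap.polar_comm Q f z,
                    QuadraticMap.polar_comm Q f d] at hc0 hc1 hc2 hc3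
                  intro i
                  fin_cases i <;> simp [hc0, hc1, hc2, hc3]
                simpa using hli.fintype_card_le_finrank
              rcases hex with h | h
              · exact h hF2
              · omega
            obtain ⟨w, ⟨⟨⟨⟨-, hwu⟩, hwz⟩, hwd⟩, -⟩, hw⟩ := exists_aniso_in Q hP₁nd hne1
            simp only [SetLike.mem_coe, LinearMap.mem_ker, QuadraticMap.polarBilin_apply_apply] at hwu hwz hwd
            refine ⟨w, hwu, hwz, hw, ?_⟩
            rw [quad_sub, hne, QuadraticMap.polar_comm, hwd]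
            simpa using hw
        obtain ⟨h, hm, he, hf'⟩ := exists_eichler Q hu huz hne hud hzd huw hzw hw hwd
        have huu : QuadraticMap.polar Q u u = 0 := by simp [quad_polar_self, hu]
        refine ⟨h⁻¹, inv_mem hm, ?_, ?_, fun x hx => ?_⟩
        · change h.1.symm z' = z
          rw [LinearEquiv.symm_apply_eq, he, hd, add_sub_cancel]
        · change h.1.symm u = u
          rw [LinearEquiv.symm_apply_eq, hf' u huu hud]
        · change h.1.symm x = x
          rw [LinearEquiv.symm_apply_eq, hf' x (hx u huP) (hx d (P.sub_mem hz'P hzP))]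
      set P' := P ⊓ LinearMap.ker (QuadraticMap.polarBilin Q u) ⊓ LinearMap.ker (QuadraticMap.polarBilin Q z)
        with hP'
      have hlt : Module.finrank F P' ≤ k := by
        have hlt' : P' < P := lt_of_le_of_ne (inf_le_left.trans inf_le_left) fun he => by
          have h : z ∈ P' := he ▸ hzP
          have h2 : QuadraticMap.polar Q u z = 0 := LinearMap.mem_ker.1 h.1.2
          rw [huz] at h2
          exact one_ne_zero h2
        have := Submodule.finrank_lt_finrank_of_lt hlt'
        omega
      have hg₂ : h₂ * g₁ ∈ reflGroup Q := by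
        refine ih P' hlt (ndOn_pairPerp Q hP huP hzP hu hz huz) _ fun x hx => ?_
        set y := x - QuadraticMap.polar Q x z • u - QuadraticMap.polar Q x u • z with hy
        obtain ⟨a1, a2⟩ := proj_pair Q hu hz huz x
        have hyperp : ∀ p ∈ P, QuadraticMap.polar Q y p = 0 := fun p hp => by
          obtain ⟨b1, b2⟩ := proj_pair Q hu hz huz p
          set p' := p - QuadraticMap.polar Q p z • u - QuadraticMap.polar Q p u • z with hp'
          have hp'mem : p' ∈ P' := ⟨⟨P.sub_mem (P.sub_mem hp (P.smul_mem _ huP)) (P.smul_mem _ hzP),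
            LinearMap.mem_ker.2 ((QuadraticMap.polar_comm Q _ _).trans b1)⟩,
            LinearMap.mem_ker.2 ((QuadraticMap.polar_comm Q _ _).trans b2)⟩
          rw [show p = p' + (QuadraticMap.polar Q p z • u + QuadraticMap.polar Q p u • z) by rw [hp']; abel]
          simp only [QuadraticMap.polar_add_right, QuadraticMap.polar_smul_right, hy, a1, a2, smul_zero, add_zero]
          simp only [QuadraticMap.polar_sub_left, QuadraticMap.polar_smul_left, hx p' hp'mem]
          rw [QuadraticMap.polar_comm Q u p', b1, QuadraticMap.polar_comm Q z p', b2]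
          simp
        have hxdec : x = y + QuadraticMap.polar Q x z • u + QuadraticMap.polar Q x u • z := by rw [hy]; abel
        have e1 : (h₂ * g₁).1 u = u := by rw [qAut_mul_apply, hg₁u, hu₂]
        have e2 : (h₂ * g₁).1 z = z := he₂
        have e3 : (h₂ * g₁).1 y = y := by rw [qAut_mul_apply, hg₁fix y hyperp, hf₂ y hyperp]
        conv_lhs => rw [hxdec]
        rw [map_add, map_add, map_smul, map_smul, e1, e2, e3, ← hxdec]
      have := mul_mem (mul_mem (inv_mem hm₁) (inv_mem hm₂)) hg₂
      rwa [show h₁⁻¹ * h₂⁻¹ * (h₂ * g₁) = g by rw [hg₁]; group] at this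
    · push Not at hsing
      suffices H : ∀ (j : ℕ) (g : qAut Q) (K : Submodule F V), K ≤ P → Module.finrank F P ≤ Module.finrank F K + j →
          (∀ x, (∀ y ∈ P, QuadraticMap.polar Q x y = 0) → g.1 x = x) → (∀ x ∈ K, g.1 x = x) → g ∈ reflGroup Q by
        exact H (k + 1) g ⊥ bot_le (by rw [finrank_bot]; omega) hg fun x hx => by
          rw [(Submodule.mem_bot F).1 hx, map_zero]
      intro j
      induction j with
      | zero =>
        intro g K hK hj hg hKfix
        have hKP : K = P := Submodule.eq_of_le_of_finrank_le hK (by omega)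
        have : g = 1 := qAut_ext fun x => by
          obtain ⟨a, ha, hperp⟩ := exists_decomp Q hP x
          have hxe : x = (x - a) + a := by abel
          change g.1 x = x
          conv_lhs => rw [hxe, map_add, hg _ hperp, hKfix a (hKP ▸ ha)]
          exact hxe.symm
        rw [this]
        exact one_mem _
      | succ j ihj =>
        intro g K hK hj hg hKfix
        by_cases hle : P ≤ K
        · exact ihj g K hK (by have := Submodule.finrank_mono hle; omega) hg hKfix
        obtain ⟨v, hvP, hvK⟩ := SetLike.not_le_iff_exists.1 hle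
        have hnew : ∀ h : qAut Q, (∀ x, (∀ y ∈ P, QuadraticMap.polar Q x y = 0) → h.1 x = x) →
            (∀ x ∈ K, h.1 x = x) → h.1 v = v → h ∈ reflGroup Q := by
          intro h hh hhK hhv
          refine ihj h (K ⊔ Submodule.span F {v}) (sup_le hK ((Submodule.span_singleton_le_iff_mem _ _).2 hvP))
            ?_ hh fun x hx => ?_
          · have hlt : K < K ⊔ Submodule.span F {v} := lt_of_le_of_ne le_sup_left fun he =>
              hvK (he ▸ Submodule.mem_sup_right (Submodule.mem_span_singleton_self v))
            have := Submodule.finrank_lt_finrank_of_lt hlt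
            omega
          · obtain ⟨a, ha, b, hb, rfl⟩ := Submodule.mem_sup.1 hx
            obtain ⟨t, rfl⟩ := Submodule.mem_span_singleton.1 hb
            rw [map_add, map_smul, hhK a ha, hhv]
        by_cases hgv : g.1 v = v
        · exact hnew g hg hKfix hgv
        have hmem : g.1 v - v ∈ P := P.sub_mem (hgP g hg v hvP) hvP
        have hne : Q (g.1 v - v) ≠ 0 := hsing _ hmem (sub_ne_zero.2 hgv)
        have h := hnew (qRefl Q hne * g)
          (fun x hx => by rw [qAut_mul_apply, hg x hx, qRefl_fix Q hne (hx _ hmem)])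
          (fun x hx => by
            rw [qAut_mul_apply, hKfix x hx]
            refine qRefl_fix Q hne ?_
            rw [QuadraticMap.polar_sub_right]
            conv_lhs => arg 1; rw [← hKfix x hx, qAut_polar]
            exact sub_self _)
          (by rw [qAut_mul_apply]; exact qRefl_exchange Q (qAut_map g v) hne)
        have := mul_mem (qRefl_mem Q hne) h
        rwa [← mul_assoc, qRefl_mul_self, one_mul] at this

section Parity

/-- The rank of `g - 1`. -/
noncomputable def qRank (g : qAut Q) : ℕ :=
  Module.finrank F (LinearMap.range (g.1.toLinearMap - LinearMap.id))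

theorem qRank_one : qRank Q (1 : qAut Q) = 0 := by
  unfold qRank
  rw [show (((1 : qAut Q).1).toLinearMap - LinearMap.id : V →ₗ[F] V) = 0 by ext; simp, LinearMap.range_zero,
    finrank_bot]

/-- Multiplying by a reflection changes the rank of `g - 1` by exactly one. -/
theorem qRank_refl_mul (hQ : PolarNondeg Q) {v : V} (hv : Q v ≠ 0) (g : qAut Q) :
    qRank Q (qRefl Q hv * g) = qRank Q g + 1 ∨ qRank Q (qRefl Q hv * g) + 1 = qRank Q g := by
  classical
  set L := g.1.toLinearMap - LinearMap.id with hL
  set M := ((qRefl Q hv * g).1).toLinearMap - LinearMap.id with hM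
  have hLx : ∀ x, L x = g.1 x - x := fun x => rfl
  have hMx : ∀ x, M x = L x - ((Q v)⁻¹ * QuadraticMap.polar Q (g.1 x) v) • v := fun x => by
    change (qRefl Q hv).1 (g.1 x) - x = g.1 x - x - _
    rw [qRefl_apply]
    abel
  have hv0 : v ≠ 0 := by rintro rfl; simp at hv
  have hrn1 := LinearMap.finrank_range_add_finrank_ker L
  have hrn2 := LinearMap.finrank_range_add_finrank_ker M
  unfold qRank
  rw [← hL, ← hM]
  by_cases hvW : v ∈ LinearMap.range L
  · obtain ⟨y, hy⟩ := hvW
    right
    have hgy : QuadraticMap.polar Q (g.1 y) v = Q v := by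
      rw [← hy, hLx, QuadraticMap.polar_sub_right, quad_polar_self, quad_sub, qAut_map]
      ring
    have hker : LinearMap.ker M = LinearMap.ker L ⊔ Submodule.span F {y} := by
      refine le_antisymm (fun x hx => ?_) (sup_le (fun x hx => ?_) ?_)
      · rw [LinearMap.mem_ker, hMx, sub_eq_zero] at hx
        set t := (Q v)⁻¹ * QuadraticMap.polar Q (g.1 x) v
        rw [show x = (x - t • y) + t • y by abel]
        refine Submodule.add_mem_sup ?_ (Submodule.smul_mem _ _ (Submodule.mem_span_singleton_self y))
        rw [LinearMap.mem_ker, map_sub, map_smul, hy, hx, sub_self]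
      · have hx' : g.1 x = x := sub_eq_zero.1 (LinearMap.mem_ker.1 hx)
        have e : QuadraticMap.polar Q x (g.1 y) = QuadraticMap.polar Q x y := by
          have h := qAut_polar g x y
          rwa [hx'] at h
        rw [LinearMap.mem_ker, hMx, LinearMap.mem_ker.1 hx, hx', ← hy, hLx,
          QuadraticMap.polar_sub_right, e, sub_self]
        simp
      · rw [Submodule.span_singleton_le_iff_mem, LinearMap.mem_ker, hMx, hgy, inv_mul_cancel₀ hv, one_smul, hy,
          sub_self]
    have hy0 : y ∉ LinearMap.ker L := fun h => hv0 (hy.symm.trans (LinearMap.mem_ker.1 h))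
    have hdis : LinearMap.ker L ⊓ Submodule.span F {y} = ⊥ :=
      (Submodule.disjoint_span_singleton.2 fun h => absurd h hy0).eq_bot
    have hd := Submodule.finrank_sup_add_finrank_inf_eq (LinearMap.ker L) (Submodule.span F {y})
    rw [← hker, hdis, finrank_bot, add_zero,
      finrank_span_singleton (show y ≠ 0 from fun h => hy0 (by rw [h]; exact Submodule.zero_mem _))] at hd
    omega
  · left
    have hker : LinearMap.ker M = LinearMap.ker L ⊓ LinearMap.ker ((QuadraticMap.polarBilin Q).flip v) := by
      ext x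
      rw [Submodule.mem_inf, LinearMap.mem_ker, LinearMap.mem_ker, LinearMap.mem_ker, hMx, sub_eq_zero]
      constructor
      · intro h
        have ht : (Q v)⁻¹ * QuadraticMap.polar Q (g.1 x) v = 0 := by
          by_contra ht
          refine hvW ⟨((Q v)⁻¹ * QuadraticMap.polar Q (g.1 x) v)⁻¹ • x, ?_⟩
          rw [map_smul, h, smul_smul, inv_mul_cancel₀ ht, one_smul]
        rw [ht, zero_smul] at h
        have hx : g.1 x = x := sub_eq_zero.1 h
        refine ⟨h, ?_⟩
        simpa [hx, hv] using ht
      · rintro ⟨h1, h2⟩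
        have hx : g.1 x = x := sub_eq_zero.1 h1
        simp only [LinearMap.flip_apply, QuadraticMap.polarBilin_apply_apply] at h2
        rw [h1, hx, h2, mul_zero, zero_smul]
    obtain ⟨k, hk, hkv⟩ : ∃ k ∈ LinearMap.ker L, QuadraticMap.polar Q k v ≠ 0 := by
      by_contra hc
      push Not at hc
      refine hvW ?_
      let B : LinearMap.BilinForm F V := QuadraticMap.polarBilin Q
      have hB : B.Nondegenerate := PolarNondeg.nondegenerate hQ
      have href : B.IsRefl := fun a b h => (QuadraticMap.polar_comm Q b a).trans h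
      have hsub : LinearMap.range L ≤ B.orthogonal (LinearMap.ker L) := by
        rintro _ ⟨x, rfl⟩ k hk
        change QuadraticMap.polar Q k (L x) = 0
        have hk' : g.1 k = k := sub_eq_zero.1 (LinearMap.mem_ker.1 hk)
        have e := qAut_polar g k x
        rw [hk'] at e
        rw [hLx, QuadraticMap.polar_sub_right, e, sub_self]
      have heq : LinearMap.range L = B.orthogonal (LinearMap.ker L) := by
        refine Submodule.eq_of_le_of_finrank_le hsub ?_
        rw [LinearMap.BilinForm.finrank_orthogonal hB]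
        omega
      rw [heq]
      exact fun k hk => hc k hk
    have hlt : LinearMap.ker M < LinearMap.ker L := by
      rw [hker]
      refine lt_of_le_of_ne inf_le_left fun he => hkv ?_
      have h : k ∈ LinearMap.ker L ⊓ LinearMap.ker ((QuadraticMap.polarBilin Q).flip v) := he.symm ▸ hk
      exact LinearMap.mem_ker.1 h.2
    have h1 := Submodule.finrank_lt_finrank_of_lt hlt
    have h2 := Submodule.finrank_sup_add_finrank_inf_eq (LinearMap.ker L)
      (LinearMap.ker ((QuadraticMap.polarBilin Q).flip v))
    rw [← hker] at h2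
    have h3 := LinearMap.finrank_range_add_finrank_ker ((QuadraticMap.polarBilin Q).flip v)
    have h4 : Module.finrank F (LinearMap.range ((QuadraticMap.polarBilin Q).flip v)) ≤ 1 := by
      simpa using Submodule.finrank_le (LinearMap.range ((QuadraticMap.polarBilin Q).flip v))
    have h5 := Submodule.finrank_le (LinearMap.ker L ⊔ LinearMap.ker ((QuadraticMap.polarBilin Q).flip v))
    omega

/-- The parity of `rank (g - 1)` as a homomorphism. -/
theorem exists_parity_hom [Fintype F] (hQ : PolarNondeg Q) (hgen : reflGroup Q = ⊤) :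
    ∃ D : qAut Q →* Multiplicative (ZMod 2),
      (∀ g, D g = Multiplicative.ofAdd (qRank Q g : ZMod 2)) ∧
        ∀ (v : V) (hv : Q v ≠ 0), D (qRefl Q hv) = Multiplicative.ofAdd 1 := by
  have hstep : ∀ (v : V) (hv : Q v ≠ 0) (g : qAut Q),
      (qRank Q (qRefl Q hv * g) : ZMod 2) = qRank Q g + 1 := fun v hv g => by
    rcases qRank_refl_mul Q hQ hv g with h | h
    · rw [h, Nat.cast_add, Nat.cast_one]
    · rw [← h, Nat.cast_add, Nat.cast_one, add_assoc, show (1 : ZMod 2) + 1 = 0 by decide, add_zero]
  have hadd : ∀ g h : qAut Q, (qRank Q (g * h) : ZMod 2) = qRank Q g + qRank Q h := by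
    intro g
    refine Subgroup.closure_induction_left (p := fun g _ => ∀ h : qAut Q,
      (qRank Q (g * h) : ZMod 2) = qRank Q g + qRank Q h) ?_ ?_ ?_ (hgen ▸ Subgroup.mem_top g : g ∈ reflGroup Q)
    · intro h
      rw [one_mul, qRank_one, Nat.cast_zero, zero_add]
    · rintro _ ⟨v, hv, rfl⟩ y _ hy h
      rw [mul_assoc, hstep, hstep, hy]
      ring
    · rintro _ ⟨v, hv, rfl⟩ y _ hy h
      rw [qRefl_inv, mul_assoc, hstep, hstep, hy]
      ring
  refine ⟨MonoidHom.mk' (fun g => Multiplicative.ofAdd (qRank Q g : ZMod 2))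
    fun g h => by rw [hadd, ofAdd_add], fun g => rfl, fun v hv => ?_⟩
  have := hstep v hv 1
  rw [mul_one, qRank_one, Nat.cast_zero, zero_add] at this
  exact congrArg Multiplicative.ofAdd this

end Parity

end CfsgLib.Classical
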