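/-
Classification of non-degenerate symmetric bilinear forms over finite fields of odd characteristic.
-/
import Cfsg.Agent.Lib.Classical.FiniteFieldSq

set_option autoImplicit false

namespace CfsgLib.Classical

open Matrix

variable {F V V' : Type*} [Field F] [AddCommGroup V] [Module F V] [AddCommGroup V'] [Module F V']

/-- The Gram determinants in two bases differ by a non-zero square. -/
theorem isSquare_det_gram {ι ι' : Type*} [Fintype ι] [DecidableEq ι] [Fintype ι'] [DecidableEq ι']
    (B : LinearMap.BilinForm F V) (b : Module.Basis ι F V) (b' : Module.Basis ι' F V) (c : F) :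
    IsSquare (c * (Matrix.of fun i j => B (b i) (b j)).det) ↔
      IsSquare (c * (Matrix.of fun i j => B (b' i) (b' j)).det) := by
  let e : ι ≃ ι' := b.indexEquiv b'
  let b₂ := b.reindex e
  have h1 : (Matrix.of fun i j => B (b i) (b j)).det = (LinearMap.BilinForm.toMatrix b₂ B).det := by
    rw [← Matrix.det_submatrix_equiv_self e (LinearMap.BilinForm.toMatrix b₂ B)]
    congr 1
    ext i j
    simp [b₂, LinearMap.BilinForm.toMatrix_apply]
  have h2 : (Matrix.of fun i j => B (b' i) (b' j)) = LinearMap.BilinForm.toMatrix b' B := by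
    ext i j
    simp [LinearMap.BilinForm.toMatrix_apply]
  have h3 := congrArg Matrix.det (LinearMap.BilinForm.toMatrix_mul_basis_toMatrix b₂ b' B)
  rw [Matrix.det_mul, Matrix.det_mul, Matrix.det_transpose] at h3
  set d := (b₂.toMatrix b').det
  have hd : d ≠ 0 := by
    have := congrArg Matrix.det (b₂.toMatrix_mul_toMatrix_flip b')
    rw [Matrix.det_mul, Matrix.det_one] at this
    exact left_ne_zero_of_mul_eq_one this
  rw [h1, h2, ← h3]
  constructor
  · intro h
    rw [show c * (d * (LinearMap.BilinForm.toMatrix b₂ B).det * d) =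
      (c * (LinearMap.BilinForm.toMatrix b₂ B).det) * (d * d) by ring]
    exact h.mul ⟨d, rfl⟩
  · intro h
    have h' := h.mul (show IsSquare (d⁻¹ * d⁻¹) from ⟨d⁻¹, rfl⟩)
    rwa [show c * (d * (LinearMap.BilinForm.toMatrix b₂ B).det * d) * (d⁻¹ * d⁻¹) =
      c * (LinearMap.BilinForm.toMatrix b₂ B).det by field_simp] at h'

theorem det_gram_ne_zero {ι : Type*} [Fintype ι] [DecidableEq ι] {B : LinearMap.BilinForm F V}
    (hB : B.Nondegenerate) (b : Module.Basis ι F V) :
    (Matrix.of fun i j => B (b i) (b j)).det ≠ 0 := by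
  have : (Matrix.of fun i j => B (b i) (b j)) = LinearMap.BilinForm.toMatrix b B := by
    ext i j
    simp [LinearMap.BilinForm.toMatrix_apply]
  rw [this]
  exact (LinearMap.BilinForm.nondegenerate_iff_det_ne_zero b).1 hB

/-- Orthogonal families with value one and a one-dimensional remainder. -/
theorem exists_normal_family [Finite F] [FiniteDimensional F V] (h2 : (2 : F) ≠ 0)
    (B : LinearMap.BilinForm F V) (hS : ∀ u v, B u v = B v u) (hB : ∀ v, (∀ w, B v w = 0) → v = 0) :
    ∀ k, k < Module.finrank F V → ∃ a : Fin k → V, ∀ i j, B (a i) (a j) = if i = j then 1 else 0 := by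
  classical
  intro k
  induction k with
  | zero => exact fun _ => ⟨![], fun i => i.elim0⟩
  | succ k ih =>
    intro hk
    obtain ⟨a, ha⟩ := ih (by omega)
    let p : V → V := fun x => x - ∑ i, B (a i) x • a i
    have hp : ∀ i x, B (a i) (p x) = 0 := fun i x => by simp [p, map_sum, map_smul, ha]
    let P : Submodule F V := ⨅ i, LinearMap.ker (B (a i))
    have hP : ∀ x, x ∈ P ↔ ∀ i, B (a i) x = 0 := fun x => by simp [P]
    have hpP : ∀ x, p x ∈ P := fun x => (hP _).2 fun i => hp i x
    have hdim : 2 ≤ Module.finrank F P := by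
      let f : P × (Fin k → F) →ₗ[F] V :=
        (P.subtype).coprod (Fintype.linearCombination F a)
      have hsurj : Function.Surjective f := fun x => ⟨(⟨p x, hpP x⟩, fun i => B (a i) x), by
        simp [f, p, Fintype.linearCombination_apply]⟩
      have := LinearMap.finrank_range_le f
      rw [LinearMap.range_eq_top.2 hsurj, finrank_top, Module.finrank_prod, Module.finrank_fin_fun] at this
      omega
    have hPnd : ∀ u ∈ P, (∀ w ∈ P, B u w = 0) → u = 0 := by
      intro u hu h
      refine hB u fun w => ?_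
      have hw : w = p w + ∑ i, B (a i) w • a i := by simp [p]
      rw [hw, map_add, h _ (hpP w), zero_add, map_sum]
      exact Finset.sum_eq_zero fun i _ => by rw [map_smul, hS u, (hP u).1 hu i, smul_zero]
    have haniso : ∀ U : Submodule F V,
        (∃ u ∈ U, ∃ w ∈ U, B u w ≠ 0) → ∃ u ∈ U, B u u ≠ 0 := by
      rintro U ⟨u, hu, w, hw, huw⟩
      by_contra hc
      push Not at hc
      have h := hc (u + w) (U.add_mem hu hw)
      simp only [map_add, LinearMap.add_apply, hc u hu, hc w hw, hS w u, zero_add, add_zero] at h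
      exact huw ((mul_eq_zero.1 (show (2 : F) * B u w = 0 by linear_combination h)).resolve_left h2)
    obtain ⟨u, hu, huu⟩ : ∃ u ∈ P, B u u ≠ 0 := by
      refine haniso P ?_
      obtain ⟨x, hx, hx0⟩ : ∃ x ∈ P, x ≠ 0 := Submodule.exists_mem_ne_zero_of_ne_bot fun h => by
        rw [h, finrank_bot] at hdim
        omega
      by_contra hc
      push Not at hc
      exact hx0 (hPnd x hx fun w hw => hc x hx w hw)
    let P₂ : Submodule F V := P ⊓ LinearMap.ker (B u)
    obtain ⟨v, hv, hvv⟩ : ∃ v ∈ P₂, B v v ≠ 0 := by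
      refine haniso P₂ ?_
      obtain ⟨x, hx, hxu⟩ : ∃ x ∈ P, x ∉ Submodule.span F {u} := by
        by_contra hc
        push Not at hc
        have := Submodule.finrank_mono (show P ≤ Submodule.span F {u} from fun x hx => hc x hx)
        rw [finrank_span_singleton (fun h => huu (by simp [h]))] at this
        omega
      set y := x - (B u x / B u u) • u with hy
      have hyu : B u y = 0 := by simp [hy, div_mul_cancel₀ _ huu]
      have hyP : y ∈ P := P.sub_mem hx (P.smul_mem _ hu)
      have hy0 : y ≠ 0 := fun h => hxu (by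
        have h' : x = (B u x / B u u) • u := sub_eq_zero.1 h
        rw [h']
        exact Submodule.smul_mem _ _ (Submodule.mem_span_singleton_self u))
      by_contra hc
      push Not at hc
      refine hy0 (hPnd y hyP fun w hw => ?_)
      have hw' : w - (B u w / B u u) • u ∈ P₂ :=
        ⟨P.sub_mem hw (P.smul_mem _ hu), by simp [div_mul_cancel₀ _ huu]⟩
      have h := hc y ⟨hyP, hyu⟩ _ hw'
      rwa [map_sub, map_smul, hS y u, hyu, smul_zero, sub_zero] at h
    obtain ⟨hvP, hvu⟩ := hv
    rw [SetLike.mem_coe, LinearMap.mem_ker] at hvu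
    obtain ⟨s, t, hst⟩ := exists_mul_sq_add_mul_sq h2 huu hvv 1
    set w := s • u + t • v with hw
    have hww : B w w = 1 := by
      simp only [hw, map_add, map_smul, LinearMap.add_apply, LinearMap.smul_apply, smul_eq_mul, hS v u, hvu]
      linear_combination hst
    have hwa : ∀ i, B (a i) w = 0 := (hP w).1 (P.add_mem (P.smul_mem _ hu) (P.smul_mem _ hvP))
    refine ⟨Fin.snoc a w, fun i j => ?_⟩
    induction i using Fin.lastCases <;> induction j using Fin.lastCases <;>
      simp [ha, hww, hwa, hS w, Fin.castSucc_ne_last, (Fin.castSucc_ne_last _).symm]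

/-- A diagonal basis `1, …, 1, c`. -/
theorem exists_normal_basis [Finite F] [FiniteDimensional F V] (h2 : (2 : F) ≠ 0)
    (B : LinearMap.BilinForm F V) (hS : ∀ u v, B u v = B v u) (hB : ∀ v, (∀ w, B v w = 0) → v = 0)
    {n : ℕ} (hn : Module.finrank F V = n + 1) :
    ∃ (b : Module.Basis (Fin (n + 1)) F V) (c : F), c ≠ 0 ∧
      ∀ i j, B (b i) (b j) = if i = j then (if i = Fin.last n then c else 1) else 0 := by
  classical
  obtain ⟨a, ha⟩ := exists_normal_family h2 B hS hB n (by omega)
  let p : V → V := fun x => x - ∑ i, B (a i) x • a i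
  have hp : ∀ i x, B (a i) (p x) = 0 := fun i x => by simp [p, map_sum, map_smul, ha]
  obtain ⟨x, hx⟩ : ∃ x, p x ≠ 0 := by
    by_contra hc
    push Not at hc
    have hle : (⊤ : Submodule F V) ≤ Submodule.span F (Set.range a) := fun x _ => by
      rw [sub_eq_zero.1 (hc x)]
      exact Submodule.sum_mem _ fun i _ => Submodule.smul_mem _ _ (Submodule.subset_span ⟨i, rfl⟩)
    have h1 := Submodule.finrank_mono hle
    have h3 := finrank_range_le_card (R := F) a
    rw [Fintype.card_fin, Set.finrank] at h3
    rw [finrank_top] at h1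
    omega
  set c := B (p x) (p x)
  let f : Fin (n + 1) → V := Fin.snoc a (p x)
  have hf : ∀ i j, B (f i) (f j) = if i = j then (if i = Fin.last n then c else 1) else 0 := by
    intro i j
    induction i using Fin.lastCases <;> induction j using Fin.lastCases <;>
      simp [f, ha, hp, hS (p x), c, Fin.castSucc_ne_last, (Fin.castSucc_ne_last _).symm]
  have hli : LinearIndependent F f := by
    rw [linearIndependent_finSnoc]
    refine ⟨?_, fun hmem => hx ?_⟩
    · rw [Fintype.linearIndependent_iff]
      intro g hg i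
      have h := congrArg (B (a i)) hg
      simpa [map_sum, map_smul, ha] using h
    · obtain ⟨g, hg⟩ := Submodule.mem_span_range_iff_exists_fun F |>.1 hmem
      have hg0 : g = 0 := funext fun i => by
        have h := congrArg (B (a i)) hg
        simpa [map_sum, map_smul, ha, hp] using h
      rw [← hg, hg0]
      simp
  let b := basisOfLinearIndependentOfCardEqFinrank hli (by simp [hn])
  have hb : ∀ i, b i = f i := fun i => by simp [b]
  refine ⟨b, c, fun hc0 => hx (hB _ fun w => ?_), fun i j => by rw [hb, hb, hf]⟩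
  rw [← b.sum_repr w, map_sum]
  refine Finset.sum_eq_zero fun i _ => ?_
  rw [map_smul, hb]
  have h := hf (Fin.last n) i
  simp only [f, Fin.snoc_last] at h
  rw [h, hc0]
  simp

theorem det_normal {n : ℕ} (c : F) :
    (Matrix.of fun i j : Fin (n + 1) => if i = j then (if i = Fin.last n then c else 1) else 0).det = c := by
  classical
  rw [show (Matrix.of fun i j : Fin (n + 1) => if i = j then (if i = Fin.last n then c else 1) else 0) =
    Matrix.diagonal (fun i => if i = Fin.last n then c else 1) from
      Matrix.ext fun i j => by simp [Matrix.diagonal_apply], Matrix.det_diagonal]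
  simp [Finset.prod_ite_eq']

/-- Non-degenerate symmetric forms of equal dimension and discriminant are isometric. -/
theorem exists_isometry_of_disc [Finite F] [FiniteDimensional F V] [FiniteDimensional F V'] (h2 : (2 : F) ≠ 0)
    (B : LinearMap.BilinForm F V) (B' : LinearMap.BilinForm F V') (hS : ∀ u v, B u v = B v u)
    (hS' : ∀ u v, B' u v = B' v u) (hB : B.Nondegenerate) (hB' : B'.Nondegenerate)
    {ι ι' : Type*} [Fintype ι] [DecidableEq ι] [Fintype ι'] [DecidableEq ι']
    (b : Module.Basis ι F V) (b' : Module.Basis ι' F V') (hdim : Module.finrank F V = Module.finrank F V')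
    (hdisc : IsSquare ((Matrix.of fun i j => B (b i) (b j)).det * (Matrix.of fun i j => B' (b' i) (b' j)).det)) :
    ∃ e : V ≃ₗ[F] V', ∀ u v, B' (e u) (e v) = B u v := by
  classical
  rcases Nat.eq_zero_or_pos (Module.finrank F V) with h0 | h0
  · refine ⟨LinearEquiv.ofFinrankEq V V' hdim, fun u v => ?_⟩
    have : ∀ x : V, x = 0 := finrank_zero_iff_forall_zero.1 h0
    rw [this u]
    simp
  obtain ⟨n, hn⟩ : ∃ n, Module.finrank F V = n + 1 := ⟨_, (Nat.sub_add_cancel h0).symm⟩
  obtain ⟨a, c, hc, ha⟩ := exists_normal_basis h2 B hS hB.1 hn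
  obtain ⟨a', c', hc', ha'⟩ := exists_normal_basis h2 B' hS' hB'.1 (hdim ▸ hn)
  have hsq : IsSquare (c' * c) := by
    have h1 := (isSquare_det_gram B' b' a' (Matrix.of fun i j => B (b i) (b j)).det).1 hdisc
    rw [show (Matrix.of fun i j => B' (a' i) (a' j)) = _ from
      congrArg Matrix.of (funext fun i => funext fun j => ha' i j), det_normal, mul_comm] at h1
    have h3 := (isSquare_det_gram B b a c').1 h1
    rwa [show (Matrix.of fun i j => B (a i) (a j)) = _ from
      congrArg Matrix.of (funext fun i => funext fun j => ha i j), det_normal] at h3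
  obtain ⟨s, hs⟩ := hsq
  have hs0 : s ≠ 0 := fun h => mul_ne_zero hc' hc (by rw [hs, h, mul_zero])
  let t : Fin (n + 1) → F := fun i => if i = Fin.last n then c / s else 1
  have ht : ∀ i, t i ≠ 0 := fun i => by simp only [t]; split_ifs <;> simp [hc, hs0]
  let a₂ := a'.unitsSMul fun i => Units.mk0 (t i) (ht i)
  refine ⟨a.equiv a₂ (Equiv.refl _), fun u v => ?_⟩
  have key : B'.compl₁₂ (a.equiv a₂ (Equiv.refl _)).toLinearMap (a.equiv a₂ (Equiv.refl _)).toLinearMap = B := by
    refine a.ext fun i => a.ext fun j => ?_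
    simp [a₂, Module.Basis.unitsSMul_apply, ha, ha', t]
    rcases eq_or_ne i j with rfl | hij
    · split_ifs <;> simp_all
      field_simp
      linear_combination hs
    · split_ifs <;> simp [hij, ha']
  exact LinearMap.congr_fun₂ key u v

theorem det_hyperbolic {m : Type*} [Fintype m] [DecidableEq m] :
    (Matrix.fromBlocks (0 : Matrix m m F) (1 : Matrix m m F) (1 : Matrix m m F) (0 : Matrix m m F)).det = (-1) ^ Fintype.card m := by
  have e : Matrix.fromBlocks (0 : Matrix m m F) (1 : Matrix m m F) (1 : Matrix m m F) (0 : Matrix m m F) =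
      Matrix.fromBlocks 1 1 0 1 *
      (Matrix.fromBlocks 1 0 (-1) 1 * (Matrix.fromBlocks 1 1 0 1 * Matrix.fromBlocks (-1) 0 0 1)) := by
    simp [Matrix.fromBlocks_multiply]
  rw [e, Matrix.det_mul, Matrix.det_mul, Matrix.det_mul, Matrix.det_fromBlocks_zero₂₁,
    Matrix.det_fromBlocks_zero₁₂, Matrix.det_fromBlocks_zero₂₁]
  simp [Matrix.det_neg]

/-- A form of dimension `2m` has a totally isotropic `m`-subspace iff `(-1)^m det` is a square. -/
theorem exists_lagrangian_iff [Finite F] [FiniteDimensional F V] (h2 : (2 : F) ≠ 0)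
    (B : LinearMap.BilinForm F V) (hS : ∀ u v, B u v = B v u) (hB : B.Nondegenerate) {m : ℕ}
    (hV : Module.finrank F V = 2 * m) {ι : Type*} [Fintype ι] [DecidableEq ι] (b : Module.Basis ι F V) :
    (∃ X : Submodule F V, Module.finrank F X = m ∧ ∀ x ∈ X, ∀ y ∈ X, B x y = 0) ↔
      IsSquare ((-1) ^ m * (Matrix.of fun i j => B (b i) (b j)).det) := by
  classical
  constructor
  · rintro ⟨X, hX, hiso⟩
    obtain ⟨U, hU⟩ := X.exists_isCompl
    have hUd : Module.finrank F U = m := by
      have := Submodule.finrank_add_eq_of_isCompl hU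
      omega
    let bX := Module.finBasisOfFinrankEq F X hX
    let bU := Module.finBasisOfFinrankEq F U hUd
    let a := (bX.prod bU).map (Submodule.prodEquivOfIsCompl X U hU)
    rw [isSquare_det_gram B b a]
    set A : Matrix (Fin m) (Fin m) F := Matrix.of fun i j => B (bX i : V) (bU j : V)
    set D : Matrix (Fin m) (Fin m) F := Matrix.of fun i j => B (bU i : V) (bU j : V)
    have hgram : (Matrix.of fun i j => B (a i) (a j)) = Matrix.fromBlocks 0 A Aᵀ D := by
      ext (i | i) (j | j) <;> simp [a, A, D, hiso _ (bX _).2 _ (bX _).2, hS (bU i : V) (bX _ : V)]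
    rw [hgram]
    have h := congrArg Matrix.det (show Matrix.fromBlocks 0 A Aᵀ D * Matrix.fromBlocks 0 1 1 0 =
      Matrix.fromBlocks A 0 D Aᵀ by simp [Matrix.fromBlocks_multiply])
    rw [Matrix.det_mul, det_hyperbolic, Fintype.card_fin, Matrix.det_fromBlocks_zero₁₂,
      Matrix.det_transpose] at h
    exact ⟨A.det, by rw [mul_comm, h]⟩
  · intro h
    let H : Matrix (Fin m ⊕ Fin m) (Fin m ⊕ Fin m) F := Matrix.fromBlocks 0 1 1 0
    let e₀ := Pi.basisFun F (Fin m ⊕ Fin m)
    set B₀ := Matrix.toBilin e₀ H with hB₀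
    have hgram : (Matrix.of fun i j => B₀ (e₀ i) (e₀ j)) = H := by
      ext i j
      have := congrFun₂ (LinearMap.BilinForm.toMatrix_toBilin (b := e₀) H) i j
      rw [LinearMap.BilinForm.toMatrix_apply] at this
      exact this
    have hnd : B₀.Nondegenerate := (LinearMap.BilinForm.nondegenerate_iff_det_ne_zero e₀).2 (by
      rw [hB₀, LinearMap.BilinForm.toMatrix_toBilin, det_hyperbolic]
      exact pow_ne_zero _ (neg_ne_zero.2 one_ne_zero))
    have hS₀ : ∀ u v, B₀ u v = B₀ v u := fun u v =>
      ((Matrix.isSymm_toBilin_iff_isSymm e₀).2 (by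
        simp [H, Matrix.IsSymm, Matrix.fromBlocks_transpose])).eq u v
    obtain ⟨e, he⟩ := exists_isometry_of_disc h2 B₀ B hS₀ hS hnd hB e₀ b
      (by simp [hV]; omega) (by rw [hgram, det_hyperbolic, Fintype.card_fin]; exact h)
    let ψ : (Fin m → F) →ₗ[F] V := e.toLinearMap.comp
      ({ toFun := fun x => Sum.elim x 0
         map_add' := fun x y => by funext i; cases i <;> simp
         map_smul' := fun a x => by funext i; cases i <;> simp } : (Fin m → F) →ₗ[F] (Fin m ⊕ Fin m → F))
    refine ⟨LinearMap.range ψ, ?_, ?_⟩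
    · rw [LinearMap.finrank_range_of_inj (show Function.Injective ψ from
          fun x y h => funext fun i => congrFun (e.injective h) (Sum.inl i)),
        Module.finrank_fin_fun]
    · rintro _ ⟨x, rfl⟩ _ ⟨y, rfl⟩
      change B (e _) (e _) = 0
      rw [he, hB₀, Matrix.toBilin_apply]
      simp [e₀, H, Fintype.sum_sum_type]

/-- The product of two non-squares is a square. -/
theorem isSquare_mul_of_not_isSquare [Finite F] (h2 : (2 : F) ≠ 0) {a b : F} (ha : ¬ IsSquare a)
    (hb : ¬ IsSquare b) : IsSquare (a * b) := by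
  classical
  letI := Fintype.ofFinite F
  have hc : ringChar F ≠ 2 := fun h => h2 (by
    haveI : CharP F 2 := h ▸ ringChar.charP F
    exact CharTwo.two_eq_zero)
  have hab : a * b ≠ 0 := mul_ne_zero (fun h => ha (h ▸ IsSquare.zero)) (fun h => hb (h ▸ IsSquare.zero))
  rw [← quadraticChar_one_iff_isSquare hab, map_mul, (quadraticChar_neg_one_iff_not_isSquare).2 ha,
    (quadraticChar_neg_one_iff_not_isSquare).2 hb]
  norm_num

/-- Non-degenerate totally isotropic criterion transported to tensor products. -/
theorem gram_tmul {U W : Type*} [AddCommGroup U] [Module F U] [AddCommGroup W] [Module F W]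
    {ι κ : Type*} [Fintype ι] [DecidableEq ι] [Fintype κ] [DecidableEq κ]
    (B₁ : LinearMap.BilinForm F U) (B₂ : LinearMap.BilinForm F W) (b : Module.Basis ι F U) (c : Module.Basis κ F W) :
    (Matrix.of fun p r => (B₁.tmul B₂) (b.tensorProduct c p) (b.tensorProduct c r)).det =
      (Matrix.of fun i j => B₁ (b i) (b j)).det ^ Fintype.card κ *
        (Matrix.of fun i j => B₂ (c i) (c j)).det ^ Fintype.card ι := by
  rw [← Matrix.det_kronecker]
  congr 1
  ext ⟨i, i'⟩ ⟨j, j'⟩
  simp [Module.Basis.tensorProduct_apply', mul_comm]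

end CfsgLib.Classical
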