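/-
The abelianisation of the automorphism group of a quadratic space over a finite field.
-/
import Cfsg.Agent.Lib.Classical.QuadReflect
import Cfsg.Agent.Lib.Classical.SymBilin

set_option autoImplicit false

namespace CfsgLib.Classical

variable {F V : Type*} [Field F] [Fintype F] [AddCommGroup V] [Module F V] [FiniteDimensional F V]
  (Q : QuadraticForm F V)

omit [Fintype F] [FiniteDimensional F V] in
theorem polar_line (h2 : (2 : F) ≠ 0) {v : V} (hv : Q v ≠ 0) : QuadraticMap.polar Q v v ≠ 0 := by
  rw [quad_polar_self]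
  exact mul_ne_zero h2 hv

omit [Fintype F] [FiniteDimensional F V] in
theorem ndOn_linePerp (h2 : (2 : F) ≠ 0) {P : Submodule F V} (hP : NdOn Q P) {v : V} (hvP : v ∈ P)
    (hv : Q v ≠ 0) : NdOn Q (P ⊓ LinearMap.ker (QuadraticMap.polarBilin Q v)) := by
  rintro x ⟨hxP, hxv⟩ hall
  refine hP x hxP fun y hy => ?_
  have hxv' : QuadraticMap.polar Q x v = 0 := (QuadraticMap.polar_comm Q x v).trans hxv
  set t := QuadraticMap.polar Q v y / QuadraticMap.polar Q v v with ht
  have hmem : y - t • v ∈ P ⊓ LinearMap.ker (QuadraticMap.polarBilin Q v) :=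
    ⟨P.sub_mem hy (P.smul_mem _ hvP), LinearMap.mem_ker.2 (by
      simp [ht, div_mul_cancel₀ _ (mul_ne_zero h2 hv)])⟩
  have h := hall _ hmem
  rw [QuadraticMap.polar_sub_right, QuadraticMap.polar_smul_right, hxv', smul_zero, sub_zero] at h
  exact h

omit [Fintype F] in
theorem finrank_linePerp (h2 : (2 : F) ≠ 0) {v : V} (hv : Q v ≠ 0) :
    Module.finrank F (LinearMap.ker (QuadraticMap.polarBilin Q v)) + 1 = Module.finrank F V := by
  have h := LinearMap.finrank_range_add_finrank_ker (QuadraticMap.polarBilin Q v)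
  have hr : LinearMap.range (QuadraticMap.polarBilin Q v) = ⊤ := LinearMap.range_eq_top.2 fun a =>
    ⟨(a / QuadraticMap.polar Q v v) • v, by simp [div_mul_cancel₀ _ (mul_ne_zero h2 hv)]⟩
  rw [hr, finrank_top, Module.finrank_self] at h
  omega

/-- Non-degenerate spaces of dimension at least two represent every value. -/
theorem exists_value (hQ : PolarNondeg Q) (hn : 2 ≤ Module.finrank F V) {c : F} (hc : c ≠ 0) :
    ∃ v, Q v = c := by
  classical
  have hamb : NdOn Q (⊤ : Submodule F V) := fun x _ h => hQ x fun y => h y trivial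
  obtain ⟨v, -, hv⟩ := exists_aniso_in Q hamb (by
    intro h
    have := congrArg (fun P : Submodule F V => Module.finrank F P) h
    simp only [finrank_top, finrank_bot] at this
    omega)
  by_cases h2 : (2 : F) = 0
  · have hc2 : ringChar F = 2 := by
      have : CharP F 2 := CharTwo.of_one_ne_zero_of_two_eq_zero one_ne_zero h2
      exact ringChar.eq F 2
    obtain ⟨r, hr⟩ := FiniteField.isSquare_of_char_two hc2 (c / Q v)
    refine ⟨r • v, ?_⟩
    rw [quad_smul, ← hr, div_mul_cancel₀ _ hv]
  · obtain ⟨w, ⟨-, hwv⟩, hw⟩ := exists_aniso_in Q (ndOn_linePerp Q h2 hamb trivial hv) (by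
      intro h
      rw [top_inf_eq] at h
      have h' := finrank_linePerp Q h2 hv
      rw [h, finrank_bot] at h'
      omega)
    simp only [SetLike.mem_coe, LinearMap.mem_ker, QuadraticMap.polarBilin_apply_apply] at hwv
    obtain ⟨x, y, hxy⟩ := exists_mul_sq_add_mul_sq h2 hv hw c
    refine ⟨x • v + y • w, ?_⟩
    rw [quad_add, quad_smul, quad_smul, QuadraticMap.polar_smul_left, QuadraticMap.polar_smul_right, hwv]
    simp only [smul_eq_mul, mul_zero, add_zero]
    linear_combination hxy

omit [Fintype F] in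
/-- Reflections in vectors of equal value are conjugate. -/
theorem exists_conj_refl (hQ : PolarNondeg Q) {v w : V} (hv : Q v ≠ 0) (hw : Q w ≠ 0) (h : Q v = Q w) :
    ∃ g : qAut Q, g * qRefl Q hv * g⁻¹ = qRefl Q hw := by
  have hv0 : v ≠ 0 := by rintro rfl; simp at hv
  have hw0 : w ≠ 0 := by rintro rfl; simp at hw
  let φ : (F ∙ v) →ₗ[F] V :=
    (LinearMap.toSpanSingleton F V w).comp (LinearEquiv.toSpanNonzeroSingleton F V v hv0).symm.toLinearMap
  obtain ⟨g, hg, hgφ⟩ := witt_quad Q hQ (F ∙ v) φ
    (fun a b hab => (LinearEquiv.toSpanNonzeroSingleton F V v hv0).symm.injective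
      (smul_left_injective F hw0 hab)) (fun a => by
      obtain ⟨t, rfl⟩ := (LinearEquiv.toSpanNonzeroSingleton F V v hv0).surjective a
      simp only [φ, LinearMap.comp_apply, LinearEquiv.coe_coe, LinearEquiv.symm_apply_apply]
      change Q (t • w) = Q (t • v)
      rw [quad_smul, quad_smul, h])
  have hgv : g v = w := by
    have this := hgφ (LinearEquiv.toSpanNonzeroSingleton F V v hv0 1)
    simp only [φ, LinearMap.comp_apply, LinearEquiv.coe_coe, LinearEquiv.symm_apply_apply] at this
    rw [show ((LinearEquiv.toSpanNonzeroSingleton F V v hv0 1 : F ∙ v) : V) = v from one_smul F v] at this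
    exact this.trans (one_smul F w)
  refine ⟨⟨g, hg⟩, ?_⟩
  subst hgv
  exact qRefl_conj Q ⟨g, hg⟩ hv hw

theorem isConj_refl_of_sq (hQ : PolarNondeg Q) {v w : V} (hv : Q v ≠ 0) (hw : Q w ≠ 0)
    (h : IsSquare (Q v * Q w)) :
    Abelianization.of (qRefl Q hv) = Abelianization.of (qRefl Q hw) := by
  obtain ⟨r, hr⟩ := h
  have hr0 : r ≠ 0 := fun h0 => mul_ne_zero hv hw (by rw [hr, h0, mul_zero])
  have htv : Q ((r / Q v) • v) = Q w := by
    rw [quad_smul]
    field_simp
    linear_combination -hr
  have htv' : Q ((r / Q v) • v) ≠ 0 := htv ▸ hw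
  obtain ⟨g, hg⟩ := exists_conj_refl Q hQ htv' hw htv
  rw [← hg, map_mul, map_mul, map_inv, qRefl_smul Q hv htv']
  rw [mul_comm (Abelianization.of g), mul_inv_cancel_right]

omit [FiniteDimensional F V] in
theorem card_roots_add (h2 : (2 : F) ≠ 0) {β ε : F} (hβ : β ≠ 0) (hε : ¬ IsSquare ε) (d : F) :
    Nat.card {c : F // c * c * β = d} + Nat.card {c : F // c * c * (β * ε) = d} = 2 := by
  classical
  have hε0 : ε ≠ 0 := fun h => hε (h ▸ IsSquare.zero)
  have hchar : ringChar F ≠ 2 := fun h => h2 (by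
    haveI : CharP F 2 := h ▸ ringChar.charP F
    exact CharTwo.two_eq_zero)
  have key : ∀ γ : F, γ ≠ 0 → (Nat.card {c : F // c * c * γ = d} : ℤ) = quadraticChar F (d / γ) + 1 := by
    intro γ hγ
    rw [← quadraticChar_card_sqrts hchar (d / γ), Set.toFinset_ofPred]
    rw [Nat.card_eq_fintype_card, Fintype.card_subtype]
    congr 2
    refine Finset.filter_congr fun c _ => ?_
    rw [eq_div_iff hγ, sq]
  have h := congrArg₂ (· + ·) (key β hβ) (key (β * ε) (mul_ne_zero hβ hε0))
  have he : quadraticChar F (d / (β * ε)) = - quadraticChar F (d / β) := by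
    rw [← div_div, div_eq_mul_inv _ ε, map_mul,
      (quadraticChar_neg_one_iff_not_isSquare).2 (fun h => hε (isSquare_inv.1 h)), mul_neg, mul_one]
  rw [he] at h
  zify
  linarith

/-- A homomorphism to `{±1}` separating the two classes of reflections. -/
theorem exists_sign_hom [Finite V] (h2 : (2 : F) ≠ 0) (hQ : PolarNondeg Q) (hn : 2 ≤ Module.finrank F V) :
    ∃ χ : qAut Q →* ℤˣ, ∃ v w : V, ∃ (hv : Q v ≠ 0) (hw : Q w ≠ 0),
      ¬ IsSquare (Q v * Q w) ∧ χ (qRefl Q hv) ≠ χ (qRefl Q hw) := by
  classical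
  letI := Fintype.ofFinite V
  have hodd : Odd (Fintype.card F) := Nat.odd_iff.2 (FiniteField.odd_card_of_char_ne_two fun h => h2 (by
    haveI : CharP F 2 := h ▸ ringChar.charP F
    exact CharTwo.two_eq_zero))
  have hamb : NdOn Q (⊤ : Submodule F V) := fun x _ h => hQ x fun y => h y trivial
  obtain ⟨b₀, hb₀⟩ := exists_value Q hQ hn one_ne_zero
  have hb₀ne : Q b₀ ≠ 0 := hb₀ ▸ one_ne_zero
  obtain ⟨b₁, ⟨-, hb₁₀⟩, hb₁⟩ := exists_aniso_in Q (ndOn_linePerp Q h2 hamb trivial hb₀ne) (by
    intro h
    rw [top_inf_eq] at h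
    have h' := finrank_linePerp Q h2 hb₀ne
    rw [h, finrank_bot] at h'
    omega)
  simp only [SetLike.mem_coe, LinearMap.mem_ker, QuadraticMap.polarBilin_apply_apply] at hb₁₀
  set β := Q b₁ with hβ
  obtain ⟨ε, hε⟩ := FiniteField.exists_nonsquare (F := F) (fun h => h2 (by
    haveI : CharP F 2 := h ▸ ringChar.charP F
    exact CharTwo.two_eq_zero))
  set R : Submodule F V := LinearMap.ker (QuadraticMap.polarBilin Q b₀) ⊓
    LinearMap.ker (QuadraticMap.polarBilin Q b₁)
  have hR : ∀ {x}, x ∈ R → QuadraticMap.polar Q b₀ x = 0 ∧ QuadraticMap.polar Q b₁ x = 0 := fun h =>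
    ⟨LinearMap.mem_ker.1 h.1, LinearMap.mem_ker.1 h.2⟩
  have hproj : ∀ x, x - (QuadraticMap.polar Q b₀ x / 2) • b₀ - (QuadraticMap.polar Q b₁ x / (2 * β)) • b₁ ∈ R := by
    intro x
    have h1 : QuadraticMap.polar Q b₁ b₀ = 0 := by rw [QuadraticMap.polar_comm, hb₁₀]
    have h2β : (2 * β) ≠ 0 := mul_ne_zero h2 hb₁
    refine ⟨LinearMap.mem_ker.2 ?_, LinearMap.mem_ker.2 ?_⟩ <;>
      simp only [QuadraticMap.polarBilin_apply_apply, QuadraticMap.polar_sub_right,
        QuadraticMap.polar_smul_right, quad_polar_self, hb₀, ← hβ, hb₁₀, h1, smul_eq_mul, mul_zero,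
        sub_zero, mul_one, div_mul_cancel₀ _ h2, div_mul_cancel₀ _ h2β, sub_self]
  let X := {x : V // Q x = 1}
  let φ : qAut Q →* Equiv.Perm X :=
    MonoidHom.mk' (fun g =>
      { toFun := fun x => ⟨g.1 x.1, (qAut_map g x.1).trans x.2⟩
        invFun := fun x => ⟨g.1.symm x.1, (qAut_map g⁻¹ x.1).trans x.2⟩
        left_inv := fun x => Subtype.ext (g.1.symm_apply_apply x.1)
        right_inv := fun x => Subtype.ext (g.1.apply_symm_apply x.1) })
      fun g h => Equiv.ext fun x => rfl
  have hsign : ∀ {v : V} (hv : Q v ≠ 0), ∃ m : ℕ, Equiv.Perm.sign (φ (qRefl Q hv)) = (-1) ^ m ∧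
      2 * m + Nat.card {x : V // QuadraticMap.polar Q x v = 0 ∧ Q x = 1} = Fintype.card X := by
    intro v hv
    have hσ : φ (qRefl Q hv) ^ 2 = 1 := by rw [sq, ← map_mul, qRefl_mul_self, map_one]
    refine ⟨_, Equiv.Perm.sign_of_pow_two_eq_one hσ, ?_⟩
    have hs : Fintype.card X - Fintype.card (Function.fixedPoints ⇑(φ (qRefl Q hv))) =
        (φ (qRefl Q hv)).support.card := by
      rw [Equiv.Perm.card_fixedPoints, Equiv.Perm.sum_cycleType]
      have : (φ (qRefl Q hv)).support.card ≤ Fintype.card X := Finset.card_le_univ _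
      omega
    rw [hs, Nat.mul_div_cancel' (Equiv.Perm.two_dvd_card_support hσ)]
    have e : Nat.card {x : V // QuadraticMap.polar Q x v = 0 ∧ Q x = 1} =
        (Finset.univ \ (φ (qRefl Q hv)).support).card := by
      rw [← Fintype.card_coe, ← Nat.card_eq_fintype_card]
      have hiff : ∀ x : X, x ∈ Finset.univ \ (φ (qRefl Q hv)).support ↔ QuadraticMap.polar Q x.1 v = 0 := by
        intro x
        simp only [Finset.mem_sdiff, Finset.mem_univ, true_and, Equiv.Perm.mem_support, not_not]
        change (⟨(qRefl Q hv).1 x.1, _⟩ : X) = x ↔ _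
        rw [Subtype.ext_iff]
        change (qRefl Q hv).1 x.1 = x.1 ↔ _
        rw [qRefl_apply, sub_eq_self, smul_eq_zero, mul_eq_zero]
        have hv0 : v ≠ 0 := by rintro rfl; simp at hv
        simp [hv, hv0]
      exact Nat.card_congr
        { toFun := fun x => ⟨⟨x.1, x.2.2⟩, (hiff _).2 x.2.1⟩
          invFun := fun x => ⟨x.1.1, (hiff _).1 x.2, x.1.2⟩
          left_inv := fun _ => rfl
          right_inv := fun _ => rfl }
    rw [e, Finset.card_univ_diff, Nat.add_sub_cancel' (Finset.card_le_univ _)]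
  have hXeven : 2 ∣ Fintype.card X := by
    let σ : Equiv.Perm X :=
      { toFun := fun x => ⟨-x.1, by rw [QuadraticMap.map_neg, x.2]⟩
        invFun := fun x => ⟨-x.1, by rw [QuadraticMap.map_neg, x.2]⟩
        left_inv := fun x => Subtype.ext (neg_neg _)
        right_inv := fun x => Subtype.ext (neg_neg _) }
    have hσ : σ ^ 2 = 1 := Equiv.ext fun x => Subtype.ext (neg_neg _)
    have hsupp : σ.support = Finset.univ := Finset.eq_univ_of_forall fun x => Equiv.Perm.mem_support.2 fun h => by
      have h1 : (2 : F) • x.1 = 0 := by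
        rw [two_smul]
        exact neg_eq_iff_add_eq_zero.1 (congrArg Subtype.val h)
      have := x.2
      rw [(smul_eq_zero.1 h1).resolve_left h2, map_zero] at this
      exact zero_ne_one this
    have := Equiv.Perm.two_dvd_card_support hσ
    rwa [hsupp, Finset.card_univ] at this
  have hRcard : Odd (Nat.card R) := by
    rw [Module.natCard_eq_pow_finrank (K := F), Nat.card_eq_fintype_card]
    exact hodd.pow
  have hfix : ∀ s t : F, s * s + β * (t * t) ≠ 0 →
      Nat.card {x : V // QuadraticMap.polar Q x (s • b₀ + t • b₁) = 0 ∧ Q x = 1} =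
        Nat.card (Σ r : R, {c : F // c * c * (β * (s * s + β * (t * t))) = 1 - Q r}) := by
    intro s t hst
    have h1 : QuadraticMap.polar Q b₁ b₀ = 0 := by rw [QuadraticMap.polar_comm, hb₁₀]
    have hpol : ∀ (α γ : F) (r : R), QuadraticMap.polar Q (α • b₀ + γ • b₁ + (r : V)) (s • b₀ + t • b₁) =
        2 * (α * s + β * (γ * t)) := fun α γ r => by
      simp only [QuadraticMap.polar_add_left, QuadraticMap.polar_add_right, QuadraticMap.polar_smul_left,
        QuadraticMap.polar_smul_right, smul_eq_mul, quad_polar_self, hb₀, ← hβ, hb₁₀, h1,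
        QuadraticMap.polar_comm Q (r : V), (hR r.2).1, (hR r.2).2]
      ring
    have hQv : ∀ (α γ : F) (r : R), Q (α • b₀ + γ • b₁ + (r : V)) = α * α + β * (γ * γ) + Q r :=
      fun α γ r => by
      rw [quad_add, quad_add, quad_smul, quad_smul, hb₀, ← hβ, QuadraticMap.polar_smul_left,
        QuadraticMap.polar_smul_right, hb₁₀, QuadraticMap.polar_add_left, QuadraticMap.polar_smul_left,
        QuadraticMap.polar_smul_left, (hR r.2).1, (hR r.2).2]
      simp only [smul_eq_mul]
      ring
    refine (Nat.card_congr (Equiv.ofBijective (fun p : (Σ r : R, {c : F // c * c * (β * (s * s + β * (t * t))) = 1 - Q r}) =>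
      (⟨(-(p.2.1 * β * t)) • b₀ + (p.2.1 * s) • b₁ + (p.1 : V), by rw [hpol]; ring, by
        rw [hQv]; linear_combination p.2.2⟩ :
        {x : V // QuadraticMap.polar Q x (s • b₀ + t • b₁) = 0 ∧ Q x = 1})) ⟨?_, ?_⟩)).symm
    · rintro ⟨r, c, hc⟩ ⟨r', c', hc'⟩ he
      have he' := congrArg Subtype.val he
      simp only at he'
      have e0 := congrArg (fun x => QuadraticMap.polar Q b₀ x) he'
      have e1 := congrArg (fun x => QuadraticMap.polar Q b₁ x) he'
      simp [quad_polar_self, hb₀, ← hβ, hb₁₀, h1, (hR r.2).1, (hR r.2).2, (hR r'.2).1, (hR r'.2).2] at e0 e1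
      have hcc : c = c' := by
        rcases e0 with ((h | h) | h) | h
        · exact h
        · exact absurd h hb₁
        · rcases e1 with (h' | h') | h' | h'
          · exact h'
          · exact absurd (show s * s + β * (t * t) = 0 by rw [h, h']; ring) hst
          · exact absurd h' h2
          · exact absurd h' hb₁
        · exact absurd h h2
      subst hcc
      obtain rfl : r = r' := Subtype.ext (add_left_cancel he')
      rfl
    · rintro ⟨x, hx, hx1⟩
      set α := QuadraticMap.polar Q b₀ x / 2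
      set γ := QuadraticMap.polar Q b₁ x / (2 * β)
      let r : R := ⟨x - α • b₀ - γ • b₁, hproj x⟩
      have hxe : x = α • b₀ + γ • b₁ + (r : V) := by simp [r]
      rw [hxe] at hx hx1
      rw [hpol] at hx
      rw [hQv] at hx1
      have hx' := (mul_eq_zero.1 hx).resolve_left h2
      set c := (γ * s - α * t) / (s * s + β * (t * t))
      have hα : -(c * β * t) = α := by
        rw [show c = (γ * s - α * t) / (s * s + β * (t * t)) from rfl, div_mul_eq_mul_div, div_mul_eq_mul_div,
          neg_div', div_eq_iff hst]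
        linear_combination -s * hx'
      have hγ : c * s = γ := by
        rw [show c = (γ * s - α * t) / (s * s + β * (t * t)) from rfl, div_mul_eq_mul_div, div_eq_iff hst]
        linear_combination -t * hx'
      refine ⟨⟨r, c, ?_⟩, Subtype.ext ?_⟩
      · linear_combination hx1 - (α - c * β * t) * hα.symm - β * (γ + c * s) * hγ.symm
      · change (-(c * β * t)) • b₀ + (c * s) • b₁ + (r : V) = x
        rw [hα, hγ, ← hxe]
  obtain ⟨s, t, hst⟩ := exists_mul_sq_add_mul_sq h2 (one_ne_zero (α := F)) hb₁ ε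
  have hst' : s * s + β * (t * t) = ε := by linear_combination hst
  have hε0 : ε ≠ 0 := fun h => hε (h ▸ IsSquare.zero)
  set w := s • b₀ + t • b₁ with hwdef
  have hQw : Q w = ε := by
    rw [hwdef, quad_add, quad_smul, quad_smul, hb₀, ← hβ, QuadraticMap.polar_smul_left,
      QuadraticMap.polar_smul_right, hb₁₀]
    simp only [smul_eq_mul]
    linear_combination hst'
  have hw : Q w ≠ 0 := hQw ▸ hε0
  refine ⟨Equiv.Perm.sign.comp φ, b₀, w, hb₀ne, hw, by rwa [hb₀, one_mul, hQw], ?_⟩
  obtain ⟨m₁, hm₁, hc₁⟩ := hsign hb₀ne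
  obtain ⟨m₂, hm₂, hc₂⟩ := hsign hw
  have hf₁ := hfix 1 0 (by simp)
  rw [one_smul, zero_smul, add_zero] at hf₁
  have hf₂ := hfix s t (hst' ▸ hε0)
  rw [← hwdef] at hf₂
  have hsum : Nat.card {x : V // QuadraticMap.polar Q x b₀ = 0 ∧ Q x = 1} +
      Nat.card {x : V // QuadraticMap.polar Q x w = 0 ∧ Q x = 1} = 2 * Nat.card R := by
    rw [hf₁, hf₂, Nat.card_sigma, Nat.card_sigma, ← Finset.sum_add_distrib,
      Finset.sum_congr rfl (g := fun _ => 2) (fun r _ => ?_), Finset.sum_const, Finset.card_univ,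
      Nat.card_eq_fintype_card, smul_eq_mul, mul_comm]
    rw [show β * (1 * 1 + β * (0 * 0)) = β by ring, hst']
    exact card_roots_add h2 hb₁ hε _
  intro he
  rw [MonoidHom.comp_apply, MonoidHom.comp_apply, hm₁, hm₂] at he
  have hodd2 : Odd (m₁ + m₂) := by
    obtain ⟨x, hx⟩ := hXeven
    obtain ⟨y, hy⟩ := hRcard
    rw [Nat.odd_iff]
    omega
  have := congrArg (fun z : ℤˣ => z * (-1) ^ m₂) he
  simp only [← pow_add] at this
  rw [hodd2.neg_one_pow, Even.neg_one_pow (⟨m₂, rfl⟩ : Even (m₂ + m₂))] at this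
  exact absurd this (by decide)

/-- The first homomorphism: the parity of `rank (g - 1)`. -/
theorem exists_parity (hQ : PolarNondeg Q) (hex : Fintype.card F ≠ 2 ∨ Module.finrank F V ≠ 4) :
    ∃ D : qAut Q →* Multiplicative (ZMod 2), ∀ (v : V) (hv : Q v ≠ 0), D (qRefl Q hv) = Multiplicative.ofAdd 1 := by
  obtain ⟨D, -, hD⟩ := exists_parity_hom Q hQ (reflGroup_eq_top Q hQ hex)
  exact ⟨D, hD⟩

/-- In odd characteristic the commutator subgroup has index four. -/
theorem index_commutator_odd (h2 : (2 : F) ≠ 0) (hQ : PolarNondeg Q) (hn : 2 ≤ Module.finrank F V) :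
    (commutator (qAut Q)).index = 4 := by
  classical
  haveI : Finite V := Module.finite_of_finite F
  haveI := finite_qAut Q
  have hex : Fintype.card F ≠ 2 ∨ Module.finrank F V ≠ 4 := Or.inl fun h => h2 (by
    haveI : CharP F 2 := by
      obtain ⟨p, hp⟩ := CharP.exists F
      obtain ⟨k, hpp, hk⟩ := FiniteField.card F p
      rw [h] at hk
      obtain rfl : p = 2 := (Nat.prime_dvd_prime_iff_eq hpp Nat.prime_two).1 (hk ▸ dvd_pow_self p k.pos.ne')
      exact hp
    exact CharTwo.two_eq_zero)
  obtain ⟨D, hD⟩ := exists_parity Q hQ hex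
  obtain ⟨χ, v, w, hv, hw, hvw, hne⟩ := exists_sign_hom Q h2 hQ hn
  set a := Abelianization.of (qRefl Q hv)
  set b := Abelianization.of (qRefl Q hw)
  have haa : a * a = 1 := by rw [← map_mul, qRefl_mul_self, map_one]
  have hbb : b * b = 1 := by rw [← map_mul, qRefl_mul_self, map_one]
  let S : Finset (Abelianization (qAut Q)) := {1, a, b, a * b}
  have hmem : ∀ g : qAut Q, Abelianization.of g ∈ S := by
    intro g
    have hg : g ∈ reflGroup Q := reflGroup_eq_top Q hQ hex ▸ Subgroup.mem_top g
    have mulc : ∀ x ∈ S, ∀ y ∈ S, x * y ∈ S := by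
      intro x hx y hy
      simp only [S, Finset.mem_insert, Finset.mem_singleton] at hx hy ⊢
      have haa' : ∀ z, a * (a * z) = z := fun z => by rw [← mul_assoc, haa, one_mul]
      have hbb' : ∀ z, b * (b * z) = z := fun z => by rw [← mul_assoc, hbb, one_mul]
      rcases hx with rfl | rfl | rfl | rfl <;> rcases hy with rfl | rfl | rfl | rfl <;>
        simp [haa, hbb, haa', hbb', mul_comm, mul_left_comm, mul_assoc]
    have hr : ∀ (u : V) (hu : Q u ≠ 0), Abelianization.of (qRefl Q hu) ∈ S := by
      intro u hu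
      by_cases hs : IsSquare (Q u * Q v)
      · simp [S, isConj_refl_of_sq Q hQ hu hv hs, a]
      · have hs' : IsSquare (Q u * Q w) := by
          have h := isSquare_mul_of_not_isSquare h2 hs hvw
          have h' := h.mul (show IsSquare ((Q v)⁻¹ * (Q v)⁻¹) from ⟨_, rfl⟩)
          rwa [show Q u * Q v * (Q v * Q w) * ((Q v)⁻¹ * (Q v)⁻¹) = Q u * Q w by field_simp] at h'
        simp [S, isConj_refl_of_sq Q hQ hu hw hs', b]
    induction hg using Subgroup.closure_induction with
    | mem x hx => obtain ⟨u, hu, rfl⟩ := hx; exact hr u hu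
    | one => simp [S]
    | mul x y _ _ hx hy => rw [map_mul]; exact mulc _ hx _ hy
    | inv x _ hx =>
      rw [map_inv]
      simp only [S, Finset.mem_insert, Finset.mem_singleton] at hx ⊢
      rcases hx with h | h | h | h <;> rw [h] <;>
        simp [inv_eq_of_mul_eq_one_right haa, inv_eq_of_mul_eq_one_right hbb, mul_comm b a]
  let ψ : qAut Q →* Multiplicative (ZMod 2) × ℤˣ := D.prod χ
  have hsurj : Function.Surjective ψ := by
    have h1 : ψ (qRefl Q hv) = (Multiplicative.ofAdd 1, χ (qRefl Q hv)) := by simp [ψ, hD]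
    have h2' : ψ (qRefl Q hw) = (Multiplicative.ofAdd 1, χ (qRefl Q hw)) := by simp [ψ, hD]
    have h3 : ψ (qRefl Q hv * qRefl Q hw) = (1, -1) := by
      rw [map_mul, h1, h2', Prod.mk_mul_mk]
      refine Prod.ext (by decide : Multiplicative.ofAdd (1 : ZMod 2) * Multiplicative.ofAdd 1 = 1) ?_
      rcases Int.units_eq_one_or (χ (qRefl Q hv)) with e | e <;>
        rcases Int.units_eq_one_or (χ (qRefl Q hw)) with e' | e' <;> simp_all
    have h4 : ∀ x : Multiplicative (ZMod 2), x = 1 ∨ x = Multiplicative.ofAdd 1 := by decide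
    rintro ⟨x, y⟩
    rcases h4 x with rfl | rfl
    · rcases Int.units_eq_one_or y with rfl | rfl
      · exact ⟨1, map_one _⟩
      · exact ⟨_, h3⟩
    · by_cases he : y = χ (qRefl Q hv)
      · exact ⟨_, h1.trans (by rw [he])⟩
      · refine ⟨_, h2'.trans ?_⟩
        rcases Int.units_eq_one_or (χ (qRefl Q hv)) with e | e <;>
          rcases Int.units_eq_one_or (χ (qRefl Q hw)) with e' | e' <;>
          rcases Int.units_eq_one_or y with e'' | e'' <;> simp_all
  letI := Fintype.ofFinite (Abelianization (qAut Q))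
  refine le_antisymm ?_ ?_
  · have : Nat.card (Abelianization (qAut Q)) ≤ 4 := by
      rw [Nat.card_eq_fintype_card, ← Finset.card_univ]
      refine (Finset.card_le_card (show Finset.univ ⊆ S from fun x _ => ?_)).trans Finset.card_le_four
      obtain ⟨g, rfl⟩ := QuotientGroup.mk_surjective x
      exact hmem g
    exact this
  · have h := Nat.card_le_card_of_surjective (Abelianization.lift ψ) fun y => by
      obtain ⟨g, hg⟩ := hsurj y
      exact ⟨Abelianization.of g, by rw [Abelianization.lift_apply_of, hg]⟩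
    rw [Nat.card_prod] at h
    simpa [Subgroup.index, Abelianization, Nat.card_eq_fintype_card] using h

/-- In characteristic two the commutator subgroup has index two. -/
theorem index_commutator_two [CharP F 2] (hQ : PolarNondeg Q) (hn : 2 ≤ Module.finrank F V)
    (hex : Fintype.card F ≠ 2 ∨ Module.finrank F V ≠ 4) : (commutator (qAut Q)).index = 2 := by
  classical
  haveI : Finite V := Module.finite_of_finite F
  haveI := finite_qAut Q
  obtain ⟨D, hD⟩ := exists_parity Q hQ hex
  obtain ⟨v, hv⟩ := exists_value Q hQ hn one_ne_zero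
  have hv' : Q v ≠ 0 := hv ▸ one_ne_zero
  set a := Abelianization.of (qRefl Q hv')
  have haa : a * a = 1 := by rw [← map_mul, qRefl_mul_self, map_one]
  let S : Finset (Abelianization (qAut Q)) := {1, a}
  have hmem : ∀ g : qAut Q, Abelianization.of g ∈ S := by
    intro g
    have hg : g ∈ reflGroup Q := reflGroup_eq_top Q hQ hex ▸ Subgroup.mem_top g
    induction hg using Subgroup.closure_induction with
    | mem x hx =>
      obtain ⟨u, hu, rfl⟩ := hx
      simp [S, a, isConj_refl_of_sq Q hQ hu hv' (FiniteField.isSquare_of_char_two (ringChar.eq F 2) _)]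
    | one => simp [S]
    | mul x y _ _ hx hy =>
      rw [map_mul]
      simp only [S, Finset.mem_insert, Finset.mem_singleton] at hx hy ⊢
      rcases hx with h | h <;> rcases hy with h' | h' <;> simp [h, h', haa]
    | inv x _ hx =>
      rw [map_inv]
      simp only [S, Finset.mem_insert, Finset.mem_singleton] at hx ⊢
      rcases hx with h | h <;> simp [h, inv_eq_of_mul_eq_one_right haa]
  have hsurj : Function.Surjective (Abelianization.lift D) := fun x => by
    rcases (by decide : ∀ x : Multiplicative (ZMod 2), x = 1 ∨ x = Multiplicative.ofAdd 1) x with rfl | rfl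
    · exact ⟨1, map_one _⟩
    · exact ⟨a, (Abelianization.lift_apply_of _ _).trans (hD v hv')⟩
  letI := Fintype.ofFinite (Abelianization (qAut Q))
  refine le_antisymm ?_ ?_
  · have : Nat.card (Abelianization (qAut Q)) ≤ 2 := by
      rw [Nat.card_eq_fintype_card, ← Finset.card_univ]
      refine (Finset.card_le_card (show Finset.univ ⊆ S from fun x _ => ?_)).trans Finset.card_le_two
      obtain ⟨g, rfl⟩ := QuotientGroup.mk_surjective x
      exact hmem g
    exact this
  · have h := Nat.card_le_card_of_surjective _ hsurj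
    simpa [Subgroup.index, Abelianization, Nat.card_eq_fintype_card] using h

end CfsgLib.Classical
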