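/-
Transport of the abstract results on quadratic spaces to the matrix isometry groups.
-/
import Cfsg.Agent.Lib.Classical.QuadOmega
import Cfsg.Agent.Lib.Classical.OrthDet

set_option autoImplicit false

namespace CfsgLib.Classical

open Matrix Cfsg

theorem map_commutator_equiv {G H : Type*} [Group G] [Group H] (e : G ≃* H) :
    (commutator G).map e.toMonoidHom = commutator H := by
  rw [commutator_def, Subgroup.map_commutator, Subgroup.map_top_of_surjective e.toMonoidHom e.surjective,
    ← commutator_def]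

theorem index_commutator_congr {G H : Type*} [Group G] [Group H] (e : G ≃* H) :
    (commutator G).index = (commutator H).index := by
  rw [← map_commutator_equiv e]
  exact (Subgroup.index_map_of_bijective (f := e.toMonoidHom) e.bijective _).symm

variable {F : Type*} [Field F] {ι : Type} [Fintype ι] [DecidableEq ι] (Q : QuadraticForm F (ι → F))

theorem isoEquiv_reflect {v : ι → F} (hv : Q v ≠ 0) {g : isometryGroup F ⇑Q}
    (hg : ((g : GL ι F) : Matrix ι ι F) = reflectionMatrix Q v) : isoEquiv Q g = qRefl Q hv :=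
  qAut_ext fun x => by
    rw [isoEquiv_apply, qRefl_apply, isoApply, hg, reflectionMatrix_mulVec]

theorem isoEquiv_reflect_self {v : ι → F} (hv : Q v ≠ 0) : isoEquiv Q (reflect Q v hv) = qRefl Q hv :=
  isoEquiv_reflect Q hv (reflect_coe Q v hv)

theorem isometryGroup_closure_reflect [Fintype F] (hQ : PolarNondeg Q)
    (hex : Fintype.card F ≠ 2 ∨ Fintype.card ι ≠ 4) :
    Subgroup.closure {g : isometryGroup F ⇑Q | ∃ v : ι → F, Q v ≠ 0 ∧
      ((g : GL ι F) : Matrix ι ι F) = reflectionMatrix (⇑Q) v} = ⊤ := by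
  refine eq_top_iff.2 fun g _ => ?_
  have hmem : isoEquiv Q g ∈ reflGroup Q := by
    rw [reflGroup_eq_top Q hQ (by rwa [Module.finrank_pi])]
    trivial
  have hle : reflGroup Q ≤ (Subgroup.closure {g : isometryGroup F ⇑Q | ∃ v : ι → F, Q v ≠ 0 ∧
      ((g : GL ι F) : Matrix ι ι F) = reflectionMatrix (⇑Q) v}).map (isoEquiv Q).toMonoidHom := by
    refine (Subgroup.closure_le _).2 ?_
    rintro _ ⟨v, hv, rfl⟩
    exact ⟨reflect Q v hv, Subgroup.subset_closure ⟨v, hv, reflect_coe Q v hv⟩, isoEquiv_reflect_self Q hv⟩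
  obtain ⟨h, hh, he⟩ := hle hmem
  rwa [(isoEquiv Q).injective he] at hh

theorem index_Omega_odd [Fintype F] (h2 : (2 : F) ≠ 0) (hQ : PolarNondeg Q) (hn : 2 ≤ Fintype.card ι) :
    (Omega F ⇑Q).index = 4 := by
  rw [show (Omega F ⇑Q).index = (commutator (qAut Q)).index from index_commutator_congr (isoEquiv Q)]
  exact index_commutator_odd Q h2 hQ (by rwa [Module.finrank_pi])

theorem index_Omega_two [Fintype F] [CharP F 2] (hQ : PolarNondeg Q) (hn : 2 ≤ Fintype.card ι)
    (hex : Fintype.card F ≠ 2 ∨ Fintype.card ι ≠ 4) : (Omega F ⇑Q).index = 2 := by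
  rw [show (Omega F ⇑Q).index = (commutator (qAut Q)).index from index_commutator_congr (isoEquiv Q)]
  exact index_commutator_two Q hQ (by rwa [Module.finrank_pi]) (by rwa [Module.finrank_pi])

/-- The two homomorphisms of the isometry group in odd characteristic. -/
theorem exists_two_homs [Fintype F] (h2 : (2 : F) ≠ 0) (hQ : PolarNondeg Q) (hn : 2 ≤ Fintype.card ι) :
    ∃ χ : isometryGroup F ⇑Q →* ℤˣ, ∃ v w : ι → F, ∃ (hv : Q v ≠ 0) (hw : Q w ≠ 0),
      ¬ IsSquare (Q v * Q w) ∧ χ (reflect Q v hv) ≠ χ (reflect Q w hw) := by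
  obtain ⟨χ, v, w, hv, hw, hsq, hne⟩ := exists_sign_hom Q h2 hQ (by rwa [Module.finrank_pi])
  exact ⟨χ.comp (isoEquiv Q).toMonoidHom, v, w, hv, hw, hsq, by
    simpa [isoEquiv_reflect_self] using hne⟩

/-- Determinant-one isometries are products of pairs of reflections. -/
theorem specialIsometryGroup_eq [Fintype F] (h2 : (2 : F) ≠ 0) (hQ : PolarNondeg Q) :
    specialIsometryGroup F ⇑Q = Subgroup.closure {g : isometryGroup F ⇑Q | ∃ u v : ι → F, Q u ≠ 0 ∧ Q v ≠ 0 ∧
      ((g : GL ι F) : Matrix ι ι F) = reflectionMatrix (⇑Q) u * reflectionMatrix (⇑Q) v} := by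
  set S := {g : isometryGroup F ⇑Q | ∃ u v : ι → F, Q u ≠ 0 ∧ Q v ≠ 0 ∧
      ((g : GL ι F) : Matrix ι ι F) = reflectionMatrix (⇑Q) u * reflectionMatrix (⇑Q) v}
  have hSO : ∀ g : isometryGroup F ⇑Q, g ∈ specialIsometryGroup F ⇑Q ↔
      ((g : GL ι F) : Matrix ι ι F).det = 1 := fun g => by
    rw [specialIsometryGroup, MonoidHom.mem_ker, Units.ext_iff]
    simp
  refine le_antisymm (fun g hg => ?_) ((Subgroup.closure_le _).2 ?_)
  · have hex : Fintype.card F ≠ 2 ∨ Fintype.card ι ≠ 4 := Or.inl fun h => by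
      have hodd := FiniteField.odd_card_of_char_ne_two (F := F) fun hc => h2 (by
        haveI : CharP F 2 := hc ▸ ringChar.charP F
        exact CharTwo.two_eq_zero)
      omega
    have key : ∀ x : isometryGroup F ⇑Q, x ∈ Subgroup.closure S ∨
        ∀ (v : ι → F) (hv : Q v ≠ 0), reflect Q v hv * x ∈ Subgroup.closure S := by
      intro x
      have hx : x ∈ Subgroup.closure {g : isometryGroup F ⇑Q | ∃ v : ι → F, Q v ≠ 0 ∧
          ((g : GL ι F) : Matrix ι ι F) = reflectionMatrix (⇑Q) v} :=
        isometryGroup_closure_reflect Q hQ hex ▸ Subgroup.mem_top x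
      have hpair : ∀ (a b : ι → F) (ha : Q a ≠ 0) (hb : Q b ≠ 0),
          reflect Q a ha * reflect Q b hb ∈ Subgroup.closure S := fun a b ha hb =>
        Subgroup.subset_closure ⟨a, b, ha, hb, by
          rw [Subgroup.coe_mul, Units.val_mul, reflect_coe, reflect_coe]⟩
      refine Subgroup.closure_induction_left (p := fun x _ => x ∈ Subgroup.closure S ∨
        ∀ (v : ι → F) (hv : Q v ≠ 0), reflect Q v hv * x ∈ Subgroup.closure S)
        (Or.inl (one_mem _)) ?_ ?_ hx
      · rintro r ⟨u, hu, hr⟩ y _ hy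
        obtain rfl : r = reflect Q u hu := Subtype.ext (Units.ext (hr.trans (reflect_coe Q u hu).symm))
        rcases hy with hy | hy
        · exact Or.inr fun v hv => by rw [← mul_assoc]; exact mul_mem (hpair v u hv hu) hy
        · exact Or.inl (hy u hu)
      · rintro r ⟨u, hu, hr⟩ y _ hy
        obtain rfl : r = reflect Q u hu := Subtype.ext (Units.ext (hr.trans (reflect_coe Q u hu).symm))
        rw [reflect_inv]
        rcases hy with hy | hy
        · exact Or.inr fun v hv => by rw [← mul_assoc]; exact mul_mem (hpair v u hv hu) hy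
        · exact Or.inl (hy u hu)
    rcases key g with h | h
    · exact h
    · by_cases hex' : ∃ v : ι → F, Q v ≠ 0
      · obtain ⟨v, hv⟩ := hex'
        exfalso
        have hdetS : ∀ x ∈ Subgroup.closure S, ((x : GL ι F) : Matrix ι ι F).det = 1 := fun x hx => by
          rw [← hSO]
          refine (Subgroup.closure_le _).2 ?_ hx
          rintro y ⟨a, b, ha, hb, hy⟩
          rw [SetLike.mem_coe, hSO, hy, det_mul, det_reflectionMatrix Q ha, det_reflectionMatrix Q hb]
          ring
        have h1 := hdetS _ (h v hv)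
        rw [Subgroup.coe_mul, Units.val_mul, det_mul, reflect_coe, det_reflectionMatrix Q hv, (hSO g).1 hg] at h1
        exact h2 (by linear_combination -h1)
      · push Not at hex'
        have hz : ∀ x : ι → F, x = 0 := fun x => hQ x fun y => by simp [QuadraticMap.polar, hex']
        have : g = 1 := iso_ext fun x => (hz _).trans (hz _).symm
        exact this ▸ one_mem _
  · rintro y ⟨a, b, ha, hb, hy⟩
    rw [SetLike.mem_coe, hSO, hy, det_mul, det_reflectionMatrix Q ha, det_reflectionMatrix Q hb]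
    ring

end CfsgLib.Classical
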