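/-
The abelianisation map of an odd orthogonal group, the position of `-1`, and the centralizer of the
commutator subgroup.
-/
import Cfsg.Agent.Lib.Classical.QuadOmega

set_option autoImplicit false

namespace CfsgLib.Classical

open scoped commutatorElement

variable {F V : Type*} [Field F] [AddCommGroup V] [Module F V] [FiniteDimensional F V] (Q : QuadraticForm F V)

/-- The abelianisation in odd characteristic. -/
theorem exists_abel_odd [Fintype F] (h2 : (2 : F) ≠ 0) (hQ : PolarNondeg Q) (hn : 2 ≤ Module.finrank F V) :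
    ∃ ψ : qAut Q →* Multiplicative (ZMod 2) × ℤˣ, Function.Surjective ψ ∧ ψ.ker = commutator (qAut Q) ∧
      (∀ (v : V) (hv : Q v ≠ 0), (ψ (qRefl Q hv)).1 = Multiplicative.ofAdd 1) ∧
      ∀ (v w : V) (hv : Q v ≠ 0) (hw : Q w ≠ 0),
        ψ (qRefl Q hv) = ψ (qRefl Q hw) ↔ IsSquare (Q v * Q w) := by
  classical
  haveI : Finite V := Module.finite_of_finite F
  haveI := finite_qAut Q
  have hex : Fintype.card F ≠ 2 ∨ Module.finrank F V ≠ 4 := Or.inl fun h => by
    have hodd := FiniteField.odd_card_of_char_ne_two (F := F) fun hc => h2 (by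
      haveI : CharP F 2 := hc ▸ ringChar.charP F
      exact CharTwo.two_eq_zero)
    omega
  obtain ⟨D, hD⟩ := exists_parity Q hQ hex
  obtain ⟨χ, a, b, ha, hb, hab, hne⟩ := exists_sign_hom Q h2 hQ hn
  have heq : ∀ {v w : V} (hv : Q v ≠ 0) (hw : Q w ≠ 0), IsSquare (Q v * Q w) →
      (D.prod χ) (qRefl Q hv) = (D.prod χ) (qRefl Q hw) := fun {v w} hv hw h => by
    have := congrArg (Abelianization.lift (D.prod χ)) (isConj_refl_of_sq Q hQ hv hw h)
    rwa [Abelianization.lift_apply_of, Abelianization.lift_apply_of] at this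
  have htrans : ∀ {x y z : F}, y ≠ 0 → IsSquare (x * y) → IsSquare (y * z) → IsSquare (x * z) := by
    intro x y z hy h h'
    have h'' := (h.mul h').mul (show IsSquare (y⁻¹ * y⁻¹) from ⟨y⁻¹, rfl⟩)
    rwa [show x * y * (y * z) * (y⁻¹ * y⁻¹) = x * z by field_simp] at h''
  have hiff : ∀ (v w : V) (hv : Q v ≠ 0) (hw : Q w ≠ 0),
      (D.prod χ) (qRefl Q hv) = (D.prod χ) (qRefl Q hw) ↔ IsSquare (Q v * Q w) := by
    intro v w hv hw
    refine ⟨fun h => ?_, heq hv hw⟩
    by_contra hs
    have hne' : (D.prod χ) (qRefl Q ha) ≠ (D.prod χ) (qRefl Q hb) := fun h' => hne (congrArg Prod.snd h')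
    have cls : ∀ {u : V} (hu : Q u ≠ 0), IsSquare (Q u * Q a) ∨ IsSquare (Q u * Q b) := fun {u} hu => by
      by_cases h' : IsSquare (Q u * Q a)
      · exact Or.inl h'
      · refine Or.inr ?_
        have h3 := (isSquare_mul_of_not_isSquare h2 h' hab).mul
          (show IsSquare ((Q a)⁻¹ * (Q a)⁻¹) from ⟨_, rfl⟩)
        rwa [show Q u * Q a * (Q a * Q b) * ((Q a)⁻¹ * (Q a)⁻¹) = Q u * Q b by field_simp] at h3
    rcases cls hv with h1 | h1 <;> rcases cls hw with h3 | h3
    · exact hs (htrans ha h1 (by rwa [mul_comm]))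
    · exact hne' ((heq hv ha h1).symm.trans (h.trans (heq hw hb h3)))
    · exact hne' ((heq hw ha h3).symm.trans (h.symm.trans (heq hv hb h1)))
    · exact hs (htrans hb h1 (by rwa [mul_comm]))
  have hfst : ∀ (v : V) (hv : Q v ≠ 0), ((D.prod χ) (qRefl Q hv)).1 = Multiplicative.ofAdd 1 := fun v hv => hD v hv
  have hsurj : Function.Surjective (D.prod χ) := by
    have h1 : (D.prod χ) (qRefl Q ha) = (Multiplicative.ofAdd 1, χ (qRefl Q ha)) := Prod.ext (hD a ha) rfl
    have h2' : (D.prod χ) (qRefl Q hb) = (Multiplicative.ofAdd 1, χ (qRefl Q hb)) := Prod.ext (hD b hb) rfl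
    have h3 : (D.prod χ) (qRefl Q ha * qRefl Q hb) = (1, -1) := by
      rw [map_mul, h1, h2', Prod.mk_mul_mk]
      refine Prod.ext (by decide : Multiplicative.ofAdd (1 : ZMod 2) * Multiplicative.ofAdd 1 = 1) ?_
      rcases Int.units_eq_one_or (χ (qRefl Q ha)) with e | e <;>
        rcases Int.units_eq_one_or (χ (qRefl Q hb)) with e' | e' <;> simp_all
    rintro ⟨x, y⟩
    rcases (by decide : ∀ x : Multiplicative (ZMod 2), x = 1 ∨ x = Multiplicative.ofAdd 1) x with rfl | rfl
    · rcases Int.units_eq_one_or y with rfl | rfl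
      · exact ⟨1, map_one _⟩
      · exact ⟨_, h3⟩
    · by_cases he : y = χ (qRefl Q ha)
      · exact ⟨_, h1.trans (by rw [he])⟩
      · refine ⟨_, h2'.trans ?_⟩
        rcases Int.units_eq_one_or (χ (qRefl Q ha)) with e | e <;>
          rcases Int.units_eq_one_or (χ (qRefl Q hb)) with e' | e' <;>
          rcases Int.units_eq_one_or y with e'' | e'' <;> simp_all
  refine ⟨D.prod χ, hsurj, ?_, hfst, hiff⟩
  have hle : commutator (qAut Q) ≤ (D.prod χ).ker := Abelianization.commutator_subset_ker _
  have hker : (D.prod χ).ker.index = 4 := by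
    rw [Subgroup.index_ker, MonoidHom.range_eq_top.2 hsurj, Subgroup.card_top, Nat.card_prod]
    simp [Nat.card_eq_fintype_card]
  have hmul := Subgroup.relIndex_mul_index hle
  rw [hker, index_commutator_odd Q h2 hQ hn] at hmul
  exact le_antisymm (Subgroup.relIndex_eq_one.1 (by omega)) hle

omit [FiniteDimensional F V] in
/-- Products of reflections in an orthogonal family. -/
theorem exists_refl_prod {A : Type*} [CommMonoid A] (ψ : qAut Q →* A) {ι : Type*} [DecidableEq ι]
    (e : ι → V) (he : ∀ i, Q (e i) ≠ 0)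
    (horth : ∀ i j, i ≠ j → QuadraticMap.polar Q (e i) (e j) = 0) (s : Finset ι) :
    ∃ h : qAut Q, (∀ j, h.1 (e j) = if j ∈ s then -e j else e j) ∧
      ψ h = ∏ i ∈ s, ψ (qRefl Q (he i)) := by
  induction s using Finset.induction_on with
  | empty => exact ⟨1, fun j => by simp, by simp⟩
  | insert i t hit ih =>
    obtain ⟨h, hh, hψ⟩ := ih
    refine ⟨qRefl Q (he i) * h, fun j => ?_, ?_⟩
    · rw [qAut_mul_apply, hh j]
      rcases eq_or_ne j i with rfl | hji
      · rw [if_neg hit, if_pos (Finset.mem_insert_self _ _), qRefl_self]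
      · have hfix := qRefl_fix Q (he i) (horth j i hji)
        by_cases hj : j ∈ t
        · rw [if_pos hj, if_pos (Finset.mem_insert_of_mem hj), map_neg, hfix]
        · rw [if_neg hj, if_neg (by simp [hji, hj]), hfix]
    · rw [map_mul, hψ, Finset.prod_insert hit]

/-- `-1` lies in the commutator subgroup iff the discriminant is a square. -/
theorem neg_one_mem_commutator_iff [Fintype F] (h2 : (2 : F) ≠ 0) (hQ : PolarNondeg Q)
    (hev : Even (Module.finrank F V)) (hpos : Module.finrank F V ≠ 0) {ι : Type*} [Fintype ι] [DecidableEq ι]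
    (b : Module.Basis ι F V) {g : qAut Q} (hg : ∀ x, g.1 x = -x) :
    g ∈ commutator (qAut Q) ↔
      IsSquare (Matrix.of fun i j => QuadraticMap.polar Q (b i) (b j)).det := by
  classical
  obtain ⟨k, hk⟩ : ∃ k, Module.finrank F V = k + 1 := Nat.exists_eq_succ_of_ne_zero hpos
  have hkodd : Odd k := by
    rw [hk] at hev
    rwa [Nat.even_add_one, Nat.not_even_iff_odd] at hev
  obtain ⟨j, rfl⟩ := hkodd
  obtain ⟨ψ, -, hker, -, hiff⟩ := exists_abel_odd Q h2 hQ (by omega)
  obtain ⟨e, c, hc, hec⟩ := exists_normal_basis h2 (QuadraticMap.polarBilin Q)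
    (fun u v => QuadraticMap.polar_comm Q u v) (fun v hv => hQ v hv) hk
  simp only [QuadraticMap.polarBilin_apply_apply] at hec
  have hQe : ∀ i, 2 * Q (e i) = if i = Fin.last (2 * j + 1) then c else 1 := fun i => by
    rw [← quad_polar_self, hec, if_pos rfl]
  have he : ∀ i, Q (e i) ≠ 0 := fun i h => by
    have h' := hQe i
    rw [h, mul_zero] at h'
    split_ifs at h'
    · exact hc h'.symm
    · exact zero_ne_one h'
  obtain ⟨h, hh, hψ⟩ := exists_refl_prod Q ψ e he (fun i i' hii => by rw [hec, if_neg hii]) Finset.univ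
  have hgh : g = h := by
    have hl : (g.1 : V →ₗ[F] V) = (h.1 : V →ₗ[F] V) := e.ext fun i => by
      simp [hg, hh i]
    exact qAut_ext fun x => LinearMap.congr_fun hl x
  subst hgh
  rw [← hker, MonoidHom.mem_ker, hψ, Fin.prod_univ_castSucc]
  set r := ψ (qRefl Q (he (Fin.last (2 * j + 1))))
  set a := ψ (qRefl Q (he (Fin.castSucc 0))) with ha
  have hne : ∀ i : Fin (2 * j + 1), i.castSucc ≠ Fin.last (2 * j + 1) := fun i => Fin.castSucc_ne_last i
  have hall : ∀ i : Fin (2 * j + 1), ψ (qRefl Q (he i.castSucc)) = a := fun i => by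
    rw [ha, hiff]
    have h1 := hQe i.castSucc
    have h0 := hQe (Fin.castSucc 0)
    rw [if_neg (hne i)] at h1
    rw [if_neg (hne 0)] at h0
    refine ⟨Q (e i.castSucc), ?_⟩
    rw [mul_left_cancel₀ h2 (h0.trans h1.symm)]
  rw [Finset.prod_congr rfl fun i _ => hall i, Finset.prod_const, Finset.card_univ, Fintype.card_fin]
  have haa : a * a = 1 := by rw [ha, ← map_mul, qRefl_mul_self, map_one]
  have hrr : r * r = 1 := by rw [← map_mul, qRefl_mul_self, map_one]
  rw [pow_succ, pow_mul, sq, haa, one_pow, one_mul]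
  have hgram := isSquare_det_gram (QuadraticMap.polarBilin Q) b e 1
  simp only [one_mul, QuadraticMap.polarBilin_apply_apply] at hgram
  rw [hgram]
  have hdet : (Matrix.of fun i i' => QuadraticMap.polar Q (e i) (e i')).det = c := by
    conv_rhs => rw [← det_normal (n := 2 * j + 1) c]
    exact congrArg Matrix.det (Matrix.ext fun i i' => hec i i')
  rw [hdet, show a * r = 1 ↔ a = r from
    ⟨fun h => by rw [← mul_one a, ← hrr, ← mul_assoc, h, one_mul], fun h => h ▸ haa⟩, ha, hiff]
  have h0 := hQe (Fin.castSucc 0)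
  have hl := hQe (Fin.last (2 * j + 1))
  rw [if_neg (hne 0)] at h0
  rw [if_pos rfl] at hl
  constructor
  · intro h
    have h' := h.mul (show IsSquare ((2 : F) * 2) from ⟨2, rfl⟩)
    rwa [show Q (e (Fin.castSucc 0)) * Q (e (Fin.last (2 * j + 1))) * (2 * 2) =
      (2 * Q (e (Fin.castSucc 0))) * (2 * Q (e (Fin.last (2 * j + 1)))) by ring, h0, hl, one_mul] at h'
  · intro h
    have h' := h.mul (show IsSquare ((2 : F)⁻¹ * 2⁻¹) from ⟨2⁻¹, rfl⟩)
    rwa [← one_mul c, ← h0, ← hl,
      show (2 * Q (e (Fin.castSucc 0))) * (2 * Q (e (Fin.last (2 * j + 1)))) * ((2 : F)⁻¹ * 2⁻¹) =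
      Q (e (Fin.castSucc 0)) * Q (e (Fin.last (2 * j + 1))) by field_simp] at h'

/-- Products of two reflections in vectors of equal value are commutators. -/
theorem refl_mul_refl_mem_commutator (hQ : PolarNondeg Q) {v w : V} (hv : Q v ≠ 0) (hw : Q w ≠ 0)
    (h : Q v = Q w) : qRefl Q hv * qRefl Q hw ∈ commutator (qAut Q) := by
  obtain ⟨g, hg⟩ := exists_conj_refl Q hQ hv hw h
  have h1 := Subgroup.commutator_mem_commutator (Subgroup.mem_top (qRefl Q hv)) (Subgroup.mem_top g)
  rw [← hg]
  rw [← commutator_def] at h1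
  have h3 : ⁅qRefl Q hv, g⁆ = qRefl Q hv * (g * qRefl Q hv * g⁻¹) := by
    rw [commutatorElement_def, qRefl_inv]
    group
  rwa [h3] at h1

/-- An element commuting with the commutator subgroup is `±1`. -/
theorem centralizer_commutator [Fintype F] (hQ : PolarNondeg Q) (hn : 6 ≤ Module.finrank F V) {z : qAut Q}
    (hz : ∀ x ∈ commutator (qAut Q), z * x = x * z) :
    (∀ x, z.1 x = x) ∨ (∀ x, z.1 x = -x) := by
  classical
  haveI : Finite V := Module.finite_of_finite F
  have hamb : NdOn Q (⊤ : Submodule F V) := fun x _ h => hQ x fun y => h y trivial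
  -- the image of a product of two reflections
  have hplane : ∀ a b : V, Q a ≠ 0 → Q a = Q b → LinearIndependent F ![a, b] →
      z.1 a ∈ Submodule.span F {a, b} := by
    intro a b ha hab hli
    have hb : Q b ≠ 0 := hab ▸ ha
    have hc := hz _ (refl_mul_refl_mem_commutator Q hQ ha hb hab)
    obtain ⟨y, hya, hyb⟩ : ∃ y, QuadraticMap.polar Q y b = 0 ∧ QuadraticMap.polar Q y a ≠ 0 := by
      by_contra hcon
      push Not at hcon
      have hb0 : ∃ y0, QuadraticMap.polar Q y0 b ≠ 0 := by
        by_contra h0
        push Not at h0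
        exact hb (by
          rw [hQ b fun w => (QuadraticMap.polar_comm Q b w).trans (h0 w), map_zero])
      obtain ⟨y0, hy0⟩ := hb0
      have key : ∀ y, QuadraticMap.polar Q y a =
          QuadraticMap.polar Q y b / QuadraticMap.polar Q y0 b * QuadraticMap.polar Q y0 a := fun y => by
        have h := hcon (y - (QuadraticMap.polar Q y b / QuadraticMap.polar Q y0 b) • y0) (by
          rw [QuadraticMap.polar_sub_left, QuadraticMap.polar_smul_left, smul_eq_mul,
            div_mul_cancel₀ _ hy0, sub_self])
        rw [QuadraticMap.polar_sub_left, QuadraticMap.polar_smul_left, smul_eq_mul] at h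
        exact sub_eq_zero.1 h
      have hdep : a - (QuadraticMap.polar Q y0 a / QuadraticMap.polar Q y0 b) • b = 0 := hQ _ fun y => by
        rw [QuadraticMap.polar_sub_left, QuadraticMap.polar_smul_left, smul_eq_mul,
          QuadraticMap.polar_comm Q a, QuadraticMap.polar_comm Q b, key y]
        ring
      rw [LinearIndependent.pair_iff] at hli
      exact one_ne_zero (hli 1 (-(QuadraticMap.polar Q y0 a / QuadraticMap.polar Q y0 b))
        (by rw [one_smul, neg_smul, ← sub_eq_add_neg, hdep])).1
    have hy : (qRefl Q ha * qRefl Q hb).1 y = y - ((Q a)⁻¹ * QuadraticMap.polar Q y a) • a := by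
      rw [qAut_mul_apply, qRefl_fix Q hb hya, qRefl_apply]
    have h1 : z.1 ((qRefl Q ha * qRefl Q hb).1 y) = (qRefl Q ha * qRefl Q hb).1 (z.1 y) := by
      rw [← qAut_mul_apply, hc, qAut_mul_apply]
    rw [hy, map_sub, map_smul, qAut_mul_apply, qRefl_apply, qRefl_apply] at h1
    set c := (Q a)⁻¹ * QuadraticMap.polar Q y a with hcdef
    have hc0 : c ≠ 0 := mul_ne_zero (inv_ne_zero ha) hyb
    set s := (Q a)⁻¹ * QuadraticMap.polar Q (z.1 y - ((Q b)⁻¹ * QuadraticMap.polar Q (z.1 y) b) • b) a
    set t := (Q b)⁻¹ * QuadraticMap.polar Q (z.1 y) b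
    have h4 : c • z.1 a = t • b + s • a := by linear_combination (norm := module) -h1
    rw [show z.1 a = c⁻¹ • (c • z.1 a) by rw [smul_smul, inv_mul_cancel₀ hc0, one_smul], h4]
    refine Submodule.smul_mem _ _ (Submodule.add_mem _ (Submodule.smul_mem _ _ ?_) (Submodule.smul_mem _ _ ?_))
    · exact Submodule.subset_span (by simp)
    · exact Submodule.subset_span (by simp)
  -- anisotropic vectors are eigenvectors
  have heig : ∀ a : V, Q a ≠ 0 → z.1 a = a ∨ z.1 a = -a := by
    intro a ha
    have ha0 : a ≠ 0 := by rintro rfl; simp at ha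
    suffices hmem : z.1 a ∈ (F ∙ a) by
      obtain ⟨t, ht⟩ := Submodule.mem_span_singleton.1 hmem
      have hq := qAut_map z a
      rw [← ht, quad_smul] at hq
      rcases mul_self_eq_one_iff.1 (mul_left_eq_self₀.1 hq |>.resolve_right ha) with h | h
      · left; rw [← ht, h, one_smul]
      · right; rw [← ht, h, neg_one_smul]
    by_contra hmem
    set P := Submodule.span F {a, z.1 a} with hP
    have haP : a ∈ P := Submodule.subset_span (by simp)
    have hsing : ∀ v, QuadraticMap.polar Q a v ≠ 0 → v ∉ P → Q v = 0 := by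
      intro v hav hvP
      by_contra hv
      set c := (Q v)⁻¹ * QuadraticMap.polar Q a v with hc
      have hc0 : c ≠ 0 := mul_ne_zero (inv_ne_zero hv) hav
      set b := (qRefl Q hv).1 a with hb
      have hbv : b = a - c • v := qRefl_apply Q hv a
      have hvind : ∀ s t : F, s • a + t • v = 0 → s = 0 ∧ t = 0 := by
        intro s t hst
        rcases eq_or_ne t 0 with rfl | ht
        · rw [zero_smul, add_zero] at hst
          exact ⟨(smul_eq_zero.1 hst).resolve_right ha0, rfl⟩
        · refine absurd ?_ hvP
          have : v = (-(t⁻¹ * s)) • a := by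
            linear_combination (norm := module) t⁻¹ • hst - (inv_mul_cancel₀ ht) • v
          rw [this]
          exact P.smul_mem _ haP
      have hli : LinearIndependent F ![a, b] := by
        rw [LinearIndependent.pair_iff]
        intro s t hst
        obtain ⟨h1, h2⟩ := hvind (s + t) (-(t * c)) (by rw [← hst, hbv]; module)
        obtain rfl : t = 0 := (mul_eq_zero.1 (neg_eq_zero.1 h2)).resolve_right hc0
        exact ⟨by simpa using h1, rfl⟩
      obtain ⟨s, t, hst⟩ := Submodule.mem_span_pair.1 (hplane a b ha (qAut_map _ a).symm hli)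
      have ht : t ≠ 0 := fun h0 => hmem (Submodule.mem_span_singleton.2 ⟨s, by rw [← hst, h0, zero_smul, add_zero]⟩)
      refine hvP ?_
      have : v = ((t * c)⁻¹ * (s + t)) • a - (t * c)⁻¹ • z.1 a := by
        rw [← hst, hbv]
        have : (t * c)⁻¹ * (t * c) = 1 := inv_mul_cancel₀ (mul_ne_zero ht hc0)
        linear_combination (norm := module) -(this • v)
      rw [this]
      exact P.sub_mem (P.smul_mem _ haP) (P.smul_mem _ (Submodule.subset_span (by simp)))
    obtain ⟨y0, hy0⟩ : ∃ y0, QuadraticMap.polar Q a y0 ≠ 0 := by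
      by_contra h0
      push Not at h0
      exact ha0 (hQ a h0)
    set K := LinearMap.ker (QuadraticMap.polarBilin Q a) with hK
    have hKrank : Module.finrank F V ≤ Module.finrank F K + 1 := by
      have h := LinearMap.finrank_range_add_finrank_ker (QuadraticMap.polarBilin Q a)
      have h' := Submodule.finrank_le (LinearMap.range (QuadraticMap.polarBilin Q a))
      rw [Module.finrank_self] at h'
      rw [← hK] at h
      omega
    have horth : ∀ s ∈ K, ∀ t ∈ K, QuadraticMap.polar Q s t = 0 := by
      intro s hs t ht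
      obtain ⟨x, hxK, h1, h2, h3, h4⟩ : ∃ x ∈ K, y0 + x ∉ P ∧ y0 + (x + s) ∉ P ∧ y0 + (x + t) ∉ P ∧
          y0 + (x + s + t) ∉ P := by
        by_contra hcon
        push Not at hcon
        haveI : Fintype P := Fintype.ofFinite _
        let bad : Finset V := ((Finset.univ : Finset P) ×ˢ ({0, s, t, s + t} : Finset V)).image
          fun p => (p.1 : V) - y0 - p.2
        haveI : Fintype V := Fintype.ofFinite V
        have hsub : (Finset.univ.filter fun x => x ∈ K) ⊆ bad := by
          intro x hx
          rw [Finset.mem_filter] at hx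
          simp only [bad, Finset.mem_image, Finset.mem_product, Finset.mem_univ, true_and]
          by_cases h1 : y0 + x ∈ P
          · exact ⟨⟨⟨_, h1⟩, 0⟩, by simp, by simp⟩
          by_cases h2 : y0 + (x + s) ∈ P
          · exact ⟨⟨⟨_, h2⟩, s⟩, by simp, by dsimp only; abel⟩
          by_cases h3 : y0 + (x + t) ∈ P
          · exact ⟨⟨⟨_, h3⟩, t⟩, by simp, by dsimp only; abel⟩
          exact ⟨⟨⟨_, hcon x hx.2 h1 h2 h3⟩, s + t⟩, by simp, by dsimp only; abel⟩
        have hle := (Finset.card_le_card hsub).trans (Finset.card_image_le)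
        rw [Finset.card_product, Finset.card_univ, ← Fintype.card_subtype, ← Nat.card_eq_fintype_card,
          ← Nat.card_eq_fintype_card, Module.natCard_eq_pow_finrank (K := F) (V := P)] at hle
        rw [show Nat.card {x // x ∈ K} = Nat.card F ^ Module.finrank F K from
          Module.natCard_eq_pow_finrank (K := F) (V := K)] at hle
        have hq : 2 ≤ Nat.card F := by rw [Nat.card_eq_fintype_card]; exact Fintype.one_lt_card
        have hPr : Module.finrank F P ≤ 2 := by
          have h := finrank_span_finset_le_card (R := F) ({a, z.1 a} : Finset V)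
          rw [Set.finrank] at h
          rw [hP, show ({a, z.1 a} : Set V) = (({a, z.1 a} : Finset V) : Set V) by simp]
          exact h.trans Finset.card_le_two
        have h5 : Nat.card F ^ 5 ≤ Nat.card F ^ 2 * 4 :=
          calc Nat.card F ^ 5 ≤ Nat.card F ^ Module.finrank F K := Nat.pow_le_pow_right (by omega) (by omega)
            _ ≤ Nat.card F ^ Module.finrank F P * ({0, s, t, s + t} : Finset V).card := hle
            _ ≤ Nat.card F ^ 2 * 4 :=
              Nat.mul_le_mul (Nat.pow_le_pow_right (by omega) hPr) Finset.card_le_four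
        have h8 : 2 ^ 3 ≤ Nat.card F ^ 3 := Nat.pow_le_pow_left hq 3
        have h9 : 0 < Nat.card F ^ 2 := by positivity
        nlinarith [show Nat.card F ^ 5 = Nat.card F ^ 2 * Nat.card F ^ 3 by ring]
      have hval : ∀ w ∈ K, y0 + w ∉ P → Q (y0 + w) = 0 := fun w hw hwP => hsing _ (by
        rw [QuadraticMap.polar_add_right, show QuadraticMap.polar Q a w = 0 from LinearMap.mem_ker.1 hw,
          add_zero]
        exact hy0) hwP
      have e1 := hval x hxK h1
      have e2 := hval (x + s) (K.add_mem hxK hs) h2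
      have e3 := hval (x + t) (K.add_mem hxK ht) h3
      have e4 := hval (x + s + t) (K.add_mem (K.add_mem hxK hs) ht) h4
      simp only [quad_add, QuadraticMap.polar_add_left, QuadraticMap.polar_add_right] at e1 e2 e3 e4
      linear_combination e4 - e2 - e3 + e1
    have hle : K ≤ (F ∙ a) := by
      intro s hs
      refine Submodule.mem_span_singleton.2 ⟨QuadraticMap.polar Q s y0 / QuadraticMap.polar Q a y0, ?_⟩
      refine (sub_eq_zero.1 (hQ _ fun y => ?_)).symm
      rw [show y = (QuadraticMap.polar Q a y / QuadraticMap.polar Q a y0) • y0 +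
        (y - (QuadraticMap.polar Q a y / QuadraticMap.polar Q a y0) • y0) by abel,
        QuadraticMap.polar_add_right]
      set k := y - (QuadraticMap.polar Q a y / QuadraticMap.polar Q a y0) • y0
      have hk : k ∈ K := LinearMap.mem_ker.2 (by simp [k, div_mul_cancel₀ _ hy0])
      have hk' : QuadraticMap.polar Q a k = 0 := LinearMap.mem_ker.1 hk
      simp only [QuadraticMap.polar_sub_left, QuadraticMap.polar_smul_left, QuadraticMap.polar_smul_right,
        smul_eq_mul, horth s hs k hk, hk', mul_zero, sub_zero, add_zero, zero_add]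
      field_simp
      ring
    have h1 := Submodule.finrank_mono hle
    rw [finrank_span_singleton ha0] at h1
    omega
  -- the eigenvalue is constant
  have hone : ∀ a b : V, Q a ≠ 0 → Q b ≠ 0 → z.1 a = a → z.1 b = -b → (2 : F) = 0 := by
    intro a b ha hb hza hzb
    by_contra h2
    have pol0 : ∀ u v, z.1 u = u → z.1 v = -v → QuadraticMap.polar Q u v = 0 := fun u v hu hv => by
      have h := qAut_polar z u v
      rw [hu, hv, QuadraticMap.polar_neg_right] at h
      exact (mul_eq_zero.1 (show (2 : F) * QuadraticMap.polar Q u v = 0 by linear_combination -h)).resolve_left h2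
    have hval : ∀ u v, Q u ≠ 0 → Q v ≠ 0 → z.1 u = u → z.1 v = -v → Q u + Q v = 0 := fun u v hu hv hzu hzv => by
      by_contra hs
      have hq : Q (u + v) = Q u + Q v := by rw [quad_add, pol0 u v hzu hzv, add_zero]
      rcases heig (u + v) (hq ▸ hs) with h | h
      · rw [map_add, hzu, hzv] at h
        have : (2 : F) • v = 0 := by linear_combination (norm := module) -h
        exact hv (by rw [(smul_eq_zero.1 this).resolve_left h2, map_zero])
      · rw [map_add, hzu, hzv] at h
        have : (2 : F) • u = 0 := by linear_combination (norm := module) h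
        exact hu (by rw [(smul_eq_zero.1 this).resolve_left h2, map_zero])
    have hPa := ndOn_linePerp Q h2 hamb (Submodule.mem_top (x := a)) ha
    have hbP : b ∈ ⊤ ⊓ LinearMap.ker (QuadraticMap.polarBilin Q a) := ⟨trivial, pol0 a b hza hzb⟩
    obtain ⟨e, ⟨⟨-, hea⟩, heb⟩, he⟩ := exists_aniso_in Q (ndOn_linePerp Q h2 hPa hbP hb) (by
      intro h
      rw [top_inf_eq] at h
      have h1 := Submodule.finrank_sup_add_finrank_inf_eq (LinearMap.ker (QuadraticMap.polarBilin Q a))
        (LinearMap.ker (QuadraticMap.polarBilin Q b))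
      have h3 := finrank_linePerp Q h2 ha
      have h4 := finrank_linePerp Q h2 hb
      have h5 := Submodule.finrank_le (LinearMap.ker (QuadraticMap.polarBilin Q a) ⊔
        LinearMap.ker (QuadraticMap.polarBilin Q b))
      rw [h, finrank_bot] at h1
      omega)
    simp only [SetLike.mem_coe, LinearMap.mem_ker, QuadraticMap.polarBilin_apply_apply] at hea heb
    have hab := hval a b ha hb hza hzb
    have hpab := pol0 a b hza hzb
    have hq : Q (a + b + e) = Q e := by
      simp only [quad_add, QuadraticMap.polar_add_left, hea, heb, hpab]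
      linear_combination hab
    rcases heig e he with h | h
    · have hqe : Q e = Q a := by linear_combination hval e b he hb h hzb - hab
      rcases heig (a + b + e) (hq ▸ he) with h' | h'
      · have := pol0 _ b h' hzb
        simp only [QuadraticMap.polar_add_left, QuadraticMap.polar_comm Q e b, hpab, heb, quad_polar_self] at this
        exact hb ((mul_eq_zero.1 (show (2 : F) * Q b = 0 by linear_combination this)).resolve_left h2)
      · have := hval a _ ha (hq ▸ he) hza h'
        rw [hq, hqe] at this
        exact ha ((mul_eq_zero.1 (show (2 : F) * Q a = 0 by linear_combination this)).resolve_left h2)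
    · have hqe : Q e = Q b := by linear_combination hval a e ha he hza h - hab
      rcases heig (a + b + e) (hq ▸ he) with h' | h'
      · have := hval _ b (hq ▸ he) hb h' hzb
        rw [hq, hqe] at this
        exact hb ((mul_eq_zero.1 (show (2 : F) * Q b = 0 by linear_combination this)).resolve_left h2)
      · have := pol0 a _ hza h'
        simp only [QuadraticMap.polar_add_right, hpab, hea, quad_polar_self] at this
        exact ha ((mul_eq_zero.1 (show (2 : F) * Q a = 0 by linear_combination this)).resolve_left h2)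
  obtain ⟨ε, hεs, hε⟩ : ∃ ε : F, (ε = 1 ∨ ε = -1) ∧ ∀ v, Q v ≠ 0 → z.1 v = ε • v := by
    by_cases h : ∀ v, Q v ≠ 0 → z.1 v = v
    · exact ⟨1, Or.inl rfl, fun v hv => by rw [h v hv, one_smul]⟩
    push Not at h
    obtain ⟨b, hb, hzb⟩ := h
    have hzb' := (heig b hb).resolve_left hzb
    refine ⟨-1, Or.inr rfl, fun v hv => ?_⟩
    rcases heig v hv with h' | h'
    · exfalso
      refine hzb (hzb'.trans ?_)
      rw [neg_eq_iff_add_eq_zero, ← two_smul F, hone v b hv hb h' hzb', zero_smul]
    · rw [h', neg_one_smul]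
  have hall : ∀ x, z.1 x = ε • x := by
    intro x
    by_cases hx : Q x = 0
    · rcases eq_or_ne x 0 with rfl | hx0
      · simp
      obtain ⟨p, -, hp, hxp⟩ := exists_partner Q hamb (Submodule.mem_top (x := x)) hx0 hx
      obtain ⟨w, ⟨⟨-, hwx⟩, -⟩, hw⟩ := exists_aniso_in Q
        (ndOn_pairPerp Q hamb (Submodule.mem_top (x := x)) (Submodule.mem_top (x := p)) hx hp hxp) (by
          intro h
          rw [top_inf_eq] at h
          have h1 := Submodule.finrank_sup_add_finrank_inf_eq (LinearMap.ker (QuadraticMap.polarBilin Q x))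
            (LinearMap.ker (QuadraticMap.polarBilin Q p))
          have h3 := LinearMap.finrank_range_add_finrank_ker (QuadraticMap.polarBilin Q x)
          have h4 := LinearMap.finrank_range_add_finrank_ker (QuadraticMap.polarBilin Q p)
          have h6 := Submodule.finrank_le (LinearMap.range (QuadraticMap.polarBilin Q x))
          have h7 := Submodule.finrank_le (LinearMap.range (QuadraticMap.polarBilin Q p))
          rw [Module.finrank_self] at h6 h7
          have h5 := Submodule.finrank_le (LinearMap.ker (QuadraticMap.polarBilin Q x) ⊔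
            LinearMap.ker (QuadraticMap.polarBilin Q p))
          rw [h, finrank_bot] at h1
          omega)
      simp only [SetLike.mem_coe, LinearMap.mem_ker, QuadraticMap.polarBilin_apply_apply] at hwx
      have hq : Q (x + w) ≠ 0 := by simpa [quad_add, hx, hwx] using hw
      have h := hε _ hq
      rw [map_add, hε w hw, smul_add] at h
      exact add_right_cancel h
    · exact hε x hx
  rcases hεs with rfl | rfl
  · exact Or.inl fun x => by rw [hall x, one_smul]
  · exact Or.inr fun x => by rw [hall x, neg_one_smul]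

end CfsgLib.Classical
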