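/-
The odd-dimensional orthogonal group of `quadFormOdd`: `m` classes of involutions in `Ω`,
and triviality of the centre of `Ω`.
-/
import Cfsg.Agent.Lib.Classical.OrthDet

set_option autoImplicit false

namespace CfsgLib.Classical

open Matrix Cfsg
open scoped commutatorElement

attribute [-simp] Matrix.mulVec_single

variable {F : Type*} [Field F] {m : ℕ}

/-- The index type of `quadFormOdd`. -/
abbrev OddI (m : ℕ) : Type := Unit ⊕ (Fin m ⊕ Fin m)

/-- The coordinate `x_i`. -/
abbrev oL (i : Fin m) : OddI m := Sum.inr (Sum.inl i)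

/-- The coordinate `y_i`. -/
abbrev oR (i : Fin m) : OddI m := Sum.inr (Sum.inr i)

/-- The coordinate `x₀`. -/
abbrev oZ {m : ℕ} : OddI m := Sum.inl ()

/-- `quadFormOdd` as a quadratic form. -/
def qOdd (m : ℕ) (F : Type*) [Field F] : QuadraticForm F (OddI m → F) :=
  QuadraticMap.proj oZ oZ + ∑ i : Fin m, QuadraticMap.proj (oL i) (oR i)

theorem qOdd_apply (v : OddI m → F) :
    qOdd m F v = v oZ * v oZ + ∑ i : Fin m, v (oL i) * v (oR i) := by
  simp [qOdd]

theorem coe_qOdd (m : ℕ) (F : Type*) [Field F] : ⇑(qOdd m F) = Cfsg.quadFormOdd m F :=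
  funext fun v => by rw [qOdd_apply, Cfsg.quadFormOdd, sq]

theorem qOdd_polar (x y : OddI m → F) :
    QuadraticMap.polar (qOdd m F) x y =
      2 * (x oZ * y oZ) + ∑ i : Fin m, (x (oL i) * y (oR i) + x (oR i) * y (oL i)) := by
  simp only [QuadraticMap.polar, qOdd_apply, Pi.add_apply]
  rw [show ∀ a b c d e f : F, a + b - (c + d) - (e + f) = (a - c - e) + (b - d - f) by
    intros; ring, ← Finset.sum_sub_distrib, ← Finset.sum_sub_distrib]
  congr 1
  · ring
  · exact Finset.sum_congr rfl fun i _ => by ring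

/-- `u_i = x_i + y_i`. -/
def oU (i : Fin m) : OddI m → F := Pi.single (oL i) 1 + Pi.single (oR i) 1

/-- `w_i = x_i - y_i`. -/
def oW (i : Fin m) : OddI m → F := Pi.single (oL i) 1 - Pi.single (oR i) 1

theorem sum_single_pair (x : OddI m → F) (i : Fin m) (c : F) :
    ∑ j : Fin m, (x (oL j) * (if j = i then c else 0)) = c * x (oL i) := by
  simp [mul_comm]

theorem polar_oZ (x : OddI m → F) :
    QuadraticMap.polar (qOdd m F) x (Pi.single oZ 1) = 2 * x oZ := by
  simp [qOdd_polar]

theorem polar_oU (x : OddI m → F) (i : Fin m) :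
    QuadraticMap.polar (qOdd m F) x (oU i) = x (oL i) + x (oR i) := by
  simp [qOdd_polar, oU, Pi.single_apply]
  ring

theorem polar_oW (x : OddI m → F) (i : Fin m) :
    QuadraticMap.polar (qOdd m F) x (oW i) = x (oR i) - x (oL i) := by
  simp [qOdd_polar, oW, Pi.single_apply]

theorem qOdd_oZ : qOdd m F (Pi.single oZ 1) = 1 := by simp [qOdd_apply]

theorem qOdd_oU (i : Fin m) : qOdd m F (oU i) = 1 := by
  simp [qOdd_apply, oU, Pi.single_apply]

theorem qOdd_oW (i : Fin m) : qOdd m F (oW i) = -1 := by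
  simp [qOdd_apply, oW, Pi.single_apply]

/-- `2m` mutually orthogonal vectors, of norm `1` up to `2⌈m/2⌉ - 1` and `-1` afterwards. -/
def oddBase (m : ℕ) (F : Type*) [Field F] (n : ℕ) : OddI m → F :=
  if n < 2 * ((m + 1) / 2) then
    if h : 1 ≤ n ∧ n - 1 < m then oU ⟨n - 1, h.2⟩ else Pi.single oZ 1
  else if h : n - 2 * ((m + 1) / 2) < m then oW ⟨n - 2 * ((m + 1) / 2), h⟩ else Pi.single oZ 1

theorem oddBase_ne_zero (n : ℕ) : qOdd m F (oddBase m F n) ≠ 0 := by
  unfold oddBase
  split_ifs <;> simp [qOdd_oU, qOdd_oW, qOdd_oZ]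

theorem oddBase_pair {t : ℕ} (ht : t < m) :
    qOdd m F (oddBase m F (2 * t)) = qOdd m F (oddBase m F (2 * t + 1)) := by
  unfold oddBase
  split_ifs <;> first | omega | simp [qOdd_oU, qOdd_oW, qOdd_oZ]

theorem oddBase_orth {n n' : ℕ} (hn : n < 2 * m) (hn' : n' < 2 * m) (h : n ≠ n') :
    QuadraticMap.polar (qOdd m F) (oddBase m F n) (oddBase m F n') = 0 := by
  unfold oddBase
  split_ifs <;>
    first
      | omega
      | ((simp only [polar_oU, polar_oW, polar_oZ]
          simp [oU, oW, Pi.single_apply, Fin.ext_iff]) <;>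
          split_ifs <;> first | omega | simp)

/-- The product of the first `k` pairs of reflections. -/
noncomputable def oddInv (m : ℕ) (F : Type*) [Field F] : ℕ → isometryGroup F ⇑(qOdd m F)
  | 0 => 1
  | (k + 1) => reflect (qOdd m F) _ (oddBase_ne_zero (2 * k)) *
      reflect (qOdd m F) _ (oddBase_ne_zero (2 * k + 1)) * oddInv m F k

theorem oddInv_apply : ∀ {k : ℕ}, k ≤ m → ∀ x : OddI m → F,
    isoApply (oddInv m F k) x = x - ∑ n ∈ Finset.range (2 * k),
      ((qOdd m F (oddBase m F n))⁻¹ * QuadraticMap.polar (qOdd m F) x (oddBase m F n)) •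
        oddBase m F n
  | 0, _, x => by simp [oddInv, isoApply_one]
  | (k + 1), hk, x => by
    have hp : ∀ n', 2 * k ≤ n' → n' ≤ 2 * k + 1 →
        QuadraticMap.polar (qOdd m F) (x - ∑ n ∈ Finset.range (2 * k),
          ((qOdd m F (oddBase m F n))⁻¹ * QuadraticMap.polar (qOdd m F) x (oddBase m F n)) •
            oddBase m F n) (oddBase m F n') =
        QuadraticMap.polar (qOdd m F) x (oddBase m F n') := by
      intro n' h1 h2
      rw [QuadraticMap.polar_sub_left, ← QuadraticMap.polarBilin_apply_apply,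
        ← QuadraticMap.polarBilin_apply_apply, map_sum, LinearMap.sum_apply,
        Finset.sum_eq_zero, sub_zero]
      intro n hn
      rw [Finset.mem_range] at hn
      simp [oddBase_orth (show n < 2 * m by omega) (show n' < 2 * m by omega) (by omega)]
    rw [oddInv, isoApply_mul, isoApply_mul, oddInv_apply (by omega : k ≤ m),
      show 2 * (k + 1) = 2 * k + 1 + 1 by ring, Finset.sum_range_succ, Finset.sum_range_succ,
      reflect_apply, reflect_apply, hp _ (by omega) le_rfl, QuadraticMap.polar_sub_left,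
      QuadraticMap.polar_smul_left, hp _ le_rfl (by omega),
      oddBase_orth (show 2 * k + 1 < 2 * m by omega) (show 2 * k < 2 * m by omega) (by omega),
      smul_zero, sub_zero]
    abel

theorem oddInv_mul_self (h2 : (2 : F) ≠ 0) {k : ℕ} (hk : k ≤ m) :
    oddInv m F k * oddInv m F k = 1 := by
  refine iso_ext fun x => ?_
  rw [isoApply_mul, isoApply_one]
  conv_lhs => rw [oddInv_apply hk, oddInv_apply hk]
  have key : ∀ n ∈ Finset.range (2 * k), QuadraticMap.polar (qOdd m F)
      (x - ∑ i ∈ Finset.range (2 * k),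
        ((qOdd m F (oddBase m F i))⁻¹ * QuadraticMap.polar (qOdd m F) x (oddBase m F i)) •
          oddBase m F i) (oddBase m F n) =
      -QuadraticMap.polar (qOdd m F) x (oddBase m F n) := by
    intro n hn
    rw [QuadraticMap.polar_sub_left, ← QuadraticMap.polarBilin_apply_apply,
      ← QuadraticMap.polarBilin_apply_apply, map_sum, LinearMap.sum_apply,
      Finset.sum_eq_single_of_mem n hn]
    · simp only [map_smul, LinearMap.smul_apply, QuadraticMap.polarBilin_apply_apply, smul_eq_mul,
        qf_polar_self]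
      field_simp [oddBase_ne_zero n]
      ring
    · intro i hi hne
      rw [Finset.mem_range] at hi hn
      simp [oddBase_orth (show i < 2 * m by omega) (show n < 2 * m by omega) hne]
  set S := ∑ i ∈ Finset.range (2 * k),
    ((qOdd m F (oddBase m F i))⁻¹ * QuadraticMap.polar (qOdd m F) x (oddBase m F i)) •
      oddBase m F i with hS
  have hs : ∑ n ∈ Finset.range (2 * k),
      ((qOdd m F (oddBase m F n))⁻¹ * QuadraticMap.polar (qOdd m F) (x - S) (oddBase m F n)) •
        oddBase m F n = -S := by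
    conv_rhs => rw [hS, ← Finset.sum_neg_distrib]
    exact Finset.sum_congr rfl fun n hn => by rw [key n hn, mul_neg, neg_smul]
  rw [hs]
  abel

theorem oddInv_mem_Omega (h2 : (2 : F) ≠ 0) :
    ∀ {k : ℕ}, k ≤ m → oddInv m F k ∈ Omega F ⇑(qOdd m F)
  | 0, _ => one_mem _
  | (k + 1), hk => by
    refine mul_mem (reflect_mul_mem_commutator _ (oddBase_ne_zero _) (oddBase_ne_zero _)
      (oddBase_pair (by omega)) ?_) (oddInv_mem_Omega h2 (by omega))
    rw [sub_eq_add_neg, qf_map_add, QuadraticMap.map_neg, QuadraticMap.polar_neg_right,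
      oddBase_orth (show 2 * k < 2 * m by omega) (show 2 * k + 1 < 2 * m by omega) (by omega),
      ← oddBase_pair (show k < m by omega), neg_zero, add_zero, ← two_mul]
    exact mul_ne_zero h2 (oddBase_ne_zero _)

/-- The rank of `g - 1`. -/
noncomputable def isoRank {Q : (OddI m → F) → F} (g : isometryGroup F Q) : ℕ :=
  (((g : GL (OddI m) F) : Matrix (OddI m) (OddI m) F) - 1).rank

theorem isoRank_conj {Q : (OddI m → F) → F} {g g' : isometryGroup F Q} (h : IsConj g g') :
    isoRank g = isoRank g' := by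
  obtain ⟨c, hc⟩ := isConj_iff.1 h
  have hu : IsUnit ((c : GL (OddI m) F) : Matrix (OddI m) (OddI m) F).det :=
    (Matrix.isUnit_iff_isUnit_det _).1 (Units.isUnit _)
  have hcg : ((g' : GL (OddI m) F) : Matrix (OddI m) (OddI m) F) *
      ((c : GL (OddI m) F) : Matrix _ _ F) =
      ((c : GL (OddI m) F) : Matrix _ _ F) * ((g : GL (OddI m) F) : Matrix _ _ F) := by
    rw [← Units.val_mul, ← Units.val_mul, ← Subgroup.coe_mul, ← Subgroup.coe_mul, ← hc,
      inv_mul_cancel_right]
  unfold isoRank
  rw [← rank_mul_eq_right_of_isUnit_det ((c : GL (OddI m) F) : Matrix (OddI m) (OddI m) F)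
      (((g : GL (OddI m) F) : Matrix (OddI m) (OddI m) F) - 1) hu,
    ← rank_mul_eq_left_of_isUnit_det ((c : GL (OddI m) F) : Matrix (OddI m) (OddI m) F)
      (((g' : GL (OddI m) F) : Matrix (OddI m) (OddI m) F) - 1) hu,
    Matrix.mul_sub, Matrix.sub_mul, hcg, Matrix.one_mul, Matrix.mul_one]

theorem isoRank_oddInv (h2 : (2 : F) ≠ 0) {k : ℕ} (hk : k ≤ m) :
    isoRank (oddInv m F k) = 2 * k := by
  set N := (((oddInv m F k : isometryGroup F ⇑(qOdd m F)) : GL (OddI m) F) :
    Matrix (OddI m) (OddI m) F) - 1 with hN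
  have hNx : ∀ x, N.mulVecLin x = -∑ n ∈ Finset.range (2 * k),
      ((qOdd m F (oddBase m F n))⁻¹ * QuadraticMap.polar (qOdd m F) x (oddBase m F n)) •
        oddBase m F n := by
    intro x
    rw [mulVecLin_apply, hN, sub_mulVec, one_mulVec]
    change isoApply (oddInv m F k) x - x = _
    rw [oddInv_apply hk]
    abel
  set b : Fin (2 * k) → OddI m → F := fun n => oddBase m F n with hb
  have hrange : LinearMap.range N.mulVecLin = Submodule.span F (Set.range b) := by
    apply le_antisymm
    · rintro _ ⟨x, rfl⟩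
      rw [hNx]
      exact neg_mem (Submodule.sum_mem _ fun n hn => Submodule.smul_mem _ _
        (Submodule.subset_span ⟨⟨n, Finset.mem_range.1 hn⟩, rfl⟩))
    · rw [Submodule.span_le]
      rintro _ ⟨n, rfl⟩
      refine ⟨(-(2 : F))⁻¹ • b n, ?_⟩
      rw [map_smul, hNx, Finset.sum_eq_single_of_mem (n : ℕ) (Finset.mem_range.2 n.2)]
      · rw [hb, qf_polar_self, mul_comm (2 : F), ← mul_assoc,
          inv_mul_cancel₀ (oddBase_ne_zero _), one_mul, ← neg_smul, smul_smul,
          inv_mul_cancel₀ (neg_ne_zero.2 h2), one_smul]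
      · intro i hi hne
        rw [Finset.mem_range] at hi
        simp [hb, oddBase_orth (show (n : ℕ) < 2 * m by omega) (show i < 2 * m by omega) hne.symm]
  have hli : LinearIndependent F b := by
    refine LinearMap.linearIndependent_of_isOrthoᵢ (B := QuadraticMap.polarBilin (qOdd m F)) ?_ ?_
    · intro i j hij
      exact oddBase_orth (show (i : ℕ) < 2 * m by omega) (show (j : ℕ) < 2 * m by omega)
        (fun h => hij (Fin.ext h))
    · intro i h
      rw [QuadraticMap.polarBilin_apply_apply, qf_polar_self] at h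
      exact mul_ne_zero h2 (oddBase_ne_zero _) h
  rw [isoRank, ← hN, Matrix.rank, hrange, finrank_span_eq_card hli, Fintype.card_fin]

/-- The elementary map `x_i ↦ x_i + c x_j`, `y_j ↦ y_j - c y_i`. -/
noncomputable def oddT {i j : Fin m} (hij : i ≠ j) (c : F) : isometryGroup F ⇑(qOdd m F) :=
  isoMk
    (LinearMap.id + c • ((LinearMap.proj (oL j)).smulRight (Pi.single (oL i) (1 : F)) -
      (LinearMap.proj (oR i)).smulRight (Pi.single (oR j) (1 : F))))
    (by
      rw [← LinearMap.ker_eq_bot, LinearMap.ker_eq_bot']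
      intro x hx
      have h1 := congrFun hx (oL j)
      have h2 := congrFun hx (oR i)
      simp [hij, hij.symm] at h1 h2
      simpa [h1, h2] using hx)
    (by
      intro x
      simp only [qOdd_apply]
      congr 1
      · simp
      · simp [Pi.single_apply, mul_add, add_mul, mul_sub, sub_mul, Finset.sum_add_distrib,
          Finset.sum_sub_distrib, hij, hij.symm]
        ring)

theorem oddT_apply {i j : Fin m} (hij : i ≠ j) (c : F) (x : OddI m → F) :
    isoApply (oddT hij c) x =
      x + c • (x (oL j) • Pi.single (oL i) 1 - x (oR i) • Pi.single (oR j) 1) := by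
  rw [oddT, isoMk_apply]
  simp

theorem oddT_mem_Omega {i j : Fin m} (hij : i ≠ j) (hm : 3 ≤ m) :
    oddT hij (1 : F) ∈ Omega F ⇑(qOdd m F) := by
  obtain ⟨k, hk⟩ : ∃ k, k ∉ ({i, j} : Finset (Fin m)) := by
    by_contra hc
    push Not at hc
    have h1 := Finset.card_le_card (fun x _ => hc x : Finset.univ ⊆ ({i, j} : Finset (Fin m)))
    have h2 := Finset.card_le_two (a := i) (b := j)
    simp at h1
    omega
  simp only [Finset.mem_insert, Finset.mem_singleton, not_or] at hk
  have key : oddT (Ne.symm hk.1) (1 : F) * oddT hk.2 1 =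
      oddT hij (1 : F) * (oddT hk.2 1 * oddT (Ne.symm hk.1) 1) := by
    refine iso_ext fun x => ?_
    simp only [isoApply_mul, oddT_apply]
    simp [hij, hij.symm, hk.1, hk.2, Ne.symm hk.1, Ne.symm hk.2]
    module
  have : ⁅oddT (Ne.symm hk.1) (1 : F), oddT hk.2 (1 : F)⁆ = oddT hij (1 : F) := by
    rw [commutatorElement_def, key]
    group
  rw [← this]
  exact Subgroup.commutator_mem_commutator (Subgroup.mem_top _) (Subgroup.mem_top _)

theorem det_eq_one_of_mem_Omega {ι : Type} [Fintype ι] [DecidableEq ι] {Q : (ι → F) → F}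
    {g : isometryGroup F Q} (hg : g ∈ Omega F Q) : ((g : GL ι F) : Matrix ι ι F).det = 1 := by
  have := Abelianization.commutator_subset_ker
    ((GeneralLinearGroup.det : GL ι F →* Fˣ).comp (isometryGroup F Q).subtype) hg
  simpa using congrArg Units.val (MonoidHom.mem_ker.1 this)

theorem center_Omega_qOdd (hm : 3 ≤ m) (h2 : (2 : F) ≠ 0) :
    Subgroup.center (Omega F ⇑(qOdd m F)) = ⊥ := by
  rw [Subgroup.eq_bot_iff_forall]
  rintro ⟨g, hg⟩ hc
  have hcomm : ∀ h ∈ Omega F ⇑(qOdd m F), ∀ x,
      isoApply g (isoApply h x) = isoApply h (isoApply g x) := by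
    intro h hh x
    have e : h * g = g * h := congrArg Subtype.val (Subgroup.mem_center_iff.1 hc ⟨h, hh⟩)
    rw [← isoApply_mul, ← isoApply_mul, e]
  -- the images of the basis vectors
  have hT : ∀ {i j : Fin m} (hij : i ≠ j) (x : OddI m → F),
      x (oL j) • isoApply g (Pi.single (oL i) 1) - x (oR i) • isoApply g (Pi.single (oR j) 1) =
        isoApply g x (oL j) • Pi.single (oL i) 1 - isoApply g x (oR i) • Pi.single (oR j) 1 := by
    intro i j hij x
    have := hcomm _ (oddT_mem_Omega hij hm) x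
    rw [oddT_apply, oddT_apply] at this
    simpa [isoApply, mulVec_add, mulVec_sub, mulVec_smul] using this
  have third : ∀ i : Fin m, ∀ p : Fin m, ∃ q, q ≠ i ∧ q ≠ p := by
    intro i p
    by_contra hc'
    push Not at hc'
    have h1 := Finset.card_le_card (show Finset.univ ⊆ ({i, p} : Finset (Fin m)) by
      intro x _
      rcases eq_or_ne x i with h | h
      · simp [h]
      · simp [hc' x h])
    have h3 := Finset.card_le_two (a := i) (b := p)
    simp at h1
    omega
  -- x_i
  have hL : ∀ i j : Fin m, i ≠ j → isoApply g (Pi.single (oL i) 1) =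
      isoApply g (Pi.single (oL j) 1) (oL j) • Pi.single (oL i) 1 -
        isoApply g (Pi.single (oL j) 1) (oR i) • Pi.single (oR j) 1 := by
    intro i j hij
    simpa [hij, hij.symm] using hT hij (Pi.single (oL j) 1)
  have hR : ∀ i j : Fin m, i ≠ j → isoApply g (Pi.single (oR j) 1) =
      isoApply g (Pi.single (oR i) 1) (oR i) • Pi.single (oR j) 1 -
        isoApply g (Pi.single (oR i) 1) (oL j) • Pi.single (oL i) 1 := by
    intro i j hij
    have := hT hij (Pi.single (oR i) 1)
    simp [hij, hij.symm] at this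
    rw [← neg_inj, neg_sub]
    exact this
  have hLdiag : ∀ i j : Fin m, i ≠ j → isoApply g (Pi.single (oL i) 1) =
      isoApply g (Pi.single (oL j) 1) (oL j) • Pi.single (oL i) 1 := by
    intro i j hij
    obtain ⟨k, hki, hkj⟩ := third i j
    have e1 := congrFun (hL i j hij) (oR j)
    have e2 := congrFun (hL i k (Ne.symm hki)) (oR j)
    simp [Ne.symm hkj] at e1 e2
    rw [hL i j hij, show isoApply g (Pi.single (oL j) 1) (oR i) = 0 from by
      rw [← neg_eq_zero, ← e1, e2]]
    simp
  have hRdiag : ∀ i j : Fin m, i ≠ j → isoApply g (Pi.single (oR j) 1) =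
      isoApply g (Pi.single (oR i) 1) (oR i) • Pi.single (oR j) 1 := by
    intro i j hij
    obtain ⟨k, hki, hkj⟩ := third i j
    have e1 := congrFun (hR i j hij) (oL i)
    have e2 := congrFun (hR k j hkj) (oL i)
    simp [Ne.symm hki] at e1 e2
    rw [hR i j hij, show isoApply g (Pi.single (oR i) 1) (oL j) = 0 from by
      rw [← neg_eq_zero, ← e1, e2]]
    simp
  set i₀ : Fin m := ⟨0, by omega⟩ with hi₀
  set i₁ : Fin m := ⟨1, by omega⟩ with hi₁
  have h01 : i₀ ≠ i₁ := by simp [hi₀, hi₁]
  set α := isoApply g (Pi.single (oL i₁) 1) (oL i₁)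
  set β := isoApply g (Pi.single (oR i₁) 1) (oR i₁)
  have hLall : ∀ i, isoApply g (Pi.single (oL i) 1) = α • Pi.single (oL i) 1 := by
    intro i
    rcases eq_or_ne i i₁ with rfl | h
    · have e := hLdiag i₁ i₀ h01.symm
      rw [e, hLdiag i₀ i₁ h01]
      simp [α]
    · exact hLdiag i i₁ h
  have hRall : ∀ i, isoApply g (Pi.single (oR i) 1) = β • Pi.single (oR i) 1 := by
    intro i
    rcases eq_or_ne i i₁ with rfl | h
    · have e := hRdiag i₀ i₁ h01
      rw [e, hRdiag i₁ i₀ h01.symm]
      simp [β]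
    · exact hRdiag i₁ i h.symm
  set γ := isoApply g (Pi.single (oZ (m := m)) 1) oZ
  have hZ : isoApply g (Pi.single oZ 1) = γ • Pi.single oZ 1 := by
    funext k
    rcases k with ⟨⟩ | k | k
    · simp [γ]
    · obtain ⟨i, hik, -⟩ := third k k
      have := congrFun (hT hik (Pi.single oZ 1)) (oL i)
      simpa [hik] using this.symm
    · obtain ⟨j, hjk, -⟩ := third k k
      have := congrFun (hT hjk.symm (Pi.single oZ 1)) (oR j)
      simpa [hjk] using this.symm
  -- mixing elements
  have hz : qOdd m F (Pi.single oZ 1) ≠ 0 := by simp [qOdd_oZ]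
  have hu : ∀ i, qOdd m F (oU i) ≠ 0 := fun i => by simp [qOdd_oU]
  have hzu : qOdd m F (Pi.single oZ 1 - oU i₀) ≠ 0 := by
    simp [qOdd_apply, oU, Pi.single_apply]
    ring_nf
    exact h2
  have huu : qOdd m F (oU i₀ - oU i₁) ≠ 0 := by
    have : qOdd m F (oU i₀ - oU i₁) = (2 : F) := by
      rw [sub_eq_add_neg, qf_map_add, QuadraticMap.map_neg, QuadraticMap.polar_neg_right,
        polar_oU, qOdd_oU, qOdd_oU]
      simp [oU, h01.symm]
      ring
    rwa [this]
  have hE := hcomm _ (reflect_mul_mem_commutator (qOdd m F) hz (hu i₀)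
    (by rw [qOdd_oZ, qOdd_oU]) hzu) (Pi.single (oL i₀) 1)
  have hEL : isoApply (reflect (qOdd m F) _ hz * reflect (qOdd m F) _ (hu i₀))
      (Pi.single (oL i₀) 1) = -Pi.single (oR i₀) (1 : F) := by
    rw [isoApply_mul, reflect_apply, reflect_apply, polar_oU, qOdd_oU, polar_oZ]
    simp [oU]
  rw [hEL, hLall] at hE
  have hαβ : α = β := by
    have h := congrFun hE (oR i₀)
    simp only [isoApply, mulVec_neg, mulVec_smul] at h hEL hRall
    rw [hEL, hRall] at h
    simpa using h.symm
  have hU : ∀ i, isoApply g (oU i) = α • oU i := by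
    intro i
    simp only [isoApply, oU, mulVec_add, smul_add] at hLall hRall ⊢
    rw [hLall, hRall, hαβ]
  have hS : isoApply ⁅reflect (qOdd m F) _ hzu, reflect (qOdd m F) _ huu⁆
      (Pi.single oZ (1 : F)) = oU i₁ := by
    have a0 : isoApply (reflect (qOdd m F) _ hzu) (Pi.single oZ (1 : F)) = oU i₀ :=
      reflect_exchange _ (by rw [qOdd_oZ, qOdd_oU]) hzu
    have b1 : isoApply (reflect (qOdd m F) _ huu) (oU i₀) = oU i₁ :=
      reflect_exchange _ (by rw [qOdd_oU, qOdd_oU]) huu
    have bz : isoApply (reflect (qOdd m F) _ huu) (Pi.single oZ (1 : F)) = Pi.single oZ 1 := by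
      rw [reflect_apply, qf_polar_comm, polar_oZ]
      simp [oU]
    have a1 : isoApply (reflect (qOdd m F) _ hzu) (oU i₁) = oU i₁ := by
      rw [reflect_apply, QuadraticMap.polar_sub_right, polar_oZ, polar_oU]
      simp [oU, h01]
    rw [commutatorElement_def, reflect_inv, reflect_inv, isoApply_mul, isoApply_mul, isoApply_mul,
      bz, a0, b1, a1]
  have hαγ : α = γ := by
    have h := hcomm ⁅reflect (qOdd m F) _ hzu, reflect (qOdd m F) _ huu⁆
      (Subgroup.commutator_mem_commutator (Subgroup.mem_top _) (Subgroup.mem_top _))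
      (Pi.single oZ 1)
    rw [hS, hU, hZ] at h
    simp only [isoApply, mulVec_smul] at h hS
    rw [hS] at h
    simpa [oU] using congrFun h (oL i₁)
  have hg1 : ∀ x, isoApply g x = α • x := by
    have : ((g : GL (OddI m) F) : Matrix (OddI m) (OddI m) F) = α • 1 := by
      refine Matrix.ext_of_mulVec_single fun k => ?_
      rw [smul_mulVec, one_mulVec]
      rcases k with ⟨⟩ | k | k
      · exact hZ.trans (by rw [hαγ])
      · exact hLall k
      · exact (hRall k).trans (by rw [hαβ])
    intro x
    rw [isoApply, this, smul_mulVec, one_mulVec]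
  have hsq : α * α = 1 := by
    have h := isoApply_Q g (Pi.single (oZ (m := m)) (1 : F))
    rw [hg1, QuadraticMap.map_smul, qOdd_oZ] at h
    simpa using h
  have hdet := det_eq_one_of_mem_Omega hg
  have hcard : Fintype.card (OddI m) = 2 * m + 1 := by
    simp
    ring
  have hmat : ((g : GL (OddI m) F) : Matrix (OddI m) (OddI m) F) = α • 1 :=
    Matrix.ext_of_mulVec_single fun k => by
      rw [smul_mulVec, one_mulVec]
      exact hg1 _
  rw [hmat, det_smul, det_one, hcard, mul_one, pow_succ, pow_mul, sq, hsq, one_pow, one_mul] at hdet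
  refine Subtype.ext (iso_ext fun x => ?_)
  rw [hg1, hdet, one_smul]
  exact (isoApply_one x).symm

end CfsgLib.Classical
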