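/-
The standard quadratic forms as hyperbolic extensions; numbers of zeros and orders of their groups.
-/
import Cfsg.Agent.Lib.Classical.QuadBinary
import Cfsg.Agent.Lib.Classical.OmegaOdd

set_option autoImplicit false

namespace CfsgLib.Classical

open Matrix Cfsg

variable {F : Type*} [Field F] {J : Type*}

/-- `Σ_{i<m} x_i y_i + Q₀`. -/
def qExt (m : ℕ) (Q₀ : QuadraticForm F (J → F)) : QuadraticForm F ((Fin m ⊕ Fin m) ⊕ J → F) :=
  (∑ i : Fin m, QuadraticMap.proj (.inl (.inl i)) (.inl (.inr i))) + Q₀.comp (LinearMap.funLeft F F Sum.inr)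

theorem qExt_apply (m : ℕ) (Q₀ : QuadraticForm F (J → F)) (v : (Fin m ⊕ Fin m) ⊕ J → F) :
    qExt m Q₀ v = (∑ i : Fin m, v (.inl (.inl i)) * v (.inl (.inr i))) + Q₀ fun j => v (.inr j) := by
  simp [qExt]
  rfl

/-- Removing one hyperbolic pair. -/
def extSucc (m : ℕ) : ((F × F) × ((Fin m ⊕ Fin m) ⊕ J → F)) ≃ₗ[F] ((Fin (m + 1) ⊕ Fin (m + 1)) ⊕ J → F) where
  toFun x := Sum.elim (Sum.elim (Fin.cons x.1.1 fun i => x.2 (.inl (.inl i)))
    (Fin.cons x.1.2 fun i => x.2 (.inl (.inr i)))) fun j => x.2 (.inr j)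
  map_add' x y := by
    funext i
    rcases i with (i | i) | j
    · refine Fin.cases ?_ (fun k => ?_) i <;> simp
    · refine Fin.cases ?_ (fun k => ?_) i <;> simp
    · simp
  map_smul' c x := by
    funext i
    rcases i with (i | i) | j
    · refine Fin.cases ?_ (fun k => ?_) i <;> simp
    · refine Fin.cases ?_ (fun k => ?_) i <;> simp
    · simp
  invFun w := ((w (.inl (.inl 0)), w (.inl (.inr 0))),
    Sum.elim (Sum.elim (fun i => w (.inl (.inl i.succ))) fun i => w (.inl (.inr i.succ))) fun j => w (.inr j))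
  left_inv x := by
    refine Prod.ext (Prod.ext ?_ ?_) (funext fun i => ?_)
    · simp
    · simp
    · rcases i with (i | i) | j <;> simp
  right_inv w := by
    funext i
    rcases i with (i | i) | j
    · refine Fin.cases ?_ (fun k => ?_) i <;> simp
    · refine Fin.cases ?_ (fun k => ?_) i <;> simp
    · simp

theorem qExt_extSucc (m : ℕ) (Q₀ : QuadraticForm F (J → F)) (x : (F × F) × ((Fin m ⊕ Fin m) ⊕ J → F)) :
    qExt (m + 1) Q₀ (extSucc m x) = hypSum (qExt m Q₀) x := by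
  simp [qExt_apply, hypSum_apply, extSucc, Fin.sum_univ_succ, add_assoc]

/-- The empty extension. -/
def extZero : (J → F) ≃ₗ[F] ((Fin 0 ⊕ Fin 0) ⊕ J → F) :=
  LinearEquiv.funCongrLeft F F (Equiv.emptySum (Fin 0 ⊕ Fin 0) J)

theorem qExt_extZero (Q₀ : QuadraticForm F (J → F)) (v : J → F) : qExt 0 Q₀ (extZero v) = Q₀ v := by
  simp [qExt_apply, extZero, LinearEquiv.funCongrLeft]

theorem polarNondeg_qExt {Q₀ : QuadraticForm F (J → F)} (h : PolarNondeg Q₀) :
    ∀ m, PolarNondeg (qExt m Q₀)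
  | 0 => polarNondeg_congr extZero (qExt_extZero Q₀) h
  | m + 1 => polarNondeg_congr (extSucc m) (qExt_extSucc m Q₀) (polarNondeg_hypSum (polarNondeg_qExt h m))

variable [Fintype F] [Fintype J]

theorem zeros_qExt_succ (m : ℕ) (Q₀ : QuadraticForm F (J → F)) :
    zeros (qExt (m + 1) Q₀) = (Fintype.card F - 1) * Fintype.card F ^ (2 * m + Fintype.card J) +
      Fintype.card F * zeros (qExt m Q₀) := by
  classical
  rw [zeros_congr (Q := hypSum (qExt m Q₀)) (Q' := qExt (m + 1) Q₀) (extSucc m) (qExt_extSucc m Q₀), zeros_hypSum, Nat.card_eq_fintype_card,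
    Fintype.card_fun, Fintype.card_sum, Fintype.card_sum, Fintype.card_fin, two_mul]

theorem card_qAut_qExt_succ {Q₀ : QuadraticForm F (J → F)} (h : PolarNondeg Q₀) (m : ℕ) :
    Nat.card (qAut (qExt (m + 1) Q₀)) =
      (zeros (qExt (m + 1) Q₀) - 1) * Fintype.card F ^ (2 * m + Fintype.card J) *
        Nat.card (qAut (qExt m Q₀)) := by
  classical
  rw [← Nat.card_congr (qAutCongr (extSucc m) (qExt_extSucc m Q₀)).toEquiv,
    card_qAut_hypSum (polarNondeg_qExt h m), zeros_congr (Q := hypSum (qExt m Q₀)) (Q' := qExt (m + 1) Q₀) (extSucc m) (qExt_extSucc m Q₀)]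
  congr 3
  rw [Module.finrank_pi, Fintype.card_sum, Fintype.card_sum, Fintype.card_fin]
  omega

omit [Fintype F] [Fintype J] in
theorem zeros_qExt_zero (Q₀ : QuadraticForm F (J → F)) : zeros (qExt 0 Q₀) = zeros Q₀ :=
  zeros_congr extZero (qExt_extZero Q₀)

omit [Fintype F] [Fintype J] in
theorem card_qAut_qExt_zero (Q₀ : QuadraticForm F (J → F)) :
    Nat.card (qAut (qExt 0 Q₀)) = Nat.card (qAut Q₀) :=
  (Nat.card_congr (qAutCongr extZero (qExt_extZero Q₀)).toEquiv).symm

section Empty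

theorem zeros_empty : zeros (0 : QuadraticForm F (Fin 0 → F)) = 1 :=
  Nat.card_eq_one_iff_unique.2 ⟨⟨fun a b => Subtype.ext (Subsingleton.elim _ _)⟩, ⟨⟨0, rfl⟩⟩⟩

theorem card_qAut_empty : Nat.card (qAut (0 : QuadraticForm F (Fin 0 → F))) = 1 :=
  Nat.card_eq_one_iff_unique.2 ⟨⟨fun a b => qAut_ext fun v => Subsingleton.elim _ _⟩, ⟨1⟩⟩

omit [Fintype F] in
theorem polarNondeg_empty : PolarNondeg (0 : QuadraticForm F (Fin 0 → F)) :=
  fun _ _ => Subsingleton.elim _ _

/-- `x²` on a line. -/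
def qLine (F : Type*) [Field F] : QuadraticForm F (Unit → F) := QuadraticMap.proj () ()

@[simp] theorem qLine_apply (v : Unit → F) : qLine F v = v () * v () := rfl

theorem zeros_qLine : zeros (qLine F) = 1 :=
  Nat.card_eq_one_iff_unique.2 ⟨⟨fun a b => Subtype.ext (funext fun _ =>
    (mul_self_eq_zero.1 a.2).trans (mul_self_eq_zero.1 b.2).symm)⟩, ⟨⟨0, map_zero _⟩⟩⟩

omit [Fintype F] in
theorem polarNondeg_qLine (h2 : (2 : F) ≠ 0) : PolarNondeg (qLine F) := fun v hv => funext fun _ => by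
  have h := hv fun _ => 1
  simp [QuadraticMap.polar] at h
  have h' : (2 : F) * v () = 0 := by linear_combination h
  exact (mul_eq_zero.1 h').resolve_left h2

theorem card_qAut_qLine (h2 : (2 : F) ≠ 0) : Nat.card (qAut (qLine F)) = 2 := by
  classical
  have h1 : (-1 : F) ≠ 1 := fun h => h2 (by linear_combination -h)
  let s : qAut (qLine F) := ⟨LinearEquiv.neg F, fun v => QuadraticMap.map_neg _ v⟩
  refine (Nat.card_eq_two_iff' (1 : qAut (qLine F))).2 ⟨s, fun h => h1 ?_, fun g hg => ?_⟩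
  · have h' := congrFun (congrArg (fun g : qAut (qLine F) => g.1 fun _ => (1 : F)) h) ()
    exact h'
  · set c := g.1 (fun _ => 1) () with hc
    have hgv : ∀ v, g.1 v = fun _ => v () * c := fun v => by
      conv_lhs => rw [show v = v () • (fun _ => (1 : F) : Unit → F) by ext; simp]
      rw [map_smul]
      ext
      simp [hc]
    have hc2 : c * c = 1 := by
      have := qAut_map g (fun _ => (1 : F))
      simpa [hc] using this
    rcases mul_self_eq_one_iff.1 hc2 with h | h
    · exact absurd (qAut_ext fun v => by rw [hgv, h]; ext; simp) hg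
    · exact qAut_ext fun v => by rw [hgv, h]; ext; simp [s]

end Empty

/-- Zeros of the plus-type form. -/
theorem zeros_plus : ∀ m : ℕ, (zeros (qExt (m + 1) (0 : QuadraticForm F (Fin 0 → F))) : ℤ) =
    (Fintype.card F : ℤ) ^ (2 * m + 1) + (Fintype.card F : ℤ) ^ (m + 1) - (Fintype.card F : ℤ) ^ m
  | 0 => by
    have hq : 1 ≤ Fintype.card F := Fintype.card_pos
    rw [zeros_qExt_succ, zeros_qExt_zero, zeros_empty]
    push_cast [Nat.cast_sub hq, Fintype.card_fin]
    ring
  | m + 1 => by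
    have hq : 1 ≤ Fintype.card F := Fintype.card_pos
    rw [zeros_qExt_succ]
    push_cast [Nat.cast_sub hq, Fintype.card_fin]
    rw [zeros_plus m]
    ring

/-- Zeros of the minus-type form. -/
theorem zeros_minus {a b : F} (h : BinAniso a b) : ∀ m : ℕ, (zeros (qExt m (qBin a b)) : ℤ) =
    (Fintype.card F : ℤ) ^ (2 * m + 1) + (Fintype.card F : ℤ) ^ m - (Fintype.card F : ℤ) ^ (m + 1)
  | 0 => by
    rw [zeros_qExt_zero, zeros_qBin h]
    push_cast
    ring
  | m + 1 => by
    have hq : 1 ≤ Fintype.card F := Fintype.card_pos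
    rw [zeros_qExt_succ]
    push_cast [Nat.cast_sub hq, Fintype.card_fin]
    rw [zeros_minus h m]
    ring

/-- Zeros of the odd-dimensional form. -/
theorem zeros_line : ∀ m : ℕ, zeros (qExt m (qLine F)) = Fintype.card F ^ (2 * m)
  | 0 => by rw [zeros_qExt_zero, zeros_qLine]; simp
  | m + 1 => by
    have hq : 1 ≤ Fintype.card F := Fintype.card_pos
    rw [zeros_qExt_succ, zeros_line m]
    zify [hq]
    push_cast [Fintype.card_unit]
    ring

theorem card_qAut_line (h2 : (2 : F) ≠ 0) : ∀ m : ℕ, Nat.card (qAut (qExt m (qLine F))) =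
    2 * Fintype.card F ^ (m ^ 2) * ∏ i ∈ Finset.range m, (Fintype.card F ^ (2 * (i + 1)) - 1)
  | 0 => by rw [card_qAut_qExt_zero, card_qAut_qLine h2]; simp
  | m + 1 => by
    rw [card_qAut_qExt_succ (polarNondeg_qLine h2), zeros_line, card_qAut_line h2 m,
      Finset.prod_range_succ, Fintype.card_unit, show (m + 1) ^ 2 = 2 * m + 1 + m ^ 2 by ring, pow_add]
    ring

theorem card_qAut_plus : ∀ m : ℕ, Nat.card (qAut (qExt (m + 1) (0 : QuadraticForm F (Fin 0 → F)))) =
    2 * Fintype.card F ^ ((m + 1) * m) * (Fintype.card F ^ (m + 1) - 1) *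
      ∏ i ∈ Finset.range m, (Fintype.card F ^ (2 * (i + 1)) - 1)
  | 0 => by
    have hq : 1 ≤ Fintype.card F := Fintype.card_pos
    rw [card_qAut_qExt_succ polarNondeg_empty, card_qAut_qExt_zero, card_qAut_empty, zeros_qExt_succ,
      zeros_qExt_zero, zeros_empty]
    simp
    omega
  | m + 1 => by
    have hq : 1 ≤ Fintype.card F := Fintype.card_pos
    rw [card_qAut_qExt_succ polarNondeg_empty, card_qAut_plus m]
    have hz := zeros_plus (F := F) (m + 1)
    have h1 : 1 ≤ zeros (qExt (m + 1 + 1) (0 : QuadraticForm F (Fin 0 → F))) := zeros_pos _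
    have h2' : ∀ k, 1 ≤ Fintype.card F ^ k := fun k => Nat.one_le_pow _ _ hq
    rw [Finset.prod_range_succ, Fintype.card_fin]
    zify [h1, h2']
    rw [hz]
    ring

theorem card_qAut_minus {a b : F} (h : BinAniso a b) : ∀ m : ℕ, Nat.card (qAut (qExt m (qBin a b))) =
    2 * Fintype.card F ^ ((m + 1) * m) * (Fintype.card F ^ (m + 1) + 1) *
      ∏ i ∈ Finset.range m, (Fintype.card F ^ (2 * (i + 1)) - 1)
  | 0 => by rw [card_qAut_qExt_zero, (qBin_dihedral h).1]; simp
  | m + 1 => by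
    have hq : 1 ≤ Fintype.card F := Fintype.card_pos
    rw [card_qAut_qExt_succ (polarNondeg_qBin h), card_qAut_minus h m]
    have hz := zeros_minus h (m + 1)
    have h1 : 1 ≤ zeros (qExt (m + 1) (qBin a b)) := zeros_pos _
    have h2' : ∀ k, 1 ≤ Fintype.card F ^ k := fun k => Nat.one_le_pow _ _ hq
    rw [Finset.prod_range_succ, Fintype.card_fin]
    zify [h1, h2']
    rw [hz]
    ring

section Bridge

omit [Fintype F]

/-- `quadFormPlus` as a quadratic form. -/
def qPlus (m : ℕ) (F : Type*) [Field F] : QuadraticForm F (Fin m ⊕ Fin m → F) :=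
  ∑ i : Fin m, QuadraticMap.proj (.inl i) (.inr i)

theorem coe_qPlus (m : ℕ) : ⇑(qPlus m F) = Cfsg.quadFormPlus m F :=
  funext fun v => by simp [qPlus, Cfsg.quadFormPlus]

theorem coe_qExt_qBin (m : ℕ) (a b : F) : ⇑(qExt m (qBin a b)) = Cfsg.quadFormMinus m F a b :=
  funext fun v => by rw [qExt_apply, qBin_apply]; rfl

/-- Forgetting an empty summand. -/
def plusLin (m : ℕ) (F : Type*) [Field F] :
    ((Fin m ⊕ Fin m) ⊕ Fin 0 → F) ≃ₗ[F] (Fin m ⊕ Fin m → F) :=
  LinearEquiv.funCongrLeft F F (Equiv.sumEmpty (Fin m ⊕ Fin m) (Fin 0)).symm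

theorem qPlus_plusLin (m : ℕ) (v : (Fin m ⊕ Fin m) ⊕ Fin 0 → F) :
    qPlus m F (plusLin m F v) = qExt m (0 : QuadraticForm F (Fin 0 → F)) v := by
  simp [qPlus, qExt_apply, plusLin, LinearEquiv.funCongrLeft]

/-- Moving the line first. -/
def oddLin (m : ℕ) (F : Type*) [Field F] : ((Fin m ⊕ Fin m) ⊕ Unit → F) ≃ₗ[F] (OddI m → F) :=
  LinearEquiv.funCongrLeft F F (Equiv.sumComm _ _)

theorem qOdd_oddLin (m : ℕ) (v : (Fin m ⊕ Fin m) ⊕ Unit → F) :
    qOdd m F (oddLin m F v) = qExt m (qLine F) v := by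
  simp [qOdd_apply, qExt_apply, oddLin, LinearEquiv.funCongrLeft, add_comm]

theorem card_isometryGroup_coe {ι : Type} [Fintype ι] [DecidableEq ι] (Q : QuadraticForm F (ι → F))
    {f : (ι → F) → F} (hf : ⇑Q = f) : Nat.card (Cfsg.isometryGroup F f) = Nat.card (qAut Q) := by
  subst hf
  exact Nat.card_congr (isoEquiv Q).toEquiv

end Bridge

end CfsgLib.Classical
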