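/-
The group `Ω` of a quadratic space in coordinates: `-1`, the centre, the order of `PΩ`; standard forms.
-/
import Cfsg.Agent.Lib.Classical.QuadCentre
import Cfsg.Agent.Lib.Classical.QuadBridge
import Cfsg.Agent.Lib.Classical.QuadStd

set_option autoImplicit false

namespace CfsgLib.Classical

open Matrix Cfsg

variable {F : Type*} [Field F]

theorem odd_card_of_two_ne_zero [Fintype F] (h2 : (2 : F) ≠ 0) : Odd (Fintype.card F) :=
  Nat.odd_iff.2 (FiniteField.odd_card_of_char_ne_two fun h => h2 (by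
    haveI : CharP F 2 := h ▸ ringChar.charP F
    exact CharTwo.two_eq_zero))

variable {ι : Type} [Fintype ι] [DecidableEq ι]

/-- The Gram matrix of the polar form in the standard basis. -/
noncomputable def polarGram (Q : QuadraticForm F (ι → F)) : Matrix ι ι F :=
  Matrix.of fun i j => QuadraticMap.polar Q (Pi.single i 1) (Pi.single j 1)

theorem mem_Omega_iff (Q : QuadraticForm F (ι → F)) {g : isometryGroup F ⇑Q} :
    g ∈ Omega F ⇑Q ↔ isoEquiv Q g ∈ commutator (qAut Q) := by
  change g ∈ commutator (isometryGroup F ⇑Q) ↔ _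
  rw [← map_commutator_equiv (isoEquiv Q)]
  exact (Subgroup.mem_map_iff_mem (f := (isoEquiv Q).toMonoidHom) (isoEquiv Q).injective).symm

/-- `-1` as an isometry. -/
noncomputable def negIso (Q : QuadraticForm F (ι → F)) : isometryGroup F ⇑Q :=
  isoMk (-LinearMap.id)
    (show Function.Injective ⇑(-LinearMap.id : (ι → F) →ₗ[F] (ι → F)) from fun _ _ h => neg_injective h)
    fun x => QuadraticMap.map_neg Q x

theorem negIso_apply (Q : QuadraticForm F (ι → F)) (x : ι → F) : isoApply (negIso Q) x = -x := by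
  rw [negIso, isoMk_apply]
  rfl

theorem coe_negIso (Q : QuadraticForm F (ι → F)) : ((negIso Q : GL ι F) : Matrix ι ι F) = -1 := by
  apply Matrix.ext_of_mulVec_single
  intro i
  rw [neg_mulVec, one_mulVec]
  exact negIso_apply Q _

theorem negIso_mem_Omega_iff [Fintype F] (Q : QuadraticForm F (ι → F)) (h2 : (2 : F) ≠ 0) (hQ : PolarNondeg Q)
    (hev : Even (Fintype.card ι)) (hpos : Fintype.card ι ≠ 0) :
    negIso Q ∈ Omega F ⇑Q ↔ IsSquare (polarGram Q).det := by
  rw [mem_Omega_iff, neg_one_mem_commutator_iff Q h2 hQ (by rwa [Module.finrank_pi])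
    (by rwa [Module.finrank_pi]) (Pi.basisFun F ι) (fun x => by rw [isoEquiv_apply]; exact negIso_apply Q x)]
  simp [polarGram, Pi.basisFun_apply]

theorem exists_neg_one_iff [Fintype F] (Q : QuadraticForm F (ι → F)) (h2 : (2 : F) ≠ 0) (hQ : PolarNondeg Q)
    (hev : Even (Fintype.card ι)) (hpos : Fintype.card ι ≠ 0) :
    (∃ g : isometryGroup F ⇑Q, g ∈ Omega F ⇑Q ∧ ((g : GL ι F) : Matrix ι ι F) = -1) ↔
      IsSquare (polarGram Q).det := by
  rw [← negIso_mem_Omega_iff Q h2 hQ hev hpos]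
  refine ⟨?_, fun h => ⟨_, h, coe_negIso Q⟩⟩
  rintro ⟨g, hg, hm⟩
  rwa [Subtype.ext (Units.ext ((coe_negIso Q).trans hm.symm) : (negIso Q : GL ι F) = (g : GL ι F))]

theorem Omega_central_eq [Fintype F] (Q : QuadraticForm F (ι → F)) (hQ : PolarNondeg Q)
    (hn : 6 ≤ Fintype.card ι) {g : Omega F ⇑Q} (hg : g ∈ Subgroup.center (Omega F ⇑Q)) :
    (g : isometryGroup F ⇑Q) = 1 ∨ (g : isometryGroup F ⇑Q) = negIso Q := by
  have hcomm : ∀ x ∈ commutator (qAut Q), isoEquiv Q g * x = x * isoEquiv Q g := by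
    intro x hx
    obtain ⟨y, rfl⟩ := (isoEquiv Q).surjective x
    have hy : y ∈ Omega F ⇑Q := (mem_Omega_iff Q).2 hx
    rw [← map_mul, ← map_mul]
    exact congrArg _ (congrArg Subtype.val (Subgroup.mem_center_iff.1 hg ⟨y, hy⟩)).symm
  rcases centralizer_commutator Q hQ (by rwa [Module.finrank_pi]) hcomm with h | h
  · exact Or.inl (iso_ext fun x => by rw [isoApply_one, ← isoEquiv_apply]; exact h x)
  · exact Or.inr (iso_ext fun x => by rw [negIso_apply, ← isoEquiv_apply]; exact h x)

theorem card_center_Omega_two [Fintype F] (Q : QuadraticForm F (ι → F)) (h2 : (2 : F) ≠ 0) (hQ : PolarNondeg Q)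
    (hn : 6 ≤ Fintype.card ι) (hneg : negIso Q ∈ Omega F ⇑Q) :
    Nat.card (Subgroup.center (Omega F ⇑Q)) = 2 := by
  classical
  set z : Omega F ⇑Q := ⟨negIso Q, hneg⟩
  have hz : z ∈ Subgroup.center (Omega F ⇑Q) := Subgroup.mem_center_iff.2 fun y => Subtype.ext (iso_ext fun x => by
    change isoApply ((y : isometryGroup F ⇑Q) * negIso Q) x = isoApply (negIso Q * (y : isometryGroup F ⇑Q)) x
    rw [isoApply_mul, isoApply_mul, negIso_apply, negIso_apply]
    exact Matrix.mulVec_neg _ _)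
  have hne : negIso Q ≠ 1 := by
    intro h
    haveI : Nonempty ι := Fintype.card_pos_iff.1 (by omega)
    obtain ⟨i⟩ := (inferInstance : Nonempty ι)
    have h' := congrFun (congrArg (fun g => isoApply g (Pi.single i (1 : F))) h) i
    simp only [negIso_apply, isoApply_one, Pi.neg_apply, Pi.single_eq_same] at h'
    exact h2 (by linear_combination -h')
  rw [show Subgroup.center (Omega F ⇑Q) = Subgroup.zpowers z from le_antisymm (fun g hg => ?_)
    (Subgroup.zpowers_le.2 hz), Nat.card_zpowers]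
  · refine orderOf_eq_prime (Subtype.ext (iso_ext fun x => ?_)) fun h => hne (congrArg Subtype.val h)
    rw [sq]
    change isoApply (negIso Q * negIso Q) x = isoApply (1 : isometryGroup F ⇑Q) x
    rw [isoApply_mul, negIso_apply, negIso_apply, neg_neg, isoApply_one]
  · rcases Omega_central_eq Q hQ hn hg with h | h
    · rw [show g = 1 from Subtype.ext h]; exact one_mem _
    · rw [show g = z from Subtype.ext h]; exact Subgroup.mem_zpowers z

theorem card_center_Omega_one [Fintype F] (Q : QuadraticForm F (ι → F)) (hQ : PolarNondeg Q)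
    (hn : 6 ≤ Fintype.card ι) (h : negIso Q ∈ Omega F ⇑Q → (2 : F) = 0) :
    Nat.card (Subgroup.center (Omega F ⇑Q)) = 1 := by
  rw [Subgroup.card_eq_one, Subgroup.eq_bot_iff_forall]
  intro g hg
  rcases Omega_central_eq Q hQ hn hg with hg' | hg'
  · exact Subtype.ext hg'
  · refine Subtype.ext (hg'.trans (iso_ext fun x => ?_))
    rw [negIso_apply, OneMemClass.coe_one, isoApply_one, neg_eq_iff_add_eq_zero, ← two_smul F, h (hg' ▸ g.2), zero_smul]

theorem card_POmega_mul [Fintype F] (Q : QuadraticForm F (ι → F)) {c k : ℕ}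
    (hc : Nat.card (Subgroup.center (Omega F ⇑Q)) = c) (hk : (Omega F ⇑Q).index = k) :
    Nat.card (POmega F ⇑Q) * (c * k) = Nat.card (qAut Q) := by
  subst hc hk
  rw [← mul_assoc, ← Subgroup.card_eq_card_quotient_mul_card_subgroup (Subgroup.center (Omega F ⇑Q)),
    Subgroup.card_mul_index, Nat.card_congr (isoEquiv Q).toEquiv]

section Standard

omit [Fintype ι] [DecidableEq ι]

theorem isSquare_neg_one_pow_iff [Fintype F] (h2 : (2 : F) ≠ 0) (m : ℕ) :
    IsSquare ((-1 : F) ^ m) ↔ Fintype.card F ^ m % 4 = 1 := by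
  have hodd := Nat.odd_iff.1 (odd_card_of_two_ne_zero h2)
  have hc : Fintype.card F % 4 = 1 ∨ Fintype.card F % 4 = 3 := by omega
  rcases Nat.even_or_odd m with hm | hm
  · obtain ⟨k, rfl⟩ := hm
    rw [Even.neg_one_pow ⟨k, rfl⟩]
    refine iff_of_true IsSquare.one ?_
    rw [Nat.pow_mod, pow_add]
    rcases hc with h | h <;> rw [h] <;>
      simp [← pow_add, ← two_mul, pow_mul, Nat.pow_mod]
  · obtain ⟨k, rfl⟩ := hm
    rw [Odd.neg_one_pow ⟨k, rfl⟩, FiniteField.isSquare_neg_one_iff, Nat.pow_mod]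
    rcases hc with h | h <;> rw [h] <;> simp [pow_succ, pow_mul, Nat.pow_mod, Nat.mul_mod]

theorem pow_mod_four [Fintype F] (h2 : (2 : F) ≠ 0) (m : ℕ) :
    Fintype.card F ^ m % 4 = 1 ∨ Fintype.card F ^ m % 4 = 3 := by
  have h := Nat.odd_iff.1 ((odd_card_of_two_ne_zero h2).pow (n := m))
  omega

theorem polarNondeg_qPlus (m : ℕ) : PolarNondeg (qPlus m F) :=
  polarNondeg_congr (plusLin m F) (qPlus_plusLin m) (polarNondeg_qExt polarNondeg_empty m)

theorem polarNondeg_qOdd (h2 : (2 : F) ≠ 0) (m : ℕ) : PolarNondeg (qOdd m F) :=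
  polarNondeg_congr (oddLin m F) (qOdd_oddLin m) (polarNondeg_qExt (polarNondeg_qLine h2) m)

theorem card_qAut_qPlus [Fintype F] (m : ℕ) : Nat.card (qAut (qPlus m F)) =
    Nat.card (qAut (qExt m (0 : QuadraticForm F (Fin 0 → F)))) :=
  (Nat.card_congr (qAutCongr (plusLin m F) (qPlus_plusLin m)).toEquiv).symm

theorem card_qAut_qOdd [Fintype F] (m : ℕ) : Nat.card (qAut (qOdd m F)) = Nat.card (qAut (qExt m (qLine F))) :=
  (Nat.card_congr (qAutCongr (oddLin m F) (qOdd_oddLin m)).toEquiv).symm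

theorem det_polarGram_qPlus (m : ℕ) : (polarGram (qPlus m F)).det = (-1) ^ m := by
  rw [show polarGram (qPlus m F) = Matrix.fromBlocks 0 1 1 0 from Matrix.ext fun i j => ?_,
    det_hyperbolic, Fintype.card_fin]
  simp only [polarGram, Matrix.of_apply, qPlus, QuadraticMap.polar, QuadraticMap.sum_apply,
    QuadraticMap.proj_apply, Pi.add_apply]
  rw [← Finset.sum_sub_distrib, ← Finset.sum_sub_distrib]
  rcases i with i | i <;> rcases j with j | j <;>
    simp [Pi.single_apply, Matrix.one_apply, Finset.sum_ite_eq', eq_comm]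

theorem det_polarGram_qExt_qBin (m : ℕ) (a b : F) :
    (polarGram (qExt m (qBin a b))).det = (-1) ^ m * (4 * b - a * a) := by
  rw [show polarGram (qExt m (qBin a b)) =
    Matrix.fromBlocks (Matrix.fromBlocks 0 1 1 0) 0 0 !![2, a; a, 2 * b] from Matrix.ext fun i j => ?_,
    Matrix.det_fromBlocks_zero₂₁, det_hyperbolic, Fintype.card_fin, Matrix.det_fin_two]
  · simp
    ring
  simp only [polarGram, Matrix.of_apply, QuadraticMap.polar, qExt_apply, qBin_apply, Pi.add_apply]
  rcases i with (i | i) | i <;> rcases j with (j | j) | j <;>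
    simp [Pi.single_apply, Matrix.one_apply, Finset.sum_add_distrib, add_mul, mul_add, Finset.sum_ite_eq', eq_comm]
  fin_cases i <;> fin_cases j <;> simp <;> ring

theorem isSquare_det_polarGram_qExt_qBin [Fintype F] (h2 : (2 : F) ≠ 0) {a b : F} (hab : BinAniso a b)
    (m : ℕ) : IsSquare (polarGram (qExt m (qBin a b))).det ↔ Fintype.card F ^ (m + 1) % 4 = 3 := by
  have hns : ¬ IsSquare (a * a - 4 * b) := by
    rintro ⟨r, hr⟩
    exact one_ne_zero (hab ((r - a) / 2) 1 (by field_simp; linear_combination -hr)).2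
  rw [det_polarGram_qExt_qBin,
    show (-1 : F) ^ m * (4 * b - a * a) = (-1) ^ (m + 1) * (a * a - 4 * b) by ring]
  constructor
  · intro h
    rcases pow_mod_four h2 (m + 1) with h4 | h4
    · exfalso
      have h5 := ((isSquare_neg_one_pow_iff h2 _).2 h4).mul h
      rw [← mul_assoc, ← pow_add, Even.neg_one_pow ⟨m + 1, rfl⟩, one_mul] at h5
      exact hns h5
    · exact h4
  · intro h4
    refine isSquare_mul_of_not_isSquare h2 (fun h => ?_) hns
    rw [isSquare_neg_one_pow_iff h2] at h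
    omega

end Standard

end CfsgLib.Classical
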