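/-
Eichler (Siegel) transformations: transitivity of the group they generate, which is the commutator subgroup
and is perfect in dimension at least five.
-/
import Cfsg.Agent.Lib.Classical.QuadOmega

set_option autoImplicit false

namespace CfsgLib.Classical

open scoped commutatorElement

variable {F V : Type*} [Field F] [AddCommGroup V] [Module F V] (Q : QuadraticForm F V)

/-- The linear map `x ↦ x + f(x,u) w - (f(x,w) + Q(w) f(x,u)) u`. -/
noncomputable def eichLin (u w : V) : V →ₗ[F] V :=
  LinearMap.id + ((QuadraticMap.polarBilin Q).flip u).smulRight w -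
    ((QuadraticMap.polarBilin Q).flip w + Q w • (QuadraticMap.polarBilin Q).flip u).smulRight u

theorem eichLin_apply (u w x : V) : eichLin Q u w x = x + QuadraticMap.polar Q x u • w -
    (QuadraticMap.polar Q x w + Q w * QuadraticMap.polar Q x u) • u := by
  simp [eichLin]

theorem eichLin_comp {u w w' : V} (hu : Q u = 0) (h : QuadraticMap.polar Q u w = 0)
    (h' : QuadraticMap.polar Q u w' = 0) (x : V) :
    eichLin Q u w (eichLin Q u w' x) = eichLin Q u (w + w') x := by
  have huu : QuadraticMap.polar Q u u = 0 := by rw [quad_polar_self, hu, mul_zero]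
  have hwu : QuadraticMap.polar Q w' u = 0 := (QuadraticMap.polar_comm Q w' u).trans h'
  simp only [eichLin_apply, QuadraticMap.polar_add_left, QuadraticMap.polar_sub_left,
    QuadraticMap.polar_smul_left, QuadraticMap.polar_add_right, QuadraticMap.polar_comm Q w' w, huu, h, hwu,
    quad_add, smul_eq_mul, mul_zero, add_zero, sub_zero]
  module

theorem eichLin_zero (u x : V) : eichLin Q u 0 x = x := by
  simp [eichLin_apply]

theorem eichLin_quad {u w : V} (hu : Q u = 0) (h : QuadraticMap.polar Q u w = 0) (x : V) :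
    Q (eichLin Q u w x) = Q x := by
  have hwu : QuadraticMap.polar Q w u = 0 := (QuadraticMap.polar_comm Q w u).trans h
  simp only [eichLin_apply, quad_sub, quad_add, quad_smul, hu, QuadraticMap.polar_add_left,
    QuadraticMap.polar_smul_left, QuadraticMap.polar_smul_right, hwu, smul_eq_mul]
  ring

/-- The Eichler transformation attached to a singular `u` and `w` orthogonal to it. -/
noncomputable def eich (u w : V) : qAut Q :=
  haveI := _root_.Classical.propDecidable (Q u = 0 ∧ QuadraticMap.polar Q u w = 0)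
  if h : Q u = 0 ∧ QuadraticMap.polar Q u w = 0 then
    ⟨LinearEquiv.ofLinearMap (eichLin Q u w) (eichLin Q u (-w))
      (LinearMap.ext fun x => by
        rw [LinearMap.comp_apply, eichLin_comp Q h.1 h.2 (by rw [QuadraticMap.polar_neg_right, h.2, neg_zero]),
          add_neg_cancel, eichLin_zero, LinearMap.id_apply])
      (LinearMap.ext fun x => by
        rw [LinearMap.comp_apply, eichLin_comp Q h.1 (by rw [QuadraticMap.polar_neg_right, h.2, neg_zero]) h.2,
          neg_add_cancel, eichLin_zero, LinearMap.id_apply]),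
      eichLin_quad Q h.1 h.2⟩
  else 1

theorem eich_apply {u w : V} (hu : Q u = 0) (h : QuadraticMap.polar Q u w = 0) (x : V) :
    (eich Q u w).1 x = x + QuadraticMap.polar Q x u • w -
      (QuadraticMap.polar Q x w + Q w * QuadraticMap.polar Q x u) • u := by
  rw [eich, dif_pos ⟨hu, h⟩, ← eichLin_apply]
  rfl

theorem eich_fix {u w : V} (hu : Q u = 0) (h : QuadraticMap.polar Q u w = 0) :
    (eich Q u w).1 u = u := by
  rw [eich_apply Q hu h, quad_polar_self, hu, h]
  simp

theorem eich_mul {u w w' : V} (hu : Q u = 0) (h : QuadraticMap.polar Q u w = 0)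
    (h' : QuadraticMap.polar Q u w' = 0) : eich Q u w * eich Q u w' = eich Q u (w + w') := by
  have h'' : QuadraticMap.polar Q u (w + w') = 0 := by rw [QuadraticMap.polar_add_right, h, h', add_zero]
  refine qAut_ext fun x => ?_
  rw [qAut_mul_apply, eich_apply Q hu h', eich_apply Q hu h, eich_apply Q hu h'',
    ← eichLin_apply, ← eichLin_apply, ← eichLin_apply, eichLin_comp Q hu h h']

theorem eich_zero {u : V} (hu : Q u = 0) : eich Q u (0 : V) = 1 :=
  qAut_ext fun x => by
    rw [eich_apply Q hu (QuadraticMap.polar_zero_right Q u), ← eichLin_apply, eichLin_zero]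
    rfl

theorem eich_inv {u w : V} (hu : Q u = 0) (h : QuadraticMap.polar Q u w = 0) :
    (eich Q u w)⁻¹ = eich Q u (-w) :=
  inv_eq_of_mul_eq_one_right (by
    rw [eich_mul Q hu h (by rw [QuadraticMap.polar_neg_right, h, neg_zero]), add_neg_cancel, eich_zero Q hu])

theorem eich_smul_left {u w : V} (hu : Q u = 0) (h : QuadraticMap.polar Q u w = 0) (t : F) :
    eich Q (t • u) w = eich Q u (t • w) := by
  refine qAut_ext fun x => ?_
  rw [eich_apply Q (by rw [quad_smul, hu, mul_zero]) (by rw [QuadraticMap.polar_smul_left, h, smul_zero]),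
    eich_apply Q hu (by rw [QuadraticMap.polar_smul_right, h, smul_zero])]
  simp only [QuadraticMap.polar_smul_right, quad_smul, smul_eq_mul]
  module

theorem eich_add_self {u w : V} (hu : Q u = 0) (h : QuadraticMap.polar Q u w = 0) (s : F) :
    eich Q u (w + s • u) = eich Q u w := by
  have huu : QuadraticMap.polar Q u u = 0 := by rw [quad_polar_self, hu, mul_zero]
  have hwu : QuadraticMap.polar Q w u = 0 := (QuadraticMap.polar_comm Q w u).trans h
  refine qAut_ext fun x => ?_
  rw [eich_apply Q hu (by simp [QuadraticMap.polar_add_right, h, huu]), eich_apply Q hu h]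
  simp only [quad_add, quad_smul, hu, QuadraticMap.polar_add_right, QuadraticMap.polar_smul_right, hwu,
    smul_eq_mul, mul_zero, add_zero]
  module

theorem eich_conj (g : qAut Q) {u w : V} (hu : Q u = 0) (h : QuadraticMap.polar Q u w = 0) :
    g * eich Q u w * g⁻¹ = eich Q (g.1 u) (g.1 w) := by
  rw [mul_inv_eq_iff_eq_mul]
  refine qAut_ext fun x => ?_
  rw [qAut_mul_apply, qAut_mul_apply, eich_apply Q hu h,
    eich_apply Q (by rw [qAut_map, hu]) (by rw [qAut_polar, h]), qAut_polar, qAut_polar, qAut_map, map_sub,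
    map_add, map_smul, map_smul]

/-- The group generated by the Eichler transformations. -/
noncomputable def eichGroup : Subgroup (qAut Q) :=
  Subgroup.closure {g | ∃ u w : V, Q u = 0 ∧ QuadraticMap.polar Q u w = 0 ∧ g = eich Q u w}

theorem eich_mem {u w : V} (hu : Q u = 0) (h : QuadraticMap.polar Q u w = 0) : eich Q u w ∈ eichGroup Q :=
  Subgroup.subset_closure ⟨u, w, hu, h, rfl⟩

theorem eichGroup_normal : (eichGroup Q).Normal := by
  refine ⟨fun k hk g => ?_⟩
  induction hk using Subgroup.closure_induction with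
  | mem x hx =>
    obtain ⟨u, w, hu, h, rfl⟩ := hx
    rw [eich_conj Q g hu h]
    exact eich_mem Q (by rw [qAut_map, hu]) (by rw [qAut_polar, h])
  | one => simp
  | mul x y _ _ hx hy => simpa [mul_assoc] using mul_mem hx hy
  | inv x _ hx => simpa [mul_assoc] using inv_mem hx

theorem exists_polar_sep (hQ : PolarNondeg Q) {a b : V} (hli : ∀ s : F, s • b ≠ a) :
    ∃ y, QuadraticMap.polar Q b y = 0 ∧ QuadraticMap.polar Q a y ≠ 0 := by
  by_contra hcon
  push Not at hcon
  by_cases hb0 : ∃ y0, QuadraticMap.polar Q b y0 ≠ 0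
  · obtain ⟨y0, hy0⟩ := hb0
    refine hli (QuadraticMap.polar Q a y0 / QuadraticMap.polar Q b y0) (sub_eq_zero.1 (hQ _ fun y => ?_)).symm.symm
    have h := hcon (y - (QuadraticMap.polar Q b y / QuadraticMap.polar Q b y0) • y0) (by
      rw [QuadraticMap.polar_sub_right, QuadraticMap.polar_smul_right, smul_eq_mul, div_mul_cancel₀ _ hy0, sub_self])
    rw [QuadraticMap.polar_sub_right, QuadraticMap.polar_smul_right, smul_eq_mul] at h
    rw [QuadraticMap.polar_sub_left, QuadraticMap.polar_smul_left, smul_eq_mul]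
    linear_combination -h
  · push Not at hb0
    refine hli 0 ?_
    rw [zero_smul, hQ a fun y => hcon y (hb0 y)]

variable [FiniteDimensional F V]

/-- In dimension at least five the perp of two vectors is not totally orthogonal. -/
theorem exists_polar_ne_perp (hQ : PolarNondeg Q) (hn : 5 ≤ Module.finrank F V) (a b : V) :
    ∃ x y, QuadraticMap.polar Q a x = 0 ∧ QuadraticMap.polar Q b x = 0 ∧ QuadraticMap.polar Q a y = 0 ∧
      QuadraticMap.polar Q b y = 0 ∧ QuadraticMap.polar Q x y ≠ 0 := by
  by_contra hc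
  push Not at hc
  let B : LinearMap.BilinForm F V := QuadraticMap.polarBilin Q
  have hB : B.Nondegenerate := PolarNondeg.nondegenerate hQ
  let f : V →ₗ[F] F × F := (QuadraticMap.polarBilin Q a).prod (QuadraticMap.polarBilin Q b)
  have h1 := LinearMap.finrank_range_add_finrank_ker f
  have h2 := Submodule.finrank_le (LinearMap.range f)
  simp only [Module.finrank_prod, Module.finrank_self] at h2
  have hle : LinearMap.ker f ≤ B.orthogonal (LinearMap.ker f) := by
    intro y hy x hx
    simp [f, Prod.ext_iff] at hx hy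
    exact hc x y hx.1 hx.2 hy.1 hy.2
  have h3 := Submodule.finrank_mono hle
  rw [LinearMap.BilinForm.finrank_orthogonal hB] at h3
  omega

theorem exists_aniso_perp (hQ : PolarNondeg Q) (hn : 5 ≤ Module.finrank F V) (a b : V) :
    ∃ w, QuadraticMap.polar Q a w = 0 ∧ QuadraticMap.polar Q b w = 0 ∧ Q w ≠ 0 := by
  by_contra hc
  push Not at hc
  obtain ⟨x, y, hax, hbx, hay, hby, hxy⟩ := exists_polar_ne_perp Q hQ hn a b
  refine hxy ?_
  have h := hc (x + y) (by rw [QuadraticMap.polar_add_right, hax, hay, add_zero])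
    (by rw [QuadraticMap.polar_add_right, hbx, hby, add_zero])
  rwa [quad_add, hc x hax hbx, hc y hay hby, zero_add, zero_add] at h

/-- The subspace orthogonal to a hyperbolic pair, with its form. -/
theorem polarNondeg_pairPerp (hQ : PolarNondeg Q) {u z : V} (hu : Q u = 0) (hz : Q z = 0)
    (huz : QuadraticMap.polar Q u z = 1) :
    PolarNondeg (Q.comp (LinearMap.ker ((QuadraticMap.polarBilin Q u).prod (QuadraticMap.polarBilin Q z))).subtype) := by
  intro a ha
  refine Subtype.ext (hQ _ fun y => ?_)
  obtain ⟨h1, h2⟩ := proj_pair Q hu hz huz y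
  have hmem : y - QuadraticMap.polar Q y z • u - QuadraticMap.polar Q y u • z ∈
      LinearMap.ker ((QuadraticMap.polarBilin Q u).prod (QuadraticMap.polarBilin Q z)) :=
    LinearMap.mem_ker.2 (Prod.ext ((QuadraticMap.polar_comm Q u _).trans h1)
      ((QuadraticMap.polar_comm Q z _).trans h2))
  have h := ha ⟨_, hmem⟩
  have ha' := LinearMap.mem_ker.1 a.2
  simp only [LinearMap.prod_apply, Function.prod_apply, QuadraticMap.polarBilin_apply_apply, Prod.mk_eq_zero] at ha'
  change QuadraticMap.polar Q (a : V) (y - QuadraticMap.polar Q y z • u - QuadraticMap.polar Q y u • z) = 0 at h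
  rw [QuadraticMap.polar_sub_right, QuadraticMap.polar_sub_right, QuadraticMap.polar_smul_right,
    QuadraticMap.polar_smul_right, QuadraticMap.polar_comm Q (a : V) u, QuadraticMap.polar_comm Q (a : V) z, ha'.1, ha'.2] at h
  simpa using h

theorem finrank_pairPerp {u z : V} : Module.finrank F V ≤ Module.finrank F
    (LinearMap.ker ((QuadraticMap.polarBilin Q u).prod (QuadraticMap.polarBilin Q z))) + 2 := by
  have h1 := LinearMap.finrank_range_add_finrank_ker ((QuadraticMap.polarBilin Q u).prod (QuadraticMap.polarBilin Q z))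
  have h2 := Submodule.finrank_le (LinearMap.range ((QuadraticMap.polarBilin Q u).prod (QuadraticMap.polarBilin Q z)))
  simp only [Module.finrank_prod, Module.finrank_self] at h2
  omega

variable [Fintype F]

theorem exists_singular (hQ : PolarNondeg Q) (hn : 3 ≤ Module.finrank F V) : ∃ u, u ≠ 0 ∧ Q u = 0 := by
  classical
  obtain ⟨v, hv⟩ := exists_value Q hQ (by omega) one_ne_zero
  have hv' : Q v ≠ 0 := hv ▸ one_ne_zero
  have hv0 : v ≠ 0 := by rintro rfl; simp at hv'
  by_cases h2 : (2 : F) = 0
  · haveI : CharP F 2 := CharTwo.of_one_ne_zero_of_two_eq_zero one_ne_zero h2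
    obtain ⟨w, hw, hwv⟩ : ∃ w ∈ LinearMap.ker (QuadraticMap.polarBilin Q v), w ∉ Submodule.span F {v} := by
      by_contra hc
      push Not at hc
      have h1 := Submodule.finrank_mono (show LinearMap.ker (QuadraticMap.polarBilin Q v) ≤ _ from hc)
      have h3 := LinearMap.finrank_range_add_finrank_ker (QuadraticMap.polarBilin Q v)
      have h4 := Submodule.finrank_le (LinearMap.range (QuadraticMap.polarBilin Q v))
      rw [Module.finrank_self] at h4
      rw [finrank_span_singleton hv0] at h1
      omega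
    obtain ⟨r, hr⟩ := FiniteField.isSquare_of_char_two (ringChar.eq F 2) (Q w)
    refine ⟨w + r • v, fun h => hwv (Submodule.mem_span_singleton.2 ⟨-r, ?_⟩), ?_⟩
    · rw [neg_smul, neg_eq_iff_add_eq_zero, add_comm, h]
    · rw [quad_add, quad_smul, hv, QuadraticMap.polar_smul_right, QuadraticMap.polar_comm,
        show QuadraticMap.polar Q v w = 0 from LinearMap.mem_ker.1 hw, hr]
      simp [CharTwo.add_self_eq_zero]
  · have hamb : NdOn Q (⊤ : Submodule F V) := fun x _ h => hQ x fun y => h y trivial
    have hP := ndOn_linePerp Q h2 hamb (Submodule.mem_top (x := v)) hv'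
    have hQP : PolarNondeg (Q.comp (⊤ ⊓ LinearMap.ker (QuadraticMap.polarBilin Q v)).subtype) :=
      fun a ha => Subtype.ext (hP a a.2 fun b hb => by simpa [QuadraticMap.polar] using ha ⟨b, hb⟩)
    obtain ⟨⟨w, hw⟩, hQw⟩ := exists_value _ hQP (by
      rw [top_inf_eq]
      have := finrank_linePerp Q h2 hv'
      omega) (neg_ne_zero.2 (one_ne_zero (α := F)))
    have hwv : QuadraticMap.polar Q v w = 0 := LinearMap.mem_ker.1 hw.2
    refine ⟨v + w, fun h => ?_, ?_⟩
    · rw [eq_neg_of_add_eq_zero_left h, QuadraticMap.polar_neg_left, quad_polar_self, neg_eq_zero] at hwv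
      have hQw' : Q w = -1 := hQw
      rw [hQw'] at hwv
      exact h2 (by linear_combination -hwv)
    · rw [quad_add, hv, hwv, show Q w = -1 from hQw]
      ring

/-- Some singular vector is not orthogonal to a given non-zero vector. -/
theorem exists_singular_polar (hQ : PolarNondeg Q) (hn : 3 ≤ Module.finrank F V) {v : V} (hv : v ≠ 0) :
    ∃ u, Q u = 0 ∧ QuadraticMap.polar Q u v ≠ 0 := by
  by_contra hc
  push Not at hc
  obtain ⟨u, hu0, hu⟩ := exists_singular Q hQ hn
  obtain ⟨z, -, hz, huz⟩ := exists_partner Q (P := ⊤) (fun x _ h => hQ x fun y => h y trivial)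
    (Submodule.mem_top (x := u)) hu0 hu
  refine hv (hQ v fun y => ?_)
  obtain ⟨h1, h2⟩ := proj_pair Q hu hz huz y
  set w := y - QuadraticMap.polar Q y z • u - QuadraticMap.polar Q y u • z with hw
  have hs : Q (z + w + (-Q w) • u) = 0 := by
    simp [quad_add, quad_smul, hu, hz, QuadraticMap.polar_add_left, QuadraticMap.polar_smul_right,
      QuadraticMap.polar_comm Q z u, huz, h1, QuadraticMap.polar_comm Q z w, h2]
  have h3 := hc _ hs
  rw [QuadraticMap.polar_add_left, QuadraticMap.polar_add_left, QuadraticMap.polar_smul_left, hc z hz, hc u hu,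
    smul_zero, zero_add, add_zero] at h3
  rw [QuadraticMap.polar_comm, show y = w + QuadraticMap.polar Q y z • u + QuadraticMap.polar Q y u • z by
    rw [hw]; abel, QuadraticMap.polar_add_left, QuadraticMap.polar_add_left, QuadraticMap.polar_smul_left,
    QuadraticMap.polar_smul_left, h3, hc u hu, hc z hz]
  simp

omit [FiniteDimensional F V] [Fintype F] in
/-- An Eichler transformation fixing `v` carries `u` to `u'`. -/
theorem exists_eich_move {u u' v : V} (hu : Q u = 0) (hu' : Q u' = 0) (hv : Q v = 0)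
    (h : QuadraticMap.polar Q u v = QuadraticMap.polar Q u' v) (hb : QuadraticMap.polar Q u v ≠ 0) :
    ∃ w, QuadraticMap.polar Q v w = 0 ∧ (eich Q v w).1 u = u' := by
  set b := QuadraticMap.polar Q u v
  refine ⟨b⁻¹ • (u' - u), ?_, ?_⟩
  · rw [QuadraticMap.polar_smul_right, QuadraticMap.polar_sub_right, QuadraticMap.polar_comm Q v u',
      QuadraticMap.polar_comm Q v u, ← h, sub_self, smul_zero]
  · rw [eich_apply Q hv (by rw [QuadraticMap.polar_smul_right, QuadraticMap.polar_sub_right,
      QuadraticMap.polar_comm Q v u', QuadraticMap.polar_comm Q v u, ← h, sub_self, smul_zero])]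
    rw [QuadraticMap.polar_smul_right, QuadraticMap.polar_sub_right, quad_polar_self, hu, quad_smul, quad_sub,
      hu', hu, QuadraticMap.polar_comm Q u' u, smul_smul, mul_inv_cancel₀ hb, one_smul]
    simp only [smul_eq_mul, mul_zero, sub_zero, add_zero, zero_sub]
    rw [show b⁻¹ * QuadraticMap.polar Q u u' + b⁻¹ * b⁻¹ * -QuadraticMap.polar Q u u' * b = 0 by field_simp; ring,
      zero_smul, sub_zero, add_sub_cancel]

/-- A singular vector with equal non-zero products with two independent singular vectors. -/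
theorem exists_common (hQ : PolarNondeg Q) (hn : 4 ≤ Module.finrank F V) {u u' : V} (hu : Q u = 0)
    (hu' : Q u' = 0) (hli : ∀ s : F, s • u ≠ u') (hli' : ∀ s : F, s • u' ≠ u) :
    ∃ v, Q v = 0 ∧ QuadraticMap.polar Q u v ≠ 0 ∧ QuadraticMap.polar Q u v = QuadraticMap.polar Q u' v := by
  by_cases hb : QuadraticMap.polar Q u u' = 0
  · obtain ⟨y1, h10, h11⟩ := exists_polar_sep Q hQ hli
    obtain ⟨y2, h20, h22⟩ := exists_polar_sep Q hQ hli'
    set v0 := (QuadraticMap.polar Q u y2)⁻¹ • y2 + (QuadraticMap.polar Q u' y1)⁻¹ • y1 with hv0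
    have e1 : QuadraticMap.polar Q u v0 = 1 := by
      simp [hv0, QuadraticMap.polar_add_right, QuadraticMap.polar_smul_right, h10, inv_mul_cancel₀ h22]
    have e2 : QuadraticMap.polar Q u' v0 = 1 := by
      simp [hv0, QuadraticMap.polar_add_right, QuadraticMap.polar_smul_right, h20, inv_mul_cancel₀ h11]
    refine ⟨v0 + (-Q v0) • u, ?_, ?_, ?_⟩
    · rw [quad_add, quad_smul, hu, QuadraticMap.polar_smul_right, QuadraticMap.polar_comm, e1]
      simp
    · rw [QuadraticMap.polar_add_right, QuadraticMap.polar_smul_right, quad_polar_self, hu, e1]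
      simp
    · rw [QuadraticMap.polar_add_right, QuadraticMap.polar_smul_right, quad_polar_self, hu, e1,
        QuadraticMap.polar_add_right, QuadraticMap.polar_smul_right, e2, QuadraticMap.polar_comm Q u' u, hb]
      simp
  · set b := QuadraticMap.polar Q u u' with hbdef
    have hz : Q (b⁻¹ • u') = 0 := by rw [quad_smul, hu', mul_zero]
    have huz : QuadraticMap.polar Q u (b⁻¹ • u') = 1 := by
      rw [QuadraticMap.polar_smul_right, smul_eq_mul, inv_mul_cancel₀ hb]
    have hdim := finrank_pairPerp Q (u := u) (z := b⁻¹ • u')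
    obtain ⟨⟨p, hp⟩, hQp⟩ := exists_value _ (polarNondeg_pairPerp Q hQ hu hz huz) (by omega)
      (neg_ne_zero.2 hb)
    have hp' := LinearMap.mem_ker.1 hp
    simp only [LinearMap.prod_apply, Function.prod_apply, QuadraticMap.polarBilin_apply_apply, Prod.mk_eq_zero,
      QuadraticMap.polar_smul_left, smul_eq_mul, mul_eq_zero, inv_eq_zero, hb, false_or] at hp'
    refine ⟨u + u' + p, ?_, ?_, ?_⟩
    · rw [quad_add, quad_add, hu, hu', QuadraticMap.polar_add_left, hp'.1, hp'.2, ← hbdef, show Q p = -b from hQp]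
      ring
    · simpa [QuadraticMap.polar_add_right, quad_polar_self, hu, hp'.1] using hb
    · simp [QuadraticMap.polar_add_right, quad_polar_self, hu, hu', hp'.1, hp'.2, QuadraticMap.polar_comm Q u' u]

/-- Transitivity on singular vectors. -/
theorem exists_move_eichGroup (hQ : PolarNondeg Q) (hn : 4 ≤ Module.finrank F V) {u u' : V} (hu : Q u = 0)
    (hu' : Q u' = 0) (hu0 : u ≠ 0) (hu0' : u' ≠ 0) : ∃ g ∈ eichGroup Q, g.1 u = u' := by
  have key : ∀ a b : V, Q a = 0 → Q b = 0 → a ≠ 0 → b ≠ 0 → (∀ s : F, s • a ≠ b) →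
      ∃ g ∈ eichGroup Q, g.1 a = b := by
    intro a b ha hb ha0 hb0 hli
    obtain ⟨v, hv, hne, heq⟩ := exists_common Q hQ hn ha hb hli (fun s hs => hli s⁻¹ (by
      have hs0 : s ≠ 0 := fun h => ha0 (by rw [← hs, h, zero_smul])
      rw [← hs, smul_smul, inv_mul_cancel₀ hs0, one_smul]))
    obtain ⟨w, hw, hwu⟩ := exists_eich_move Q ha hb hv heq hne
    exact ⟨eich Q v w, eich_mem Q hv hw, hwu⟩
  by_cases hli : ∃ s : F, s • u = u'
  · obtain ⟨s, hs⟩ := hli
    obtain ⟨z, -, hz, huz⟩ := exists_partner Q (P := ⊤) (fun x _ h => hQ x fun y => h y trivial)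
      (Submodule.mem_top (x := u)) hu0 hu
    have hz0 : z ≠ 0 := by rintro rfl; simp at huz
    have h1 : ∀ t : F, t • u ≠ z := fun t ht => by
      rw [← ht, QuadraticMap.polar_smul_right, quad_polar_self, hu] at huz
      simp at huz
    have hs0 : s ≠ 0 := fun h => hu0' (by rw [← hs, h, zero_smul])
    obtain ⟨g, hg, hgu⟩ := key u z hu hz hu0 hz0 h1
    obtain ⟨k, hk, hkz⟩ := key z u' hz hu' hz0 hu0' fun t ht => by
      rw [← hs] at ht
      refine h1 (t⁻¹ * s) ?_
      have ht0 : t ≠ 0 := fun h => hu0' (by rw [← hs, ← ht, h, zero_smul])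
      rw [mul_smul, ← ht, smul_smul, inv_mul_cancel₀ ht0, one_smul]
    exact ⟨k * g, mul_mem hk hg, by rw [qAut_mul_apply, hgu, hkz]⟩
  · push Not at hli
    exact key u u' hu hu' hu0 hu0' hli

/-- Transitivity on hyperbolic pairs. -/
theorem exists_move_pair (hQ : PolarNondeg Q) (hn : 4 ≤ Module.finrank F V) {u z u' z' : V} (hu : Q u = 0)
    (hz : Q z = 0) (huz : QuadraticMap.polar Q u z = 1) (hu' : Q u' = 0) (hz' : Q z' = 0)
    (huz' : QuadraticMap.polar Q u' z' = 1) : ∃ g ∈ eichGroup Q, g.1 u = u' ∧ g.1 z = z' := by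
  have hu0 : u ≠ 0 := by rintro rfl; simp at huz
  have hu0' : u' ≠ 0 := by rintro rfl; simp at huz'
  obtain ⟨g, hg, hgu⟩ := exists_move_eichGroup Q hQ hn hu hu' hu0 hu0'
  have hgz : QuadraticMap.polar Q (g.1 z) u' = 1 := by
    rw [← hgu, qAut_polar, QuadraticMap.polar_comm, huz]
  have hz'u : QuadraticMap.polar Q z' u' = 1 := (QuadraticMap.polar_comm Q z' u').trans huz'
  obtain ⟨w, hw, hwz⟩ := exists_eich_move Q (by rw [qAut_map, hz]) hz' hu' (hgz.trans hz'u.symm)
    (hgz ▸ one_ne_zero)
  exact ⟨eich Q u' w * g, mul_mem (eich_mem Q hu' hw) hg, by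
    rw [qAut_mul_apply, hgu, eich_fix Q hu' hw], by rw [qAut_mul_apply, hwz]⟩

/-- Transitivity on the non-zero level sets. -/
theorem exists_move_level (hQ : PolarNondeg Q) (hn : 4 ≤ Module.finrank F V) {v v' : V} (hv : Q v ≠ 0)
    (h : Q v = Q v') : ∃ g ∈ eichGroup Q, g.1 v = v' := by
  have dec : ∀ a : V, Q a ≠ 0 → ∃ x y : V, Q x = 0 ∧ Q y = 0 ∧ QuadraticMap.polar Q x y = 1 ∧
      a = x + Q a • y := by
    intro a ha
    obtain ⟨x0, hx0, hxa⟩ := exists_singular_polar Q hQ (by omega) (v := a) (by rintro rfl; simp at ha)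
    set x := (Q a / QuadraticMap.polar Q x0 a) • x0 with hxdef
    have hx : Q x = 0 := by rw [hxdef, quad_smul, hx0, mul_zero]
    have hxa' : QuadraticMap.polar Q x a = Q a := by
      rw [hxdef, QuadraticMap.polar_smul_left, smul_eq_mul, div_mul_cancel₀ _ hxa]
    refine ⟨x, (Q a)⁻¹ • (a - x), hx, ?_, ?_, ?_⟩
    · rw [quad_smul, quad_sub, hx, QuadraticMap.polar_comm, hxa', add_zero, sub_self, mul_zero]
    · rw [QuadraticMap.polar_smul_right, QuadraticMap.polar_sub_right, hxa', quad_polar_self, hx, mul_zero,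
        sub_zero, smul_eq_mul, inv_mul_cancel₀ ha]
    · rw [smul_smul, mul_inv_cancel₀ ha, one_smul, add_sub_cancel]
  obtain ⟨x, y, hx, hy, hxy, hv1⟩ := dec v hv
  obtain ⟨x', y', hx', hy', hxy', hv2⟩ := dec v' (h ▸ hv)
  obtain ⟨g, hg, hgx, hgy⟩ := exists_move_pair Q hQ hn hx hy hxy hx' hy' hxy'
  exact ⟨g, hg, by rw [hv1, map_add, map_smul, hgx, hgy, h, ← hv2]⟩

/-- The commutator subgroup lies in the group generated by the Eichler transformations. -/
theorem commutator_le_eichGroup (hQ : PolarNondeg Q) (hn : 5 ≤ Module.finrank F V) :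
    commutator (qAut Q) ≤ eichGroup Q := by
  classical
  haveI := eichGroup_normal Q
  have hgen := reflGroup_eq_top Q hQ (Or.inr (by omega))
  have hcen : ∀ (g : qAut Q) {v : V} (hv : Q v ≠ 0),
      (g : qAut Q ⧸ eichGroup Q) * (qRefl Q hv) = (qRefl Q hv) * g := by
    intro g v hv
    have hgv : Q (g.1 v) ≠ 0 := by rwa [qAut_map]
    obtain ⟨s, hs, hsv⟩ := exists_move_level Q hQ (by omega) hv (qAut_map g v).symm
    have hsv' : Q (s.1 v) ≠ 0 := by rwa [qAut_map]
    have e : g * qRefl Q hv * g⁻¹ = s * qRefl Q hv * s⁻¹ := by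
      rw [qRefl_conj Q g hv hgv, qRefl_conj Q s hv hsv']
      congr 1
      exact hsv.symm
    have e' := congrArg (fun x : qAut Q => (x : qAut Q ⧸ eichGroup Q)) e
    simp only [QuotientGroup.mk_mul, QuotientGroup.mk_inv, (QuotientGroup.eq_one_iff s).2 hs, one_mul, inv_one,
      mul_one] at e'
    exact mul_inv_eq_iff_eq_mul.1 e'
  have hab : ∀ g h : qAut Q, (g : qAut Q ⧸ eichGroup Q) * h = h * g := by
    intro g h
    have hh : h ∈ reflGroup Q := hgen ▸ Subgroup.mem_top h
    have hle : reflGroup Q ≤ (Subgroup.centralizer {(g : qAut Q ⧸ eichGroup Q)}).comap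
        (QuotientGroup.mk' (eichGroup Q)) :=
      (Subgroup.closure_le _).2 fun r ⟨v, hv, hr⟩ => hr ▸ Subgroup.mem_centralizer_singleton_iff.2 (hcen g hv).symm
    exact (Subgroup.mem_centralizer_singleton_iff.1 (hle hh)).symm
  rw [commutator_def, Subgroup.commutator_le]
  intro g _ h _
  rw [← QuotientGroup.eq_one_iff, commutatorElement_def]
  simp only [QuotientGroup.mk_mul, QuotientGroup.mk_inv]
  rw [hab g h, mul_inv_cancel_right, mul_inv_cancel]

omit [Fintype F] in
/-- An Eichler transformation with singular `v` is a commutator of Eichler transformations. -/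
theorem eich_singular_mem (hQ : PolarNondeg Q) (hn : 5 ≤ Module.finrank F V) {u v : V} (hu : Q u = 0)
    (hv : Q v = 0) (huv : QuadraticMap.polar Q u v = 0) :
    eich Q u v ∈ ⁅eichGroup Q, eichGroup Q⁆ := by
  obtain ⟨a, w, hua, hva, huw, hvw, haw⟩ := exists_polar_ne_perp Q hQ hn u v
  obtain ⟨w', hw'⟩ : ∃ w', w' = -(QuadraticMap.polar Q a w)⁻¹ • w := ⟨_, rfl⟩
  have h1 : QuadraticMap.polar Q v w' = 0 := by rw [hw', QuadraticMap.polar_smul_right, hvw, smul_zero]
  have h2 : QuadraticMap.polar Q u w' = 0 := by rw [hw', QuadraticMap.polar_smul_right, huw, smul_zero]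
  have h3 : QuadraticMap.polar Q a w' = -1 := by
    rw [hw', QuadraticMap.polar_smul_right, smul_eq_mul, neg_mul, inv_mul_cancel₀ haw]
  have hsa : (eich Q v w').1 a = a + v := by
    rw [eich_apply Q hv h1, QuadraticMap.polar_comm Q a v, hva, h3]
    simp
  have hsu : (eich Q v w').1 u = u := by
    rw [eich_apply Q hv h1, huv, h2]
    simp
  have hnega : QuadraticMap.polar Q u (-a) = 0 := by rw [QuadraticMap.polar_neg_right, hua, neg_zero]
  have key : ⁅eich Q v w', eich Q u a⁆ = eich Q u v := by
    rw [commutatorElement_def, eich_conj Q _ hu hua, hsu, hsa, eich_inv Q hu hua,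
      eich_mul Q hu (by rw [QuadraticMap.polar_add_right, hua, huv, add_zero]) hnega, add_neg_cancel_comm]
  rw [← key]
  exact Subgroup.commutator_mem_commutator (eich_mem Q hv h1) (eich_mem Q hu hua)

/-- Every Eichler transformation is a product of two singular ones. -/
theorem exists_singular_split (hQ : PolarNondeg Q) (hn : 5 ≤ Module.finrank F V) {u w : V} (hu : Q u = 0)
    (h : QuadraticMap.polar Q u w = 0) :
    ∃ v v', Q v = 0 ∧ Q v' = 0 ∧ QuadraticMap.polar Q u v = 0 ∧ QuadraticMap.polar Q u v' = 0 ∧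
      eich Q u w = eich Q u v * eich Q u v' := by
  rcases eq_or_ne u 0 with rfl | hu0
  · refine ⟨0, 0, map_zero _, map_zero _, by simp, by simp, qAut_ext fun x => ?_⟩
    rw [eich_zero Q hu, mul_one, eich_apply Q hu h]
    simp
  obtain ⟨z, -, hz, huz⟩ := exists_partner Q (P := ⊤) (fun x _ h => hQ x fun y => h y trivial)
    (Submodule.mem_top (x := u)) hu0 hu
  obtain ⟨s, hs⟩ : ∃ s, s = QuadraticMap.polar Q w z := ⟨_, rfl⟩
  set w0 := w + (-s) • u with hw0
  have hw0u : QuadraticMap.polar Q u w0 = 0 := by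
    rw [hw0, QuadraticMap.polar_add_right, QuadraticMap.polar_smul_right, quad_polar_self, hu, h]
    simp
  have hw0z : QuadraticMap.polar Q z w0 = 0 := by
    rw [hw0, QuadraticMap.polar_add_right, QuadraticMap.polar_smul_right, QuadraticMap.polar_comm Q z u, huz,
      QuadraticMap.polar_comm Q z w, ← hs]
    simp
  rw [← eich_add_self Q hu h (-s), ← hw0]
  rcases eq_or_ne w0 0 with hw00 | hw00
  · exact ⟨0, 0, map_zero _, map_zero _, by simp, by simp, by rw [hw00, eich_zero Q hu, mul_one]⟩
  have hdim := finrank_pairPerp Q (u := u) (z := z)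
  have hmem : w0 ∈ LinearMap.ker ((QuadraticMap.polarBilin Q u).prod (QuadraticMap.polarBilin Q z)) :=
    LinearMap.mem_ker.2 (Prod.ext hw0u hw0z)
  obtain ⟨⟨u1, hu1⟩, hQu1, hpol⟩ := exists_singular_polar _ (polarNondeg_pairPerp Q hQ hu hz huz) (by omega)
    (v := ⟨w0, hmem⟩) (fun h => hw00 (congrArg Subtype.val h))
  change QuadraticMap.polar Q u1 w0 ≠ 0 at hpol
  change Q u1 = 0 at hQu1
  have hu1u : QuadraticMap.polar Q u u1 = 0 := (Prod.ext_iff.1 (LinearMap.mem_ker.1 hu1)).1
  obtain ⟨t, ht⟩ : ∃ t, t = Q w0 / QuadraticMap.polar Q u1 w0 := ⟨_, rfl⟩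
  refine ⟨w0 + (-t) • u1, t • u1, ?_, by rw [quad_smul, hQu1, mul_zero], ?_, ?_, ?_⟩
  · rw [quad_add, quad_smul, hQu1, QuadraticMap.polar_smul_right, QuadraticMap.polar_comm Q w0 u1, ht, smul_eq_mul,
      mul_zero, add_zero, neg_mul, div_mul_cancel₀ _ hpol, add_neg_cancel]
  · rw [QuadraticMap.polar_add_right, QuadraticMap.polar_smul_right, hw0u, hu1u, smul_zero, add_zero]
  · rw [QuadraticMap.polar_smul_right, hu1u, smul_zero]
  · rw [eich_mul Q hu (by rw [QuadraticMap.polar_add_right, QuadraticMap.polar_smul_right, hw0u, hu1u, smul_zero,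
      add_zero]) (by rw [QuadraticMap.polar_smul_right, hu1u, smul_zero]), add_assoc, ← add_smul, neg_add_cancel,
      zero_smul, add_zero]

/-- The Eichler transformations generate the commutator subgroup, which is perfect. -/
theorem eichGroup_perfect (hQ : PolarNondeg Q) (hn : 5 ≤ Module.finrank F V) :
    ⁅eichGroup Q, eichGroup Q⁆ = eichGroup Q := by
  haveI := eichGroup_normal Q
  refine le_antisymm (Subgroup.commutator_le_left _ _) ((Subgroup.closure_le _).2 ?_)
  rintro _ ⟨u, w, hu, h, rfl⟩
  obtain ⟨v, v', hv, hv', huv, huv', e⟩ := exists_singular_split Q hQ hn hu h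
  rw [e]
  exact mul_mem (eich_singular_mem Q hQ hn hu hv huv) (eich_singular_mem Q hQ hn hu hv' huv')

theorem eichGroup_eq_commutator (hQ : PolarNondeg Q) (hn : 5 ≤ Module.finrank F V) :
    eichGroup Q = commutator (qAut Q) := by
  refine le_antisymm ?_ (commutator_le_eichGroup Q hQ hn)
  rw [← eichGroup_perfect Q hQ hn, commutator_def]
  exact Subgroup.commutator_mono le_top le_top

/-- A singular Eichler transformation is a commutator, in odd characteristic. -/
theorem eich_singular_mem_commutatorSet (h2 : (2 : F) ≠ 0) (hQ : PolarNondeg Q) {u v : V} (hu : Q u = 0)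
    (hv : Q v = 0) (huv : QuadraticMap.polar Q u v = 0) : eich Q u v ∈ commutatorSet (qAut Q) := by
  by_cases hdep : LinearIndependent F ![u, v]
  · let e : Submodule.span F (Set.range ![u, v]) →ₗ[F] V :=
      (Fintype.linearCombination F ![u, -v]).comp (Module.Basis.span hdep).equivFun.toLinearMap
    have hinj : Function.Injective e := by
      have hli' : LinearIndependent F ![u, -v] := by
        rw [LinearIndependent.pair_iff] at hdep ⊢
        intro s t hst
        have := hdep s (-t) (by rw [neg_smul, ← smul_neg]; exact hst)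
        exact ⟨this.1, neg_eq_zero.1 this.2⟩
      exact (hli'.fintypeLinearCombination_injective).comp (Module.Basis.span hdep).equivFun.injective
    obtain ⟨g, hg, hge⟩ := witt_quad Q hQ _ e hinj fun a => by
      set c := (Module.Basis.span hdep).equivFun a
      have ha : (a : V) = c 0 • u + c 1 • v := by
        conv_lhs => rw [← (Module.Basis.span hdep).sum_equivFun a]
        simp [Fin.sum_univ_two, c, Module.Basis.span_apply]
      have he : e a = c 0 • u + c 1 • -v := by
        simp [e, Fintype.linearCombination_apply, Fin.sum_univ_two, c]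
      rw [ha, he]
      simp [quad_add, quad_smul, hu, hv, huv, QuadraticMap.map_neg, QuadraticMap.polar_smul_left,
        QuadraticMap.polar_smul_right, QuadraticMap.polar_neg_right]
    have hgu : g u = u := by
      have h0 : ((Module.Basis.span hdep 0 : Submodule.span F (Set.range ![u, v])) : V) = u := by
        simp [Module.Basis.span_apply]
      have := hge (Module.Basis.span hdep 0)
      rw [h0] at this
      simpa [e, Fintype.linearCombination_apply, Fin.sum_univ_two, -Module.Basis.span_apply] using this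
    have hgv : g v = -v := by
      have h1 : ((Module.Basis.span hdep 1 : Submodule.span F (Set.range ![u, v])) : V) = v := by
        simp [Module.Basis.span_apply]
      have := hge (Module.Basis.span hdep 1)
      rw [h1] at this
      simpa [e, Fintype.linearCombination_apply, Fin.sum_univ_two, -Module.Basis.span_apply] using this
    obtain ⟨t, ht⟩ : ∃ t, t = -(2 : F)⁻¹ := ⟨_, rfl⟩
    have ht' : QuadraticMap.polar Q u (t • v) = 0 := by rw [QuadraticMap.polar_smul_right, huv, smul_zero]
    refine ⟨⟨g, hg⟩, eich Q u (t • v), ?_⟩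
    rw [commutatorElement_def, eich_conj Q _ hu ht']
    change eich Q (g u) (g (t • v)) * (eich Q u (t • v))⁻¹ = _
    rw [map_smul, hgu, hgv, eich_inv Q hu ht',
      eich_mul Q hu (by rw [QuadraticMap.polar_smul_right, QuadraticMap.polar_neg_right, huv, neg_zero, smul_zero])
        (by rw [QuadraticMap.polar_neg_right, ht', neg_zero])]
    congr 1
    rw [smul_neg, ← neg_smul, ← add_smul, ht, neg_neg, ← two_mul, mul_inv_cancel₀ h2, one_smul]
  · have he : eich Q u v = 1 := by
      rw [LinearIndependent.pair_iff] at hdep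
      push Not at hdep
      obtain ⟨s, t, hst, hne⟩ := hdep
      by_cases ht : t = 0
      · have hu0 : u = 0 := (smul_eq_zero.1 (by simpa [ht] using hst)).resolve_left fun h => hne h ht
        refine qAut_ext fun x => ?_
        rw [eich_apply Q hu huv, hu0]
        simp
      · have hvu : v = (0 : V) + (-(t⁻¹ * s)) • u := by
          linear_combination (norm := module) t⁻¹ • hst - (inv_mul_cancel₀ ht) • v
        rw [hvu, eich_add_self Q hu (QuadraticMap.polar_zero_right Q u), eich_zero Q hu]
    exact ⟨1, 1, by rw [he]; simp⟩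

end CfsgLib.Classical
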