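/-
Simplicity of the commutator subgroup modulo its centre in dimension at least five.
-/
import Cfsg.Agent.Lib.Classical.QuadEichler

set_option autoImplicit false

namespace CfsgLib.Classical

open scoped LinearAlgebra.Projectivization commutatorElement Pointwise

variable {F V : Type*} [Field F] [AddCommGroup V] [Module F V] (Q : QuadraticForm F V)

theorem quad_rep_eq_zero {v : V} (hv : v ≠ 0) : Q (Projectivization.mk F v hv).rep = 0 ↔ Q v = 0 := by
  obtain ⟨a, ha⟩ := Projectivization.exists_smul_eq_mk_rep F v hv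
  rw [← ha, Units.smul_def, quad_smul]
  simp

/-- The singular points. -/
def SingPts : Type _ := {p : ℙ F V // Q p.rep = 0}

/-- The point of a singular vector. -/
noncomputable def singMk {v : V} (hv : v ≠ 0) (h : Q v = 0) : SingPts Q :=
  ⟨Projectivization.mk F v hv, (quad_rep_eq_zero Q hv).2 h⟩

theorem singMk_eq_iff {v w : V} (hv : v ≠ 0) (hw : w ≠ 0) (h : Q v = 0) (h' : Q w = 0) :
    singMk Q hv h = singMk Q hw h' ↔ ∃ a : F, a • w = v :=
  Subtype.ext_iff.trans (Projectivization.mk_eq_mk_iff' F v w hv hw)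

theorem exists_singMk (p : SingPts Q) : ∃ (v : V) (hv : v ≠ 0) (h : Q v = 0), p = singMk Q hv h :=
  ⟨p.1.rep, p.1.rep_nonzero, p.2, Subtype.ext (Projectivization.mk_rep p.1).symm⟩

theorem qAut_ne_zero (g : qAut Q) {v : V} (hv : v ≠ 0) : g.1 v ≠ 0 :=
  fun h => hv (g.1.map_eq_zero_iff.1 h)

noncomputable instance singPtsMulAction : MulAction (qAut Q) (SingPts Q) where
  smul g p := singMk Q (qAut_ne_zero Q g p.1.rep_nonzero) ((qAut_map g _).trans p.2)
  one_smul p := Subtype.ext (Projectivization.mk_rep p.1)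
  mul_smul g h p := by
    change singMk Q _ _ = singMk Q _ _
    rw [singMk_eq_iff]
    obtain ⟨a, ha⟩ := Projectivization.exists_smul_eq_mk_rep F (h.1 p.1.rep) (qAut_ne_zero Q h p.1.rep_nonzero)
    refine ⟨(a⁻¹ : Fˣ), ?_⟩
    change ((a⁻¹ : Fˣ) : F) • g.1 (Projectivization.mk F (h.1 p.1.rep) _).rep = g.1 (h.1 p.1.rep)
    rw [← ha, Units.smul_def, map_smul, smul_smul, ← Units.val_mul, inv_mul_cancel, Units.val_one, one_smul]

theorem smul_singMk (g : qAut Q) {v : V} (hv : v ≠ 0) (h : Q v = 0) :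
    g • singMk Q hv h = singMk Q (qAut_ne_zero Q g hv) ((qAut_map g v).trans h) := by
  change singMk Q _ _ = singMk Q _ _
  rw [singMk_eq_iff]
  obtain ⟨a, ha⟩ := Projectivization.exists_smul_eq_mk_rep F v hv
  exact ⟨(a : F), by rw [← map_smul, ← Units.smul_def, ha]; rfl⟩

theorem smul_singMk_eq {g : qAut Q} {v w : V} (hv : v ≠ 0) (h : Q v = 0) (hw : w ≠ 0) (h' : Q w = 0) (t : F)
    (hgv : g.1 v = t • w) : g • singMk Q hv h = singMk Q hw h' := by
  rw [smul_singMk, singMk_eq_iff]
  exact ⟨t, hgv.symm⟩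

/-- The root groups. -/
noncomputable def eichRoot (p : SingPts Q) : Subgroup (eichGroup Q) where
  carrier := {g | ∃ w, QuadraticMap.polar Q p.1.rep w = 0 ∧ (g : qAut Q) = eich Q p.1.rep w}
  one_mem' := ⟨0, QuadraticMap.polar_zero_right Q _, (eich_zero Q p.2).symm⟩
  mul_mem' := by
    rintro g g' ⟨w, hw, hg⟩ ⟨w', hw', hg'⟩
    exact ⟨w + w', by rw [QuadraticMap.polar_add_right, hw, hw', add_zero],
      by rw [Subgroup.coe_mul, hg, hg', eich_mul Q p.2 hw hw']⟩
  inv_mem' := by
    rintro g ⟨w, hw, hg⟩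
    exact ⟨-w, by rw [QuadraticMap.polar_neg_right, hw, neg_zero],
      by rw [Subgroup.coe_inv, hg, eich_inv Q p.2 hw]⟩

theorem mem_eichRoot_singMk {v : V} (hv : v ≠ 0) (h : Q v = 0) {g : eichGroup Q} :
    g ∈ eichRoot Q (singMk Q hv h) ↔ ∃ w, QuadraticMap.polar Q v w = 0 ∧ (g : qAut Q) = eich Q v w := by
  obtain ⟨a, ha⟩ := Projectivization.exists_smul_eq_mk_rep F v hv
  change (∃ w, QuadraticMap.polar Q (Projectivization.mk F v hv).rep w = 0 ∧
    (g : qAut Q) = eich Q (Projectivization.mk F v hv).rep w) ↔ _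
  rw [← ha, Units.smul_def]
  constructor
  · rintro ⟨w, hw, hg⟩
    rw [QuadraticMap.polar_smul_left, smul_eq_mul] at hw
    have hw0 := (mul_eq_zero.1 hw).resolve_left a.ne_zero
    exact ⟨(a : F) • w, by rw [QuadraticMap.polar_smul_right, hw0, smul_zero],
      by rw [hg, eich_smul_left Q h hw0]⟩
  · rintro ⟨w, hw, hg⟩
    have hw' : QuadraticMap.polar Q v ((a : F)⁻¹ • w) = 0 := by rw [QuadraticMap.polar_smul_right, hw, smul_zero]
    refine ⟨(a : F)⁻¹ • w, by rw [QuadraticMap.polar_smul_left, hw', smul_zero], ?_⟩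
    rw [hg, eich_smul_left Q h hw', smul_smul, mul_inv_cancel₀ a.ne_zero, one_smul]

/-- The Iwasawa structure on singular points. -/
noncomputable def eichIwasawa : MulAction.IwasawaStructure (eichGroup Q) (SingPts Q) where
  T := eichRoot Q
  is_comm p := ⟨⟨by
    rintro ⟨g, w, hw, hg⟩ ⟨g', w', hw', hg'⟩
    refine Subtype.ext (Subtype.ext ?_)
    simp only [Subgroup.coe_mul, hg, hg', eich_mul Q p.2 hw hw', eich_mul Q p.2 hw' hw, add_comm]⟩⟩
  is_conj g p := by
    obtain ⟨v, hv, h, rfl⟩ := exists_singMk Q p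
    rw [Subgroup.smul_def, smul_singMk]
    ext A
    rw [mem_eichRoot_singMk, Subgroup.mem_pointwise_smul_iff_inv_smul_mem, mem_eichRoot_singMk]
    simp only [MulAut.smul_def, MulAut.inv_apply, MulAut.conj_symm_apply, Subgroup.coe_mul, Subgroup.coe_inv]
    constructor
    · rintro ⟨w, hw, hA⟩
      have hw' : QuadraticMap.polar Q v ((g : qAut Q)⁻¹.1 w) = 0 := by
        rw [← qAut_polar (g : qAut Q), ← qAut_mul_apply, mul_inv_cancel]
        exact hw
      refine ⟨(g : qAut Q)⁻¹.1 w, hw', ?_⟩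
      have e := eich_conj Q (g : qAut Q) h hw'
      rw [← qAut_mul_apply, mul_inv_cancel] at e
      change (g : qAut Q) * eich Q v _ * (g : qAut Q)⁻¹ = eich Q _ w at e
      rw [hA, ← e]
      group
    · rintro ⟨w, hw, hA⟩
      refine ⟨(g : qAut Q).1 w, by rw [qAut_polar, hw], ?_⟩
      rw [← eich_conj Q (g : qAut Q) h hw, ← hA]
      group
  is_generator := by
    rw [eq_top_iff]
    have key : ∀ x ∈ eichGroup Q, ∀ hx : x ∈ eichGroup Q, (⟨x, hx⟩ : eichGroup Q) ∈ iSup (eichRoot Q) := by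
      intro x hx
      induction hx using Subgroup.closure_induction with
      | mem x hx =>
        intro hxm
        obtain ⟨u, w, hu, h, rfl⟩ := hx
        rcases eq_or_ne u 0 with rfl | hu0
        · have he : eich Q (0 : V) w = 1 := qAut_ext fun y => by
            rw [eich_apply Q hu h]
            simp
          simp only [he]
          exact one_mem _
        · exact Subgroup.mem_iSup_of_mem (singMk Q hu0 hu) ((mem_eichRoot_singMk Q hu0 hu).2 ⟨w, h, rfl⟩)
      | one => intro _; exact one_mem _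
      | mul x y hx hy ihx ihy => intro _; exact mul_mem (ihx hx) (ihy hy)
      | inv x hx ihx => intro _; exact inv_mem (ihx hx)
    exact fun g _ => key g g.2 g.2

theorem eichGroup_block_smul {B : Set (SingPts Q)} (hB : MulAction.IsBlock (eichGroup Q) B) {g : eichGroup Q}
    {b x : SingPts Q} (hb : b ∈ B) (hgb : g • b ∈ B) (hx : x ∈ B) : g • x ∈ B := by
  by_contra hc
  have hne : g • B ≠ (1 : eichGroup Q) • B := by
    rw [one_smul]
    exact fun h => hc (h ▸ Set.smul_mem_smul_set hx)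
  have h := hB hne
  rw [one_smul, Set.disjoint_left] at h
  exact h (Set.smul_mem_smul_set hb) hgb

variable [Fintype F] [FiniteDimensional F V]

theorem eichGroup_isPretransitive (hQ : PolarNondeg Q) (hn : 4 ≤ Module.finrank F V) :
    MulAction.IsPretransitive (eichGroup Q) (SingPts Q) := by
  refine ⟨fun p p' => ?_⟩
  obtain ⟨v, hv, h, rfl⟩ := exists_singMk Q p
  obtain ⟨w, hw, h', rfl⟩ := exists_singMk Q p'
  obtain ⟨g, hg, hgv⟩ := exists_move_eichGroup Q hQ hn h h' hv hw
  exact ⟨⟨g, hg⟩, smul_singMk_eq Q hv h hw h' 1 (by rw [hgv, one_smul])⟩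

theorem eichGroup_isPreprimitive (hQ : PolarNondeg Q) (hn : 5 ≤ Module.finrank F V) :
    MulAction.IsPreprimitive (eichGroup Q) (SingPts Q) := by
  have := eichGroup_isPretransitive Q hQ (by omega)
  refine ⟨fun {B} hB => ?_⟩
  by_contra hc
  rw [MulAction.IsTrivialBlock, not_or, Set.not_subsingleton_iff, Set.Nontrivial] at hc
  obtain ⟨⟨p, hp, q, hq, hpq⟩, hne⟩ := hc
  refine hne ?_
  have step : ∀ {u v : V} (hu0 : u ≠ 0) (hu : Q u = 0) (hv0 : v ≠ 0) (hv : Q v = 0),
      singMk Q hu0 hu ∈ B → singMk Q hv0 hv ∈ B → QuadraticMap.polar Q u v ≠ 0 →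
      ∀ {z : V} (hz0 : z ≠ 0) (hz : Q z = 0), QuadraticMap.polar Q u z ≠ 0 → singMk Q hz0 hz ∈ B := by
    intro u v hu0 hu hv0 hv huB hvB huv z hz0 hz huz
    have hz' : Q ((QuadraticMap.polar Q u v / QuadraticMap.polar Q u z) • z) = 0 := by
      rw [quad_smul, hz, mul_zero]
    obtain ⟨w, hw, hwv⟩ := exists_eich_move Q hv hz' hu (by
      rw [QuadraticMap.polar_smul_left, smul_eq_mul, QuadraticMap.polar_comm Q z u, div_mul_cancel₀ _ huz,
        QuadraticMap.polar_comm])
      (by rwa [QuadraticMap.polar_comm])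
    have h1 : (⟨_, eich_mem Q hu hw⟩ : eichGroup Q) • singMk Q hu0 hu ∈ B := by
      rw [Subgroup.smul_def, smul_singMk_eq Q hu0 hu hu0 hu 1 (by rw [one_smul]; exact eich_fix Q hu hw)]
      exact huB
    have h3 := eichGroup_block_smul Q hB huB h1 hvB
    rwa [Subgroup.smul_def, smul_singMk_eq Q hv0 hv hz0 hz _ hwv] at h3
  have key : ∀ {u v : V} (hu0 : u ≠ 0) (hu : Q u = 0) (hv0 : v ≠ 0) (hv : Q v = 0),
      singMk Q hu0 hu ∈ B → singMk Q hv0 hv ∈ B → QuadraticMap.polar Q u v ≠ 0 → B = Set.univ := by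
    intro u v hu0 hu hv0 hv huB hvB huv
    refine Set.eq_univ_of_forall fun r => ?_
    obtain ⟨x, hx0, hx, rfl⟩ := exists_singMk Q r
    by_cases hux : QuadraticMap.polar Q u x ≠ 0
    · exact step hu0 hu hv0 hv huB hvB huv hx0 hx hux
    push Not at hux
    by_cases hdep : ∃ s : F, s • u = x
    · obtain ⟨s, hs⟩ := hdep
      rwa [show singMk Q hx0 hx = singMk Q hu0 hu from (singMk_eq_iff Q hx0 hu0 hx hu).2 ⟨s, hs⟩]
    push Not at hdep
    obtain ⟨z, hz, hne', heq⟩ := exists_common Q hQ (by omega) hu hx hdep fun s hs => by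
      have hs0 : s ≠ 0 := fun h => hu0 (by rw [← hs, h, zero_smul])
      exact hdep s⁻¹ (by rw [← hs, smul_smul, inv_mul_cancel₀ hs0, one_smul])
    have hz0 : z ≠ 0 := by rintro rfl; simp at hne'
    have hzB := step hu0 hu hv0 hv huB hvB huv hz0 hz hne'
    exact step hz0 hz hu0 hu hzB huB (by rwa [QuadraticMap.polar_comm]) hx0 hx
      (by rw [QuadraticMap.polar_comm, ← heq]; exact hne')
  obtain ⟨u, hu0, hu, rfl⟩ := exists_singMk Q p
  obtain ⟨v, hv0, hv, rfl⟩ := exists_singMk Q q
  by_cases huv : QuadraticMap.polar Q u v = 0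
  swap
  · exact key hu0 hu hv0 hv hp hq huv
  have hdep : ∀ s : F, s • u ≠ v := fun s hs =>
    hpq ((singMk_eq_iff Q hv0 hu0 hv hu).2 ⟨s, hs⟩).symm
  obtain ⟨y, huy, hvy⟩ := exists_polar_sep Q hQ (a := v) (b := u) hdep
  obtain ⟨y', hy'⟩ : ∃ y', y' = (QuadraticMap.polar Q v y)⁻¹ • y := ⟨_, rfl⟩
  have hvy' : QuadraticMap.polar Q v y' = 1 := by
    rw [hy', QuadraticMap.polar_smul_right, smul_eq_mul, inv_mul_cancel₀ hvy]
  have huy' : QuadraticMap.polar Q u y' = 0 := by rw [hy', QuadraticMap.polar_smul_right, huy, smul_zero]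
  obtain ⟨u', hu'⟩ : ∃ u', u' = y' + (-Q y') • v := ⟨_, rfl⟩
  have hQu' : Q u' = 0 := by
    rw [hu', quad_add, quad_smul, hv, QuadraticMap.polar_smul_right, QuadraticMap.polar_comm, hvy']
    simp
  have huu' : QuadraticMap.polar Q u u' = 0 := by
    rw [hu', QuadraticMap.polar_add_right, QuadraticMap.polar_smul_right, huy', huv, smul_zero, add_zero]
  have hvu' : QuadraticMap.polar Q v u' = 1 := by
    rw [hu', QuadraticMap.polar_add_right, QuadraticMap.polar_smul_right, quad_polar_self, hv, hvy']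
    simp
  obtain ⟨w, huw, hu'w, hQw⟩ := exists_aniso_perp Q hQ hn u u'
  set g : eichGroup Q := ⟨eich Q u' w, eich_mem Q hQu' hu'w⟩
  have hgu : g • singMk Q hu0 hu = singMk Q hu0 hu := by
    rw [Subgroup.smul_def]
    refine smul_singMk_eq Q hu0 hu hu0 hu 1 ?_
    change (eich Q u' w).1 u = _
    rw [eich_apply Q hQu' hu'w, huu', huw]
    simp
  have h3 := eichGroup_block_smul Q hB hp (hgu.symm ▸ hp) hq
  rw [Subgroup.smul_def, smul_singMk] at h3
  refine key hv0 hv (qAut_ne_zero Q g hv0) ((qAut_map (g : qAut Q) v).trans hv) hq h3 ?_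
  change QuadraticMap.polar Q v ((eich Q u' w).1 v) ≠ 0
  rw [eich_apply Q hQu' hu'w, hvu', QuadraticMap.polar_sub_right, QuadraticMap.polar_add_right,
    QuadraticMap.polar_smul_right, QuadraticMap.polar_smul_right, quad_polar_self, hv, hvu']
  simpa using hQw

/-- An element fixing every singular point is scalar. -/
theorem exists_scalar_of_fix (hQ : PolarNondeg Q) (hn : 5 ≤ Module.finrank F V) {g : qAut Q}
    (hg : ∀ p : SingPts Q, g • p = p) : ∃ c : F, ∀ x, g.1 x = c • x := by
  have hl : ∀ {v : V}, v ≠ 0 → Q v = 0 → ∃ c : F, g.1 v = c • v := fun {v} hv h => by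
    have h1 := hg (singMk Q hv h)
    rw [smul_singMk, singMk_eq_iff] at h1
    obtain ⟨c, hc⟩ := h1
    exact ⟨c, hc.symm⟩
  obtain ⟨u, hu0, hu⟩ := exists_singular Q hQ (by omega)
  obtain ⟨z, -, hz, huz⟩ := exists_partner Q (P := ⊤) (fun x _ h => hQ x fun y => h y trivial)
    (Submodule.mem_top (x := u)) hu0 hu
  have hz0 : z ≠ 0 := by rintro rfl; simp at huz
  obtain ⟨α, hα⟩ := hl hu0 hu
  obtain ⟨β, hβ⟩ := hl hz0 hz
  have hαβ : α * β = 1 := by
    have h := qAut_polar g u z
    rwa [hα, hβ, QuadraticMap.polar_smul_left, QuadraticMap.polar_smul_right, huz, smul_eq_mul, smul_eq_mul,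
      mul_one] at h
  have hperp : ∀ w, QuadraticMap.polar Q u w = 0 → QuadraticMap.polar Q z w = 0 →
      g.1 w = β • w ∧ Q w * (β - α) = 0 := by
    intro w huw hzw
    have hs : Q (z + w + (-Q w) • u) = 0 := by
      simp [quad_add, quad_smul, hu, hz, QuadraticMap.polar_add_left, QuadraticMap.polar_smul_right,
        QuadraticMap.polar_comm Q z u, huz, hzw, QuadraticMap.polar_comm Q w u, huw]
    have hne : z + w + (-Q w) • u ≠ 0 := fun h => by
      have h' := congrArg (QuadraticMap.polar Q u) h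
      simp [QuadraticMap.polar_add_right, QuadraticMap.polar_smul_right, huz, huw, quad_polar_self, hu] at h'
    obtain ⟨γ, hγ⟩ := hl hne hs
    rw [map_add, map_add, map_smul, hα, hβ] at hγ
    have e1 : QuadraticMap.polar Q u (g.1 w) = 0 := by
      have h := qAut_polar g u w
      rw [hα, QuadraticMap.polar_smul_left, huw, smul_eq_mul] at h
      exact (mul_eq_zero.1 h).resolve_left (left_ne_zero_of_mul_eq_one hαβ)
    have e2 : QuadraticMap.polar Q z (g.1 w) = 0 := by
      have h := qAut_polar g z w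
      rw [hβ, QuadraticMap.polar_smul_left, hzw, smul_eq_mul] at h
      exact (mul_eq_zero.1 h).resolve_left (right_ne_zero_of_mul_eq_one hαβ)
    have hu1 := congrArg (QuadraticMap.polar Q u) hγ
    have hz1 := congrArg (QuadraticMap.polar Q z) hγ
    simp [QuadraticMap.polar_add_right, QuadraticMap.polar_smul_right, huz, huw, quad_polar_self, hu, hz, hzw,
      e1, e2, QuadraticMap.polar_comm Q z u] at hu1 hz1
    subst hu1
    exact ⟨by linear_combination (norm := module) hγ + congrArg (· • u) (show Q w * α - β * Q w = 0 by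
      linear_combination hz1), by linear_combination -hz1⟩
  obtain ⟨w, huw, hzw, hw⟩ := exists_aniso_perp Q hQ hn u z
  have hab : β = α := sub_eq_zero.1 ((mul_eq_zero.1 (hperp w huw hzw).2).resolve_left hw)
  refine ⟨α, fun x => ?_⟩
  obtain ⟨h1, h2⟩ := proj_pair Q hu hz huz x
  set y := x - QuadraticMap.polar Q x z • u - QuadraticMap.polar Q x u • z with hy
  have hgy := (hperp y (by rw [QuadraticMap.polar_comm, h1]) (by rw [QuadraticMap.polar_comm, h2])).1
  rw [show x = y + QuadraticMap.polar Q x z • u + QuadraticMap.polar Q x u • z by rw [hy]; abel, map_add,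
    map_add, map_smul, map_smul, hgy, hα, hβ, hab]
  module

/-- The quotient of the group of Eichler transformations by its centre is simple. -/
theorem isSimpleGroup_eichGroup (hQ : PolarNondeg Q) (hn : 5 ≤ Module.finrank F V) :
    IsSimpleGroup (eichGroup Q ⧸ Subgroup.center (eichGroup Q)) := by
  classical
  haveI := eichGroup_isPreprimitive Q hQ hn
  have hperf : commutator (eichGroup Q) = ⊤ := by
    apply Subgroup.map_injective (eichGroup Q).subtype_injective
    rw [commutator_def, Subgroup.map_commutator, ← MonoidHom.range_eq_map, Subgroup.range_subtype,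
      eichGroup_perfect Q hQ hn]
  obtain ⟨u, hu0, hu⟩ := exists_singular Q hQ (by omega)
  obtain ⟨z, -, hz, huz⟩ := exists_partner Q (P := ⊤) (fun x _ h => hQ x fun y => h y trivial)
    (Submodule.mem_top (x := u)) hu0 hu
  have hz0 : z ≠ 0 := by rintro rfl; simp at huz
  haveI : Nontrivial (eichGroup Q ⧸ Subgroup.center (eichGroup Q)) := by
    by_contra hc
    rw [not_nontrivial_iff_subsingleton] at hc
    have htop : Subgroup.center (eichGroup Q) = ⊤ := eq_top_iff.2 fun g _ =>
      (QuotientGroup.eq_one_iff g).1 (hc.elim _ _)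
    have hbot : commutator (eichGroup Q) = ⊥ := by
      rw [commutator_def, Subgroup.commutator_eq_bot_iff_le_centralizer]
      intro g _
      rw [Subgroup.mem_centralizer_iff]
      intro h _
      exact Subgroup.mem_center_iff.1 (htop ▸ Subgroup.mem_top g) h
    have hall : ∀ g : eichGroup Q, g = 1 := fun g =>
      Subgroup.mem_bot.1 (hbot ▸ hperf ▸ Subgroup.mem_top g)
    obtain ⟨g, hg, hgu⟩ := exists_move_eichGroup Q hQ (by omega) hu hz hu0 hz0
    have h1 := congrArg Subtype.val (hall ⟨g, hg⟩)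
    rw [show g = 1 from h1] at hgu
    change u = z at hgu
    rw [← hgu, quad_polar_self, hu] at huz
    simp at huz
  refine IsSimpleGroup.mk fun N hN => ?_
  set π := QuotientGroup.mk' (Subgroup.center (eichGroup Q))
  have hπ : Function.Surjective π := QuotientGroup.mk'_surjective _
  by_cases hfix : MulAction.fixedPoints (N.comap π) (SingPts Q) = Set.univ
  · left
    rw [Subgroup.eq_bot_iff_forall]
    intro x hx
    obtain ⟨g, rfl⟩ := hπ x
    refine (QuotientGroup.eq_one_iff g).2 (Subgroup.mem_center_iff.2 fun k => Subtype.ext (qAut_ext fun y => ?_))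
    obtain ⟨c, hc⟩ := exists_scalar_of_fix Q hQ hn (g := (g : qAut Q)) fun p =>
      (hfix ▸ Set.mem_univ p : p ∈ MulAction.fixedPoints (N.comap π) _) ⟨g, hx⟩
    change (k : qAut Q).1 ((g : qAut Q).1 y) = (g : qAut Q).1 ((k : qAut Q).1 y)
    rw [hc, hc, map_smul]
  · right
    have := (eichIwasawa Q).commutator_le (N.comap π) hfix
    rw [hperf, top_le_iff] at this
    rw [← Subgroup.map_comap_eq_self_of_surjective hπ N, this, Subgroup.map_top_of_surjective π hπ]

end CfsgLib.Classical
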