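/-
Siegel matrices and simplicity of `PΩ` in coordinates.
-/
import Cfsg.Agent.Lib.Classical.QuadSimple
import Cfsg.Agent.Lib.Classical.QuadPOmega

set_option autoImplicit false

namespace CfsgLib.Classical

open Matrix Cfsg

variable {F : Type*} [Field F] {ι : Type} [Fintype ι] [DecidableEq ι] (Q : QuadraticForm F (ι → F))

theorem siegelMatrix_mulVec {u v : ι → F} (hu : Q u = 0) (hv : Q v = 0)
    (huv : QuadraticMap.polar Q u v = 0) (c : F) (x : ι → F) :
    siegelMatrix (⇑Q) u v c *ᵥ x = (eich Q u (c • v)).1 x := by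
  rw [eich_apply Q hu (by rw [QuadraticMap.polar_smul_right, huv, smul_zero]), siegelMatrix, Matrix.add_mulVec,
    Matrix.one_mulVec, Matrix.smul_mulVec, Matrix.sub_mulVec, Matrix.vecMulVec_mulVec, Matrix.vecMulVec_mulVec,
    op_smul_eq_smul, op_smul_eq_smul, polarVec_dotProduct, polarVec_dotProduct, quad_smul, hv,
    QuadraticMap.polar_smul_right, QuadraticMap.polar_comm Q u x, QuadraticMap.polar_comm Q v x, smul_eq_mul]
  module

theorem isoEquiv_siegel {u v : ι → F} (hu : Q u = 0) (hv : Q v = 0) (huv : QuadraticMap.polar Q u v = 0) (c : F)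
    {g : isometryGroup F ⇑Q} (hg : ((g : GL ι F) : Matrix ι ι F) = siegelMatrix (⇑Q) u v c) :
    isoEquiv Q g = eich Q u (c • v) :=
  qAut_ext fun x => by rw [isoEquiv_apply, isoApply, hg, siegelMatrix_mulVec Q hu hv huv]

theorem siegel_mem_commutatorSet [Fintype F] (h2 : (2 : F) ≠ 0) (hQ : PolarNondeg Q) {u v : ι → F} (hu : Q u = 0)
    (hv : Q v = 0) (huv : QuadraticMap.polar Q u v = 0) (c : F) {g : isometryGroup F ⇑Q}
    (hg : ((g : GL ι F) : Matrix ι ι F) = siegelMatrix (⇑Q) u v c) :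
    g ∈ commutatorSet (isometryGroup F ⇑Q) ∧ g ∈ Omega F ⇑Q := by
  obtain ⟨a, b, hab⟩ := eich_singular_mem_commutatorSet Q h2 hQ (v := c • v) hu (by rw [quad_smul, hv, mul_zero])
    (by rw [QuadraticMap.polar_smul_right, huv, smul_zero])
  rw [← isoEquiv_siegel Q hu hv huv c hg] at hab
  obtain ⟨a', rfl⟩ := (isoEquiv Q).surjective a
  obtain ⟨b', rfl⟩ := (isoEquiv Q).surjective b
  have hmem : g ∈ commutatorSet (isometryGroup F ⇑Q) := ⟨a', b', (isoEquiv Q).injective (by
    rw [map_commutatorElement, hab])⟩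
  refine ⟨hmem, ?_⟩
  change g ∈ commutator (isometryGroup F ⇑Q)
  rw [commutator_eq_closure]
  exact Subgroup.subset_closure hmem

theorem Omega_eq_closure_siegel [Fintype F] (hQ : PolarNondeg Q) (hn : 5 ≤ Fintype.card ι) :
    Omega F ⇑Q = Subgroup.closure {g : isometryGroup F ⇑Q | ∃ (u v : ι → F) (c : F), Q u = 0 ∧ Q v = 0 ∧
      QuadraticMap.polar Q u v = 0 ∧ ((g : GL ι F) : Matrix ι ι F) = siegelMatrix (⇑Q) u v c} := by
  have hn' : 5 ≤ Module.finrank F (ι → F) := by rwa [Module.finrank_pi]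
  have hpre : ∀ (u v : ι → F), Q u = 0 → Q v = 0 → QuadraticMap.polar Q u v = 0 →
      (((isoEquiv Q).symm (eich Q u v) : GL ι F) : Matrix ι ι F) = siegelMatrix (⇑Q) u v 1 := fun u v hu hv huv => by
    refine Matrix.ext_of_mulVec_single fun i => ?_
    rw [siegelMatrix_mulVec Q hu hv huv, one_smul]
    change isoApply ((isoEquiv Q).symm (eich Q u v)) _ = _
    rw [← isoEquiv_apply, MulEquiv.apply_symm_apply]
  refine le_antisymm (fun g hg => ?_) ((Subgroup.closure_le _).2 ?_)
  · rw [mem_Omega_iff, ← eichGroup_eq_commutator Q hQ hn'] at hg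
    have hle : eichGroup Q ≤ (Subgroup.closure {g : isometryGroup F ⇑Q | ∃ (u v : ι → F) (c : F), Q u = 0 ∧
        Q v = 0 ∧ QuadraticMap.polar Q u v = 0 ∧
        ((g : GL ι F) : Matrix ι ι F) = siegelMatrix (⇑Q) u v c}).map (isoEquiv Q).toMonoidHom := by
      refine (Subgroup.closure_le _).2 ?_
      rintro _ ⟨u, w, hu, h, rfl⟩
      obtain ⟨v, v', hv, hv', huv, huv', e⟩ := exists_singular_split Q hQ hn' hu h
      rw [e]
      exact mul_mem
        (⟨_, Subgroup.subset_closure ⟨u, v, 1, hu, hv, huv, hpre u v hu hv huv⟩, (isoEquiv Q).apply_symm_apply _⟩)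
        (⟨_, Subgroup.subset_closure ⟨u, v', 1, hu, hv', huv', hpre u v' hu hv' huv'⟩,
          (isoEquiv Q).apply_symm_apply _⟩)
    obtain ⟨x, hx, hxe⟩ := hle hg
    rwa [(isoEquiv Q).injective hxe] at hx
  · rintro g ⟨u, v, c, hu, hv, huv, hg⟩
    rw [SetLike.mem_coe, mem_Omega_iff, isoEquiv_siegel Q hu hv huv c hg, ← eichGroup_eq_commutator Q hQ hn']
    exact eich_mem Q hu (by rw [QuadraticMap.polar_smul_right, huv, smul_zero])

theorem isSimpleGroup_POmega [Fintype F] (hQ : PolarNondeg Q) (hn : 5 ≤ Fintype.card ι) :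
    IsSimpleGroup (POmega F ⇑Q) := by
  have hn' : 5 ≤ Module.finrank F (ι → F) := by rwa [Module.finrank_pi]
  haveI := isSimpleGroup_eichGroup Q hQ hn'
  let e : Omega F ⇑Q ≃* eichGroup Q :=
    ((isoEquiv Q).subgroupMap (Omega F ⇑Q)).trans (MulEquiv.subgroupCongr (by
      rw [eichGroup_eq_commutator Q hQ hn']
      exact map_commutator_equiv (isoEquiv Q)))
  have hmap : (Subgroup.center (Omega F ⇑Q)).map e.toMonoidHom = Subgroup.center (eichGroup Q) := by
    ext x
    constructor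
    · rintro ⟨a, ha, rfl⟩
      exact Subgroup.mem_center_iff.2 fun y => e.symm.injective (by
        simpa using Subgroup.mem_center_iff.1 ha (e.symm y))
    · intro hx
      exact ⟨e.symm x, Subgroup.mem_center_iff.2 fun y => e.injective (by
        simpa using Subgroup.mem_center_iff.1 hx (e y)), e.apply_symm_apply x⟩
  let f : POmega F ⇑Q ≃* (eichGroup Q ⧸ Subgroup.center (eichGroup Q)) := QuotientGroup.congr _ _ e hmap
  haveI : Nontrivial (POmega F ⇑Q) := f.toEquiv.nontrivial
  exact IsSimpleGroup.isSimpleGroup_of_surjective f.symm.toMonoidHom f.symm.surjective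

end CfsgLib.Classical
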