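/-
Maximal totally singular subspaces of hyperbolic quadrics.
-/
import Cfsg.Agent.Lib.Classical.QuadPOmega
import Cfsg.Agent.Lib.Classical.AltBasis

set_option autoImplicit false

namespace CfsgLib.Classical

variable {F V : Type*} [Field F] [AddCommGroup V] [Module F V]

omit [Module F V] in
theorem polar_eq_zero_of_singular [Module F V] {Q : QuadraticForm F V} {U : Submodule F V}
    (hU : ∀ u ∈ U, Q u = 0) {x y : V} (hx : x ∈ U) (hy : y ∈ U) : QuadraticMap.polar Q x y = 0 := by
  simp [QuadraticMap.polar, hU _ (U.add_mem hx hy), hU x hx, hU y hy]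

/-- The codimensions of the three intersections of maximal totally singular subspaces have even sum. -/
theorem even_codim_sum [FiniteDimensional F V] (Q : QuadraticForm F V) (hQ : PolarNondeg Q) {m : ℕ}
    (hV : Module.finrank F V = 2 * m) {U W X : Submodule F V}
    (hU : Module.finrank F U = m ∧ ∀ u ∈ U, Q u = 0) (hW : Module.finrank F W = m ∧ ∀ u ∈ W, Q u = 0)
    (hX : Module.finrank F X = m ∧ ∀ u ∈ X, Q u = 0) :
    Even ((m - Module.finrank F ↥(U ⊓ W)) + (m - Module.finrank F ↥(W ⊓ X)) +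
      (m - Module.finrank F ↥(U ⊓ X))) := by
  classical
  let B : LinearMap.BilinForm F V := QuadraticMap.polarBilin Q
  have hB : B.Nondegenerate := PolarNondeg.nondegenerate hQ
  have href : B.IsRefl := fun a b h => (QuadraticMap.polar_comm Q b a).trans h
  have hself : ∀ {Y : Submodule F V}, (Module.finrank F Y = m ∧ ∀ u ∈ Y, Q u = 0) → B.orthogonal Y = Y := by
    rintro Y ⟨hd, hs⟩
    refine (Submodule.eq_of_le_of_finrank_le (show Y ≤ B.orthogonal Y from
      fun y hy z hz => polar_eq_zero_of_singular hs hz hy) ?_).symm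
    rw [LinearMap.BilinForm.finrank_orthogonal hB]
    omega
  have hoo : ∀ Y : Submodule F V, B.orthogonal (B.orthogonal Y) = Y :=
    fun Y => LinearMap.BilinForm.orthogonal_orthogonal hB href Y
  have hsup : ∀ Y Y' : Submodule F V, B.orthogonal (Y ⊔ Y') = B.orthogonal Y ⊓ B.orthogonal Y' := by
    intro Y Y'
    refine le_antisymm (le_inf (fun x hx z hz => hx z (Submodule.mem_sup_left hz))
      (fun x hx z hz => hx z (Submodule.mem_sup_right hz))) fun x hx z hz => ?_
    obtain ⟨a, ha, b, hb, rfl⟩ := Submodule.mem_sup.1 hz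
    have e1 : QuadraticMap.polar Q a x = 0 := hx.1 a ha
    have e2 : QuadraticMap.polar Q b x = 0 := hx.2 b hb
    change QuadraticMap.polar Q (a + b) x = 0
    rw [QuadraticMap.polar_add_left, e1, e2, add_zero]
  set Z := (U ⊔ W) ⊓ X with hZdef
  have hZorth : B.orthogonal Z = (U ⊓ W) ⊔ X := by
    have h : B.orthogonal ((U ⊓ W) ⊔ X) = Z := by
      rw [hsup, hself hX, hZdef]
      conv_lhs => rw [← hself hU, ← hself hW, ← hsup, hoo]
    rw [← h, hoo]
  -- choose the two components linearly
  let f : (U × W) →ₗ[F] ↥(U ⊔ W) :=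
    ((Submodule.inclusion le_sup_left).coprod (Submodule.inclusion le_sup_right))
  have hf : LinearMap.range f = ⊤ := LinearMap.range_eq_top.2 fun x => by
    obtain ⟨a, ha, b, hb, hab⟩ := Submodule.mem_sup.1 x.2
    exact ⟨(⟨a, ha⟩, ⟨b, hb⟩), Subtype.ext (by simpa [f] using hab)⟩
  obtain ⟨s, hs⟩ := f.exists_rightInverse_of_surjective hf
  let cU : Z →ₗ[F] V := U.subtype ∘ₗ (LinearMap.fst F U W) ∘ₗ s ∘ₗ Submodule.inclusion inf_le_left
  let cW : Z →ₗ[F] V := W.subtype ∘ₗ (LinearMap.snd F U W) ∘ₗ s ∘ₗ Submodule.inclusion inf_le_left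
  have hcU : ∀ z, cU z ∈ U := fun z => Subtype.prop _
  have hcW : ∀ z, cW z ∈ W := fun z => Subtype.prop _
  have hsum : ∀ z : Z, cU z + cW z = (z : V) := fun z => by
    have h := congrArg Subtype.val (LinearMap.congr_fun hs (Submodule.inclusion inf_le_left z))
    simpa [f, cU, cW] using h
  let β : LinearMap.BilinForm F Z := LinearMap.BilinForm.comp B cU cW
  have hβ : ∀ x y, β x y = QuadraticMap.polar Q (cU x) (cW y) := fun x y => rfl
  have halt : β.IsAlt := fun x => by
    have h := hX.2 _ x.2.2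
    rw [← hsum x, quad_add, hU.2 _ (hcU x), hW.2 _ (hcW x), zero_add, zero_add] at h
    rw [hβ, h]
  let R : Submodule F Z := ((U ⊓ X) ⊔ (W ⊓ X)).comap Z.subtype
  have hrad : ∀ x, x ∈ R ↔ ∀ y, β x y = 0 := by
    intro x
    constructor
    · intro hx y
      obtain ⟨a, ⟨haU, haX⟩, b, ⟨hbW, hbX⟩, hab⟩ := Submodule.mem_sup.1 (Submodule.mem_comap.1 hx)
      have hd : cU x - a = b - cW x := by
        have h := hsum x
        have hab' : a + b = (x : V) := hab
        linear_combination (norm := module) h - hab'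
      have h1 : QuadraticMap.polar Q (cU x - a) (cW y) = 0 :=
        polar_eq_zero_of_singular hW.2 (hd ▸ W.sub_mem hbW (hcW x)) (hcW y)
      rw [QuadraticMap.polar_sub_left, sub_eq_zero] at h1
      rw [hβ, h1, show cW y = (y : V) - cU y by rw [← hsum y]; abel, QuadraticMap.polar_sub_right,
        polar_eq_zero_of_singular hX.2 haX y.2.2, polar_eq_zero_of_singular hU.2 haU (hcU y), sub_zero]
    · intro hx
      have hmem : cU x ∈ B.orthogonal Z := fun z hz => by
        change QuadraticMap.polar Q z (cU x) = 0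
        have e : z = cU ⟨z, hz⟩ + cW ⟨z, hz⟩ := (hsum ⟨z, hz⟩).symm
        rw [QuadraticMap.polar_comm, congrArg (QuadraticMap.polar Q (cU x)) e, QuadraticMap.polar_add_right,
          polar_eq_zero_of_singular hU.2 (hcU x) (hcU _), zero_add]
        exact hx ⟨z, hz⟩
      rw [hZorth] at hmem
      obtain ⟨k, ⟨hkU, hkW⟩, x1, hx1, hk⟩ := Submodule.mem_sup.1 hmem
      have hx1U : x1 ∈ U := by
        rw [show x1 = cU x - k by rw [← hk]; abel]
        exact U.sub_mem (hcU x) hkU
      refine Submodule.mem_comap.2 (Submodule.mem_sup.2 ⟨x1, ⟨hx1U, hx1⟩, (x : V) - x1, ⟨?_, X.sub_mem x.2.2 hx1⟩,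
        by simp⟩)
      rw [show (x : V) - x1 = cW x + k by rw [← hsum x, ← hk]; abel]
      exact W.add_mem (hcW x) hkW
  obtain ⟨C, hC⟩ := Submodule.exists_isCompl R
  obtain ⟨j, hj, -⟩ := exists_symp_equiv (β.restrict C) (fun x => halt x.1) (by
    intro v hv
    have hvR : (v : Z) ∈ R := (hrad _).2 fun y => by
      obtain ⟨r, hr, c, hc, rfl⟩ := Submodule.mem_sup.1 (hC.sup_eq_top ▸ Submodule.mem_top : y ∈ R ⊔ C)
      rw [map_add, hv ⟨c, hc⟩ |> fun h => (show β (v : Z) c = 0 from h), add_zero,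
        ← LinearMap.IsAlt.neg halt, (hrad r).1 hr, neg_zero]
    have hv0 : (v : Z) ∈ R ⊓ C := ⟨hvR, v.2⟩
    rw [hC.inf_eq_bot, Submodule.mem_bot] at hv0
    exact Subtype.ext hv0)
  have hdim := Submodule.finrank_add_eq_of_isCompl hC
  have hR : Module.finrank F R = Module.finrank F ↥((U ⊓ X) ⊔ (W ⊓ X)) :=
    (Submodule.comapSubtypeEquivOfLe (show (U ⊓ X) ⊔ (W ⊓ X) ≤ Z from
      sup_le (le_inf (inf_le_left.trans le_sup_left) inf_le_right)
        (le_inf (inf_le_left.trans le_sup_right) inf_le_right))).finrank_eq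
  have h1 := Submodule.finrank_sup_add_finrank_inf_eq (U ⊓ X) (W ⊓ X)
  have h2 := Submodule.finrank_sup_add_finrank_inf_eq (U ⊔ W) X
  have h3 := Submodule.finrank_sup_add_finrank_inf_eq U W
  have h4 : Module.finrank F ↥(U ⊔ W ⊔ X) + Module.finrank F ↥(U ⊓ W ⊓ X) = 2 * m := by
    have h := LinearMap.BilinForm.finrank_orthogonal hB (U ⊔ W ⊔ X)
    rw [hsup, hsup, hself hU, hself hW, hself hX] at h
    have hle := Submodule.finrank_le (U ⊔ W ⊔ X)
    omega
  rw [show U ⊓ X ⊓ (W ⊓ X) = U ⊓ W ⊓ X by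
    refine le_antisymm (fun x h => ⟨⟨h.1.1, h.2.1⟩, h.1.2⟩) (fun x h => ⟨⟨h.1.1, h.2⟩, ⟨h.1.2, h.2⟩⟩)] at h1
  rw [← hZdef] at h2
  rw [hU.1, hW.1] at h3
  rw [hX.1] at h2
  have l1 := Submodule.finrank_mono (inf_le_left : U ⊓ W ≤ U)
  have l2 := Submodule.finrank_mono (inf_le_left : W ⊓ X ≤ W)
  have l3 := Submodule.finrank_mono (inf_le_left : U ⊓ X ≤ U)
  rw [hU.1] at l1 l3
  rw [hW.1] at l2
  rw [Nat.even_iff]
  omega

section Plus

variable {k : ℕ}

/-- The subspace of the `x`-coordinates. -/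
def maxA (k : ℕ) (F : Type*) [Field F] : (Fin (k + 1) → F) →ₗ[F] (Fin (k + 1) ⊕ Fin (k + 1) → F) where
  toFun x := Sum.elim x 0
  map_add' x y := by
    funext i
    rcases i with i | i <;> simp
  map_smul' c x := by
    funext i
    rcases i with i | i <;> simp

/-- The same with the last `x` exchanged for the last `y`. -/
def maxB (k : ℕ) (F : Type*) [Field F] : (Fin (k + 1) → F) →ₗ[F] (Fin (k + 1) ⊕ Fin (k + 1) → F) where
  toFun x := Sum.elim (fun i => if i = Fin.last k then 0 else x i) (Pi.single (Fin.last k) (x (Fin.last k)))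
  map_add' x y := by
    funext i
    rcases i with i | i <;> by_cases h : i = Fin.last k <;> simp [h]
  map_smul' c x := by
    funext i
    rcases i with i | i <;> by_cases h : i = Fin.last k <;> simp [h]

theorem maxA_injective : Function.Injective (maxA k F) := fun x y h =>
  funext fun i => congrFun h (Sum.inl i)

theorem maxB_injective : Function.Injective (maxB k F) := fun x y h => funext fun i => by
  by_cases hi : i = Fin.last k
  · have := congrFun h (Sum.inr i)
    simpa [maxB, hi] using this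
  · have := congrFun h (Sum.inl i)
    simpa [maxB, hi] using this

theorem finrank_maxA : Module.finrank F (LinearMap.range (maxA k F)) = k + 1 := by
  rw [LinearMap.finrank_range_of_inj maxA_injective, Module.finrank_fin_fun]

theorem finrank_maxB : Module.finrank F (LinearMap.range (maxB k F)) = k + 1 := by
  rw [LinearMap.finrank_range_of_inj maxB_injective, Module.finrank_fin_fun]

theorem maxA_singular : ∀ v ∈ LinearMap.range (maxA k F), qPlus (k + 1) F v = 0 := by
  rintro _ ⟨x, rfl⟩
  rw [coe_qPlus]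
  simp [Cfsg.quadFormPlus, maxA]

theorem maxB_singular : ∀ v ∈ LinearMap.range (maxB k F), qPlus (k + 1) F v = 0 := by
  rintro _ ⟨x, rfl⟩
  rw [coe_qPlus]
  refine Finset.sum_eq_zero fun i _ => ?_
  by_cases hi : i = Fin.last k <;> simp [maxB, hi]

theorem mem_maxA_inf_maxB {v : Fin (k + 1) ⊕ Fin (k + 1) → F} :
    v ∈ LinearMap.range (maxA k F) ⊓ LinearMap.range (maxB k F) ↔
      v (Sum.inl (Fin.last k)) = 0 ∧ ∀ i, v (Sum.inr i) = 0 := by
  constructor
  · rintro ⟨⟨x, rfl⟩, ⟨y, hy⟩⟩
    refine ⟨?_, fun i => rfl⟩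
    rw [← congrFun hy (Sum.inl (Fin.last k))]
    simp [maxB]
  · rintro ⟨h1, h2⟩
    refine ⟨⟨fun i => v (Sum.inl i), funext fun i => ?_⟩, ⟨fun i => v (Sum.inl i), funext fun i => ?_⟩⟩
    · rcases i with i | i <;> simp [maxA, h2]
    · rcases i with i | i <;> by_cases hi : i = Fin.last k <;> simp [maxB, hi, h1, h2]

theorem finrank_maxA_inf_maxB :
    Module.finrank F ↥(LinearMap.range (maxA k F) ⊓ LinearMap.range (maxB k F)) = k := by
  let e : (Fin k → F) →ₗ[F] (Fin (k + 1) ⊕ Fin (k + 1) → F) :=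
    { toFun := fun z => maxA k F (Fin.snoc z 0)
      map_add' := fun x y => by
        rw [← map_add]
        congr 1
        funext i
        refine Fin.lastCases ?_ (fun j => ?_) i <;> simp
      map_smul' := fun c x => by
        rw [RingHom.id_apply, ← map_smul]
        congr 1
        funext i
        refine Fin.lastCases ?_ (fun j => ?_) i <;> simp }
  have he : LinearMap.range (maxA k F) ⊓ LinearMap.range (maxB k F) = LinearMap.range e := by
    refine le_antisymm (fun v hv => ?_) ?_
    · obtain ⟨h1, h2⟩ := mem_maxA_inf_maxB.1 hv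
      refine ⟨fun i => v (Sum.inl i.castSucc), funext fun i => ?_⟩
      rcases i with i | i
      · refine Fin.lastCases ?_ (fun j => ?_) i <;> simp [e, maxA, h1]
      · simp [e, maxA, h2]
    · rintro _ ⟨z, rfl⟩
      exact mem_maxA_inf_maxB.2 ⟨by simp [e, maxA], fun i => rfl⟩
  rw [he, LinearMap.finrank_range_of_inj (fun x y h => funext fun i => by
    simpa using congrFun (maxA_injective h) i.castSucc), Module.finrank_fin_fun]

/-- A totally singular subspace of codimension one in a maximal one lies in exactly two maximal ones. -/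
theorem card_maximal_over {U : Submodule F (Fin (k + 1) ⊕ Fin (k + 1) → F)} (hd : Module.finrank F U = k)
    (hU : ∀ u ∈ U, qPlus (k + 1) F u = 0) :
    Nat.card {W : Submodule F (Fin (k + 1) ⊕ Fin (k + 1) → F) //
      Module.finrank F W = k + 1 ∧ (∀ w ∈ W, qPlus (k + 1) F w = 0) ∧ U ≤ W} = 2 := by
  classical
  set U₀ := LinearMap.range (maxA k F) ⊓ LinearMap.range (maxB k F) with hU₀
  let e : U ≃ₗ[F] U₀ := LinearEquiv.ofFinrankEq U U₀ (hd.trans finrank_maxA_inf_maxB.symm)
  obtain ⟨g, hg, hgU⟩ := witt_quad (qPlus (k + 1) F) (polarNondeg_qPlus (k + 1)) U (U₀.subtype ∘ₗ e.toLinearMap)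
    (U₀.injective_subtype.comp e.injective) fun a =>
      (maxA_singular _ (e a).2.1).trans (hU a a.2).symm
  have hmap : U.map (g : _ →ₗ[F] _) = U₀ := by
    refine le_antisymm ?_ fun v hv => ?_
    · rintro _ ⟨u, hu, rfl⟩
      change g u ∈ U₀
      rw [hgU ⟨u, hu⟩]
      exact (e ⟨u, hu⟩).2
    · obtain ⟨u, hu⟩ := e.surjective ⟨v, hv⟩
      exact ⟨u, u.2, (hgU u).trans (congrArg Subtype.val hu)⟩
  have hcases : ∀ W : Submodule F (Fin (k + 1) ⊕ Fin (k + 1) → F), Module.finrank F W = k + 1 →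
      (∀ w ∈ W, qPlus (k + 1) F w = 0) → U₀ ≤ W →
      W = LinearMap.range (maxA k F) ∨ W = LinearMap.range (maxB k F) := by
    intro W hW hs hle
    have hzero : ∀ w ∈ W, ∀ i, i ≠ Fin.last k → w (Sum.inr i) = 0 := by
      intro w hw i hi
      have hx : (Pi.single (Sum.inl i) 1 : Fin (k + 1) ⊕ Fin (k + 1) → F) ∈ U₀ :=
        mem_maxA_inf_maxB.2 ⟨by simp [Ne.symm hi], fun j => by simp⟩
      have h := polar_eq_zero_of_singular hs (hle hx) hw
      rw [QuadraticMap.polar, coe_qPlus] at h
      simpa [Cfsg.quadFormPlus, Pi.single_apply, add_mul, Finset.sum_add_distrib] using h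
    have hmem : ∀ w ∈ W, w ∈ LinearMap.range (maxA k F) ∨ w ∈ LinearMap.range (maxB k F) := by
      intro w hw
      have h := hs w hw
      rw [coe_qPlus, Cfsg.quadFormPlus, Finset.sum_eq_single (Fin.last k)
        (fun i _ hi => by rw [hzero w hw i hi, mul_zero]) (fun hh => absurd (Finset.mem_univ _) hh)] at h
      rcases mul_eq_zero.1 h with h' | h'
      · refine Or.inr ⟨fun i => if i = Fin.last k then w (Sum.inr (Fin.last k)) else w (Sum.inl i),
          funext fun i => ?_⟩
        rcases i with i | i <;> by_cases hi : i = Fin.last k <;> simp [maxB, hi, h', hzero w hw]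
      · refine Or.inl ⟨fun i => w (Sum.inl i), funext fun i => ?_⟩
        rcases i with i | i
        · rfl
        · by_cases hi : i = Fin.last k
          · simp [maxA, hi, h']
          · simp [maxA, hzero w hw i hi]
    by_cases hall : W ≤ LinearMap.range (maxA k F)
    · exact Or.inl (Submodule.eq_of_le_of_finrank_le hall (by rw [finrank_maxA, hW]))
    · obtain ⟨a, ha, haA⟩ := SetLike.not_le_iff_exists.1 hall
      refine Or.inr (Submodule.eq_of_le_of_finrank_le (fun w hw => ?_) (by rw [finrank_maxB, hW]))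
      have haB := (hmem a ha).resolve_left haA
      rcases hmem w hw with h | h
      · rcases hmem (a + w) (W.add_mem ha hw) with h' | h'
        · exact absurd (by simpa using (LinearMap.range (maxA k F)).sub_mem h' h) haA
        · simpa using (LinearMap.range (maxB k F)).sub_mem h' haB
      · exact h
  let T := {W : Submodule F (Fin (k + 1) ⊕ Fin (k + 1) → F) //
      Module.finrank F W = k + 1 ∧ (∀ w ∈ W, qPlus (k + 1) F w = 0) ∧ U ≤ W}
  let Φ : Submodule F (Fin (k + 1) ⊕ Fin (k + 1) → F) → Submodule F (Fin (k + 1) ⊕ Fin (k + 1) → F) :=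
    fun W => W.map (g.symm : _ →ₗ[F] _)
  have hΦ : ∀ W : Submodule F (Fin (k + 1) ⊕ Fin (k + 1) → F), Module.finrank F W = k + 1 →
      (∀ w ∈ W, qPlus (k + 1) F w = 0) → U₀ ≤ W →
      Module.finrank F (Φ W) = k + 1 ∧ (∀ w ∈ Φ W, qPlus (k + 1) F w = 0) ∧ U ≤ Φ W := by
    intro W hW hs hle
    refine ⟨(g.symm.finrank_map_eq W).trans hW, ?_, fun u hu => ?_⟩
    · rintro _ ⟨w, hw, rfl⟩
      have := hg (g.symm w)
      rw [g.apply_symm_apply, hs w hw] at this
      exact this.symm
    · exact ⟨g u, hle (hmap ▸ Submodule.mem_map_of_mem hu), g.symm_apply_apply u⟩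
  refine Nat.card_eq_two_iff.2 ⟨⟨_, hΦ _ finrank_maxA maxA_singular inf_le_left⟩,
    ⟨_, hΦ _ finrank_maxB maxB_singular inf_le_right⟩, fun h => ?_, ?_⟩
  · have h' : LinearMap.range (maxA k F) = LinearMap.range (maxB k F) :=
      Submodule.map_injective_of_injective g.symm.injective (congrArg Subtype.val h)
    have := finrank_maxA_inf_maxB (F := F) (k := k)
    rw [h', inf_idem, finrank_maxB] at this
    omega
  · refine Set.eq_univ_of_forall fun W => ?_
    obtain ⟨W, hW, hs, hle⟩ := W
    have hback : Φ (W.map (g : _ →ₗ[F] _)) = W := by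
      ext x
      simp [Φ]
    simp only [Set.mem_insert_iff, Set.mem_singleton_iff, Subtype.ext_iff]
    rcases hcases (W.map (g : _ →ₗ[F] _)) ((g.finrank_map_eq W).trans hW)
      (by rintro _ ⟨w, hw, rfl⟩; exact (hg w).trans (hs w hw))
      (hmap ▸ Submodule.map_mono hle) with h | h
    · exact Or.inl (hback.symm.trans (congrArg Φ h))
    · exact Or.inr (hback.symm.trans (congrArg Φ h))

end Plus

end CfsgLib.Classical
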