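/-
Totally singular subspaces of `Σ xᵢyᵢ + Q₀` with `Q₀` anisotropic.
-/
import Mathlib
import Cfsg.Agent.Lib.Classical.QuadStd

set_option autoImplicit false

namespace CfsgLib.Classical

variable {F : Type*} [Field F]

open Matrix in
theorem finrank_add_le_of_dot {k : ℕ} (A B : Submodule F (Fin k → F)) (h : ∀ a ∈ A, ∀ b ∈ B, a ⬝ᵥ b = 0) :
    Module.finrank F A + Module.finrank F B ≤ k := by
  let D : LinearMap.BilinForm F (Fin k → F) := Matrix.toBilin' (1 : Matrix (Fin k) (Fin k) F)
  have hD : D.Nondegenerate := LinearMap.BilinForm.nondegenerate_toBilin'_iff_det_ne_zero.2 (by simp)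
  have hle : B ≤ D.orthogonal A := fun b hb a ha => by
    show Matrix.toBilin' (1 : Matrix (Fin k) (Fin k) F) a b = 0
    rw [Matrix.toBilin'_apply', one_mulVec]
    exact h a ha b hb
  have h1 := Submodule.finrank_mono hle
  have h2 := LinearMap.BilinForm.finrank_orthogonal (B := D) hD A
  have h3 := Submodule.finrank_le A
  rw [h2, Module.finrank_fintype_fun_eq_card, Fintype.card_fin] at h1
  rw [Module.finrank_fintype_fun_eq_card, Fintype.card_fin] at h3
  omega

theorem finrank_le_of_singular {k : ℕ} {J : Type} [Fintype J] (Q₀ : QuadraticForm F (J → F))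
    (h0 : ∀ z, Q₀ z = 0 → z = 0) {U : Submodule F ((Fin k ⊕ Fin k) ⊕ J → F)}
    (hU : ∀ u ∈ U, qExt k Q₀ u = 0) : Module.finrank F U ≤ k := by
  let π : U →ₗ[F] (Fin k → F) := (LinearMap.funLeft F F fun i => Sum.inl (Sum.inl i)).comp U.subtype
  let σ : LinearMap.ker π →ₗ[F] (Fin k → F) :=
    ((LinearMap.funLeft F F fun i => Sum.inl (Sum.inr i)).comp U.subtype).comp (LinearMap.ker π).subtype
  have hker : ∀ u : U, π u = 0 → ∀ j, (u : (Fin k ⊕ Fin k) ⊕ J → F) (Sum.inr j) = 0 := by
    intro u hu j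
    have h := hU u u.2
    rw [qExt_apply, Finset.sum_eq_zero fun i _ => mul_eq_zero_of_left (show (u : (Fin k ⊕ Fin k) ⊕ J → F) (.inl (.inl i)) = 0 from congrFun hu i) _, zero_add] at h
    exact congrFun (h0 _ h) j
  have hσ : Function.Injective σ := by
    refine fun u w huw => Subtype.ext (Subtype.ext (funext fun i => ?_))
    rcases i with (i | i) | j
    · exact (congrFun (LinearMap.mem_ker.1 u.2) i).trans (congrFun (LinearMap.mem_ker.1 w.2) i).symm
    · exact congrFun huw i
    · exact (hker u.1 (LinearMap.mem_ker.1 u.2) j).trans (hker w.1 (LinearMap.mem_ker.1 w.2) j).symm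
  have h1 := LinearMap.finrank_range_add_finrank_ker π
  rw [← LinearMap.finrank_range_of_inj hσ] at h1
  have h2 := finrank_add_le_of_dot (LinearMap.range π) (LinearMap.range σ) (by
    rintro _ ⟨u, rfl⟩ _ ⟨w, rfl⟩
    have hw := hU _ w.1.2
    have hu := hU _ u.2
    have h := hU _ (u + w.1).2
    have hw0 : ∀ i, (w.1 : (Fin k ⊕ Fin k) ⊕ J → F) (.inl (.inl i)) = 0 := congrFun (LinearMap.mem_ker.1 w.2)
    have hwj : ∀ j, (w.1 : (Fin k ⊕ Fin k) ⊕ J → F) (.inr j) = 0 := hker w.1 (LinearMap.mem_ker.1 w.2)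
    rw [qExt_apply] at h hu
    simp only [Submodule.coe_add, Pi.add_apply, hw0, hwj, add_zero, mul_add, Finset.sum_add_distrib] at h
    rw [add_right_comm, hu, zero_add] at h
    exact h)
  omega

end CfsgLib.Classical
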