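/-
Orders of `GU`, `SU`, their centres and `PSU`.
-/
import Cfsg.Agent.Lib.Classical.HermBilin
import Cfsg.Agent.Lib.Classical.GLOrder

set_option autoImplicit false

namespace CfsgLib.Classical

open Matrix Cfsg

variable {F : Type*} [Field F] {q n : ℕ}

theorem hermForm_cons (a b : F) (u v : Fin n → F) :
    hermForm (n + 1) F q (Fin.cons a u) (Fin.cons b v) = a * b ^ q + hermForm n F q u v := by
  simp [hermForm, Fin.sum_univ_succ]

theorem cons_zero_tail (x : Fin (n + 1) → F) :
    Fin.cons 0 (Fin.tail x) = x - x 0 • (Pi.single 0 1 : Fin (n + 1) → F) := by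
  funext i
  refine Fin.cases ?_ (fun j => ?_) i <;> simp [Fin.tail]

/-- The embedding of `GU_n` into `GU_{n+1}` fixing the first basis vector. -/
theorem exists_gu_extend (h : GU n F q) :
    ∃ g : GU (n + 1) F q, ∀ x, guApply g x = Fin.cons (x 0) (guApply h (Fin.tail x)) := by
  let f : (Fin (n + 1) → F) →ₗ[F] (Fin (n + 1) → F) :=
    { toFun := fun x => Fin.cons (x 0) (guApply h (Fin.tail x))
      map_add' := fun x y => by
        funext i
        refine Fin.cases ?_ (fun j => ?_) i
        · simp
        · simp [guApply, show Fin.tail (x + y) = Fin.tail x + Fin.tail y from rfl, mulVec_add]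
      map_smul' := fun a x => by
        funext i
        refine Fin.cases ?_ (fun j => ?_) i
        · simp
        · simp [guApply, show Fin.tail (a • x) = a • Fin.tail x from rfl, mulVec_smul] }
  have hinj : Function.Injective f := by
    intro x y hxy
    have h0 : x 0 = y 0 := by simpa [f] using congrFun hxy 0
    have ht : guApply h (Fin.tail x) = guApply h (Fin.tail y) := funext fun j => by
      simpa [f] using congrFun hxy j.succ
    rw [← Fin.cons_self_tail x, ← Fin.cons_self_tail y, h0,
      ← guApply_inv_apply h (Fin.tail x), ht, guApply_inv_apply]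
  obtain ⟨g, hg⟩ := guMk_exists (q := q) (LinearEquiv.ofInjectiveEndo f hinj) (fun u v => by
    change hermForm (n + 1) F q (Fin.cons (u 0) _) (Fin.cons (v 0) _) = _
    rw [hermForm_cons, guApply_form, ← hermForm_cons, Fin.cons_self_tail, Fin.cons_self_tail])
  exact ⟨g, fun x => hg x⟩

theorem card_gu_succ [Fintype F] (hF : Fintype.card F = q ^ 2) (n : ℕ) :
    Nat.card (GU (n + 1) F q) = hermCount (n + 1) F q 1 * Nat.card (GU n F q) := by
  classical
  have hq := two_le_q hF
  let e₀ : Fin (n + 1) → F := Pi.single 0 1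
  have he₀ : hermForm (n + 1) F q e₀ e₀ = 1 := by simp [e₀, hermForm_single_one (by omega : 1 ≤ q)]
  choose s hs using fun v : {v : Fin (n + 1) → F // hermForm (n + 1) F q v v = 1} =>
    exists_gu_map hF (κ := Unit) (b := fun _ => e₀) (c := fun _ => v.1)
      (fun _ _ => by simpa using he₀) (fun _ _ => by simpa using v.2)
  choose ext hext using fun h : GU n F q => exists_gu_extend h
  have hS : ∀ g : GU (n + 1) F q, guApply g e₀ = e₀ → ∀ w : Fin n → F,
      guApply g (Fin.cons 0 w) 0 = 0 := by
    intro g hg w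
    have h1 := guApply_form g (Fin.cons 0 w) e₀
    rw [hg] at h1
    simpa [e₀, hermForm, Fin.sum_univ_succ, zero_pow (show q ≠ 0 by omega)] using h1
  -- restriction to the tail
  have hrestr : ∀ g : GU (n + 1) F q, guApply g e₀ = e₀ →
      ∃ h : GU n F q, ∀ w, guApply g (Fin.cons 0 w) = Fin.cons 0 (guApply h w) := by
    intro g hg
    let f : (Fin n → F) →ₗ[F] (Fin n → F) :=
      { toFun := fun w => Fin.tail (guApply g (Fin.cons 0 w))
        map_add' := fun x y => by
          have : (Fin.cons 0 (x + y) : Fin (n + 1) → F) = Fin.cons 0 x + Fin.cons 0 y := by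
            funext i; refine Fin.cases ?_ (fun j => ?_) i <;> simp
          funext i
          simp [guApply, this, mulVec_add, Fin.tail]
        map_smul' := fun a x => by
          have : (Fin.cons 0 (a • x) : Fin (n + 1) → F) = a • Fin.cons 0 x := by
            funext i; refine Fin.cases ?_ (fun j => ?_) i <;> simp
          funext i
          simp [guApply, this, mulVec_smul, Fin.tail] }
    have hfe : ∀ w, guApply g (Fin.cons 0 w) = Fin.cons 0 (f w) := fun w => by
      conv_lhs => rw [← Fin.cons_self_tail (guApply g (Fin.cons 0 w)), hS g hg w]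
      rfl
    have hinj : Function.Injective f := fun x y hxy => by
      have h : guApply g (Fin.cons 0 x) = guApply g (Fin.cons 0 y) := by rw [hfe, hfe, hxy]
      have := congrArg (guApply g⁻¹) h
      rw [guApply_inv_apply, guApply_inv_apply] at this
      exact funext fun j => by simpa using congrFun this j.succ
    obtain ⟨h, hh⟩ := guMk_exists (q := q) (LinearEquiv.ofInjectiveEndo f hinj) (fun u v => by
      have := guApply_form g (Fin.cons 0 u) (Fin.cons 0 v)
      rw [hfe, hfe, hermForm_cons, hermForm_cons, zero_mul, zero_add, zero_add] at this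
      exact this)
    exact ⟨h, fun w => by rw [hh, hfe]; rfl⟩
  choose restr hrestr' using fun g : {g : GU (n + 1) F q // guApply g e₀ = e₀} => hrestr g.1 g.2
  have hstab : Nat.card {g : GU (n + 1) F q // guApply g e₀ = e₀} = Nat.card (GU n F q) := by
    refine Nat.card_congr
      { toFun := restr
        invFun := fun h => ⟨ext h, by
          rw [hext]
          funext i
          refine Fin.cases ?_ (fun j => ?_) i
          · simp [e₀]
          · simp [e₀, show Fin.tail (Pi.single 0 1 : Fin (n + 1) → F) = 0 from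
              funext fun j => by simp [Fin.tail]]⟩
        left_inv := fun g => Subtype.ext (gu_ext fun x => ?_)
        right_inv := fun h => gu_ext fun w => ?_ }
    · rw [hext, ← Fin.cons_self_tail x]
      conv_rhs => rw [show (Fin.cons (x 0) (Fin.tail x) : Fin (n + 1) → F) =
        x 0 • e₀ + Fin.cons 0 (Fin.tail x) by rw [cons_zero_tail, Fin.cons_self_tail]; abel]
      simp only [guApply, mulVec_add, mulVec_smul]
      rw [show ((g.1 : GL (Fin (n + 1)) F) : Matrix _ _ F) *ᵥ e₀ = e₀ from g.2]
      have := hrestr' g (Fin.tail x)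
      simp only [guApply] at this
      rw [this]
      funext i
      refine Fin.cases ?_ (fun j => ?_) i <;> simp [e₀]
    · have hfix : guApply (ext h) e₀ = e₀ := by
        rw [hext]
        funext i
        refine Fin.cases ?_ (fun j => ?_) i
        · simp [e₀]
        · simp [e₀, show Fin.tail (Pi.single 0 1 : Fin (n + 1) → F) = 0 from
            funext fun j => by simp [Fin.tail]]
      have h1 := hrestr' ⟨ext h, hfix⟩ w
      rw [hext] at h1
      funext j
      simpa using (congrFun h1 j.succ).symm
  rw [← hstab, hermCount, ← Nat.card_prod]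
  refine Nat.card_congr
    { toFun := fun g =>
        let v : {v : Fin (n + 1) → F // hermForm (n + 1) F q v v = 1} :=
          ⟨guApply g e₀, (guApply_form g _ _).trans he₀⟩
        (v, ⟨(s v)⁻¹ * g, by
          rw [guApply_mul]
          conv_rhs => rw [← guApply_inv_apply (s v) e₀, hs v ()]⟩)
      invFun := fun p => s p.1 * p.2.1
      left_inv := fun g => by simp
      right_inv := fun p => by
        obtain ⟨v, g, hg⟩ := p
        have hp : ∀ pf, (⟨guApply (s v * g) e₀, pf⟩ :
            {v : Fin (n + 1) → F // hermForm (n + 1) F q v v = 1}) = v := fun pf =>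
          Subtype.ext ((guApply_mul _ _ _).trans ((congrArg _ hg).trans (hs v ())))
        refine Prod.ext (hp _) (Subtype.ext ?_)
        simp only [hp, inv_mul_cancel_left] }

/-- `q^(n(n-1)/2) ∏ (q^i - (-1)^i)`. -/
def unitaryOrder (q n : ℕ) : ℕ :=
  q ^ (n * (n - 1) / 2) * ∏ i ∈ Finset.range n, (if Even i then q ^ (i + 1) + 1 else q ^ (i + 1) - 1)

theorem card_gu [Fintype F] (hF : Fintype.card F = q ^ 2) :
    ∀ n : ℕ, Nat.card (GU n F q) = unitaryOrder q n
  | 0 => by
    have : Subsingleton (GU 0 F q) :=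
      ⟨fun a b => Subtype.ext (Units.ext (Subsingleton.elim _ _))⟩
    simp [unitaryOrder]
  | (n + 1) => by
    have hq := two_le_q hF
    rw [card_gu_succ hF, card_gu hF n, unitaryOrder, unitaryOrder, Finset.prod_range_succ]
    have hc : hermCount (n + 1) F q 1 = q ^ n * (if Even n then q ^ (n + 1) + 1 else q ^ (n + 1) - 1) := by
      apply Nat.cast_injective (R := ℤ)
      rw [(hermCount_formula hF n).1]
      have h1 : 1 ≤ q ^ (n + 1) := Nat.one_le_pow _ _ (by omega)
      split_ifs with he
      · rw [he.add_one.neg_one_pow]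
        push_cast
        ring
      · rw [(Nat.not_even_iff_odd.1 he).add_one.neg_one_pow]
        push_cast [Nat.cast_sub h1]
        ring
    have he : (n + 1) * (n + 1 - 1) / 2 = n * (n - 1) / 2 + n := by
      rw [← Finset.sum_range_id, ← Finset.sum_range_id, Finset.sum_range_succ]
    rw [hc, he, pow_add]
    ring

theorem det_gu_pow (hσq : ∀ M : Matrix (Fin n) (Fin n) F, (M.map (· ^ q)).det = M.det ^ q)
    (hq : 1 ≤ q) (g : GU n F q) :
    ((g : GL (Fin n) F) : Matrix (Fin n) (Fin n) F).det ^ (q + 1) = 1 := by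
  set M := ((g : GL (Fin n) F) : Matrix (Fin n) (Fin n) F)
  have h : Mᵀ * M.map (· ^ q) = 1 := by
    ext i j
    have := guApply_form g (Pi.single i 1) (Pi.single j 1)
    rw [hermForm_single_one hq] at this
    rw [Matrix.one_apply, ← this, Matrix.mul_apply]
    simp [hermForm, guApply, M]
  have h2 := congrArg Matrix.det h
  rw [det_mul, det_transpose, hσq, det_one, ← pow_succ'] at h2
  exact h2

theorem det_map_pow [Fintype F] (hF : Fintype.card F = q ^ 2) (M : Matrix (Fin n) (Fin n) F) :
    (M.map (· ^ q)).det = M.det ^ q := by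
  obtain ⟨σ, hσ, -, -⟩ := exists_qPow hF
  rw [← hσ, σ.map_det, show (fun a : F => a ^ q) = σ from funext fun a => (hσ a).symm]
  rfl

/-- The determinant of `GU` as a homomorphism. -/
noncomputable def guDet (n : ℕ) (F : Type*) [Field F] (q : ℕ) : GU n F q →* Fˣ :=
  GeneralLinearGroup.det.comp (GU n F q).subtype

/-- Diagonal unitary matrices. -/
theorem exists_gu_diag [Fintype F] (hF : Fintype.card F = q ^ 2) (d : Fin n → F)
    (hd : ∀ i, d i ^ (q + 1) = 1) :
    ∃ g : GU n F q, ((g : GL (Fin n) F) : Matrix (Fin n) (Fin n) F) = diagonal d := by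
  have hne : (diagonal d).det ≠ 0 := by
    rw [det_diagonal, Finset.prod_ne_zero_iff]
    intro i _ h
    have := hd i
    rw [h, zero_pow (by omega)] at this
    exact zero_ne_one this
  refine ⟨⟨GeneralLinearGroup.mkOfDetNeZero _ hne, fun u v => ?_⟩, rfl⟩
  change hermForm n F q (diagonal d *ᵥ u) (diagonal d *ᵥ v) = _
  simp only [hermForm, mulVec_diagonal, mul_pow]
  refine Finset.sum_congr rfl fun i _ => ?_
  have := hd i
  rw [pow_succ'] at this
  linear_combination (u i * v i ^ q) * this

theorem guDet_range [Fintype F] (hF : Fintype.card F = q ^ 2) (hn : 1 ≤ n) :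
    (guDet n F q).range = (powMonoidHom (q + 1) : Fˣ →* Fˣ).ker := by
  ext u
  constructor
  · rintro ⟨g, rfl⟩
    refine MonoidHom.mem_ker.2 (Units.ext ?_)
    simpa [guDet] using det_gu_pow (det_map_pow hF) (by have := two_le_q hF; omega) g
  · intro hu
    obtain ⟨g, hg⟩ := exists_gu_diag hF (Function.update (1 : Fin n → F) ⟨0, hn⟩ (u : F))
      (fun i => by
        rcases eq_or_ne i ⟨0, hn⟩ with rfl | h
        · simpa using congrArg Units.val (MonoidHom.mem_ker.1 hu)
        · simp [h])
    refine ⟨g, Units.ext ?_⟩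
    simp [guDet, hg, det_diagonal, Finset.prod_update_of_mem]

/-- `SU` as a subgroup of `GU`. -/
theorem card_su [Fintype F] (hF : Fintype.card F = q ^ 2) (hn : 1 ≤ n) :
    (q + 1) * Nat.card (SU n F q) = unitaryOrder q n := by
  have hker : Nat.card (guDet n F q).ker = Nat.card (SU n F q) := by
    refine Nat.card_congr
      { toFun := fun g => ⟨⟨((g.1 : GL (Fin n) F) : Matrix (Fin n) (Fin n) F), by
          simpa [guDet] using congrArg Units.val (MonoidHom.mem_ker.1 g.2)⟩, g.1.2⟩
        invFun := fun s => ⟨⟨SpecialLinearGroup.toGL s.1, s.2⟩, by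
          refine MonoidHom.mem_ker.2 (Units.ext ?_)
          simp [guDet]⟩
        left_inv := fun g => Subtype.ext (Subtype.ext (Units.ext rfl))
        right_inv := fun s => Subtype.ext (Subtype.ext rfl) }
  have hq := two_le_q hF
  have hrange : Nat.card (guDet n F q).range = q + 1 := by
    rw [guDet_range hF hn, IsCyclic.card_powMonoidHom_ker, Nat.card_units, Nat.card_eq_fintype_card,
      hF, show q ^ 2 - 1 = (q + 1) * (q - 1) by rw [← Nat.sq_sub_sq, one_pow],
      Nat.gcd_eq_right (Dvd.intro _ rfl)]
  rw [← hker, ← card_gu hF n, ← hrange, ← Subgroup.index_ker]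
  exact Subgroup.index_mul_card _

theorem slToMat_apply (g : SpecialLinearGroup (Fin n) F) :
    slToMat n F g = (g : Matrix (Fin n) (Fin n) F) := rfl

/-- An element of `SU` from a matrix. -/
def suMk (M : Matrix (Fin n) (Fin n) F) (hdet : M.det = 1)
    (hM : ∀ u v, hermForm n F q (M *ᵥ u) (M *ᵥ v) = hermForm n F q u v) : SU n F q :=
  ⟨⟨M, hdet⟩, fun u v => hM u v⟩

theorem suMk_coe (M : Matrix (Fin n) (Fin n) F) (hdet : M.det = 1)
    (hM : ∀ u v, hermForm n F q (M *ᵥ u) (M *ᵥ v) = hermForm n F q u v) :
    ((suMk M hdet hM : SU n F q) : SpecialLinearGroup (Fin n) F).1 = M := rfl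

/-- A matrix commuting with `SU` is scalar. -/
theorem eq_scalar_of_commute [Fintype F] (hF : Fintype.card F = q ^ 2) (hn : 2 ≤ n)
    (M : Matrix (Fin n) (Fin n) F)
    (hM : ∀ s : SU n F q, (s.1 : Matrix (Fin n) (Fin n) F) * M = M * (s.1 : Matrix (Fin n) (Fin n) F)) :
    M = scalar (Fin n) (M ⟨0, by omega⟩ ⟨0, by omega⟩) := by
  classical
  have hq := two_le_q hF
  obtain ⟨ζ, hζ, hζ1⟩ : ∃ ζ : F, ζ ^ (q + 1) = 1 ∧ ζ ^ 2 ≠ 1 := by
    by_contra hc
    push Not at hc
    have h1 : Nat.card {x : F // x ^ (q + 1) = 1} ≤ Nat.card ↥({1, -1} : Finset F) :=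
      Nat.card_le_card_of_injective
        (fun x => ⟨x.1, by simpa using sq_eq_one_iff.1 (hc x.1 x.2)⟩)
        fun x y h => Subtype.ext (congrArg Subtype.val h :)
    rw [card_norm_one hF, Nat.card_eq_fintype_card, Fintype.card_coe] at h1
    have h2 := Finset.card_le_two (a := (1 : F)) (b := -1)
    omega
  have hζ0 : ζ ≠ 0 := by rintro rfl; rw [zero_pow (by omega)] at hζ; exact zero_ne_one hζ
  have hneg : (-1 : F) ^ (q + 1) = 1 := by
    obtain ⟨σ, hσ, -⟩ := exists_qPow hF
    rw [pow_succ, ← hσ, map_neg, map_one, neg_mul_neg, one_mul]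
  have hoff : ∀ i j, i ≠ j → M i j = 0 := by
    intro i j hij
    let d : Fin n → F := fun l => if l = i then ζ else if l = j then ζ⁻¹ else 1
    have hd : ∀ l, d l ^ (q + 1) = 1 := by
      intro l
      simp only [d]
      split_ifs <;> simp [hζ]
    obtain ⟨g, hg⟩ := exists_gu_diag hF d hd
    have hdet : (diagonal d).det = 1 := by
      rw [det_diagonal, Fintype.prod_eq_mul i j hij (fun l hl => by simp [d, hl.1, hl.2])]
      simp [d, hij.symm, hζ0]
    have := congrFun₂ (hM (suMk (diagonal d) hdet (fun u v => by rw [← hg]; exact g.2 u v))) i j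
    rw [suMk_coe] at this
    simp [d, hij.symm] at this
    have h : (ζ ^ 2 - 1) * M i j = 0 := by
      have h2 := congrArg (· * ζ) this
      simp only [mul_assoc, inv_mul_cancel₀ hζ0] at h2
      linear_combination h2
    exact (mul_eq_zero.1 h).resolve_left (sub_ne_zero.2 hζ1)
  ext i j
  rcases eq_or_ne i j with rfl | hij
  swap
  · simp [hoff i j hij, hij]
  · set a : Fin n := ⟨0, by omega⟩
    simp only [scalar_apply, diagonal_apply_eq]
    rcases eq_or_ne i a with rfl | hia
    · rfl
    let π : Equiv.Perm (Fin n) := Equiv.swap a i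
    let e : Fin n → F := Function.update 1 a (-1)
    have he : ∀ l, e l ^ (q + 1) = 1 := by
      intro l
      rcases eq_or_ne l a with rfl | h
      · simpa [e] using hneg
      · simp [e, h]
    obtain ⟨g, hg⟩ := exists_gu_diag hF e he
    let P : Matrix (Fin n) (Fin n) F := diagonal e * π.permMatrix F
    have hdet : P.det = 1 := by
      simp [P, π, e, det_permutation, hia.symm, Finset.prod_update_of_mem]
    have hform : ∀ u v, hermForm n F q (P *ᵥ u) (P *ᵥ v) = hermForm n F q u v := by
      intro u v
      simp only [P, ← mulVec_mulVec, ← hg]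
      refine (guApply_form g _ _).trans ?_
      simp only [hermForm, permMatrix_mulVec, Function.comp_apply]
      exact Equiv.sum_comp π fun l => u l * v l ^ q
    have := congrFun₂ (hM (suMk P hdet hform)) a i
    rw [suMk_coe, Matrix.mul_apply, Finset.sum_eq_single i, Matrix.mul_apply,
      Finset.sum_eq_single a] at this
    · simpa [P, e, π, diagonal_mul, Equiv.Perm.permMatrix, PEquiv.toMatrix_apply] using this
    · intro b _ hb
      simp [hoff a b hb.symm]
    · simp
    · intro b _ hb
      simp [hoff b i hb]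
    · simp

theorem card_center_su [Fintype F] (hF : Fintype.card F = q ^ 2) (hn : 2 ≤ n) :
    Nat.card (Subgroup.center (SU n F q)) = Nat.gcd n (q + 1) := by
  classical
  have hq := two_le_q hF
  have hd : Nat.gcd n (q + 1) ∣ (q ^ 2 - 1) := by
    rw [show q ^ 2 - 1 = (q + 1) * (q - 1) by rw [← Nat.sq_sub_sq, one_pow]]
    exact (Nat.gcd_dvd_right n (q + 1)).mul_right _
  have hker : Nat.card (powMonoidHom (Nat.gcd n (q + 1)) : Fˣ →* Fˣ).ker = Nat.gcd n (q + 1) := by
    rw [IsCyclic.card_powMonoidHom_ker, Nat.card_units, Nat.card_eq_fintype_card, hF,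
      Nat.gcd_eq_right hd]
  have hscalar : ∀ c : Fˣ, (c : F) ^ Nat.gcd n (q + 1) = 1 → ∀ u v,
      hermForm n F q (scalar (Fin n) (c : F) *ᵥ u) (scalar (Fin n) (c : F) *ᵥ v) =
        hermForm n F q u v := by
    intro c hc u v
    have h : (c : F) ^ (q + 1) = 1 := by
      obtain ⟨k, hk⟩ := Nat.gcd_dvd_right n (q + 1)
      conv_lhs => rw [hk, pow_mul, hc, one_pow]
    rw [pow_succ'] at h
    simp only [hermForm, scalar_apply, mulVec_diagonal, mul_pow]
    exact Finset.sum_congr rfl fun i _ => by linear_combination (u i * v i ^ q) * h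
  have hpow : ∀ c : Fˣ, (c : F) ^ Nat.gcd n (q + 1) = 1 → (scalar (Fin n) (c : F)).det = 1 := by
    intro c hc
    obtain ⟨k, hk⟩ := Nat.gcd_dvd_left n (q + 1)
    rw [scalar_apply, det_diagonal, Finset.prod_const, Finset.card_univ, Fintype.card_fin]
    conv_lhs => rw [hk, pow_mul, hc, one_pow]
  let ψ : (powMonoidHom (Nat.gcd n (q + 1)) : Fˣ →* Fˣ).ker → Subgroup.center (SU n F q) := fun c =>
    ⟨suMk (scalar (Fin n) ((c.1 : Fˣ) : F))
      (hpow c.1 (by simpa using congrArg Units.val (MonoidHom.mem_ker.1 c.2)))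
      (hscalar c.1 (by simpa using congrArg Units.val (MonoidHom.mem_ker.1 c.2))),
      Subgroup.mem_center_iff.2 fun s => Subtype.ext (Subtype.ext
        ((scalar_commute _ (Commute.all _) _).symm))⟩
  rw [← hker]
  refine (Nat.card_congr (Equiv.ofBijective ψ ⟨fun a b h => ?_, fun z => ?_⟩)).symm
  · have := congrArg (fun z : Subgroup.center (SU n F q) =>
      z.1.1.1 (⟨0, by omega⟩ : Fin n) ⟨0, by omega⟩) h
    exact Subtype.ext (Units.ext (by simpa [ψ, suMk] using this))
  · have hcomm : ∀ s : SU n F q, (s.1 : Matrix (Fin n) (Fin n) F) * z.1.1.1 =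
        z.1.1.1 * (s.1 : Matrix (Fin n) (Fin n) F) := fun s => by
      simpa using congrArg (fun x : SU n F q => (x.1 : Matrix (Fin n) (Fin n) F))
        (Subgroup.mem_center_iff.1 z.2 s)
    have hz := eq_scalar_of_commute hF hn _ hcomm
    set c := z.1.1.1 ⟨0, by omega⟩ ⟨0, by omega⟩
    have hdet : c ^ n = 1 := by
      have := z.1.1.2
      rw [hz] at this
      simpa using this
    have hnorm : c ^ (q + 1) = 1 := by
      have h := z.1.2 (Pi.single ⟨0, by omega⟩ 1) (Pi.single ⟨0, by omega⟩ 1)
      rw [slToMat_apply, hz, hermForm_single_one (by omega)] at h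
      simpa [hermForm, Pi.single_apply, ← pow_succ', ite_pow, mul_ite,
        zero_pow (show q ≠ 0 by omega)] using h
    have hc0 : c ≠ 0 := by
      intro h0
      rw [h0, zero_pow (by omega)] at hdet
      exact zero_ne_one hdet
    refine ⟨⟨Units.mk0 c hc0, MonoidHom.mem_ker.2 (Units.ext ?_)⟩,
      Subtype.ext (Subtype.ext (Subtype.ext hz.symm))⟩
    simpa using pow_gcd_eq_one.2 ⟨hdet, hnorm⟩

end CfsgLib.Classical
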