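/-
Short root elements of unitary groups, and generation by transvections in dimension at least three.
-/
import Cfsg.Agent.Lib.Transvec.UnitaryGen

set_option autoImplicit false

namespace CfsgLib.Classical.Unitary

open Matrix CfsgLib.Transvec CfsgLib.Transvec.Unitary
open scoped MatrixGroups commutatorElement

variable {ι : Type} [Fintype ι] [DecidableEq ι] {F : Type*} [Field F] {σ : F ≃+* F}
  {f : (ι → F) → (ι → F) → F}

/-- The element `x ↦ x + f(x,v) w + (b f(x,v) - f(x,w)) v` of the unipotent radical at the isotropic `v`. -/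
noncomputable def eu (f : (ι → F) → (ι → F) → F) (v w : ι → F) (b : F) : GL ι F :=
  transv v ((b + f w w) • uvec f v - uvec f w) * transv w (uvec f v)

variable (hf : Cfsg.Geo.IsUnitaryForm σ f)

include hf

theorem eu_mulVec {v w : ι → F} (hv : f v v = 0) (hwv : f w v = 0) (b : F) (x : ι → F) :
    (eu f v w b : Matrix ι ι F) *ᵥ x = x + f x v • w + (b * f x v - f x w) • v := by
  have h1 : ((b + f w w) • uvec f v - uvec f w) ⬝ᵥ v = 0 := by
    rw [sub_dotProduct, smul_dotProduct, uvec_dot hf, uvec_dot hf, hv, smul_zero, (eq_zero_comm hf).mp hwv, sub_zero]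
  have h2 : uvec f v ⬝ᵥ w = 0 := by rw [uvec_dot hf, hwv]
  rw [eu, mul_mulVec, transv_mulVec h2, uvec_dot hf, transv_mulVec h1]
  simp only [sub_dotProduct, smul_dotProduct, dotProduct_add, dotProduct_smul, uvec_dot hf, hwv, smul_eq_mul]
  module

omit hf in
theorem eu_det (v w : ι → F) (b : F) : (eu f v w b : Matrix ι ι F).det = 1 := by
  rw [eu, Units.val_mul, det_mul, (mem_specialLinear_iff _).mp (transv_mem_specialLinear _ _),
    (mem_specialLinear_iff _).mp (transv_mem_specialLinear _ _), one_mul]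

theorem iso_eu {v w : ι → F} (hv : f v v = 0) (hwv : f w v = 0) {b : F} (hb : b + σ b + f w w = 0) :
    Iso f (eu f v w b) := fun x y => by
  have hvw : f v w = 0 := (eq_zero_comm hf).mp hwv
  rw [eu_mulVec hf hv hwv, eu_mulVec hf hv hwv]
  simp only [hf.add_left, add_right' hf, hf.smul_left, smul_right' hf, hv, hwv, hvw, map_sub, map_mul, ← hf.herm]
  linear_combination (f x v * f v y) * hb

theorem eu_mul {v w w' : ι → F} (hv : f v v = 0) (hwv : f w v = 0) (hwv' : f w' v = 0) (b b' : F) :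
    eu f v w b * eu f v w' b' = eu f v (w + w') (b + b' - f w' w) := by
  refine gl_ext fun x => ?_
  have hvw : f v w = 0 := (eq_zero_comm hf).mp hwv
  rw [mul_mulVec, eu_mulVec hf hv hwv', eu_mulVec hf hv hwv,
    eu_mulVec hf hv (by rw [hf.add_left, hwv, hwv', add_zero])]
  simp only [hf.add_left, add_right' hf, hf.smul_left, hv, hwv', hvw, mul_zero, add_zero]
  module

theorem eu_zero {v : ι → F} (hv : f v v = 0) (b : F) : eu f v 0 b = uT f v b :=
  gl_ext fun x => by
    rw [eu_mulVec hf hv (zero_left' hf v), uT_mulVec hf hv, zero_right' hf, sub_zero, smul_zero, add_zero]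

theorem eu_commutator {v w w' : ι → F} (hv : f v v = 0) (hwv : f w v = 0) (hwv' : f w' v = 0) (b b' : F) :
    ⁅eu f v w b, eu f v w' b'⁆ = uT f v (f w w' - f w' w) := by
  have h : eu f v w b * eu f v w' b' = uT f v (f w w' - f w' w) * (eu f v w' b' * eu f v w b) := by
    rw [eu_mul hf hv hwv hwv', eu_mul hf hv hwv' hwv, ← eu_zero hf hv,
      eu_mul hf hv (zero_left' hf v) (by rw [hf.add_left, hwv', hwv, add_zero]), zero_add, zero_right' hf]
    congr 1
    · exact add_comm _ _
    · ring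
  rw [commutatorElement_def, h]
  group

variable [Finite F]

theorem exists_aniso_of_ne {p : ι → F} (hp : p ≠ 0) (P : Submodule F (ι → F)) (hpP : p ∈ P)
    (hnd : ∀ x ∈ P, (∀ y ∈ P, f x y = 0) → x = 0) : ∃ k ∈ P, f k k ≠ 0 := by
  by_contra hcon
  push Not at hcon
  refine hp (hnd p hpP fun y hy => ?_)
  obtain ⟨e, he⟩ := exists_trace_ne_zero hf.ne_refl
  by_contra hpy
  have h := hcon (p + σ (e / f p y) • y) (P.add_mem hpP (P.smul_mem _ hy))
  have e1 : f y p * σ (e / f p y) = σ e := by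
    rw [hf.herm y p, ← map_mul, mul_comm, div_mul_cancel₀ _ hpy]
  rw [hf.add_left, add_right' hf, add_right' hf, hf.smul_left, hf.smul_left, smul_right' hf, smul_right' hf,
    hcon p hpP, hcon y hy, hf.involutive, div_mul_cancel₀ _ hpy] at h
  exact he (by linear_combination h - e1)

omit [Finite F] in
/-- A partner of an isotropic vector. -/
theorem exists_iso_partner {v : ι → F} (hv : f v v = 0) (hv0 : v ≠ 0) : ∃ z, f z z = 0 ∧ f z v = 1 := by
  obtain ⟨y, hy⟩ := (hf.nondegenerate v hv0).1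
  have hyv : f y v ≠ 0 := hy
  obtain ⟨z0, hz0⟩ : ∃ z0, z0 = (f y v)⁻¹ • y := ⟨_, rfl⟩
  have h1 : f z0 v = 1 := by rw [hz0, hf.smul_left, inv_mul_cancel₀ hyv]
  obtain ⟨t, ht⟩ := exists_trace_eq hf.ne_refl hf.involutive (b := -f z0 z0) (by rw [map_neg, self_fixed hf])
  refine ⟨z0 + t • v, ?_, by rw [hf.add_left, hf.smul_left, hv, h1, mul_zero, add_zero]⟩
  rw [hf.add_left, add_right' hf, add_right' hf, hf.smul_left, hf.smul_left, smul_right' hf, smul_right' hf, hv,
    hf.herm v z0, h1, map_one]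
  linear_combination ht

omit [Finite F] in
theorem exists_perp_two' (hdim : 3 ≤ Fintype.card ι) (a b : ι → F) : ∃ y, y ≠ 0 ∧ f y a = 0 ∧ f y b = 0 := by
  let T : (ι → F) →ₗ[F] F × F := (linL hf a).prod (linL hf b)
  have h1 := LinearMap.finrank_range_add_finrank_ker T
  have h2 := Submodule.finrank_le (LinearMap.range T)
  rw [Module.finrank_prod, Module.finrank_self] at h2
  rw [Module.finrank_fintype_fun_eq_card] at h1
  obtain ⟨y, hy, hy0⟩ := Submodule.exists_mem_ne_zero_of_ne_bot
    (show LinearMap.ker T ≠ ⊥ from fun h => by rw [h, finrank_bot] at h1; omega)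
  have hy' : (f y a, f y b) = 0 := LinearMap.mem_ker.mp hy
  rw [Prod.mk_eq_zero] at hy'
  exact ⟨y, hy0, hy'.1, hy'.2⟩

/-- An anisotropic vector orthogonal to a hyperbolic pair. -/
theorem exists_aniso_pairPerp (hdim : 3 ≤ Fintype.card ι) {v z : ι → F} (hv : f v v = 0) (hz : f z z = 0)
    (hzv : f z v = 1) : ∃ k, f k v = 0 ∧ f k z = 0 ∧ f k k ≠ 0 := by
  obtain ⟨p, hp0, hpv, hpz⟩ := exists_perp_two' hf hdim v z
  obtain ⟨k, hk, hkk⟩ := exists_aniso_of_ne hf hp0 (LinearMap.ker (linL hf v) ⊓ LinearMap.ker (linL hf z))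
    ⟨hpv, hpz⟩ (by
      rintro x ⟨hxv, hxz⟩ hall
      change f x v = 0 at hxv
      change f x z = 0 at hxz
      by_contra hx0
      obtain ⟨y, hy⟩ := (hf.nondegenerate x hx0).2
      have hvz : f v z = 1 := by rw [hf.herm, hzv, map_one]
      refine hy ?_
      have h := hall (y - f y z • v - f y v • z) ⟨?_, ?_⟩
      · rwa [sub_right' hf, sub_right' hf, smul_right' hf, smul_right' hf, hxv, hxz, mul_zero, mul_zero, sub_zero,
          sub_zero] at h
      · change f (y - f y z • v - f y v • z) v = 0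
        rw [sub_left' hf, sub_left' hf, hf.smul_left, hf.smul_left, hv, hzv]
        ring
      · change f (y - f y z • v - f y v • z) z = 0
        rw [sub_left' hf, sub_left' hf, hf.smul_left, hf.smul_left, hz, hvz]
        ring)
  exact ⟨k, hk.1, hk.2, hkk⟩

/-- Isotropic transvections are commutators of short root elements. -/
theorem uT_eq_commutator (hdim : 3 ≤ Fintype.card ι) {v : ι → F} (hv : f v v = 0) (hv0 : v ≠ 0) {c : F}
    (hc : c + σ c = 0) :
    ∃ w w' b b', f w v = 0 ∧ f w' v = 0 ∧ b + σ b + f w w = 0 ∧ b' + σ b' + f w' w' = 0 ∧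
      ⁅eu f v w b, eu f v w' b'⁆ = uT f v c := by
  obtain ⟨z, hz, hzv⟩ := exists_iso_partner hf hv hv0
  obtain ⟨w, hwv, -, hww⟩ := exists_aniso_pairPerp hf hdim hv hz hzv
  obtain ⟨e, he⟩ := exists_trace_eq hf.ne_refl hf.involutive (b := (1 : F)) (map_one σ)
  obtain ⟨μ, hμ⟩ : ∃ μ, μ = -(c / f w w) * e := ⟨_, rfl⟩
  obtain ⟨b, hb⟩ := exists_trace_eq hf.ne_refl hf.involutive (b := -f w w) (by rw [map_neg, self_fixed hf])
  obtain ⟨b', hb'⟩ := exists_trace_eq hf.ne_refl hf.involutive (b := -f (μ • w) (μ • w))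
    (by rw [map_neg, self_fixed hf])
  have hw' : f (μ • w) v = 0 := by rw [hf.smul_left, hwv, mul_zero]
  refine ⟨w, μ • w, b, b', hwv, hw', by linear_combination hb, by linear_combination hb', ?_⟩
  rw [eu_commutator hf hv hwv hw']
  congr 1
  rw [smul_right' hf, hf.smul_left, hμ, map_mul, map_neg, map_div₀, self_fixed hf]
  have hσc : σ c = -c := by linear_combination hc
  rw [hσc]
  field_simp
  linear_combination c * he

/-- A vector with equal prescribed products with two independent unit vectors and of norm one. -/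
theorem exists_unit_fiber (hdim : 3 ≤ Fintype.card ι) {v b : ι → F} (hv : f v v = 1) (hb : f b b = 1)
    (hvb : v ∉ Submodule.span F {b}) (hbv : b ∉ Submodule.span F {v}) (hor : f v b ≠ 1 ∨ 4 ≤ Fintype.card ι)
    {α : F} (hα : α ≠ 0 ∨ 4 ≤ Fintype.card ι) : ∃ z, f z v = α ∧ f z b = α ∧ f z z = 1 := by
  classical
  obtain ⟨z1, h1b, h1v⟩ := exists_perp_pair hf hvb
  obtain ⟨z2, h2v, h2b⟩ := exists_perp_pair hf hbv
  obtain ⟨z0, hz0⟩ : ∃ z0, z0 = (α / f z1 v) • z1 + (α / f z2 b) • z2 := ⟨_, rfl⟩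
  have h0v : f z0 v = α := by
    rw [hz0, hf.add_left, hf.smul_left, hf.smul_left, h2v, div_mul_cancel₀ _ h1v]; ring
  have h0b : f z0 b = α := by
    rw [hz0, hf.add_left, hf.smul_left, hf.smul_left, h1b, div_mul_cancel₀ _ h2b]; ring
  by_cases hk : ∃ k, f k v = 0 ∧ f k b = 0 ∧ f k k ≠ 0
  · obtain ⟨k, hkv, hkb, hkk⟩ := hk
    obtain ⟨z', hz'⟩ : ∃ z', z' = z0 - (f z0 k / f k k) • k := ⟨_, rfl⟩
    have hz'k : f z' k = 0 := by rw [hz', sub_left' hf, hf.smul_left, div_mul_cancel₀ _ hkk, sub_self]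
    have hz'v : f z' v = α := by rw [hz', sub_left' hf, hf.smul_left, hkv, mul_zero, sub_zero, h0v]
    have hz'b : f z' b = α := by rw [hz', sub_left' hf, hf.smul_left, hkb, mul_zero, sub_zero, h0b]
    obtain ⟨a, ha⟩ := exists_norm_eq hf.ne_refl hf.involutive (b := (1 - f z' z') / f k k)
      (by rw [map_div₀, map_sub, self_fixed hf, self_fixed hf, map_one])
    refine ⟨z' + a • k, by rw [hf.add_left, hf.smul_left, hkv, hz'v]; ring,
      by rw [hf.add_left, hf.smul_left, hkb, hz'b]; ring, ?_⟩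
    rw [hf.add_left, add_right' hf, add_right' hf, hf.smul_left, hf.smul_left, smul_right' hf, smul_right' hf, hz'k,
      (eq_zero_comm hf).mp hz'k, mul_zero, add_zero, mul_zero, zero_add, ← mul_assoc, ha, div_mul_cancel₀ _ hkk,
      add_sub_cancel]
  · push Not at hk
    have hzero : ∀ x y, f x v = 0 → f x b = 0 → f y v = 0 → f y b = 0 → f x y = 0 := by
      intro x y hxv hxb hyv hyb
      by_contra hxy
      obtain ⟨e, he⟩ := exists_trace_ne_zero hf.ne_refl
      have h := hk (x + σ (e / f x y) • y) (by rw [hf.add_left, hf.smul_left, hxv, hyv]; ring)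
        (by rw [hf.add_left, hf.smul_left, hxb, hyb]; ring)
      have e1 : f y x * σ (e / f x y) = σ e := by
        rw [hf.herm y x, ← map_mul, mul_comm, div_mul_cancel₀ _ hxy]
      rw [hf.add_left, add_right' hf, add_right' hf, hf.smul_left, hf.smul_left, smul_right' hf, smul_right' hf,
        hk x hxv hxb, hk y hyv hyb, hf.involutive, div_mul_cancel₀ _ hxy] at h
      exact he (by linear_combination h - e1)
    have hspan : ∀ r, f r v = 0 → f r b = 0 → r ∈ Submodule.span F ({v, b} : Set (ι → F)) := by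
      intro r hrv hrb
      by_contra hr
      obtain ⟨φ, hφ, hφr⟩ := exists_functional hr
      obtain ⟨z, rfl⟩ := uvec_surjective hf φ
      have e1 := hφ v (Submodule.subset_span (by simp))
      have e2 := hφ b (Submodule.subset_span (by simp))
      rw [uvec_dot hf] at e1 e2 hφr
      rw [hzero r z hrv hrb ((eq_zero_comm hf).mp e1) ((eq_zero_comm hf).mp e2)] at hφr
      exact zero_ne_one hφr
    have h3 : ¬ 4 ≤ Fintype.card ι := by
      intro h4
      let T : (ι → F) →ₗ[F] F × F := (linL hf v).prod (linL hf b)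
      have h1 := LinearMap.finrank_range_add_finrank_ker T
      have h2 := Submodule.finrank_le (LinearMap.range T)
      rw [Module.finrank_prod, Module.finrank_self] at h2
      rw [Module.finrank_fintype_fun_eq_card] at h1
      have hle : LinearMap.ker T ≤ Submodule.span F ({v, b} : Set (ι → F)) := fun r hr => by
        have hr' : (f r v, f r b) = 0 := LinearMap.mem_ker.mp hr
        rw [Prod.mk_eq_zero] at hr'
        exact hspan r hr'.1 hr'.2
      have hdim2 : Module.finrank F (Submodule.span F ({v, b} : Set (ι → F))) ≤ 2 := by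
        refine le_trans (finrank_span_le_card _) ?_
        rw [Set.toFinset_insert, Set.toFinset_singleton]
        exact Finset.card_le_two
      have heq := Submodule.eq_of_le_of_finrank_le hle (by omega)
      have hmem : v ∈ LinearMap.ker T := heq ▸ Submodule.subset_span (by simp)
      have hmem' : (f v v, f v b) = 0 := LinearMap.mem_ker.mp hmem
      rw [Prod.mk_eq_zero, hv] at hmem'
      exact one_ne_zero hmem'.1
    obtain ⟨r, hr0, hrv, hrb⟩ := exists_perp_two' hf hdim v b
    obtain ⟨x, y, hxy⟩ := Submodule.mem_span_pair.mp (hspan r hrv hrb)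
    obtain ⟨γ, hγ⟩ : ∃ γ, γ = f v b := ⟨_, rfl⟩
    have hsum : x + y ≠ 0 := by
      intro hs
      have hy' : y = -x := by linear_combination hs
      rw [← hxy, hy', hf.add_left, hf.smul_left, hf.smul_left, hv, hf.herm b v, ← hγ] at hrv
      have hx0 : x ≠ 0 := by
        rintro rfl
        exact hr0 (by rw [← hxy, hy', neg_zero, zero_smul, zero_smul, add_zero])
      have hσγ : σ γ = 1 := mul_left_cancel₀ hx0 (by linear_combination -hrv)
      refine hor.resolve_right h3 ?_
      rw [← hγ, ← hf.involutive γ, hσγ, map_one]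
    have h0r : f z0 r = (σ x + σ y) * α := by
      rw [← hxy, add_right' hf, smul_right' hf, smul_right' hf, h0v, h0b]; ring
    have h0r0 : f z0 r ≠ 0 := by
      rw [h0r, ← map_add]
      exact mul_ne_zero ((map_ne_zero_iff _ σ.injective).mpr hsum) (hα.resolve_right h3)
    obtain ⟨t, ht⟩ := exists_trace_eq hf.ne_refl hf.involutive (b := 1 - f z0 z0)
      (by rw [map_sub, self_fixed hf, map_one])
    refine ⟨z0 + σ (t / f z0 r) • r, by rw [hf.add_left, hf.smul_left, hrv, h0v]; ring,
      by rw [hf.add_left, hf.smul_left, hrb, h0b]; ring, ?_⟩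
    have e1 : f r z0 * σ (t / f z0 r) = σ t := by
      rw [hf.herm r z0, ← map_mul, mul_comm, div_mul_cancel₀ _ h0r0]
    rw [hf.add_left, add_right' hf, add_right' hf, hf.smul_left, hf.smul_left, smul_right' hf, smul_right' hf,
      hk r hrv hrb, hf.involutive, div_mul_cancel₀ _ h0r0]
    linear_combination e1 + ht

/-- Transitivity of the transvection group on unit vectors, in dimension at least three. -/
theorem move_unit_short (hdim : 3 ≤ Fintype.card ι)
    (hsk : 4 ≤ Fintype.card ι ∨ ∃ c : F, c ≠ 0 ∧ c + σ c = 0 ∧ 1 + c ≠ 0) {v b : ι → F} (hv : f v v = 1)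
    (hb : f b b = 1) : ∃ m ∈ transvGroup σ f, (m : Matrix ι ι F) *ᵥ v = b := by
  obtain ⟨c, hc0, hc, hc1⟩ : ∃ c : F, c ≠ 0 ∧ c + σ c = 0 ∧ (1 + c ≠ 0 ∨ 4 ≤ Fintype.card ι) := by
    rcases hsk with h | ⟨c, hc0, hc, hc1⟩
    · obtain ⟨c, hc0, hc⟩ := exists_skew hf.ne_refl hf.involutive
      exact ⟨c, hc0, hc, Or.inr h⟩
    · exact ⟨c, hc0, hc, Or.inl hc1⟩
  have hσc : σ c = -c := by linear_combination hc
  have hne : ∀ {x : ι → F}, f x x = 1 → x ≠ 0 := fun h h0 => by
    rw [h0, zero_left' hf] at h; exact zero_ne_one h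
  have hgood : ∀ {v b : ι → F}, f v v = 1 → f b b = 1 → b ∉ Submodule.span F {v} → v ∉ Submodule.span F {b} →
      (f v b ≠ 1 ∨ 4 ≤ Fintype.card ι) → ∃ m ∈ transvGroup σ f, (m : Matrix ι ι F) *ᵥ v = b := by
    intro v b hv hb hbv hvb hor
    obtain ⟨z, hzv, hzb, hzz⟩ := exists_unit_fiber hf hdim hv hb hvb hbv hor hc1
    have hvz : f v z = 1 - c := by rw [hf.herm, hzv, map_add, map_one, hσc, sub_eq_add_neg]
    have hbz : f b z = 1 - c := by rw [hf.herm, hzb, map_add, map_one, hσc, sub_eq_add_neg]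
    obtain ⟨m1, hm1, he1, -⟩ := move_unit_one hf (v := v) (b := z) (by rw [hzz, hv])
      (by rw [hvz, hzv, hv]; ring) (by rw [hvz, hv]; intro h; exact hc0 (by linear_combination -h))
    obtain ⟨m2, hm2, he2, -⟩ := move_unit_one hf (v := z) (b := b) (by rw [hb, hzz])
      (by rw [hzb, hbz, hzz]; ring) (by rw [hzb, hzz]; intro h; exact hc0 (by linear_combination h))
    exact ⟨m2 * m1, mul_mem hm2 hm1, by rw [mul_mulVec, he1, he2]⟩
  have hnspan : ∀ {p q : ι → F}, p ≠ 0 → q ∉ Submodule.span F {p} → q ≠ 0 → p ∉ Submodule.span F {q} :=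
    fun {p q} hp0 hq hq0 hm => by
      obtain ⟨j, hj⟩ := Submodule.mem_span_singleton.mp hm
      have hj0 : j ≠ 0 := fun h0 => hp0 (by rw [← hj, h0, zero_smul])
      exact hq (Submodule.mem_span_singleton.mpr ⟨j⁻¹, by rw [← hj, inv_smul_smul₀ hj0]⟩)
  have hind : ∀ {v b : ι → F}, f v v = 1 → f b b = 1 → b ∉ Submodule.span F {v} →
      ∃ m ∈ transvGroup σ f, (m : Matrix ι ι F) *ᵥ v = b := by
    intro v b hv hb hbv
    have hvb := hnspan (hne hv) hbv (hne hb)
    by_cases hbad : f v b = 1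
    swap
    · exact hgood hv hb hbv hvb (Or.inl hbad)
    obtain ⟨r, hr⟩ : ∃ r, r = b - v := ⟨_, rfl⟩
    have hbv1 : f b v = 1 := by rw [hf.herm, hbad, map_one]
    have hrv : f r v = 0 := by rw [hr, sub_left' hf, hbv1, hv, sub_self]
    have hrr : f r r = 0 := by
      rw [hr, sub_left' hf, sub_right' hf, sub_right' hf, hb, hbv1, hbad, hv]; ring
    have hr0 : r ≠ 0 := fun h => hbv (by
      rw [hr, sub_eq_zero] at h
      rw [h]
      exact Submodule.mem_span_singleton_self v)
    obtain ⟨z, hz, hzr⟩ := exists_iso_partner hf hrr hr0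
    obtain ⟨s', hs'⟩ : ∃ s', s' = z - f z v • v := ⟨_, rfl⟩
    have hs'v : f s' v = 0 := by rw [hs', sub_left' hf, hf.smul_left, hv]; ring
    have hs'r : f s' r = 1 := by rw [hs', sub_left' hf, hf.smul_left, hzr, (eq_zero_comm hf).mp hrv]; ring
    have hrs' : f r s' = 1 := by rw [hf.herm, hs'r, map_one]
    obtain ⟨t, ht⟩ := exists_trace_eq hf.ne_refl hf.involutive (b := -f s' s') (by rw [map_neg, self_fixed hf])
    obtain ⟨s, hs⟩ : ∃ s, s = s' + t • r := ⟨_, rfl⟩
    have hss : f s s = 0 := by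
      rw [hs, hf.add_left, add_right' hf, add_right' hf, hf.smul_left, hf.smul_left, smul_right' hf, smul_right' hf,
        hrr, hs'r, hrs']
      linear_combination ht
    have hsv : f s v = 0 := by rw [hs, hf.add_left, hf.smul_left, hs'v, hrv]; ring
    have hsr : f s r = 1 := by rw [hs, hf.add_left, hf.smul_left, hs'r, hrr]; ring
    have hrs : f r s = 1 := by rw [hf.herm, hsr, map_one]
    obtain ⟨u, hu0, hu1⟩ : ∃ u : F, u ≠ 0 ∧ u ≠ 1 := by
      obtain ⟨a, ha⟩ : ∃ a, σ a ≠ a := by
        by_contra h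
        simp only [not_exists, not_not] at h
        exact hf.ne_refl (RingEquiv.ext h)
      exact ⟨a, fun h => ha (by rw [h, map_zero]), fun h => ha (by rw [h, map_one])⟩
    obtain ⟨e, he⟩ := exists_trace_eq hf.ne_refl hf.involutive (b := (1 : F)) (map_one σ)
    have hσu : σ u ≠ 0 := (map_ne_zero_iff _ σ.injective).mpr hu0
    obtain ⟨y, hy⟩ : ∃ y, y = (e / σ u) • r + u • s := ⟨_, rfl⟩
    have hyy : f y y = 1 := by
      rw [hy, hf.add_left, add_right' hf, add_right' hf, hf.smul_left, hf.smul_left, hf.smul_left, hf.smul_left,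
        smul_right' hf, smul_right' hf, smul_right' hf, smul_right' hf, hrr, hss, hsr, hrs, map_div₀,
        hf.involutive]
      field_simp
      linear_combination (u * σ u) * he
    have hyv : f y v = 0 := by rw [hy, hf.add_left, hf.smul_left, hf.smul_left, hrv, hsv]; ring
    have hyr : f y r = u := by rw [hy, hf.add_left, hf.smul_left, hf.smul_left, hrr, hsr]; ring
    have hyb : f y b = u := by rw [show b = v + r by rw [hr, add_sub_cancel], add_right' hf, hyv, hyr, zero_add]
    have hyspan : y ∉ Submodule.span F {v} := fun hm => by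
      obtain ⟨k, hk⟩ := Submodule.mem_span_singleton.mp hm
      rw [← hk, hf.smul_left, hv, mul_one] at hyv
      exact hne hyy (by rw [← hk, hyv, zero_smul])
    have hbspan : b ∉ Submodule.span F {y} := fun hm => by
      obtain ⟨k, hk⟩ := Submodule.mem_span_singleton.mp hm
      rw [← hk, hf.smul_left, hyv, mul_zero] at hbv1
      exact zero_ne_one hbv1
    obtain ⟨m1, hm1, he1⟩ := hgood hv hyy hyspan (hnspan (hne hv) hyspan (hne hyy))
      (Or.inl (by rw [(eq_zero_comm hf).mp hyv]; exact zero_ne_one))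
    obtain ⟨m2, hm2, he2⟩ := hgood hyy hb hbspan (hnspan (hne hyy) hbspan (hne hb)) (Or.inl (by rw [hyb]; exact hu1))
    exact ⟨m2 * m1, mul_mem hm2 hm1, by rw [mul_mulVec, he1, he2]⟩
  by_cases h : b ∈ Submodule.span F {v}
  · obtain ⟨p, hp0, hpv, -⟩ := exists_perp_two' hf hdim v v
    obtain ⟨k, hk, hkk⟩ := exists_aniso_of_ne hf hp0 (LinearMap.ker (linL hf v)) hpv (fun x hx hall => by
      change f x v = 0 at hx
      by_contra hx0
      obtain ⟨y, hy⟩ := (hf.nondegenerate x hx0).2
      refine hy ?_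
      have h := hall (y - f y v • v) (by
        change f (y - f y v • v) v = 0
        rw [sub_left' hf, hf.smul_left, hv, mul_one, sub_self])
      rwa [sub_right' hf, smul_right' hf, hx, mul_zero, sub_zero] at h)
    change f k v = 0 at hk
    obtain ⟨a, ha⟩ := exists_norm_eq hf.ne_refl hf.involutive (b := (f k k)⁻¹) (by rw [map_inv₀, self_fixed hf])
    have hw : f (a • k) (a • k) = 1 := by
      rw [hf.smul_left, smul_right' hf, ← mul_assoc, ha, inv_mul_cancel₀ hkk]
    have hwv : f (a • k) v = 0 := by rw [hf.smul_left, hk, mul_zero]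
    have hw1 : a • k ∉ Submodule.span F {v} := fun hm => by
      obtain ⟨j, hj⟩ := Submodule.mem_span_singleton.mp hm
      rw [← hj, hf.smul_left, hv, mul_one] at hwv
      exact hne hw (by rw [← hj, hwv, zero_smul])
    have hw2 : b ∉ Submodule.span F {a • k} := fun hm => by
      obtain ⟨j, hj⟩ := Submodule.mem_span_singleton.mp hm
      obtain ⟨i, hi⟩ := Submodule.mem_span_singleton.mp h
      have h1 : f b v = 0 := by rw [← hj, hf.smul_left, hwv, mul_zero]
      rw [← hi, hf.smul_left, hv, mul_one] at h1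
      exact hne hb (by rw [← hi, h1, zero_smul])
    obtain ⟨m1, hm1, he1⟩ := hind hv hw hw1
    obtain ⟨m2, hm2, he2⟩ := hind hw hb hw2
    exact ⟨m2 * m1, mul_mem hm2 hm1, by rw [mul_mulVec, he1, he2]⟩
  · exact hind hv hb h

/-- The special unitary group is generated by transvections in dimension at least three. -/
theorem mem_transvGroup_short (hdim : 3 ≤ Fintype.card ι)
    (hsk : 4 ≤ Fintype.card ι ∨ ∃ c : F, c ≠ 0 ∧ c + σ c = 0 ∧ 1 + c ≠ 0)
    (hbasis : ∀ i j : ι, f (Pi.single i 1) (Pi.single j 1) = if i = j then 1 else 0) {g : GL ι F}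
    (hg : Iso f g) (hdet : (g : Matrix ι ι F).det = 1) : g ∈ transvGroup σ f := by
  classical
  haveI := Fintype.ofFinite F
  obtain ⟨i₀⟩ : Nonempty ι := Fintype.card_pos_iff.mp (by omega)
  obtain ⟨x₀, hx₀⟩ : ∃ x₀ : ι → F, f x₀ x₀ = 1 := ⟨Pi.single i₀ 1, by rw [hbasis, if_pos rfl]⟩
  obtain ⟨l₀, hl₀, hl₀1⟩ : ∃ l : F, l * σ l = 1 ∧ l ≠ 1 := by
    obtain ⟨a, ha⟩ : ∃ a : F, σ a ≠ a := by
      by_contra h
      simp only [not_exists, not_not] at h
      exact hf.ne_refl (RingEquiv.ext h)
    have ha0 : a ≠ 0 := fun h => ha (by rw [h, map_zero])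
    have hσa : σ a ≠ 0 := (map_ne_zero_iff _ σ.injective).mpr ha0
    exact ⟨σ a / a, by rw [map_div₀, hf.involutive]; field_simp, fun h => ha ((div_eq_one_iff_eq ha0).mp h)⟩
  let S : Subgroup (GL ι F) :=
    { carrier := {g | ∃ m ∈ transvGroup σ f, ∃ l : F, l * σ l = 1 ∧ g = m * qR f x₀ l}
      one_mem' := ⟨1, one_mem _, 1, by simp, by rw [qR_one hf hx₀, one_mul]⟩
      mul_mem' := by
        rintro _ _ ⟨m, hm, l, hl, rfl⟩ ⟨m', hm', l', hl', rfl⟩
        refine ⟨m * (qR f x₀ l * m' * (qR f x₀ l)⁻¹), mul_mem hm (transvGroup_conj hf (iso_qR hf hx₀ hl) hm'),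
          l * l', by rw [map_mul]; linear_combination (l' * σ l') * hl + hl', ?_⟩
        rw [← qR_mul hf hx₀ hl hl']
        group
      inv_mem' := by
        rintro _ ⟨m, hm, l, hl, rfl⟩
        have hl' : l⁻¹ * σ l⁻¹ = 1 := by rw [map_inv₀, ← mul_inv, hl, inv_one]
        have hi : (qR f x₀ l)⁻¹ = qR f x₀ l⁻¹ := inv_eq_of_mul_eq_one_right (by
          rw [qR_mul hf hx₀ hl hl', mul_inv_cancel₀ (left_ne_zero_of_mul_eq_one hl), qR_one hf hx₀])
        refine ⟨(qR f x₀ l)⁻¹ * m⁻¹ * qR f x₀ l, ?_, l⁻¹, hl', ?_⟩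
        · simpa using transvGroup_conj hf (iso_qR hf hx₀ hl).inv (inv_mem hm)
        · rw [← hi]; group }
  have hT : transvGroup σ f ≤ S := fun m hm => ⟨m, hm, 1, by simp, by rw [qR_one hf hx₀, mul_one]⟩
  have hR : ∀ x l, f x x = 1 → l * σ l = 1 → qR f x l ∈ S := by
    intro x l hx hl
    obtain ⟨m, hm, hmx⟩ := move_unit_short hf hdim hsk hx₀ hx
    refine ⟨m * (qR f x₀ l * m⁻¹ * (qR f x₀ l)⁻¹),
      mul_mem hm (transvGroup_conj hf (iso_qR hf hx₀ hl) (inv_mem hm)), l, hl, ?_⟩
    rw [← hmx, ← conj_qR hf (transvGroup_le hf hm).1 hx₀ hl]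
    group
  have main : ∀ (s : Finset ι) (g : GL ι F), Iso f g →
      (∀ i ∉ s, (g : Matrix ι ι F) *ᵥ Pi.single i 1 = Pi.single i 1) → g ∈ S := by
    intro s
    induction s using Finset.induction_on with
    | empty =>
      intro g _ h
      have : g = 1 := Units.ext (Matrix.ext_of_mulVec_single fun i => by
        rw [h i (Finset.notMem_empty i), Units.val_one, one_mulVec])
      rw [this]
      exact one_mem S
    | @insert i s hi ih =>
      intro g hg h
      obtain ⟨r, hr, hri, he, hfix⟩ := exists_move_basis hf (v := (g : Matrix ι ι F) *ᵥ Pi.single i 1)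
        (b := Pi.single i 1) (by rw [hg, hbasis, if_pos rfl]) (by rw [hbasis, if_pos rfl]) hl₀ hl₀1 hT hR
      have h1 : r * g ∈ S := ih (r * g) (hri.mul hg) fun j hj => by
        rw [mul_mulVec]
        by_cases hji : j = i
        · rw [hji, he]
        · have hgj := h j (fun hm => (Finset.mem_insert.mp hm).elim hji hj)
          rw [hgj]
          refine hfix _ ?_ (by rw [hbasis, if_neg hji])
          nth_rewrite 1 [← hgj]
          rw [hg, hbasis, if_neg hji]
      have := mul_mem (inv_mem hr) h1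
      rwa [inv_mul_cancel_left] at this
  obtain ⟨m, hm, l, hl, rfl⟩ := main Finset.univ g hg fun i hi => absurd (Finset.mem_univ i) hi
  rw [Units.val_mul, det_mul, (transvGroup_le hf hm).2, det_qR hf hx₀ hl, one_mul] at hdet
  rw [hdet, qR_one hf hx₀, mul_one]
  exact hm

end CfsgLib.Classical.Unitary
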