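/-
The group generated by unitary transvections on isotropic points: primitivity, perfection, simplicity modulo
its centre, in dimension at least three.
-/
import Cfsg.Agent.Lib.Classical.UnitaryShort

set_option autoImplicit false

namespace CfsgLib.Classical.Unitary

open Matrix CfsgLib.Transvec CfsgLib.Transvec.Unitary
open scoped MatrixGroups LinearAlgebra.Projectivization commutatorElement Pointwise

variable {ι : Type} [Fintype ι] [DecidableEq ι] {F : Type*} [Field F] {σ : F ≃+* F}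
  {f : (ι → F) → (ι → F) → F}

/-- The isotropic points of a form. -/
def IsoPts (f : (ι → F) → (ι → F) → F) : Type _ := {p : ℙ F (ι → F) // f p.rep p.rep = 0}

variable (hf : Cfsg.Geo.IsUnitaryForm σ f)

include hf

theorem rep_iso_iff {v : ι → F} (hv : v ≠ 0) :
    f (Projectivization.mk F v hv).rep (Projectivization.mk F v hv).rep = 0 ↔ f v v = 0 := by
  obtain ⟨a, ha⟩ := Projectivization.exists_smul_eq_mk_rep F v hv
  rw [← ha, Units.smul_def, hf.smul_left, smul_right' hf]
  simp

/-- The point of an isotropic vector. -/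
noncomputable def isoPt {v : ι → F} (hv : v ≠ 0) (h : f v v = 0) : IsoPts f :=
  ⟨Projectivization.mk F v hv, (rep_iso_iff hf hv).2 h⟩

theorem isoPt_eq_iff {v w : ι → F} (hv : v ≠ 0) (hw : w ≠ 0) (h : f v v = 0) (h' : f w w = 0) :
    isoPt hf hv h = isoPt hf hw h' ↔ ∃ a : F, a • w = v :=
  Subtype.ext_iff.trans (Projectivization.mk_eq_mk_iff' F v w hv hw)

theorem exists_isoPt (p : IsoPts f) : ∃ (v : ι → F) (hv : v ≠ 0) (h : f v v = 0), p = isoPt hf hv h :=
  ⟨p.1.rep, p.1.rep_nonzero, p.2, Subtype.ext (Projectivization.mk_rep p.1).symm⟩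

theorem transvGroup_iso (g : transvGroup σ f) : Iso f g.1 := (transvGroup_le hf g.2).1

/-- The action on isotropic points. -/
@[reducible] noncomputable def isoPtsAction : MulAction (transvGroup σ f) (IsoPts f) where
  smul g p := isoPt hf (mulVec_ne_zero g.1 p.1.rep_nonzero) ((transvGroup_iso hf g _ _).trans p.2)
  one_smul p := Subtype.ext (by
    change Projectivization.mk F _ _ = _
    simp only [OneMemClass.coe_one, Units.val_one, one_mulVec, Projectivization.mk_rep])
  mul_smul g h p := by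
    change isoPt hf _ _ = isoPt hf _ _
    rw [isoPt_eq_iff]
    obtain ⟨a, ha⟩ := Projectivization.exists_smul_eq_mk_rep F
      ((h.1 : Matrix ι ι F) *ᵥ p.1.rep) (mulVec_ne_zero h.1 p.1.rep_nonzero)
    refine ⟨(a⁻¹ : Fˣ), ?_⟩
    change ((a⁻¹ : Fˣ) : F) • (g.1 : Matrix ι ι F) *ᵥ
      (Projectivization.mk F ((h.1 : Matrix ι ι F) *ᵥ p.1.rep) _).rep = ((g * h : transvGroup σ f).1 : Matrix ι ι F) *ᵥ p.1.rep
    rw [Subgroup.coe_mul, mul_mulVec, ← ha, Units.smul_def, mulVec_smul, smul_smul, ← Units.val_mul, inv_mul_cancel,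
      Units.val_one, one_smul]

local notation "G" => transvGroup σ f

theorem smul_isoPt_eq (g : transvGroup σ f) {v w : ι → F} (hv : v ≠ 0) (h : f v v = 0) (hw : w ≠ 0)
    (h' : f w w = 0) (t : F) (hgv : (g.1 : Matrix ι ι F) *ᵥ v = t • w) :
    letI := isoPtsAction hf
    g • isoPt hf hv h = isoPt hf hw h' := by
  letI := isoPtsAction hf
  change isoPt hf _ _ = isoPt hf _ _
  rw [isoPt_eq_iff]
  obtain ⟨a, ha⟩ := Projectivization.exists_smul_eq_mk_rep F v hv
  exact ⟨(a : F) * t, by rw [mul_smul, ← hgv, ← mulVec_smul, ← Units.smul_def, ha]; rfl⟩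

/-- The root groups. -/
noncomputable def uRoot (p : IsoPts f) : Subgroup (transvGroup σ f) where
  carrier := {g | ∃ c, c + σ c = 0 ∧ (g : GL ι F) = uT f p.1.rep c}
  one_mem' := ⟨0, by simp, by simp [uT]⟩
  mul_mem' := by
    rintro g g' ⟨c, hc, hg⟩ ⟨c', hc', hg'⟩
    refine ⟨c + c', by rw [map_add]; linear_combination hc + hc', ?_⟩
    rw [Subgroup.coe_mul, hg, hg', uT, uT, transv_mul (uT_dot hf p.2 c) (uT_dot hf p.2 c'), ← add_smul]
    rfl
  inv_mem' := by
    rintro g ⟨c, hc, hg⟩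
    refine ⟨-c, by rw [map_neg]; linear_combination -hc, ?_⟩
    rw [Subgroup.coe_inv, hg, uT, transv_inv (uT_dot hf p.2 c), ← neg_smul]
    rfl

theorem mem_uRoot {v : ι → F} (hv : v ≠ 0) (h : f v v = 0) {g : transvGroup σ f} :
    g ∈ uRoot hf (isoPt hf hv h) ↔ ∃ c, c + σ c = 0 ∧ (g : GL ι F) = uT f v c := by
  obtain ⟨a, ha⟩ := Projectivization.exists_smul_eq_mk_rep F v hv
  have key : ∀ c, uT f (Projectivization.mk F v hv).rep c = uT f v ((a : F) * σ (a : F) * c) := fun c => by
    rw [← ha, Units.smul_def]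
    refine gl_ext fun x => ?_
    rw [uT_mulVec hf (by rw [hf.smul_left, smul_right' hf, h, mul_zero, mul_zero]), uT_mulVec hf h, smul_right' hf,
      smul_smul]
    congr 2
    ring
  have hfix : σ ((a : F) * σ (a : F)) = (a : F) * σ (a : F) := by rw [map_mul, hf.involutive, mul_comm]
  have hne : (a : F) * σ (a : F) ≠ 0 := mul_ne_zero a.ne_zero ((map_ne_zero_iff _ σ.injective).mpr a.ne_zero)
  change (∃ c, c + σ c = 0 ∧ (g : GL ι F) = uT f (Projectivization.mk F v hv).rep c) ↔ _
  constructor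
  · rintro ⟨c, hc, hg⟩
    exact ⟨_, by rw [map_mul, hfix, ← mul_add, hc, mul_zero], hg.trans (key c)⟩
  · rintro ⟨c, hc, hg⟩
    refine ⟨((a : F) * σ (a : F))⁻¹ * c, by rw [map_mul, map_inv₀, hfix, ← mul_add, hc, mul_zero], ?_⟩
    rw [key, ← mul_assoc, mul_inv_cancel₀ hne, one_mul, hg]

/-- The Iwasawa structure on isotropic points. -/
noncomputable def uIwasawa :
    letI := isoPtsAction hf
    MulAction.IwasawaStructure (transvGroup σ f) (IsoPts f) :=
  letI := isoPtsAction hf
  { T := uRoot hf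
    is_comm := fun p => ⟨⟨by
      rintro ⟨g, c, hc, hg⟩ ⟨g', c', hc', hg'⟩
      refine Subtype.ext (Subtype.ext ?_)
      simp only [Subgroup.coe_mul, hg, hg', uT, transv_mul (uT_dot hf p.2 c) (uT_dot hf p.2 c'),
        transv_mul (uT_dot hf p.2 c') (uT_dot hf p.2 c), add_comm]⟩⟩
    is_conj := fun g p => by
      obtain ⟨v, hv, h, rfl⟩ := exists_isoPt hf p
      have hgv : f ((g.1 : Matrix ι ι F) *ᵥ v) ((g.1 : Matrix ι ι F) *ᵥ v) = 0 := (transvGroup_iso hf g v v).trans h
      rw [smul_isoPt_eq hf g hv h (mulVec_ne_zero g.1 hv) hgv 1 (by rw [one_smul])]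
      ext A
      rw [mem_uRoot, Subgroup.mem_pointwise_smul_iff_inv_smul_mem, mem_uRoot]
      simp only [MulAut.smul_def, MulAut.inv_apply, MulAut.conj_symm_apply, Subgroup.coe_mul, Subgroup.coe_inv]
      constructor
      · rintro ⟨c, hc, hA⟩
        refine ⟨c, hc, ?_⟩
        rw [hA, ← conj_uT hf (transvGroup_iso hf g) h c]
        group
      · rintro ⟨c, hc, hA⟩
        refine ⟨c, hc, ?_⟩
        rw [← conj_uT hf (transvGroup_iso hf g) h c, ← hA]
        group
    is_generator := by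
      rw [eq_top_iff]
      have key : ∀ x ∈ transvGroup σ f, ∀ hx : x ∈ transvGroup σ f,
          (⟨x, hx⟩ : transvGroup σ f) ∈ iSup (uRoot hf) := by
        intro x hx
        induction hx using Subgroup.closure_induction with
        | mem x hx =>
          intro hxm
          obtain ⟨v, c, hv, hc, rfl⟩ := hx
          rcases eq_or_ne v 0 with rfl | hv0
          · have he : uT f (0 : ι → F) c = 1 := gl_ext fun y => by
              rw [uT_mulVec hf hv]
              simp
            simp only [he]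
            exact one_mem _
          · exact Subgroup.mem_iSup_of_mem (isoPt hf hv0 hv) ((mem_uRoot hf hv0 hv).2 ⟨c, hc, rfl⟩)
        | one => intro _; exact one_mem _
        | mul x y hx hy ihx ihy => intro _; exact mul_mem (ihx hx) (ihy hy)
        | inv x hx ihx => intro _; exact inv_mem (ihx hx)
      exact fun g _ => key g g.2 g.2 }

theorem isoPts_block_smul {B : Set (IsoPts f)}
    (hB : letI := isoPtsAction hf; MulAction.IsBlock (transvGroup σ f) B) {g : transvGroup σ f}
    {b x : IsoPts f} (hb : b ∈ B) (hgb : (isoPtsAction hf).smul g b ∈ B) (hx : x ∈ B) :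
    (isoPtsAction hf).smul g x ∈ B := by
  letI := isoPtsAction hf
  change g • b ∈ B at hgb
  change g • x ∈ B
  by_contra hc
  have hne : g • B ≠ (1 : transvGroup σ f) • B := by
    rw [one_smul]
    exact fun h => hc (h ▸ Set.smul_mem_smul_set hx)
  have h := hB hne
  rw [one_smul, Set.disjoint_left] at h
  exact h (Set.smul_mem_smul_set hb) hgb

variable [Finite F] (hdim : 3 ≤ Fintype.card ι)
  (hsk : 4 ≤ Fintype.card ι ∨ ∃ c : F, c ≠ 0 ∧ c + σ c = 0 ∧ 1 + c ≠ 0)
  (hbasis : ∀ i j : ι, f (Pi.single i 1) (Pi.single j 1) = if i = j then 1 else 0)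

include hdim hsk hbasis

theorem eu_mem {v w : ι → F} (hv : f v v = 0) (hwv : f w v = 0) {b : F} (hb : b + σ b + f w w = 0) :
    eu f v w b ∈ transvGroup σ f :=
  mem_transvGroup_short hf hdim hsk hbasis (iso_eu hf hv hwv hb) (eu_det v w b)

/-- The stabiliser of an isotropic vector is transitive on its partners. -/
theorem exists_move_partner {v z z' : ι → F} (hv : f v v = 0) (hz : f z z = 0) (hz' : f z' z' = 0)
    (h : f z v = f z' v) (hb : f z v ≠ 0) :
    ∃ g : transvGroup σ f, (g.1 : Matrix ι ι F) *ᵥ v = v ∧ (g.1 : Matrix ι ι F) *ᵥ z = z' := by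
  obtain ⟨t, ht⟩ : ∃ t, t = f z v := ⟨_, rfl⟩
  have hz'v : f z' v = t := by rw [ht, h]
  obtain ⟨w, hw⟩ : ∃ w, w = t⁻¹ • (z' - z) := ⟨_, rfl⟩
  have hwv : f w v = 0 := by rw [hw, hf.smul_left, sub_left' hf, h, sub_self, mul_zero]
  have ht0 : t ≠ 0 := ht ▸ hb
  obtain ⟨b, hb'⟩ : ∃ b, b = f z w / t := ⟨_, rfl⟩
  have hzw : f z w = σ t⁻¹ * f z z' := by rw [hw, smul_right' hf, sub_right' hf, hz, sub_zero]
  have hww : f w w = -(t⁻¹ * σ t⁻¹ * (f z z' + f z' z)) := by
    rw [hw, hf.smul_left, smul_right' hf, sub_left' hf, sub_right' hf, sub_right' hf, hz, hz']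
    ring
  have hskew : b + σ b + f w w = 0 := by
    rw [hww, hb', hzw, map_div₀, map_mul, hf.involutive, ← hf.herm, map_inv₀]
    field_simp
    ring
  refine ⟨⟨eu f v w b, eu_mem hf hdim hsk hbasis hv hwv hskew⟩, ?_, ?_⟩
  · change (eu f v w b : Matrix ι ι F) *ᵥ v = v
    rw [eu_mulVec hf hv hwv, hv, (eq_zero_comm hf).mp hwv]
    simp
  · change (eu f v w b : Matrix ι ι F) *ᵥ z = z'
    rw [eu_mulVec hf hv hwv, ← ht, hb', div_mul_cancel₀ _ ht0, sub_self, zero_smul, add_zero, hw,
      smul_inv_smul₀ ht0, add_sub_cancel]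

omit hsk hbasis in
/-- An isotropic vector with equal non-zero products with two independent isotropic vectors. -/
theorem exists_iso_common {u u' : ι → F} (hu : f u u = 0) (hu' : f u' u' = 0)
    (hli : u' ∉ Submodule.span F {u}) (hli' : u ∉ Submodule.span F {u'}) :
    ∃ v, f v v = 0 ∧ f u v ≠ 0 ∧ f u v = f u' v := by
  by_cases hb : f u u' = 0
  · obtain ⟨y1, h10, h11⟩ := exists_perp_pair hf hli
    obtain ⟨y2, h20, h22⟩ := exists_perp_pair hf hli'
    obtain ⟨v0, hv0⟩ : ∃ v0, v0 = (f y2 u)⁻¹ • y2 + (f y1 u')⁻¹ • y1 := ⟨_, rfl⟩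
    have e1 : f v0 u = 1 := by
      rw [hv0, hf.add_left, hf.smul_left, hf.smul_left, h10, inv_mul_cancel₀ h22, mul_zero, add_zero]
    have e2 : f v0 u' = 1 := by
      rw [hv0, hf.add_left, hf.smul_left, hf.smul_left, h20, inv_mul_cancel₀ h11, mul_zero, zero_add]
    obtain ⟨t, ht⟩ := exists_trace_eq hf.ne_refl hf.involutive (b := -f v0 v0) (by rw [map_neg, self_fixed hf])
    have e1' : f u v0 = 1 := by rw [hf.herm, e1, map_one]
    have e2' : f u' v0 = 1 := by rw [hf.herm, e2, map_one]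
    refine ⟨v0 + t • u, ?_, ?_, ?_⟩
    · rw [hf.add_left, add_right' hf, add_right' hf, hf.smul_left, hf.smul_left, smul_right' hf, smul_right' hf, hu,
        e1, e1']
      linear_combination ht
    · rw [add_right' hf, smul_right' hf, hu, mul_zero, add_zero, e1']
      exact one_ne_zero
    · rw [add_right' hf, smul_right' hf, hu, add_right' hf, smul_right' hf, e1', e2', (eq_zero_comm hf).mp hb]
  · obtain ⟨b, hbdef⟩ : ∃ b, b = f u u' := ⟨_, rfl⟩
    have hb0 : b ≠ 0 := hbdef ▸ hb
    have hσb : σ b ≠ 0 := (map_ne_zero_iff _ σ.injective).mpr hb0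
    have hu'u : f u' u = σ b := by rw [hbdef, ← hf.herm]
    have hz : f ((σ b)⁻¹ • u') ((σ b)⁻¹ • u') = 0 := by rw [hf.smul_left, smul_right' hf, hu', mul_zero, mul_zero]
    obtain ⟨k, hku, hku', hkk⟩ := exists_aniso_pairPerp hf hdim hu hz (by
      rw [hf.smul_left, hu'u, inv_mul_cancel₀ hσb])
    rw [smul_right' hf, mul_eq_zero] at hku'
    have hku'0 : f k u' = 0 := hku'.resolve_left ((map_ne_zero_iff _ σ.injective).mpr (inv_ne_zero hσb))
    obtain ⟨a, ha⟩ := exists_norm_eq hf.ne_refl hf.involutive (b := -(b + σ b) / f k k)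
      (by rw [map_div₀, map_neg, map_add, hf.involutive, self_fixed hf, add_comm])
    refine ⟨(σ b / b) • u + u' + a • k, ?_, ?_, ?_⟩
    · simp only [hf.add_left, add_right' hf, hf.smul_left, smul_right' hf, hu, hu', hku, hku'0,
        (eq_zero_comm hf).mp hku, (eq_zero_comm hf).mp hku'0, ← hbdef, hu'u, map_div₀, hf.involutive, mul_zero,
        add_zero, zero_add]
      have h2 : a * σ a * f k k = -(b + σ b) := by rw [ha, div_mul_cancel₀ _ hkk]
      field_simp
      linear_combination h2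
    · simp only [add_right' hf, smul_right' hf, hu, (eq_zero_comm hf).mp hku, ← hbdef, mul_zero, add_zero, zero_add]
      exact hb0
    · simp only [add_right' hf, smul_right' hf, hu, hu', (eq_zero_comm hf).mp hku, (eq_zero_comm hf).mp hku'0,
        ← hbdef, hu'u, map_div₀, hf.involutive, mul_zero, add_zero, zero_add, div_mul_cancel₀ _ hσb]

theorem exists_move_iso {u u' : ι → F} (hu : f u u = 0) (hu' : f u' u' = 0) (hu0 : u ≠ 0) (hu0' : u' ≠ 0) :
    ∃ g : transvGroup σ f, (g.1 : Matrix ι ι F) *ᵥ u = u' := by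
  have key : ∀ a b : ι → F, f a a = 0 → f b b = 0 → a ≠ 0 → b ≠ 0 → b ∉ Submodule.span F {a} →
      ∃ g : transvGroup σ f, (g.1 : Matrix ι ι F) *ᵥ a = b := by
    intro a b ha hb ha0 hb0 hli
    obtain ⟨v, hv, hne, heq⟩ := exists_iso_common hf hdim ha hb hli fun hm => by
      obtain ⟨s, hs⟩ := Submodule.mem_span_singleton.mp hm
      have hs0 : s ≠ 0 := fun h => ha0 (by rw [← hs, h, zero_smul])
      exact hli (Submodule.mem_span_singleton.mpr ⟨s⁻¹, by rw [← hs, inv_smul_smul₀ hs0]⟩)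
    obtain ⟨g, -, hg⟩ := exists_move_partner hf hdim hsk hbasis hv ha hb heq hne
    exact ⟨g, hg⟩
  by_cases hli : u' ∈ Submodule.span F {u}
  · obtain ⟨s, hs⟩ := Submodule.mem_span_singleton.mp hli
    obtain ⟨z, hz, hzu⟩ := exists_iso_partner hf hu hu0
    have hz0 : z ≠ 0 := fun h => by rw [h, zero_left' hf] at hzu; exact zero_ne_one hzu
    have h1 : ∀ {a : ι → F}, f a u = 0 → z ∉ Submodule.span F {a} := fun {a} ha hm => by
      obtain ⟨t, ht⟩ := Submodule.mem_span_singleton.mp hm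
      rw [← ht, hf.smul_left, ha, mul_zero] at hzu
      exact zero_ne_one hzu
    have hu'u : f u' u = 0 := by rw [← hs, hf.smul_left, hu, mul_zero]
    obtain ⟨g, hgu⟩ := key u z hu hz hu0 hz0 (h1 hu)
    obtain ⟨k, hkz⟩ := key z u' hz hu' hz0 hu0' fun hm => by
      obtain ⟨t, ht⟩ := Submodule.mem_span_singleton.mp hm
      have ht0 : t ≠ 0 := fun h => hu0' (by rw [← ht, h, zero_smul])
      exact h1 hu'u (Submodule.mem_span_singleton.mpr ⟨t⁻¹, by rw [← ht, inv_smul_smul₀ ht0]⟩)
    exact ⟨k * g, by rw [Subgroup.coe_mul, mul_mulVec, hgu, hkz]⟩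
  · exact key u u' hu hu' hu0 hu0' hli

theorem transvGroup_isPreprimitive :
    letI := isoPtsAction hf
    MulAction.IsPreprimitive (transvGroup σ f) (IsoPts f) := by
  letI := isoPtsAction hf
  haveI : MulAction.IsPretransitive (transvGroup σ f) (IsoPts f) := ⟨fun p p' => by
    obtain ⟨v, hv, h, rfl⟩ := exists_isoPt hf p
    obtain ⟨w, hw, h', rfl⟩ := exists_isoPt hf p'
    obtain ⟨g, hg⟩ := exists_move_iso hf hdim hsk hbasis h h' hv hw
    exact ⟨g, smul_isoPt_eq hf g hv h hw h' 1 (by rw [hg, one_smul])⟩⟩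
  refine ⟨fun {B} hB => ?_⟩
  by_contra hc
  rw [MulAction.IsTrivialBlock, not_or, Set.not_subsingleton_iff, Set.Nontrivial] at hc
  obtain ⟨⟨p, hp, q, hq, hpq⟩, hne⟩ := hc
  refine hne ?_
  have step : ∀ {u v : ι → F} (hu0 : u ≠ 0) (hu : f u u = 0) (hv0 : v ≠ 0) (hv : f v v = 0),
      isoPt hf hu0 hu ∈ B → isoPt hf hv0 hv ∈ B → f v u ≠ 0 →
      ∀ {z : ι → F} (hz0 : z ≠ 0) (hz : f z z = 0), f z u ≠ 0 → isoPt hf hz0 hz ∈ B := by
    intro u v hu0 hu hv0 hv huB hvB huv z hz0 hz huz
    have hz' : f ((f v u / f z u) • z) ((f v u / f z u) • z) = 0 := by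
      rw [hf.smul_left, smul_right' hf, hz, mul_zero, mul_zero]
    obtain ⟨g, hgu, hgv⟩ := exists_move_partner hf hdim hsk hbasis hu hv hz'
      (by rw [hf.smul_left, div_mul_cancel₀ _ huz]) huv
    have h1 : (isoPtsAction hf).smul g (isoPt hf hu0 hu) ∈ B := by
      change g • isoPt hf hu0 hu ∈ B
      rw [smul_isoPt_eq hf g hu0 hu hu0 hu 1 (by rw [hgu, one_smul])]
      exact huB
    have h3 := isoPts_block_smul hf hB huB h1 hvB
    change g • isoPt hf hv0 hv ∈ B at h3
    rwa [smul_isoPt_eq hf g hv0 hv hz0 hz _ hgv] at h3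
  have key : ∀ {u v : ι → F} (hu0 : u ≠ 0) (hu : f u u = 0) (hv0 : v ≠ 0) (hv : f v v = 0),
      isoPt hf hu0 hu ∈ B → isoPt hf hv0 hv ∈ B → f v u ≠ 0 → B = Set.univ := by
    intro u v hu0 hu hv0 hv huB hvB huv
    refine Set.eq_univ_of_forall fun r => ?_
    obtain ⟨x, hx0, hx, rfl⟩ := exists_isoPt hf r
    by_cases hux : f x u = 0
    swap
    · exact step hu0 hu hv0 hv huB hvB huv hx0 hx hux
    by_cases hdep : x ∈ Submodule.span F {u}
    · obtain ⟨s, hs⟩ := Submodule.mem_span_singleton.mp hdep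
      rwa [show isoPt hf hx0 hx = isoPt hf hu0 hu from (isoPt_eq_iff hf hx0 hu0 hx hu).2 ⟨s, hs⟩]
    obtain ⟨z, hz, hne', heq⟩ := exists_iso_common hf hdim hu hx hdep fun hm => by
      obtain ⟨s, hs⟩ := Submodule.mem_span_singleton.mp hm
      have hs0 : s ≠ 0 := fun h => hu0 (by rw [← hs, h, zero_smul])
      exact hdep (Submodule.mem_span_singleton.mpr ⟨s⁻¹, by rw [← hs, inv_smul_smul₀ hs0]⟩)
    have hz0 : z ≠ 0 := fun h => hne' (by rw [h, zero_right' hf])
    have hzu : f z u ≠ 0 := fun h => hne' ((eq_zero_comm hf).mp h)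
    have hxz : f x z ≠ 0 := fun h => hne' (heq.trans h)
    exact step hz0 hz hu0 hu (step hu0 hu hv0 hv huB hvB huv hz0 hz hzu) huB hne' hx0 hx hxz
  obtain ⟨u, hu0, hu, rfl⟩ := exists_isoPt hf p
  obtain ⟨v, hv0, hv, rfl⟩ := exists_isoPt hf q
  by_cases huv : f v u = 0
  swap
  · exact key hu0 hu hv0 hv hp hq huv
  have hdep : v ∉ Submodule.span F {u} := fun hm => by
    obtain ⟨s, hs⟩ := Submodule.mem_span_singleton.mp hm
    exact hpq ((isoPt_eq_iff hf hv0 hu0 hv hu).2 ⟨s, hs⟩).symm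
  obtain ⟨y, hyu, hyv⟩ := exists_perp_pair hf hdep
  obtain ⟨y', hy'⟩ : ∃ y', y' = (f y v)⁻¹ • y := ⟨_, rfl⟩
  have h1 : f y' v = 1 := by rw [hy', hf.smul_left, inv_mul_cancel₀ hyv]
  have h1' : f v y' = 1 := by rw [hf.herm, h1, map_one]
  have h2 : f y' u = 0 := by rw [hy', hf.smul_left, hyu, mul_zero]
  obtain ⟨t, ht⟩ := exists_trace_eq hf.ne_refl hf.involutive (b := -f y' y') (by rw [map_neg, self_fixed hf])
  obtain ⟨u', hu'⟩ : ∃ u', u' = y' + t • v := ⟨_, rfl⟩
  have hu'u' : f u' u' = 0 := by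
    rw [hu', hf.add_left, add_right' hf, add_right' hf, hf.smul_left, hf.smul_left, smul_right' hf, smul_right' hf,
      hv, h1, h1']
    linear_combination ht
  have hu'u : f u u' = 0 := by
    rw [hu', add_right' hf, smul_right' hf, (eq_zero_comm hf).mp h2, (eq_zero_comm hf).mp huv]
    ring
  have hvu' : f v u' = 1 := by rw [hu', add_right' hf, smul_right' hf, hv, h1']; ring
  obtain ⟨c, hc0, hc⟩ := exists_skew hf.ne_refl hf.involutive
  obtain ⟨g, hg⟩ : ∃ g : transvGroup σ f, (g : GL ι F) = uT f u' c := ⟨⟨_, uT_mem hf hu'u' hc⟩, rfl⟩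
  have hgu : (g.1 : Matrix ι ι F) *ᵥ u = u := by
    rw [hg, uT_mulVec hf hu'u', hu'u, mul_zero, zero_smul, add_zero]
  have h3 := isoPts_block_smul hf hB (g := g) hp (by
    change g • isoPt hf hu0 hu ∈ B
    rw [smul_isoPt_eq hf g hu0 hu hu0 hu 1 (by rw [hgu, one_smul])]
    exact hp) hq
  have hgv : f ((g.1 : Matrix ι ι F) *ᵥ v) ((g.1 : Matrix ι ι F) *ᵥ v) = 0 := (transvGroup_iso hf g v v).trans hv
  change g • isoPt hf hv0 hv ∈ B at h3
  rw [smul_isoPt_eq hf g hv0 hv (mulVec_ne_zero g.1 hv0) hgv 1 (by rw [one_smul])] at h3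
  refine key hv0 hv _ hgv hq h3 ?_
  rw [hg, uT_mulVec hf hu'u', hf.add_left, hf.smul_left, hv, hvu', hf.herm u' v, hvu', map_one]
  simpa using hc0

/-- The group generated by transvections is perfect. -/
theorem transvGroup_perfect : commutator (transvGroup σ f) = ⊤ := by
  apply Subgroup.map_injective (transvGroup σ f).subtype_injective
  rw [commutator_def, Subgroup.map_commutator, ← MonoidHom.range_eq_map, Subgroup.range_subtype]
  refine le_antisymm (Subgroup.commutator_le.2 fun g hg h hh =>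
    mul_mem (mul_mem (mul_mem hg hh) (inv_mem hg)) (inv_mem hh)) ((Subgroup.closure_le _).2 ?_)
  rintro _ ⟨v, c, hv, hc, rfl⟩
  rcases eq_or_ne v 0 with rfl | hv0
  · have he : uT f (0 : ι → F) c = 1 := gl_ext fun y => by
      rw [uT_mulVec hf hv]
      simp
    rw [he]
    exact one_mem _
  obtain ⟨w, w', b, b', hw, hw', hb, hb', he⟩ := uT_eq_commutator hf hdim hv hv0 hc
  rw [← he]
  exact Subgroup.commutator_mem_commutator (eu_mem hf hdim hsk hbasis hv hw hb) (eu_mem hf hdim hsk hbasis hv hw' hb')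

/-- Simplicity modulo the centre. -/
theorem isSimpleGroup_transvGroup : IsSimpleGroup (transvGroup σ f ⧸ Subgroup.center (transvGroup σ f)) := by
  classical
  letI := isoPtsAction hf
  haveI := transvGroup_isPreprimitive hf hdim hsk hbasis
  have hperf := transvGroup_perfect hf hdim hsk hbasis
  obtain ⟨u, hu0, hu⟩ : ∃ u, u ≠ 0 ∧ f u u = 0 := by
    obtain ⟨i⟩ : Nonempty ι := Fintype.card_pos_iff.mp (by omega)
    obtain ⟨j, hji⟩ := Fintype.exists_ne_of_one_lt_card (show 1 < Fintype.card ι by omega) i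
    obtain ⟨a, ha⟩ := exists_norm_eq hf.ne_refl hf.involutive (b := (-1 : F)) (by rw [map_neg, map_one])
    refine ⟨Pi.single i 1 + a • Pi.single j 1, fun h => ?_, ?_⟩
    · have := congrFun h i
      simp [Pi.single_apply, hji.symm] at this
    · rw [hf.add_left, add_right' hf, add_right' hf, hf.smul_left, hf.smul_left, smul_right' hf, smul_right' hf,
        hbasis, hbasis, hbasis, hbasis, if_pos rfl, if_neg hji.symm, if_neg hji, if_pos rfl]
      linear_combination ha
  obtain ⟨z, hz, hzu⟩ := exists_iso_partner hf hu hu0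
  have hz0 : z ≠ 0 := fun h => by rw [h, zero_left' hf] at hzu; exact zero_ne_one hzu
  haveI : Nontrivial (transvGroup σ f ⧸ Subgroup.center (transvGroup σ f)) := by
    by_contra hc
    rw [not_nontrivial_iff_subsingleton] at hc
    have htop : Subgroup.center (transvGroup σ f) = ⊤ := eq_top_iff.2 fun g _ =>
      (QuotientGroup.eq_one_iff g).1 (hc.elim _ _)
    have hbot : commutator (transvGroup σ f) = ⊥ := by
      rw [commutator_def, Subgroup.commutator_eq_bot_iff_le_centralizer]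
      intro g _
      rw [Subgroup.mem_centralizer_iff]
      intro h _
      exact Subgroup.mem_center_iff.1 (htop ▸ Subgroup.mem_top g) h
    obtain ⟨g, hgu⟩ := exists_move_iso hf hdim hsk hbasis hu hz hu0 hz0
    rw [show g = 1 from Subgroup.mem_bot.1 (hbot ▸ hperf ▸ Subgroup.mem_top g), OneMemClass.coe_one, Units.val_one,
      one_mulVec] at hgu
    rw [← hgu, hu] at hzu
    exact zero_ne_one hzu
  refine IsSimpleGroup.mk fun N hN => ?_
  set π := QuotientGroup.mk' (Subgroup.center (transvGroup σ f))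
  have hπ : Function.Surjective π := QuotientGroup.mk'_surjective _
  by_cases hfix : MulAction.fixedPoints (N.comap π) (IsoPts f) = Set.univ
  · left
    rw [Subgroup.eq_bot_iff_forall]
    intro x hx
    obtain ⟨g, rfl⟩ := hπ x
    refine (QuotientGroup.eq_one_iff g).2 ?_
    have hline : ∀ {v : ι → F}, v ≠ 0 → f v v = 0 → ∃ a : F, (g.1 : Matrix ι ι F) *ᵥ v = a • v := fun {v} hv0 hv => by
      have h1 : g • isoPt hf hv0 hv = isoPt hf hv0 hv :=
        (hfix ▸ Set.mem_univ (isoPt hf hv0 hv) : isoPt hf hv0 hv ∈ MulAction.fixedPoints (N.comap π) _) ⟨g, hx⟩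
      rw [smul_isoPt_eq hf g hv0 hv (mulVec_ne_zero g.1 hv0) ((transvGroup_iso hf g v v).trans hv) 1
        (by rw [one_smul]), isoPt_eq_iff] at h1
      obtain ⟨a, ha⟩ := h1
      exact ⟨a, ha.symm⟩
    obtain ⟨α, hα⟩ := hline hu0 hu
    obtain ⟨β, hβ⟩ := hline hz0 hz
    have hαβ : β * σ α = 1 := by
      have h := transvGroup_iso hf g z u
      rwa [hα, hβ, hf.smul_left, smul_right' hf, hzu, mul_one] at h
    have hα0 : α ≠ 0 := fun h => by rw [h, map_zero, mul_zero] at hαβ; exact zero_ne_one hαβ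
    have hβ0 : β ≠ 0 := left_ne_zero_of_mul_eq_one hαβ
    have huz : f u z = 1 := by rw [hf.herm, hzu, map_one]
    have hperp : ∀ p, f p u = 0 → f p z = 0 → ∀ t, t + σ t = -f p p →
        (g.1 : Matrix ι ι F) *ᵥ p = β • p ∧ t * (β - α) = 0 := by
      intro p hpu hpz t ht
      have hs : f (z + p + t • u) (z + p + t • u) = 0 := by
        simp only [hf.add_left, add_right' hf, hf.smul_left, smul_right' hf, hu, hz, hpu, hpz,
          (eq_zero_comm hf).mp hpu, (eq_zero_comm hf).mp hpz, huz, hzu]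
        linear_combination ht
      have hsu : f (z + p + t • u) u = 1 := by rw [hf.add_left, hf.add_left, hf.smul_left, hzu, hpu, hu]; ring
      obtain ⟨γ, hγ⟩ := hline (fun h => by rw [h, zero_left' hf] at hsu; exact zero_ne_one hsu) hs
      have e1 : f ((g.1 : Matrix ι ι F) *ᵥ p) u = 0 := by
        have h := transvGroup_iso hf g p u
        rw [hα, smul_right' hf, hpu, mul_eq_zero] at h
        exact h.resolve_left ((map_ne_zero_iff _ σ.injective).mpr hα0)
      have e2 : f ((g.1 : Matrix ι ι F) *ᵥ p) z = 0 := by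
        have h := transvGroup_iso hf g p z
        rw [hβ, smul_right' hf, hpz, mul_eq_zero] at h
        exact h.resolve_left ((map_ne_zero_iff _ σ.injective).mpr hβ0)
      rw [mulVec_add, mulVec_add, mulVec_smul, hα, hβ] at hγ
      have hu1 := congrArg (fun x => f x u) hγ
      have hz1 := congrArg (fun x => f x z) hγ
      simp only [hf.add_left, hf.smul_left, hu, hz, hzu, huz, e1, e2, hpu, hpz, mul_zero, mul_one, add_zero,
        zero_add] at hu1 hz1
      subst hu1
      exact ⟨by linear_combination (norm := module) hγ + congrArg (· • u) (show β * t - t * α = 0 by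
        linear_combination -hz1), by linear_combination -hz1⟩
    obtain ⟨k, hku, hkz, hkk⟩ := exists_aniso_pairPerp hf hdim hu hz hzu
    obtain ⟨t, ht⟩ := exists_trace_eq hf.ne_refl hf.involutive (b := -f k k) (by rw [map_neg, self_fixed hf])
    have hab : β = α := sub_eq_zero.1 ((mul_eq_zero.1 (hperp k hku hkz t ht).2).resolve_left fun h => hkk (by
      rw [h, map_zero, add_zero] at ht
      linear_combination ht))
    have hscal : ∀ x, (g.1 : Matrix ι ι F) *ᵥ x = α • x := by
      intro x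
      obtain ⟨p, hp⟩ : ∃ p, p = x - f x z • u - f x u • z := ⟨_, rfl⟩
      have hpu : f p u = 0 := by rw [hp, sub_left' hf, sub_left' hf, hf.smul_left, hf.smul_left, hu, hzu]; ring
      have hpz : f p z = 0 := by rw [hp, sub_left' hf, sub_left' hf, hf.smul_left, hf.smul_left, huz, hz]; ring
      obtain ⟨t, ht⟩ := exists_trace_eq hf.ne_refl hf.involutive (b := -f p p) (by rw [map_neg, self_fixed hf])
      rw [show x = p + f x z • u + f x u • z by rw [hp]; abel, mulVec_add, mulVec_add, mulVec_smul, mulVec_smul,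
        (hperp p hpu hpz t ht).1, hα, hβ, hab]
      module
    exact Subgroup.mem_center_iff.2 fun k => Subtype.ext (gl_ext fun y => by
      rw [Subgroup.coe_mul, Subgroup.coe_mul, mul_mulVec, mul_mulVec, hscal, hscal, mulVec_smul])
  · right
    have := (uIwasawa hf).commutator_le (N.comap π) hfix
    rw [hperf, top_le_iff] at this
    rw [← Subgroup.map_comap_eq_self_of_surjective hπ N, this, Subgroup.map_top_of_surjective π hπ]

end CfsgLib.Classical.Unitary
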