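/-
`SU_n(q)` as the group generated by transvections; simplicity of `PSU_n(q)`.
-/
import Cfsg.Agent.Lib.Classical.UnitarySimple
import Cfsg.Agent.Lib.Classical.HermOrder
import Cfsg.Agent.Lib.Transvec.HermForm

set_option autoImplicit false

namespace CfsgLib.Classical.Unitary

open Matrix Cfsg CfsgLib.Transvec CfsgLib.Transvec.Unitary
open scoped MatrixGroups commutatorElement

variable {F : Type*} [Field F] [Fintype F] {n q : ℕ}

/-- The skew scalar condition holds unless `(n, q) = (3, 2)`. -/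
theorem exists_skew_ne_neg_one (hF : Fintype.card F = q ^ 2) (hq : 3 ≤ q) {σ : F ≃+* F} (hσ : ∀ x, σ x = x ^ q)
    (hinv : ∀ x, σ (σ x) = x) (hne : σ ≠ RingEquiv.refl F) : ∃ c : F, c ≠ 0 ∧ c + σ c = 0 ∧ 1 + c ≠ 0 := by
  classical
  obtain ⟨c, hc0, hc⟩ := exists_skew hne hinv
  by_cases h1 : 1 + c ≠ 0
  · exact ⟨c, hc0, hc, h1⟩
  push Not at h1
  obtain ⟨k, hk, hk0, hk1⟩ : ∃ k : F, σ k = k ∧ k ≠ 0 ∧ k ≠ 1 := by
    by_contra hcon
    push Not at hcon
    have hall : ∀ x : Fˣ, x ^ (q + 1) = 1 := fun x => Units.ext (by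
      rw [Units.val_pow_eq_pow_val, Units.val_one, pow_succ, ← hσ]
      exact hcon _ (by rw [map_mul, hinv, mul_comm]) (mul_ne_zero ((map_ne_zero_iff _ σ.injective).mpr x.ne_zero)
        x.ne_zero))
    have hdvd := (FiniteField.forall_pow_eq_one_iff F (q + 1)).mp hall
    have hle := Nat.le_of_dvd (by omega) hdvd
    rw [hF] at hle
    have : q * 3 ≤ q ^ 2 := by rw [sq]; exact Nat.mul_le_mul_left q hq
    omega
  refine ⟨k * c, mul_ne_zero hk0 hc0, by rw [map_mul, hk, ← mul_add, hc, mul_zero], fun h => hk1 ?_⟩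
  have : c = -1 := by linear_combination h1
  rw [this] at h
  linear_combination -h

/-- `SU_n` inside `GL_n`. -/
def suToGL : SU n F q →* GL (Fin n) F := SpecialLinearGroup.toGL.comp (SU n F q).subtype

theorem suToGL_val (A : SU n F q) :
    ((suToGL A : GL (Fin n) F) : Matrix (Fin n) (Fin n) F) = ((A : SpecialLinearGroup (Fin n) F) : Matrix _ _ F) := rfl

theorem suToGL_injective : Function.Injective (suToGL (n := n) (F := F) (q := q)) :=
  fun A B h => Subtype.ext (Subtype.ext (congrArg Units.val h))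

variable {σ : F ≃+* F}

theorem uvec_hermForm (hσ : ∀ x, σ x = x ^ q) (v : Fin n → F) :
    uvec (hermForm n F q) v = fun j => (v j) ^ q := funext fun j => by
  rw [uvec, hermForm_single hσ, hσ]

theorem coe_uT_hermForm (hσ : ∀ x, σ x = x ^ q) (hinv : ∀ x, σ (σ x) = x) (hne : σ ≠ RingEquiv.refl F)
    {v : Fin n → F} (hv : hermForm n F q v v = 0) (c : F) :
    (uT (hermForm n F q) v c : Matrix (Fin n) (Fin n) F) = unitaryTransvection n q v c := by
  rw [uT, transv_val (uT_dot (isUnitaryForm_hermForm hσ hinv hne) hv c), uvec_hermForm hσ, unitaryTransvection]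
  ext i j
  simp [vecMulVec_apply, mul_assoc]

theorem range_suToGL (hF : Fintype.card F = q ^ 2) (hσ : ∀ x, σ x = x ^ q) (hinv : ∀ x, σ (σ x) = x)
    (hne : σ ≠ RingEquiv.refl F) (hn : 3 ≤ n) (h32 : ¬(n = 3 ∧ q = 2)) :
    (suToGL (n := n) (F := F) (q := q)).range = transvGroup σ (hermForm n F q) := by
  have hf := isUnitaryForm_hermForm (n := n) hσ hinv hne
  refine le_antisymm ?_ ?_
  · rintro _ ⟨A, rfl⟩
    refine mem_transvGroup_short hf (by rwa [Fintype.card_fin]) ?_ (hermForm_basis hσ) (fun u v => A.2 u v) A.1.2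
    rw [Fintype.card_fin]
    by_cases h4 : 4 ≤ n
    · exact Or.inl h4
    · have := two_le_q hF
      exact Or.inr (exists_skew_ne_neg_one hF (by omega) hσ hinv hne)
  · intro g hg
    obtain ⟨hiso, hdet⟩ := transvGroup_le hf hg
    exact ⟨⟨⟨(g : Matrix (Fin n) (Fin n) F), hdet⟩, fun u v => hiso u v⟩, Units.ext rfl⟩

/-- `SU_n(q)` as the transvection group. -/
noncomputable def suEquiv (hF : Fintype.card F = q ^ 2) (hσ : ∀ x, σ x = x ^ q) (hinv : ∀ x, σ (σ x) = x)
    (hne : σ ≠ RingEquiv.refl F) (hn : 3 ≤ n) (h32 : ¬(n = 3 ∧ q = 2)) :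
    SU n F q ≃* transvGroup σ (hermForm n F q) :=
  (MonoidHom.ofInjective suToGL_injective).trans (MulEquiv.subgroupCongr (range_suToGL hF hσ hinv hne hn h32))

theorem isSimpleGroup_PSU (hF : Fintype.card F = q ^ 2) (hn : 3 ≤ n) (h32 : ¬(n = 3 ∧ q = 2)) :
    IsSimpleGroup (PSU n F q) := by
  obtain ⟨σ, hσ, hinv, hne⟩ := exists_frob hF
  have hf := isUnitaryForm_hermForm (n := n) hσ hinv hne
  have hsk : 4 ≤ Fintype.card (Fin n) ∨ ∃ c : F, c ≠ 0 ∧ c + σ c = 0 ∧ 1 + c ≠ 0 := by
    rw [Fintype.card_fin]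
    by_cases h4 : 4 ≤ n
    · exact Or.inl h4
    · have := two_le_q hF
      exact Or.inr (exists_skew_ne_neg_one hF (by omega) hσ hinv hne)
  haveI := isSimpleGroup_transvGroup hf (by rwa [Fintype.card_fin]) hsk (hermForm_basis hσ)
  let e := suEquiv hF hσ hinv hne hn h32
  have hmap : (Subgroup.center (SU n F q)).map e.toMonoidHom =
      Subgroup.center (transvGroup σ (hermForm n F q)) := by
    ext x
    constructor
    · rintro ⟨a, ha, rfl⟩
      exact Subgroup.mem_center_iff.2 fun y => e.symm.injective (by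
        simpa using Subgroup.mem_center_iff.1 ha (e.symm y))
    · intro hx
      exact ⟨e.symm x, Subgroup.mem_center_iff.2 fun y => e.injective (by
        simpa using Subgroup.mem_center_iff.1 hx (e y)), e.apply_symm_apply x⟩
  let φ : PSU n F q ≃* (transvGroup σ (hermForm n F q) ⧸ Subgroup.center (transvGroup σ (hermForm n F q))) :=
    QuotientGroup.congr _ _ e hmap
  haveI : Nontrivial (PSU n F q) := φ.toEquiv.nontrivial
  exact IsSimpleGroup.isSimpleGroup_of_surjective φ.symm.toMonoidHom φ.symm.surjective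

theorem su_closure_transvections (hF : Fintype.card F = q ^ 2) (hn : 3 ≤ n) (h32 : ¬(n = 3 ∧ q = 2)) :
    Subgroup.closure {A : SU n F q | ∃ (v : Fin n → F) (c : F), hermForm n F q v v = 0 ∧
      ((A : SpecialLinearGroup (Fin n) F) : Matrix (Fin n) (Fin n) F) = unitaryTransvection n q v c} = ⊤ := by
  obtain ⟨σ, hσ, hinv, hne⟩ := exists_frob hF
  refine eq_top_iff.2 fun A _ => ?_
  have hA : suToGL A ∈ (Subgroup.closure {A : SU n F q | ∃ (v : Fin n → F) (c : F), hermForm n F q v v = 0 ∧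
      ((A : SpecialLinearGroup (Fin n) F) : Matrix (Fin n) (Fin n) F) = unitaryTransvection n q v c}).map suToGL := by
    have hmem : suToGL A ∈ transvGroup σ (hermForm n F q) :=
      range_suToGL hF hσ hinv hne hn h32 ▸ (⟨A, rfl⟩ : suToGL A ∈ (suToGL (n := n) (F := F) (q := q)).range)
    refine (Subgroup.closure_le _).2 ?_ hmem
    rintro _ ⟨v, c, hv, hc, rfl⟩
    have hu : uT (hermForm n F q) v c ∈ (suToGL (n := n) (F := F) (q := q)).range := by
      rw [range_suToGL hF hσ hinv hne hn h32]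
      exact uT_mem (isUnitaryForm_hermForm hσ hinv hne) hv hc
    obtain ⟨B, hB⟩ := hu
    refine ⟨B, Subgroup.subset_closure ⟨v, c, hv, ?_⟩, hB⟩
    rw [← suToGL_val, hB, coe_uT_hermForm hσ hinv hne hv]
  obtain ⟨B, hB, he⟩ := hA
  exact suToGL_injective he ▸ hB

theorem su_transvection_mem_commutatorSet (hF : Fintype.card F = q ^ 2) (hn : 3 ≤ n) (A : SU n F q)
    (v : Fin n → F) (c : F) (hv : hermForm n F q v v = 0)
    (hA : ((A : SpecialLinearGroup (Fin n) F) : Matrix (Fin n) (Fin n) F) = unitaryTransvection n q v c) :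
    A ∈ commutatorSet (SU n F q) := by
  obtain ⟨σ, hσ, hinv, hne⟩ := exists_frob hF
  have hf := isUnitaryForm_hermForm (n := n) hσ hinv hne
  have hAval : suToGL A = uT (hermForm n F q) v c := Units.ext (by
    rw [suToGL_val, hA, coe_uT_hermForm hσ hinv hne hv])
  rcases eq_or_ne v 0 with rfl | hv0
  · refine ⟨1, 1, ?_⟩
    rw [commutatorElement_self]
    refine suToGL_injective (gl_ext fun y => ?_)
    rw [hAval, uT_mulVec hf hv, map_one]
    simp
  obtain ⟨z, hz, hzv⟩ := exists_iso_partner hf hv hv0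
  have hc : c + σ c = 0 := by
    have h : hermForm n F q ((uT (hermForm n F q) v c : Matrix _ _ F) *ᵥ z)
        ((uT (hermForm n F q) v c : Matrix _ _ F) *ᵥ z) = hermForm n F q z z := by
      rw [← hAval]
      exact A.2 z z
    have hvz : hermForm n F q v z = 1 := by rw [hf.herm, hzv, map_one]
    rw [uT_mulVec hf hv, hzv, mul_one, hf.add_left, add_right' hf, add_right' hf, hf.smul_left, hf.smul_left,
      smul_right' hf, smul_right' hf, hv, hz, hzv, hvz] at h
    linear_combination h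
  obtain ⟨w, w', b, b', hw, hw', hb, hb', he⟩ := uT_eq_commutator hf (by rwa [Fintype.card_fin]) hv hv0 hc
  have hsu : ∀ {u : Fin n → F} {β : F}, hermForm n F q u v = 0 → β + σ β + hermForm n F q u u = 0 →
      ∃ B : SU n F q, suToGL B = eu (hermForm n F q) v u β := fun {u β} hu hβ =>
    ⟨⟨⟨(eu (hermForm n F q) v u β : Matrix (Fin n) (Fin n) F), eu_det v u β⟩,
      fun x y => iso_eu hf hv hu hβ x y⟩, Units.ext rfl⟩
  obtain ⟨B, hB⟩ := hsu hw hb
  obtain ⟨B', hB'⟩ := hsu hw' hb'
  refine ⟨B, B', suToGL_injective ?_⟩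
  rw [map_commutatorElement, hB, hB', he, hAval]

end CfsgLib.Classical.Unitary
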