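/-
The centre of the symplectic group.
-/
import Cfsg.Agent.Lib.Classical.SpBasic

set_option autoImplicit false

namespace CfsgLib.Classical

open Matrix Cfsg

variable {F : Type*} [Field F] {m : ℕ}

/-- `-1` as an element of the symplectic group. -/
def spNegOne : symplecticGroup (Fin m) F :=
  ⟨-1, SymplecticGroup.neg_mem (one_mem _)⟩

theorem spNegOne_apply (x : Fin m ⊕ Fin m → F) : (spNegOne : symplecticGroup (Fin m) F).1 *ᵥ x = -x := by
  simp [spNegOne, Matrix.neg_mulVec]

theorem spNegOne_mem_center : spNegOne ∈ Subgroup.center (symplecticGroup (Fin m) F) :=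
  Subgroup.mem_center_iff.2 fun g => Subtype.ext (by simp [spNegOne])

/-- The centre consists of `1` and `-1`. -/
theorem mem_center_sp_iff (g : symplecticGroup (Fin m) F) :
    g ∈ Subgroup.center (symplecticGroup (Fin m) F) ↔ g = 1 ∨ g = spNegOne := by
  refine ⟨fun hg => ?_, ?_⟩
  · rcases Nat.eq_zero_or_pos m with hm | hm
    · subst hm
      exact Or.inl (Subtype.ext (Subsingleton.elim _ _))
    · have hline : ∀ v : Fin m ⊕ Fin m → F, ¬ LinearIndependent F ![v, g.1.mulVecLin v] := by
        intro v
        rcases eq_or_ne v 0 with rfl | hv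
        · intro h
          exact (h.ne_zero 0) rfl
        · rw [LinearIndependent.pair_iff' hv]
          push Not
          obtain ⟨z, hz⟩ := exists_sympForm_ne_zero hv
          have hc := congrArg (fun k : symplecticGroup (Fin m) F => k.1 *ᵥ z)
            (Subgroup.mem_center_iff.1 hg (spT v 1))
          simp only [Submonoid.coe_mul, ← mulVec_mulVec, spT_apply, mulVec_add, mulVec_smul,
            one_mul, add_right_inj] at hc
          have hz' : sympForm m F z v ≠ 0 := by rwa [sympForm_swap, neg_ne_zero]
          refine ⟨(sympForm m F z v)⁻¹ * sympForm m F (g.1 *ᵥ z) v, ?_⟩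
          rw [mulVecLin_apply, mul_smul, hc, smul_smul, inv_mul_cancel₀ hz', one_smul]
      obtain ⟨a, ha⟩ := g.1.mulVecLin.exists_eq_smul_id_of_forall_notLinearIndependent hline
      have hga : ∀ v, g.1 *ᵥ v = a • v := fun v => by
        have := LinearMap.congr_fun ha v
        simpa using this
      set i : Fin m := ⟨0, hm⟩
      have h2 := sp_form g (Pi.single (Sum.inr i) 1) (Pi.single (Sum.inl i) 1)
      rw [hga, hga, sympForm_smul_left, sympForm_smul_right, sympForm_single_inl] at h2
      simp at h2
      rcases mul_self_eq_one_iff.1 h2 with ha1 | ha1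
      · exact Or.inl (sp_ext fun v => by simp [hga, ha1])
      · exact Or.inr (sp_ext fun v => by simp [hga, ha1, spNegOne_apply])
  · rintro (rfl | rfl)
    · exact one_mem _
    · exact spNegOne_mem_center

theorem spNegOne_eq_one_iff (hm : 1 ≤ m) :
    (spNegOne : symplecticGroup (Fin m) F) = 1 ↔ (2 : F) = 0 := by
  refine ⟨fun h => ?_, fun h => Subtype.ext ?_⟩
  · have := congrFun₂ (congrArg Subtype.val h) (Sum.inl ⟨0, hm⟩) (Sum.inl ⟨0, hm⟩)
    simp [spNegOne] at this
    linear_combination -this
  · have h1 : (-1 : F) = 1 := by linear_combination -h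
    change (-1 : Matrix _ _ F) = 1
    rw [← neg_one_smul F (1 : Matrix (Fin m ⊕ Fin m) (Fin m ⊕ Fin m) F), h1, one_smul]

theorem card_center_sp [Fintype F] (hm : 1 ≤ m) :
    Nat.card (Subgroup.center (symplecticGroup (Fin m) F)) =
      Nat.gcd 2 (Fintype.card F - 1) := by
  classical
  have hset : ((Subgroup.center (symplecticGroup (Fin m) F)) : Set (symplecticGroup (Fin m) F)) =
      {1, spNegOne} := by
    ext g
    simp [mem_center_sp_iff]
  rw [← SetLike.coe_sort_coe, Nat.card_coe_set_eq, hset]
  have h1 : 1 ≤ Fintype.card F := Fintype.card_pos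
  have hchar : (2 : F) = 0 ↔ Fintype.card F % 2 = 0 := by
    rw [← FiniteField.even_card_iff_char_two]
    refine ⟨fun h => ?_, fun h => ?_⟩
    · by_contra hc
      exact Ring.two_ne_zero hc h
    · have : CharP F 2 := h ▸ ringChar.charP F
      exact CharTwo.two_eq_zero
  by_cases h2 : (2 : F) = 0
  · rw [(spNegOne_eq_one_iff hm).2 h2, Set.pair_eq_singleton, Set.ncard_singleton]
    have := hchar.1 h2
    rw [Nat.Coprime.gcd_eq_one]
    exact (Nat.coprime_two_left).2 (Nat.odd_iff.2 (by omega))
  · rw [Set.ncard_pair (fun h => h2 ((spNegOne_eq_one_iff hm).1 h.symm))]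
    have := mt hchar.2 h2
    rw [Nat.gcd_eq_left (Nat.dvd_of_mod_eq_zero (by omega))]

end CfsgLib.Classical
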