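/-
The spinor norm criterion for membership in the commutator subgroup of an orthogonal group.
-/
import Cfsg.Agent.Lib.Classical.QuadBridge
import Cfsg.Agent.Lib.Classical.QuadPOmega
import Cfsg.Agent.Lib.Classical.QuadCentre

set_option autoImplicit false

namespace CfsgLib.Classical.Spin

section Sign

variable {F : Type*} [Field F]

/-- The square class of a scalar, as a sign. -/
noncomputable def sqSign (x : F) : ℤˣ := by
  classical exact if IsSquare x then 1 else -1

theorem sqSign_eq_one {x : F} : sqSign x = 1 ↔ IsSquare x := by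
  by_cases h : IsSquare x <;> simp [sqSign, h]

theorem sqSign_one : sqSign (1 : F) = 1 := sqSign_eq_one.2 IsSquare.one

theorem sqSign_inv (x : F) : sqSign x⁻¹ = sqSign x := by
  by_cases h : IsSquare x <;> simp [sqSign, h, isSquare_inv]

theorem sqSign_of_two [Finite F] (h2 : (2 : F) = 0) (x : F) : sqSign x = 1 := by
  haveI : CharP F 2 := CharTwo.of_one_ne_zero_of_two_eq_zero one_ne_zero h2
  exact sqSign_eq_one.2 (FiniteField.isSquare_of_char_two (ringChar.eq F 2) x)

theorem sqSign_mul [Fintype F] {x y : F} (hx : x ≠ 0) (hy : y ≠ 0) : sqSign (x * y) = sqSign x * sqSign y := by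
  by_cases h2 : (2 : F) = 0
  · simp [sqSign_of_two h2]
  · by_cases h : IsSquare x
    · by_cases h' : IsSquare y
      · simp [sqSign, h, h', h.mul h']
      · have : ¬ IsSquare (x * y) := fun hxy => h' (by
          have := hxy.mul (isSquare_inv.2 h)
          rwa [mul_comm (x * y), inv_mul_cancel_left₀ hx] at this)
        simp [sqSign, h, h', this]
    · by_cases h' : IsSquare y
      · have : ¬ IsSquare (x * y) := fun hxy => h (by
          have := hxy.mul (isSquare_inv.2 h')
          rwa [mul_assoc, mul_inv_cancel₀ hy, mul_one] at this)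
        simp [sqSign, h, h', this]
      · have : IsSquare (x * y) := by
          have hchar : ringChar F ≠ 2 := fun hc => h2 (by
            haveI : CharP F 2 := hc ▸ ringChar.charP F
            exact CharTwo.two_eq_zero)
          classical
          have e1 := (quadraticChar_neg_one_iff_not_isSquare (F := F)).2 h
          have e2 := (quadraticChar_neg_one_iff_not_isSquare (F := F)).2 h'
          refine (quadraticChar_one_iff_isSquare (mul_ne_zero hx hy)).1 ?_
          rw [map_mul, e1, e2]
          norm_num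
        simp [sqSign, h, h', this]

theorem sqSign_of_not {x : F} (h : ¬ IsSquare x) : sqSign x = -1 := by
  simp [sqSign, h]

/-- The sign character of the two-element group with given value at the generator. -/
def liftSign (c : ℤˣ) : Multiplicative (ZMod 2) →* ℤˣ :=
  MonoidHom.mk' (fun x => if x = 1 then 1 else c) fun x y => by
    have hsq : c * c = 1 := Int.units_mul_self _
    rcases (by decide : ∀ x : Multiplicative (ZMod 2), x = 1 ∨ x = Multiplicative.ofAdd 1) x with rfl | rfl <;>
      rcases (by decide : ∀ x : Multiplicative (ZMod 2), x = 1 ∨ x = Multiplicative.ofAdd 1) y with rfl | rfl <;>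
      first
        | (simp; done)
        | (rw [if_pos (by decide), if_neg (by decide)]; exact hsq.symm)

theorem liftSign_apply_one (c : ℤˣ) : liftSign c (Multiplicative.ofAdd 1) = c :=
  (if_neg (by decide : ¬ (Multiplicative.ofAdd (1 : ZMod 2)) = 1) :
    (if (Multiplicative.ofAdd (1 : ZMod 2)) = 1 then (1 : ℤˣ) else c) = c)

/-- `sqSign` on units. -/
noncomputable def sqSignHom (F : Type*) [Field F] [Fintype F] : Fˣ →* ℤˣ :=
  MonoidHom.mk' (fun u => sqSign (u : F)) fun u v => by
    simp only [Units.val_mul]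
    exact sqSign_mul u.ne_zero v.ne_zero

end Sign

variable {F V : Type*} [Field F] [Fintype F] [AddCommGroup V] [Module F V] [FiniteDimensional F V]
  (Q : QuadraticForm F V)

theorem exists_refl_list (hQ : PolarNondeg Q) (hex : Fintype.card F ≠ 2 ∨ Module.finrank F V ≠ 4) (g : qAut Q) :
    ∃ vs : List {v : V // Q v ≠ 0}, g = (vs.map fun v => qRefl Q v.2).prod := by
  have hg : g ∈ reflGroup Q := reflGroup_eq_top Q hQ hex ▸ Subgroup.mem_top g
  induction hg using Subgroup.closure_induction with
  | mem x hx =>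
    obtain ⟨v, hv, rfl⟩ := hx
    exact ⟨[⟨v, hv⟩], by simp⟩
  | one => exact ⟨[], rfl⟩
  | mul x y _ _ hx hy =>
    obtain ⟨a, rfl⟩ := hx
    obtain ⟨b, rfl⟩ := hy
    exact ⟨a ++ b, by simp⟩
  | inv x _ hx =>
    obtain ⟨a, rfl⟩ := hx
    refine ⟨a.reverse, ?_⟩
    rw [List.prod_inv_reverse, List.map_map, List.map_reverse]
    congr 2

/-- The spinor norm and parity describe the commutator subgroup. -/
theorem exists_spin (hQ : PolarNondeg Q) (hex : Fintype.card F ≠ 2 ∨ Module.finrank F V ≠ 4) :
    ∃ θ : qAut Q →* ℤˣ, (∀ (v : V) (hv : Q v ≠ 0), θ (qRefl Q hv) = sqSign (Q v)) ∧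
      ∀ g, g ∈ commutator (qAut Q) ↔ Even (qRank Q g) ∧ θ g = 1 := by
  classical
  obtain ⟨D, hD, hD1⟩ := exists_parity_hom Q hQ (reflGroup_eq_top Q hQ hex)
  have hDiff : ∀ g, Even (qRank Q g) ↔ D g = 1 := fun g => by
    rw [hD, ← ofAdd_zero, Multiplicative.ofAdd.apply_eq_iff_eq, ZMod.natCast_eq_zero_iff_even]
  have hDc : commutator (qAut Q) ≤ D.ker := Abelianization.commutator_subset_ker _
  rcases Nat.lt_or_ge (Module.finrank F V) 2 with hlt | hn
  · -- at most one line: all reflections are the same involution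
    rcases Classical.em (∃ v, Q v ≠ 0) with ⟨v₀, hv₀⟩ | hno
    · have hsame : ∀ (v : V) (hv : Q v ≠ 0), qRefl Q hv = qRefl Q hv₀ ∧ sqSign (Q v) = sqSign (Q v₀) := by
        intro v hv
        have hne : v₀ ≠ 0 := by rintro rfl; simp at hv₀
        obtain ⟨t, rfl⟩ : ∃ t : F, t • v₀ = v :=
          (finrank_eq_one_iff_of_nonzero' v₀ hne).1 (by
            have : 0 < Module.finrank F V := Module.finrank_pos_iff_exists_ne_zero.2 ⟨v₀, hne⟩
            omega) v
        refine ⟨qRefl_smul Q hv₀ hv, ?_⟩
        have ht : t ≠ 0 := by rintro rfl; simp at hv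
        rw [quad_smul, sqSign_mul (mul_ne_zero ht ht) hv₀, sqSign_eq_one.2 ⟨t, rfl⟩, one_mul]
      refine ⟨(liftSign (sqSign (Q v₀))).comp D, fun v hv => ?_, fun g => ?_⟩
      · rw [MonoidHom.comp_apply, hD1 v hv]
        rw [liftSign_apply_one, (hsame v hv).2]
      · have hgen : ∀ g, g = 1 ∨ g = qRefl Q hv₀ := by
          intro g
          obtain ⟨vs, rfl⟩ := exists_refl_list Q hQ hex g
          induction vs with
          | nil => left; rfl
          | cons v vs ih =>
            rw [List.map_cons, List.prod_cons, (hsame v.1 v.2).1]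
            rcases ih with h | h <;> rw [h]
            · right; rw [mul_one]
            · left; rw [qRefl_mul_self]
        rw [hDiff, MonoidHom.comp_apply]
        refine ⟨fun h => ?_, fun h => ?_⟩
        · have := MonoidHom.mem_ker.1 (hDc h)
          exact ⟨this, by rw [this, map_one]⟩
        · rcases hgen g with rfl | rfl
          · exact one_mem _
          · exact absurd (h.1.symm.trans (hD1 v₀ hv₀)) (by decide)
    · push Not at hno
      have htriv : ∀ g : qAut Q, g = 1 := fun g => by
        obtain ⟨vs, rfl⟩ := exists_refl_list Q hQ hex g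
        rcases vs with _ | ⟨v, vs⟩
        · rfl
        · exact absurd (hno v.1) v.2
      exact ⟨1, fun v hv => absurd (hno v) hv, fun g => by simp [htriv g, qRank_one]⟩
  by_cases h2 : (2 : F) = 0
  · haveI : CharP F 2 := CharTwo.of_one_ne_zero_of_two_eq_zero one_ne_zero h2
    refine ⟨1, fun v hv => (sqSign_of_two h2 _).symm, fun g => ?_⟩
    rw [hDiff, MonoidHom.one_apply, eq_self, and_true, ← MonoidHom.mem_ker]
    suffices h : commutator (qAut Q) = D.ker by rw [h]
    have hsurj : Function.Surjective D := fun x => by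
      rcases (by decide : ∀ x : Multiplicative (ZMod 2), x = 1 ∨ x = Multiplicative.ofAdd 1) x with rfl | rfl
      · exact ⟨1, map_one _⟩
      · obtain ⟨v, hv⟩ := exists_value Q hQ hn one_ne_zero
        exact ⟨qRefl Q (show Q v ≠ 0 from hv ▸ one_ne_zero), hD1 _ _⟩
    have hmul := Subgroup.relIndex_mul_index hDc
    rw [index_commutator_two Q hQ hn hex, Subgroup.index_ker, MonoidHom.range_eq_top.2 hsurj, Subgroup.card_top,
      Nat.card_eq_fintype_card] at hmul
    simp only [Fintype.card_multiplicative, ZMod.card] at hmul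
    exact le_antisymm hDc (Subgroup.relIndex_eq_one.1 (by omega))
  · obtain ⟨ψ, -, hker, hψ1, hiff⟩ := exists_abel_odd Q h2 hQ hn
    obtain ⟨v₀, hv₀⟩ := exists_value Q hQ hn one_ne_zero
    have hv₀' : Q v₀ ≠ 0 := hv₀ ▸ one_ne_zero
    set c := (ψ (qRefl Q hv₀')).2
    have hfst : ∀ g, (ψ g).1 = D g := fun g => by
      obtain ⟨vs, rfl⟩ := exists_refl_list Q hQ hex g
      induction vs with
      | nil => simp
      | cons v vs ih => rw [List.map_cons, List.prod_cons, map_mul, map_mul, Prod.fst_mul, ih, hψ1 v.1 v.2, hD1 v.1 v.2]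
    refine ⟨((MonoidHom.snd _ _).comp ψ) * (liftSign c).comp D, fun v hv => ?_, fun g => ?_⟩
    · simp only [MonoidHom.mul_apply, MonoidHom.comp_apply, MonoidHom.coe_snd, hD1 v hv]
      rw [liftSign_apply_one]
      have h := hiff v v₀ hv hv₀'
      rw [hv₀, mul_one, Prod.ext_iff, hψ1 v hv, hψ1 v₀ hv₀', eq_self, true_and] at h
      by_cases hs : IsSquare (Q v)
      · rw [sqSign_eq_one.2 hs, h.2 hs]
        exact Int.units_mul_self _
      · rw [sqSign_of_not hs]
        rcases Int.units_eq_one_or (ψ (qRefl Q hv)).2 with e | e <;>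
          rcases Int.units_eq_one_or c with e' | e' <;> simp_all [c]
    · rw [hDiff, ← hker, MonoidHom.mem_ker, Prod.ext_iff, hfst, Prod.fst_one, Prod.snd_one]
      refine and_congr_right fun h1 => ?_
      simp [MonoidHom.mul_apply, MonoidHom.comp_apply, h1]

/-- The criterion for a product of reflections. -/
theorem mem_commutator_prod_iff (hQ : PolarNondeg Q) (hex : Fintype.card F ≠ 2 ∨ Module.finrank F V ≠ 4)
    (vs : List {v : V // Q v ≠ 0}) :
    (vs.map fun v => qRefl Q v.2).prod ∈ commutator (qAut Q) ↔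
      Even vs.length ∧ IsSquare (vs.map fun v => Q v.1).prod := by
  classical
  obtain ⟨θ, hθ, hiff⟩ := exists_spin Q hQ hex
  obtain ⟨D, hD, hD1⟩ := exists_parity_hom Q hQ (reflGroup_eq_top Q hQ hex)
  have key : D (vs.map fun v => qRefl Q v.2).prod = Multiplicative.ofAdd (vs.length : ZMod 2) ∧
      θ (vs.map fun v => qRefl Q v.2).prod = sqSign (vs.map fun v => Q v.1).prod ∧
      (vs.map fun v => Q v.1).prod ≠ 0 := by
    induction vs with
    | nil => simp [sqSign_one]
    | cons v vs ih =>
      simp only [List.map_cons, List.prod_cons, map_mul, List.length_cons, hD1 v.1 v.2, hθ v.1 v.2, ih.1, ih.2.1]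
      refine ⟨?_, (sqSign_mul v.2 ih.2.2).symm, mul_ne_zero v.2 ih.2.2⟩
      rw [← ofAdd_add, Nat.cast_succ, add_comm]
  rw [hiff, key.2.1, sqSign_eq_one, ← ZMod.natCast_eq_zero_iff_even,
    show ((qRank Q (vs.map fun v => qRefl Q v.2).prod : ℕ) : ZMod 2) = (vs.length : ZMod 2) from
      Multiplicative.ofAdd.injective ((hD _).symm.trans key.1), ZMod.natCast_eq_zero_iff_even]

theorem sq_mem_commutator (hQ : PolarNondeg Q) (hex : Fintype.card F ≠ 2 ∨ Module.finrank F V ≠ 4) (g : qAut Q) :
    g * g ∈ commutator (qAut Q) := by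
  classical
  obtain ⟨θ, -, hiff⟩ := exists_spin Q hQ hex
  obtain ⟨D, hD, -⟩ := exists_parity_hom Q hQ (reflGroup_eq_top Q hQ hex)
  refine (hiff _).2 ⟨?_, by rw [map_mul]; exact Int.units_mul_self _⟩
  rw [← ZMod.natCast_eq_zero_iff_even]
  refine Multiplicative.ofAdd.injective ?_
  rw [← hD, map_mul, hD, ← ofAdd_add, ← two_mul, show (2 : ZMod 2) = 0 by decide, zero_mul]

omit [Fintype F] [FiniteDimensional F V] in
/-- A product of reflections in an orthogonal family, pointwise. -/
theorem exists_refl_family {A : Type*} [CommMonoid A] (ψ : qAut Q →* A) {κ : Type*} [DecidableEq κ]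
    (e : κ → V) (he : ∀ i, Q (e i) ≠ 0) (horth : ∀ i j, i ≠ j → QuadraticMap.polar Q (e i) (e j) = 0)
    (s : Finset κ) : ∃ h : qAut Q, (∀ x, h.1 x = x - ∑ i ∈ s, ((Q (e i))⁻¹ * QuadraticMap.polar Q x (e i)) • e i) ∧
      ψ h = ∏ i ∈ s, ψ (qRefl Q (he i)) := by
  induction s using Finset.induction_on with
  | empty => exact ⟨1, fun x => by simp, by simp⟩
  | insert i t hit ih =>
    obtain ⟨h, hh, hψ⟩ := ih
    refine ⟨h * qRefl Q (he i), fun x => ?_, ?_⟩
    · rw [qAut_mul_apply, hh, qRefl_apply, Finset.sum_insert hit, ← sub_sub]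
      congr 1
      refine Finset.sum_congr rfl fun j hj => ?_
      rw [QuadraticMap.polar_sub_left, QuadraticMap.polar_smul_left,
        horth i j fun hij => hit (hij ▸ hj), smul_zero, sub_zero]
    · rw [map_mul, hψ, Finset.prod_insert hit, mul_comm]

end CfsgLib.Classical.Spin
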