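/-
The spinor norm criterion for matrix isometry groups.
-/
import Cfsg.Agent.Lib.Classical.SpinorCriterion

set_option autoImplicit false

namespace CfsgLib.Classical.Spin

open Matrix Cfsg

variable {F : Type*} [Field F] {ι : Type} [Fintype ι] [DecidableEq ι] (Q : QuadraticForm F (ι → F))

/-- An isometry with a given matrix. -/
theorem exists_isometry_of_matrix (hQ : PolarNondeg Q) (M : Matrix ι ι F) (hM : ∀ x, Q (M *ᵥ x) = Q x) :
    ∃ g : isometryGroup F ⇑Q, ((g : GL ι F) : Matrix ι ι F) = M := by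
  have hinj : Function.Injective M.mulVecLin := fun x y h => by
    refine sub_eq_zero.1 (hQ _ fun w => ?_)
    have h0 : M *ᵥ (x - y) = 0 := by rw [mulVec_sub]; exact sub_eq_zero.2 h
    have : QuadraticMap.polar Q (M *ᵥ (x - y)) (M *ᵥ w) = QuadraticMap.polar Q (x - y) w := by
      simp only [QuadraticMap.polar, ← mulVec_add, hM]
    rw [← this, h0, QuadraticMap.polar_zero_left]
  refine ⟨isoMk M.mulVecLin hinj hM, Matrix.ext_of_mulVec_single fun i => ?_⟩
  exact isoMk_apply M.mulVecLin hinj hM _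

theorem qRank_isoEquiv (g : isometryGroup F ⇑Q) :
    qRank Q (isoEquiv Q g) = (((g : GL ι F) : Matrix ι ι F) - 1).rank := by
  unfold qRank Matrix.rank
  have h : ((isoEquiv Q g).1.toLinearMap - LinearMap.id : (ι → F) →ₗ[F] (ι → F)) =
      (((g : GL ι F) : Matrix ι ι F) - 1).mulVecLin := LinearMap.ext fun x => by
    simp only [LinearMap.sub_apply, LinearEquiv.coe_coe, LinearMap.id_coe, id_eq, mulVecLin_apply, sub_mulVec,
      one_mulVec]
    rfl
  rw [h]

theorem rank_fromBlocks_diag {m n : Type} [Fintype m] [Fintype n] [DecidableEq m] [DecidableEq n]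
    (X : Matrix m m F) (Y : Matrix n n F) : (fromBlocks X 0 0 Y).rank = X.rank + Y.rank := by
  unfold Matrix.rank
  have h : (fromBlocks X 0 0 Y).mulVecLin =
      ((LinearEquiv.sumArrowLequivProdArrow m n F F).symm : (m → F) × (n → F) →ₗ[F] (m ⊕ n → F)) ∘ₗ
        X.mulVecLin.prodMap Y.mulVecLin ∘ₗ
        ((LinearEquiv.sumArrowLequivProdArrow m n F F) : (m ⊕ n → F) →ₗ[F] (m → F) × (n → F)) := by
    refine LinearMap.ext fun x => funext fun i => ?_
    rcases i with i | i <;> simp [fromBlocks_mulVec, Function.comp_def] <;> rfl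
  rw [h, LinearMap.range_comp, LinearEquiv.finrank_map_eq, LinearMap.range_comp, LinearEquiv.range,
    Submodule.map_top, LinearMap.range_prodMap]
  exact (LinearEquiv.finrank_eq
    ({ toFun := fun x => (⟨x.1.1, x.2.1⟩, ⟨x.1.2, x.2.2⟩)
       invFun := fun y => ⟨((y.1 : m → F), (y.2 : n → F)), y.1.2, y.2.2⟩
       map_add' := fun _ _ => rfl
       map_smul' := fun _ _ => rfl } :
      ↥((LinearMap.range X.mulVecLin).prod (LinearMap.range Y.mulVecLin)) ≃ₗ[F]
        (LinearMap.range X.mulVecLin) × (LinearMap.range Y.mulVecLin))).trans Module.finrank_prod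

variable [Fintype F]

theorem exists_matrix_refl_list (hQ : PolarNondeg Q) (hex : Fintype.card F ≠ 2 ∨ Fintype.card ι ≠ 4)
    (g : isometryGroup F ⇑Q) : ∃ vs : List (ι → F), (∀ v ∈ vs, Q v ≠ 0) ∧
      ((g : GL ι F) : Matrix ι ι F) = (vs.map fun v => reflectionMatrix (⇑Q) v).prod := by
  obtain ⟨vs, hvs⟩ := exists_refl_list Q hQ (by rwa [Module.finrank_pi]) (isoEquiv Q g)
  refine ⟨vs.map Subtype.val, fun v hv => ?_, ?_⟩
  · obtain ⟨w, -, rfl⟩ := List.mem_map.1 hv
    exact w.2
  · have h : g = (vs.map fun v => reflect Q v.1 v.2).prod := (isoEquiv Q).injective (by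
      rw [hvs, map_list_prod, List.map_map]
      congr 1
      exact List.map_congr_left fun v _ => (isoEquiv_reflect_self Q v.2).symm)
    rw [h]
    have := map_list_prod ((Units.coeHom (Matrix ι ι F)).comp (isometryGroup F ⇑Q).subtype)
      (vs.map fun v => reflect Q v.1 v.2)
    rw [List.map_map] at this
    rw [List.map_map]
    refine this.trans ?_
    congr 1
    exact List.map_congr_left fun v _ => reflect_coe Q v.1 v.2

theorem mem_Omega_refl_list_iff (hQ : PolarNondeg Q) (hex : Fintype.card F ≠ 2 ∨ Fintype.card ι ≠ 4)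
    (g : isometryGroup F ⇑Q) (vs : List (ι → F)) (hvs : ∀ v ∈ vs, Q v ≠ 0)
    (hg : ((g : GL ι F) : Matrix ι ι F) = (vs.map fun v => reflectionMatrix (⇑Q) v).prod) :
    g ∈ Omega F ⇑Q ↔ Even vs.length ∧ IsSquare (vs.map fun v => Q v).prod := by
  lift vs to List {v : ι → F // Q v ≠ 0} using hvs
  have h : g = (vs.map fun v => reflect Q v.1 v.2).prod := by
    refine Subtype.ext (Units.ext (hg.trans ?_))
    have := map_list_prod ((Units.coeHom (Matrix ι ι F)).comp (isometryGroup F ⇑Q).subtype)
      (vs.map fun v => reflect Q v.1 v.2)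
    rw [List.map_map] at this
    refine (Eq.trans ?_ this.symm)
    rw [List.map_map]
    congr 1
    exact List.map_congr_left fun v _ => (reflect_coe Q v.1 v.2).symm
  rw [mem_Omega_iff, h, map_list_prod, List.map_map, List.length_map, List.map_map]
  rw [show (⇑(isoEquiv Q) ∘ fun v : {v : ι → F // Q v ≠ 0} => reflect Q v.1 v.2) = fun v => qRefl Q v.2 from
    funext fun v => isoEquiv_reflect_self Q v.2]
  exact mem_commutator_prod_iff Q hQ (by rwa [Module.finrank_pi]) vs

end CfsgLib.Classical.Spin
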