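/-
Spinor norms of block-diagonal isometries and of involutions of hyperbolic pairs.
-/
import Cfsg.Agent.Lib.Classical.SpinorMatrix

set_option autoImplicit false

namespace CfsgLib.Classical.Spin

open Matrix Cfsg

variable {F : Type*} [Field F]

theorem qPlus_eq_dot {m : ℕ} (v : Fin m ⊕ Fin m → F) :
    qPlus m F v = (v ∘ Sum.inl) ⬝ᵥ (v ∘ Sum.inr) :=
  congrFun (coe_qPlus m) v

theorem polar_qPlus_dot {m : ℕ} (x y : Fin m ⊕ Fin m → F) : QuadraticMap.polar (qPlus m F) x y =
    (x ∘ Sum.inl) ⬝ᵥ (y ∘ Sum.inr) + (y ∘ Sum.inl) ⬝ᵥ (x ∘ Sum.inr) := by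
  simp only [QuadraticMap.polar, qPlus_eq_dot, Pi.add_comp, add_dotProduct, dotProduct_add]
  abel

theorem polar_qPlus_inl {m : ℕ} (x : Fin m ⊕ Fin m → F) (j : Fin m) :
    QuadraticMap.polar (qPlus m F) x (Pi.single (Sum.inl j) 1) = x (Sum.inr j) := by
  rw [polar_qPlus_dot, show (Pi.single (Sum.inl j) (1 : F) : Fin m ⊕ Fin m → F) ∘ Sum.inr = 0 from
    funext fun i => by simp, dotProduct_zero, zero_add,
    show (Pi.single (Sum.inl j) (1 : F) : Fin m ⊕ Fin m → F) ∘ Sum.inl = Pi.single j 1 from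
      funext fun i => by simp [Pi.single_apply], single_dotProduct, one_mul]
  rfl

theorem polar_qPlus_inr {m : ℕ} (x : Fin m ⊕ Fin m → F) (j : Fin m) :
    QuadraticMap.polar (qPlus m F) x (Pi.single (Sum.inr j) 1) = x (Sum.inl j) := by
  rw [polar_qPlus_dot, show (Pi.single (Sum.inr j) (1 : F) : Fin m ⊕ Fin m → F) ∘ Sum.inl = 0 from
    funext fun i => by simp, zero_dotProduct, add_zero,
    show (Pi.single (Sum.inr j) (1 : F) : Fin m ⊕ Fin m → F) ∘ Sum.inr = Pi.single j 1 from
      funext fun i => by simp [Pi.single_apply], dotProduct_single, mul_one]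
  rfl

theorem qPlus_single {m : ℕ} (k : Fin m ⊕ Fin m) : qPlus m F (Pi.single k 1) = 0 := by
  rcases k with j | j
  · rw [qPlus_eq_dot, show (Pi.single (Sum.inl j) (1 : F) : Fin m ⊕ Fin m → F) ∘ Sum.inr = 0 from
      funext fun i => by simp, dotProduct_zero]
  · rw [qPlus_eq_dot, show (Pi.single (Sum.inr j) (1 : F) : Fin m ⊕ Fin m → F) ∘ Sum.inl = 0 from
      funext fun i => by simp, zero_dotProduct]

theorem levi_map {m : ℕ} (A : GL (Fin m) F) (x : Fin m ⊕ Fin m → F) :
    qPlus m F (fromBlocks (A : Matrix (Fin m) (Fin m) F) 0 0 ((A : Matrix (Fin m) (Fin m) F)⁻¹)ᵀ *ᵥ x) =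
      qPlus m F x := by
  rw [fromBlocks_mulVec, qPlus_eq_dot, qPlus_eq_dot, Sum.elim_comp_inl, Sum.elim_comp_inr]
  simp only [zero_mulVec, add_zero, zero_add]
  rw [dotProduct_comm, dotProduct_mulVec, mulVec_transpose, vecMul_vecMul,
    nonsing_inv_mul _ ((Matrix.isUnit_iff_isUnit_det _).1 A.isUnit), vecMul_one, dotProduct_comm]

theorem exists_levi {m : ℕ} (A : GL (Fin m) F) : ∃ g : isometryGroup F ⇑(qPlus m F),
    ((g : GL (Fin m ⊕ Fin m) F) : Matrix (Fin m ⊕ Fin m) (Fin m ⊕ Fin m) F) =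
      fromBlocks (A : Matrix (Fin m) (Fin m) F) 0 0 ((A : Matrix (Fin m) (Fin m) F)⁻¹)ᵀ :=
  exists_isometry_of_matrix _ (polarNondeg_qPlus m) _ (levi_map A)

variable [Fintype F]

theorem levi_even {m : ℕ} (A : GL (Fin m) F) (g : isometryGroup F ⇑(qPlus m F))
    (hg : ((g : GL (Fin m ⊕ Fin m) F) : Matrix (Fin m ⊕ Fin m) (Fin m ⊕ Fin m) F) =
      fromBlocks (A : Matrix (Fin m) (Fin m) F) 0 0 ((A : Matrix (Fin m) (Fin m) F)⁻¹)ᵀ) :
    Even (qRank (qPlus m F) (isoEquiv _ g)) := by
  have hdet : IsUnit (A : Matrix (Fin m) (Fin m) F).det := (Matrix.isUnit_iff_isUnit_det _).1 A.isUnit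
  rw [qRank_isoEquiv, hg, ← fromBlocks_one,
    show ∀ X Y : Matrix (Fin m) (Fin m) F, fromBlocks X 0 0 Y - fromBlocks 1 0 0 1 = fromBlocks (X - 1) 0 0 (Y - 1) from
      fun X Y => by ext (a | a) (b | b) <;> simp [Matrix.one_apply], rank_fromBlocks_diag]
  have h : ((A : Matrix (Fin m) (Fin m) F)⁻¹)ᵀ - 1 =
      (-(A : Matrix (Fin m) (Fin m) F)⁻¹ * ((A : Matrix (Fin m) (Fin m) F) - 1))ᵀ := by
    rw [neg_mul, mul_sub, nonsing_inv_mul _ hdet, mul_one, neg_sub, transpose_sub, transpose_one]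
  rw [h, rank_transpose, rank_mul_eq_right_of_isUnit_det]
  · exact ⟨_, rfl⟩
  · rw [det_neg, det_nonsing_inv]
    exact (isUnit_one.neg.pow _).mul ((isUnit_ringInverse).2 hdet)

theorem theta_eq_one_of_two {V : Type*} [AddCommGroup V] [Module F V] [FiniteDimensional F V]
    (Q : QuadraticForm F V) (hQ : PolarNondeg Q) (hex : Fintype.card F ≠ 2 ∨ Module.finrank F V ≠ 4)
    (h2 : (2 : F) = 0) (θ : qAut Q →* ℤˣ) (hθ : ∀ (v : V) (hv : Q v ≠ 0), θ (qRefl Q hv) = sqSign (Q v))
    (g : qAut Q) : θ g = 1 := by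
  obtain ⟨vs, rfl⟩ := exists_refl_list Q hQ hex g
  induction vs with
  | nil => exact map_one θ
  | cons v vs ih => rw [List.map_cons, List.prod_cons, map_mul, ih, hθ v.1 v.2, sqSign_of_two h2, one_mul]

theorem levi_theta {m : ℕ} (hm : Fintype.card F ≠ 2 ∨ m ≠ 2) (θ : qAut (qPlus m F) →* ℤˣ)
    (hθ : ∀ v (hv : qPlus m F v ≠ 0), θ (qRefl _ hv) = sqSign (qPlus m F v))
    (A : GL (Fin m) F) (g : isometryGroup F ⇑(qPlus m F))
    (hg : ((g : GL (Fin m ⊕ Fin m) F) : Matrix (Fin m ⊕ Fin m) (Fin m ⊕ Fin m) F) =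
      fromBlocks (A : Matrix (Fin m) (Fin m) F) 0 0 ((A : Matrix (Fin m) (Fin m) F)⁻¹)ᵀ) :
    θ (isoEquiv _ g) = sqSign (A : Matrix (Fin m) (Fin m) F).det := by
  classical
  have hex : Fintype.card F ≠ 2 ∨ Module.finrank F (Fin m ⊕ Fin m → F) ≠ 4 := by
    rw [Module.finrank_pi, Fintype.card_sum, Fintype.card_fin]
    omega
  by_cases h2 : (2 : F) = 0
  · rw [theta_eq_one_of_two _ (polarNondeg_qPlus m) hex h2 θ hθ, sqSign_of_two h2]
  choose φ hφ using exists_levi (F := F) (m := m)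
  let f : GL (Fin m) F →* ℤˣ := MonoidHom.mk' (fun B => θ (isoEquiv _ (φ B))) fun B C => by
    rw [← map_mul, ← map_mul]
    refine congrArg (fun y => θ (isoEquiv _ y)) (Subtype.ext (Units.ext ?_))
    rw [Subgroup.coe_mul, Units.val_mul, hφ, hφ, hφ, fromBlocks_multiply, Units.val_mul, Matrix.mul_inv_rev,
      transpose_mul]
    simp
  suffices H : ∀ M : Matrix (Fin m) (Fin m) F, M.det ≠ 0 →
      ∀ B : GL (Fin m) F, (B : Matrix (Fin m) (Fin m) F) = M → f B = sqSign M.det by
    rw [show g = φ A from Subtype.ext (Units.ext (hg.trans (hφ A).symm))]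
    exact H _ (GeneralLinearGroup.det_ne_zero A) A rfl
  intro M hM
  refine Matrix.diagonal_transvection_induction_of_det_ne_zero (fun M => ∀ B : GL (Fin m) F,
    (B : Matrix (Fin m) (Fin m) F) = M → f B = sqSign M.det) M hM ?_ ?_ ?_
  · intro D hD B hB
    have hD' : ∀ i, D i ≠ 0 := fun i h => hD (by rw [det_diagonal]; exact Finset.prod_eq_zero (Finset.mem_univ i) h)
    let ψ : (Fin m → Fˣ) →* GL (Fin m) F :=
      (Units.map (diagonalRingHom (Fin m) F).toMonoidHom).comp MulEquiv.piUnits.symm.toMonoidHom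
    let d : (Fin m → Fˣ) →* ℤˣ := MonoidHom.mk' (fun u => sqSignHom F (∏ i, u i)) fun u w => by
      simp only [Pi.mul_apply, Finset.prod_mul_distrib, map_mul]
    have hψv : ∀ u : Fin m → Fˣ, ((ψ u : GL (Fin m) F) : Matrix (Fin m) (Fin m) F) = diagonal fun i => (u i : F) :=
      fun u => rfl
    have heq : f.comp ψ = d := MonoidHom.functions_ext (M := fun _ : Fin m => Fˣ) ℤˣ _ _ fun j x => by
      rw [MonoidHom.comp_apply]
      show θ (isoEquiv _ (φ (ψ (Pi.mulSingle j x)))) =
        sqSign ((∏ i, (Pi.mulSingle (M := fun _ : Fin m => Fˣ) j x) i : Fˣ) : F)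
      rw [Finset.prod_pi_mulSingle', if_pos (Finset.mem_univ _)]
      set e : Fin m ⊕ Fin m → F := Pi.single (Sum.inl j) 1
      set e' : Fin m ⊕ Fin m → F := Pi.single (Sum.inr j) 1
      have hp : QuadraticMap.polar (qPlus m F) e e' = 1 := by rw [polar_qPlus_inr]; simp [e]
      set c : F := ((x : F))⁻¹ with hc
      have hQu : qPlus m F (e + c • e') = c := by
        rw [quad_add, quad_smul, QuadraticMap.polar_smul_right, qPlus_single, qPlus_single, hp]
        simp
      have hQw : qPlus m F (e + e') = 1 := by rw [quad_add, qPlus_single, qPlus_single, hp]; simp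
      have hu : qPlus m F (e + c • e') ≠ 0 := by rw [hQu]; exact inv_ne_zero x.ne_zero
      have hw : qPlus m F (e + e') ≠ 0 := hQw ▸ one_ne_zero
      have hcomp : isoEquiv _ (φ (ψ (Pi.mulSingle j x))) = qRefl _ hu * qRefl _ hw := qAut_ext fun y => by
        rw [isoEquiv_apply, isoApply, hφ, hψv, qAut_mul_apply, qRefl_apply, qRefl_apply, hQu, hQw]
        have hinv : (diagonal fun i => ((Pi.mulSingle j x : Fin m → Fˣ) i : F))⁻¹ =
            diagonal fun i => (((Pi.mulSingle j x : Fin m → Fˣ) i : F))⁻¹ :=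
          inv_eq_right_inv (by rw [diagonal_mul_diagonal]; simp)
        rw [hinv, diagonal_transpose]
        simp only [QuadraticMap.polar_add_right, QuadraticMap.polar_smul_right, QuadraticMap.polar_sub_left,
          QuadraticMap.polar_smul_left, smul_eq_mul, e, e', polar_qPlus_inl, polar_qPlus_inr]
        funext k
        have hx : (x : F) ≠ 0 := x.ne_zero
        rcases k with k | k <;>
          simp only [fromBlocks_mulVec, Sum.elim_inl, Sum.elim_inr, zero_mulVec, add_zero, zero_add, Pi.sub_apply,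
            Pi.add_apply, Pi.smul_apply, smul_eq_mul, mulVec_diagonal, Function.comp_apply] <;>
          rcases eq_or_ne k j with rfl | hk
        all_goals first
          | (simp [hk, hc]; done)
          | (simp [hc]; field_simp; ring)
      rw [hcomp, map_mul, hθ, hθ, hQu, hQw, sqSign_one, mul_one, hc, sqSign_inv]
    have hBψ : B = ψ fun i => Units.mk0 (D i) (hD' i) := Units.ext (by rw [hψv, hB]; rfl)
    have hh := DFunLike.congr_fun heq fun i => Units.mk0 (D i) (hD' i)
    rw [MonoidHom.comp_apply] at hh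
    rw [hBψ, hh, det_diagonal]
    show sqSign ((∏ i, Units.mk0 (D i) (hD' i) : Fˣ) : F) = _
    rw [Units.coe_prod]
    rfl
  · intro t B hB
    rw [TransvectionStruct.det, sqSign_one]
    let t' : GL (Fin m) F := GeneralLinearGroup.mkOfDetNeZero (transvection t.i t.j (t.c / 2))
      (by rw [det_transvection_of_ne _ _ t.hij]; exact one_ne_zero)
    have hBt : B = t' * t' := Units.ext (by
      rw [hB, Units.val_mul]
      show transvection t.i t.j t.c = transvection t.i t.j (t.c / 2) * transvection t.i t.j (t.c / 2)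
      haveI : NeZero (2 : F) := ⟨h2⟩
      rw [transvection_mul_transvection_same _ _ t.hij, add_halves])
    rw [hBt, map_mul]
    exact Int.units_mul_self _
  · intro M N hM hN ihM ihN B hB
    have e : B = GeneralLinearGroup.mkOfDetNeZero M hM * GeneralLinearGroup.mkOfDetNeZero N hN :=
      Units.ext (by rw [hB, Units.val_mul]; rfl)
    rw [e, map_mul, ihM _ rfl, ihN _ rfl, det_mul, sqSign_mul hM hN]

/-- Criterion for the Levi element. -/
theorem levi_mem_Omega_iff {m : ℕ} (hm : Fintype.card F ≠ 2 ∨ m ≠ 2) (A : GL (Fin m) F)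
    (g : isometryGroup F ⇑(qPlus m F))
    (hg : ((g : GL (Fin m ⊕ Fin m) F) : Matrix (Fin m ⊕ Fin m) (Fin m ⊕ Fin m) F) =
      fromBlocks (A : Matrix (Fin m) (Fin m) F) 0 0 ((A : Matrix (Fin m) (Fin m) F)⁻¹)ᵀ) :
    g ∈ Omega F ⇑(qPlus m F) ↔ IsSquare (A : Matrix (Fin m) (Fin m) F).det := by
  obtain ⟨θ, hθ, hiff⟩ := exists_spin (qPlus m F) (polarNondeg_qPlus m) (by
    rw [Module.finrank_pi, Fintype.card_sum, Fintype.card_fin]; omega)
  rw [mem_Omega_iff, hiff, levi_theta hm θ hθ A g hg, sqSign_eq_one]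
  exact and_iff_right (levi_even A g hg)

/-- The swap of the two halves. -/
theorem exists_swap {m : ℕ} (hm : Fintype.card F ≠ 2 ∨ m ≠ 2) : ∃ s : isometryGroup F ⇑(qPlus m F),
    ((s : GL (Fin m ⊕ Fin m) F) : Matrix (Fin m ⊕ Fin m) (Fin m ⊕ Fin m) F) = fromBlocks 0 1 1 0 ∧
      (qRank (qPlus m F) (isoEquiv _ s) : ZMod 2) = (m : ZMod 2) ∧
      (s ∈ Omega F ⇑(qPlus m F) ↔ Even m) := by
  classical
  have hQ := polarNondeg_qPlus (F := F) m
  have hex : Fintype.card F ≠ 2 ∨ Module.finrank F (Fin m ⊕ Fin m → F) ≠ 4 := by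
    rw [Module.finrank_pi, Fintype.card_sum, Fintype.card_fin]; omega
  obtain ⟨θ, hθ, hiff⟩ := exists_spin (qPlus m F) hQ hex
  obtain ⟨D, hD, hD1⟩ := exists_parity_hom (qPlus m F) hQ (reflGroup_eq_top _ hQ hex)
  let e : Fin m → (Fin m ⊕ Fin m → F) := fun j => Pi.single (Sum.inl j) 1 - Pi.single (Sum.inr j) 1
  have hQe : ∀ j, qPlus m F (e j) = -1 := fun j => by
    simp [e, quad_sub, qPlus_single, polar_qPlus_inr]
  have he : ∀ j, qPlus m F (e j) ≠ 0 := fun j => by rw [hQe]; exact neg_ne_zero.2 one_ne_zero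
  have hpe : ∀ x j, QuadraticMap.polar (qPlus m F) x (e j) = x (Sum.inr j) - x (Sum.inl j) := fun x j => by
    simp [e, QuadraticMap.polar_sub_right, polar_qPlus_inl, polar_qPlus_inr]
  obtain ⟨h, hh, hψ⟩ := exists_refl_family (qPlus m F) (D.prod θ) e he (fun i j hij => by
    rw [hpe]; simp [e, hij, Ne.symm hij]) Finset.univ
  refine ⟨(isoEquiv _).symm h, ?_, ?_⟩
  · refine Matrix.ext_of_mulVec_single fun k => ?_
    show isoApply ((isoEquiv _).symm h) (Pi.single k 1) = _
    rw [← isoEquiv_apply, MulEquiv.apply_symm_apply, hh]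
    funext l
    simp only [hQe, hpe, Pi.sub_apply, Finset.sum_apply, Pi.smul_apply, smul_eq_mul, e, fromBlocks_mulVec]
    rcases k with k | k <;> rcases l with l | l <;>
      simp [Pi.single_apply, mul_sub, sub_mul, Finset.sum_sub_distrib, Matrix.one_apply, eq_comm] <;> split_ifs <;> ring
  · have h1 : D h = Multiplicative.ofAdd (m : ZMod 2) := by
      have := congrArg Prod.fst hψ
      rw [Prod.fst_prod] at this
      refine this.trans ?_
      simp only [MonoidHom.prod_apply, hD1 _ (he _), Finset.prod_const, Finset.card_univ, Fintype.card_fin]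
      rw [← ofAdd_nsmul, nsmul_one]
    have h2 : θ h = sqSign ((-1 : F) ^ m) := by
      have := congrArg Prod.snd hψ
      rw [Prod.snd_prod] at this
      refine this.trans ?_
      simp only [MonoidHom.prod_apply, hθ _ (he _), hQe, Finset.prod_const, Finset.card_univ, Fintype.card_fin]
      exact (map_pow (sqSignHom F) (-1 : Fˣ) m).symm.trans (congrArg sqSign (by simp))
    have hr : (qRank (qPlus m F) h : ZMod 2) = (m : ZMod 2) := Multiplicative.ofAdd.injective ((hD h).symm.trans h1)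
    rw [mem_Omega_iff, MulEquiv.apply_symm_apply]
    refine ⟨hr, ?_⟩
    rw [hiff, ← ZMod.natCast_eq_zero_iff_even, hr, ZMod.natCast_eq_zero_iff_even, h2, sqSign_eq_one]
    exact ⟨fun h => h.1, fun hmev => ⟨hmev, by rw [hmev.neg_one_pow]; exact IsSquare.one⟩⟩

/-- The involution negating a family of hyperbolic pairs. -/
theorem pair_involution_iff {ι : Type} [Fintype ι] [DecidableEq ι] (Q : QuadraticForm F (ι → F)) (hQ : PolarNondeg Q)
    (hex : Fintype.card F ≠ 2 ∨ Fintype.card ι ≠ 4) {i : ℕ} (L R : Fin i → ι) (hL : Function.Injective L)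
    (hR : Function.Injective R) (hLR : ∀ a b, L a ≠ R b)
    (hpL : ∀ x j, QuadraticMap.polar Q x (Pi.single (L j) 1) = x (R j))
    (hpR : ∀ x j, QuadraticMap.polar Q x (Pi.single (R j) 1) = x (L j))
    (hqL : ∀ j, Q (Pi.single (L j) 1) = 0) (hqR : ∀ j, Q (Pi.single (R j) 1) = 0)
    (d : ι → F) (hdL : ∀ j, d (L j) = -1) (hdR : ∀ j, d (R j) = -1)
    (hd : ∀ k, (∀ j, L j ≠ k ∧ R j ≠ k) → d k = 1) :
    (∃ g : isometryGroup F ⇑Q, g ∈ Omega F ⇑Q ∧ ((g : GL ι F) : Matrix ι ι F) = diagonal d) ↔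
      IsSquare ((-1 : F) ^ i) := by
  classical
  obtain ⟨θ, hθ, hiff⟩ := exists_spin Q hQ (by rwa [Module.finrank_pi])
  obtain ⟨D, hD, hD1⟩ := exists_parity_hom Q hQ (reflGroup_eq_top _ hQ (by rwa [Module.finrank_pi]))
  let e : Fin i ⊕ Fin i → (ι → F) :=
    Sum.elim (fun j => Pi.single (L j) 1 + Pi.single (R j) 1) fun j => Pi.single (L j) 1 - Pi.single (R j) 1
  have hQu : ∀ j, Q (e (Sum.inl j)) = 1 := fun j => by
    simp [e, quad_add, hqL, hqR, hpR]
  have hQw : ∀ j, Q (e (Sum.inr j)) = -1 := fun j => by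
    simp [e, quad_sub, hqL, hqR, hpR]
  have hpu : ∀ x j, QuadraticMap.polar Q x (e (Sum.inl j)) = x (R j) + x (L j) := fun x j => by
    simp [e, QuadraticMap.polar_add_right, hpL, hpR]
  have hpw : ∀ x j, QuadraticMap.polar Q x (e (Sum.inr j)) = x (R j) - x (L j) := fun x j => by
    simp [e, QuadraticMap.polar_sub_right, hpL, hpR]
  have he : ∀ k, Q (e k) ≠ 0 := fun k => by
    rcases k with j | j
    · rw [hQu]; exact one_ne_zero
    · rw [hQw]; exact neg_ne_zero.2 one_ne_zero
  obtain ⟨h, hh, hψ⟩ := exists_refl_family Q (D.prod θ) e he (fun a b hab => by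
    rcases b with b | b
    · rw [hpu]
      rcases a with a | a
      · have hne : a ≠ b := fun h' => hab (h' ▸ rfl)
        simp [e, hL.ne hne.symm, hR.ne hne.symm, hLR, (hLR _ _).symm]
      · rcases eq_or_ne a b with rfl | hne
        · simp [e, hLR, (hLR _ _).symm]
        · simp [e, hL.ne hne.symm, hR.ne hne.symm, hLR, (hLR _ _).symm]
    · rw [hpw]
      rcases a with a | a
      · rcases eq_or_ne a b with rfl | hne
        · simp [e, hLR, (hLR _ _).symm]
        · simp [e, hL.ne hne.symm, hR.ne hne.symm, hLR, (hLR _ _).symm]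
      · have hne : a ≠ b := fun h' => hab (h' ▸ rfl)
        simp [e, hL.ne hne.symm, hR.ne hne.symm, hLR, (hLR _ _).symm]) Finset.univ
  have hmat : (((isoEquiv Q).symm h : GL ι F) : Matrix ι ι F) = diagonal d := by
    refine Matrix.ext_of_mulVec_single fun k => ?_
    show isoApply ((isoEquiv _).symm h) (Pi.single k 1) = _
    rw [← isoEquiv_apply, MulEquiv.apply_symm_apply, hh, Fintype.sum_sum_type]
    simp only [hQu, hQw, hpu, hpw]
    rw [← Finset.sum_add_distrib]
    funext l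
    simp only [e, Sum.elim_inl, Sum.elim_inr, Pi.sub_apply, Finset.sum_apply, Pi.add_apply, Pi.smul_apply,
      smul_eq_mul, mulVec_single, inv_one, inv_neg, one_mul, neg_mul]
    by_cases hkL : ∃ j, L j = k
    · obtain ⟨j, rfl⟩ := hkL
      rw [Finset.sum_eq_single j (fun b _ hb => by simp [hL.ne hb, (hLR _ _).symm]) (by simp)]
      rcases eq_or_ne l (L j) with rfl | hl
      · simp [diagonal_apply, hdL, hLR, (hLR _ _).symm]
      · simp [diagonal_apply, hl, (hLR _ _).symm]
    · by_cases hkR : ∃ j, R j = k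
      · obtain ⟨j, rfl⟩ := hkR
        rw [Finset.sum_eq_single j (fun b _ hb => by simp [hR.ne hb, hLR]) (by simp)]
        rcases eq_or_ne l (R j) with rfl | hl
        · simp [diagonal_apply, hdR, hLR, (hLR _ _).symm]
        · simp [diagonal_apply, hl, hLR]
      · push Not at hkL hkR
        rw [Finset.sum_eq_zero fun b _ => by simp [hkL b, hkR b]]
        rcases eq_or_ne l k with rfl | hl
        · simp [diagonal_apply, hd l fun j => ⟨hkL j, hkR j⟩]
        · simp [diagonal_apply, hl]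
  have h1 : Even (qRank Q h) := by
    rw [← ZMod.natCast_eq_zero_iff_even]
    refine Multiplicative.ofAdd.injective ((hD h).symm.trans ?_)
    have := congrArg Prod.fst hψ
    rw [Prod.fst_prod] at this
    refine this.trans ?_
    simp only [MonoidHom.prod_apply, hD1 _ (he _), Finset.prod_const, Finset.card_univ, Fintype.card_sum,
      Fintype.card_fin]
    rw [← ofAdd_nsmul, nsmul_one, show ((i + i : ℕ) : ZMod 2) = 0 from (ZMod.natCast_eq_zero_iff_even).2 ⟨i, rfl⟩]
  have h2 : θ h = sqSign ((-1 : F) ^ i) := by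
    have := congrArg Prod.snd hψ
    rw [Prod.snd_prod] at this
    refine this.trans ?_
    simp only [MonoidHom.prod_apply, hθ _ (he _), Fintype.prod_sum_type, hQu, hQw, Finset.prod_const,
      Finset.card_univ, Fintype.card_fin, sqSign_one, one_pow, one_mul]
    exact (map_pow (sqSignHom F) (-1 : Fˣ) i).symm.trans (congrArg sqSign (by simp))
  constructor
  · rintro ⟨g, hgO, hg⟩
    have : g = (isoEquiv Q).symm h := Subtype.ext (Units.ext (hg.trans hmat.symm))
    subst this
    rw [mem_Omega_iff, MulEquiv.apply_symm_apply, hiff, h2, sqSign_eq_one] at hgO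
    exact hgO.2
  · intro hs
    refine ⟨_, ?_, hmat⟩
    rw [mem_Omega_iff, MulEquiv.apply_symm_apply, hiff, h2, sqSign_eq_one]
    exact ⟨h1, hs⟩

end CfsgLib.Classical.Spin
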