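/-
Sylow `r`-subgroups of `GL(n, q)` and `SL(n, q)` for `r > n` are homocyclic.
-/
import Mathlib
import Cfsg.Agent.Lib.PrimeGraphPSL.Basic

set_option autoImplicit false

namespace CfsgLib.Classical.GLLargePrime

open Polynomial CfsgLib.PrimeGraphPSL

section Arith

variable {q r : ℕ}

theorem padic_cyclotomic (hq : 2 ≤ q) [hr : Fact r.Prime] (hrq : ¬ r ∣ q) :
    padicValNat r ((Polynomial.cyclotomic (orderOf (q : ZMod r)) ℤ).eval (q : ℤ)).natAbs =
      padicValNat r (q ^ orderOf (q : ZMod r) - 1) := by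
  set d := orderOf (q : ZMod r) with hd
  have hd0 : 0 < d := orderOf_natCast_pos hr.out hrq
  have h1 := congrArg (Polynomial.eval (q : ℤ)) (prod_cyclotomic_eq_X_pow_sub_one hd0 ℤ)
  rw [← Finset.prod_erase_mul _ _ (Nat.mem_divisors_self d hd0.ne'), eval_mul, eval_prod, eval_sub, eval_pow, eval_X,
    eval_one] at h1
  have hqd : 1 ≤ q ^ d := Nat.one_le_pow _ _ (by omega)
  have h2 := congrArg Int.natAbs h1
  rw [Int.natAbs_mul, show ((q : ℤ) ^ d - 1) = ((q ^ d - 1 : ℕ) : ℤ) by
    rw [Nat.cast_sub hqd, Nat.cast_pow, Nat.cast_one], Int.natAbs_natCast] at h2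
  set P := (∏ i ∈ d.divisors.erase d, (cyclotomic i ℤ).eval (q : ℤ)) with hP
  have hne : q ^ d - 1 ≠ 0 := by
    have : 1 < q ^ d := Nat.one_lt_pow hd0.ne' (by omega)
    omega
  have hP0 : ¬ r ∣ P.natAbs := by
    intro h
    rw [← Int.natCast_dvd, hP] at h
    obtain ⟨i, hi, hir⟩ := ((Nat.prime_iff_prime_int.1 hr.out).dvd_finsetProd_iff _).1 h
    obtain ⟨hid, hi'⟩ := Finset.mem_erase.1 hi
    have hdvd : (r : ℤ) ∣ ((q ^ i - 1 : ℕ) : ℤ) := by
      refine hir.trans ?_
      rw [Nat.cast_sub (Nat.one_le_pow _ _ (by omega)), Nat.cast_pow, Nat.cast_one]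
      simpa using eval_dvd (x := (q : ℤ)) (cyclotomic.dvd_X_pow_sub_one i ℤ)
    have h3 := (orderOf_natCast_dvd_iff (by omega : 1 ≤ q)).2 (Int.natCast_dvd_natCast.1 hdvd)
    rw [← hd] at h3
    exact hid (Nat.dvd_antisymm (Nat.dvd_of_mem_divisors hi') h3)
  have hA : ((cyclotomic d ℤ).eval (q : ℤ)).natAbs ≠ 0 := fun h => hne (by rw [← h2, h, mul_zero])
  rw [← h2, padicValNat.mul (fun h => hne (by rw [← h2, h, zero_mul])) hA, padicValNat.eq_zero_of_not_dvd hP0,
    zero_add]

theorem padic_pow_sub_one (hq : 2 ≤ q) [hr : Fact r.Prime] {j : ℕ}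
    (hj : 1 ≤ j) (hjr : j < r) :
    padicValNat r (q ^ j - 1) =
      if orderOf (q : ZMod r) ∣ j then padicValNat r (q ^ orderOf (q : ZMod r) - 1) else 0 := by
  set d := orderOf (q : ZMod r) with hd
  split_ifs with h
  · obtain ⟨t, ht⟩ := h
    have hd0 : d ≠ 0 := fun e => by rw [e, zero_mul] at ht; omega
    have ht0 : t ≠ 0 := fun e => by rw [e, mul_zero] at ht; omega
    have htr : t < r := by
      have : 1 * t ≤ d * t := Nat.mul_le_mul_right _ (by omega)
      omega
    have hx : 2 ≤ q ^ d := le_trans hq (Nat.le_self_pow hd0 q)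
    have hS : (∑ i ∈ Finset.range t, (q ^ d) ^ i) * (q ^ d - 1) = q ^ j - 1 := by
      rw [Nat.geomSum_eq hx, Nat.div_mul_cancel (Nat.sub_one_dvd_pow_sub_one _ t), ← pow_mul, ← ht]
    have hndvd : ¬ r ∣ ∑ i ∈ Finset.range t, (q ^ d) ^ i := by
      rw [← ZMod.natCast_eq_zero_iff, Nat.cast_sum]
      simp only [Nat.cast_pow, hd, pow_orderOf_eq_one, one_pow, Finset.sum_const, Finset.card_range,
        nsmul_eq_mul, mul_one]
      rw [ZMod.natCast_eq_zero_iff]
      intro h1
      have := Nat.le_of_dvd (by omega) h1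
      omega
    rw [← hS, padicValNat.mul (fun e => hndvd (by rw [e]; exact dvd_zero r)) (by omega), padicValNat.eq_zero_of_not_dvd hndvd,
      zero_add]
  · exact padicValNat.eq_zero_of_not_dvd fun h' => h ((orderOf_natCast_dvd_iff (by omega : 1 ≤ q)).2 h')

end Arith

variable {F : Type*} [Field F] [Fintype F] {q : ℕ} {r : ℕ} [hr : Fact r.Prime]

theorem padic_card_GL (hq : Fintype.card F = q) {n : ℕ} (hrn : n < r) (hrq : ¬ r ∣ q) :
    padicValNat r (Nat.card (GL (Fin n) F)) =
      n / orderOf (q : ZMod r) * padicValNat r (q ^ orderOf (q : ZMod r) - 1) := by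
  have hq2 : 2 ≤ q := hq ▸ Fintype.one_lt_card
  set d := orderOf (q : ZMod r)
  have key : ∀ m : ℕ, m < r →
      padicValNat r (∏ j ∈ Finset.Ioc 0 m, (q ^ j - 1)) = m / d * padicValNat r (q ^ d - 1) := by
    intro m hm
    have hsum : padicValNat r (∏ j ∈ Finset.Ioc 0 m, (q ^ j - 1)) =
        ∑ j ∈ Finset.Ioc 0 m, padicValNat r (q ^ j - 1) := by
      induction m with
      | zero => simp
      | succ m ih =>
        rw [Finset.prod_Ioc_succ_top (Nat.zero_le _), Finset.sum_Ioc_succ_top (Nat.zero_le _), padicValNat.mul,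
          ih (by omega)]
        · refine Finset.prod_ne_zero_iff.2 fun j hj => ?_
          have := Nat.one_lt_pow (n := j) (by have := (Finset.mem_Ioc.1 hj).1; omega) (by omega : 1 < q)
          omega
        · have := Nat.one_lt_pow (n := m + 1) (by omega) (by omega : 1 < q)
          omega
    rw [hsum, Finset.sum_congr rfl (fun j hj => padic_pow_sub_one (r := r) hq2 (j := j)
      (Finset.mem_Ioc.1 hj).1 ((Finset.mem_Ioc.1 hj).2.trans_lt hm)), ← Finset.sum_filter, Finset.sum_const,
      smul_eq_mul, Nat.Ioc_filter_dvd_card_eq_div]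
  have hprod : (∏ i : Fin n, (q ^ n - q ^ (i : ℕ))) =
      (∏ i : Fin n, q ^ (i : ℕ)) * ∏ j ∈ Finset.Ioc 0 n, (q ^ j - 1) := by
    have e : ∏ j ∈ Finset.Ioc 0 n, (q ^ j - 1) = ∏ i : Fin n, (q ^ (n - (i : ℕ)) - 1) := by
      refine (Finset.prod_bij (fun (i : Fin n) _ => n - (i : ℕ)) ?_ ?_ ?_ ?_).symm
      · intro i _; have := i.2; simp
      · intro a _ b _ hab; have := a.2; have := b.2; exact Fin.ext (by omega)
      · intro j hj
        have h := Finset.mem_Ioc.1 hj
        exact ⟨⟨n - j, by omega⟩, Finset.mem_univ _, by show n - (n - j) = j; omega⟩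
      · intro i _; rfl
    rw [e, ← Finset.prod_mul_distrib]
    refine Finset.prod_congr rfl fun i _ => ?_
    rw [Nat.mul_sub, mul_one, ← pow_add, Nat.add_sub_cancel' i.2.le]
  have h1 : ¬ r ∣ ∏ i : Fin n, q ^ (i : ℕ) := fun h => by
    obtain ⟨i, -, hi⟩ := (hr.out.prime.dvd_finsetProd_iff _).1 h
    exact hrq (hr.out.dvd_of_dvd_pow hi)
  rw [Matrix.card_GL_field, hq, hprod, padicValNat.mul (fun e => h1 (by rw [e]; exact dvd_zero r)), padicValNat.eq_zero_of_not_dvd h1,
    zero_add, key n hrn]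
  refine Finset.prod_ne_zero_iff.2 fun j hj => ?_
  have := Nat.one_lt_pow (n := j) (by have := (Finset.mem_Ioc.1 hj).1; omega) (by omega : 1 < q)
  omega

/-- An injective homomorphism of the right order describes the Sylow subgroups. -/
theorem sylow_equiv_of_injective {G A : Type*} [Group G] [Finite G] [Group A] (f : A →* G)
    (hf : Function.Injective f) (hA : Nat.card A = r ^ padicValNat r (Nat.card G)) (P : Sylow r G) :
    Nonempty (↥(P : Subgroup G) ≃* A) := by
  have hc : Nat.card f.range = r ^ (Nat.card G).factorization r := by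
    rw [← Nat.card_congr (MonoidHom.ofInjective hf).toEquiv, hA, Nat.factorization_def _ hr.out]
  exact ⟨((Sylow.equiv P (Sylow.ofCard f.range hc)).trans
    (MulEquiv.subgroupCongr (Sylow.coe_ofCard f.range hc))).trans (MonoidHom.ofInjective hf).symm⟩

theorem exists_cyclic_hom {L : Type*} [Field L] [Finite L] {e : ℕ} (h : r ^ e ∣ Nat.card L - 1) :
    ∃ ι : Multiplicative (ZMod (r ^ e)) →* Lˣ, Function.Injective ι := by
  obtain ⟨g, hg⟩ := IsCyclic.exists_ofOrder_eq_natCard (α := Lˣ)
  rw [Nat.card_units] at hg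
  obtain ⟨c, hc⟩ := h
  have hc0 : c ≠ 0 := fun e' => by
    have := Finite.one_lt_card (α := L); rw [e', mul_zero] at hc; omega
  have ho : orderOf (g ^ c) = r ^ e := by
    rw [orderOf_pow_of_dvd hc0 (hg.symm ▸ hc ▸ dvd_mul_left c _), hg, hc, Nat.mul_div_cancel _ (Nat.pos_of_ne_zero hc0)]
  let iso : Multiplicative (ZMod (r ^ e)) ≃* Subgroup.zpowers (g ^ c) :=
    mulEquivOfCyclicCardEq (by simp [Nat.card_zpowers, ho])
  exact ⟨(Subgroup.zpowers (g ^ c)).subtype.comp iso.toMonoidHom,
    Subtype.val_injective.comp iso.injective⟩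

/-- Block scalar matrices over a field extension. -/
theorem exists_block_hom (hq : Fintype.card F = q) {n d a e : ℕ} (hd : 1 ≤ d) (han : d * a ≤ n)
    (he : r ^ e ∣ q ^ d - 1) :
    ∃ f : (Fin a → Multiplicative (ZMod (r ^ e))) →* GL (Fin n) F, Function.Injective f := by
  obtain ⟨L, _, _, _, φ, -, hcard, hinj, -⟩ := CfsgLib.KnownSimple.exists_extension_matrix (F := F) d hd
  obtain ⟨ι, hι⟩ := exists_cyclic_hom (L := L) (r := r) (e := e)
    (by rw [Nat.card_eq_fintype_card, hcard, hq]; exact he)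
  let σ : (Fin d × Fin a) ⊕ Fin (n - d * a) ≃ Fin n := Fintype.equivFinOfCardEq (by simp; omega)
  let B : (Fin a → Matrix (Fin d) (Fin d) F) →* Matrix (Fin n) (Fin n) F :=
    { toFun := fun M => Matrix.reindexAlgEquiv F F σ (Matrix.fromBlocks (Matrix.blockDiagonal M) 0 0 1)
      map_one' := by rw [Matrix.blockDiagonal_one, Matrix.fromBlocks_one, map_one]
      map_mul' := fun M N => by
        rw [← map_mul, Matrix.fromBlocks_multiply, Pi.mul_def, Matrix.blockDiagonal_mul]
        simp }
  have hB : Function.Injective B := by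
    intro M N h
    exact Matrix.blockDiagonal_injective ((Matrix.fromBlocks_inj).1 ((Matrix.reindexAlgEquiv F F σ).injective h)).1
  let g : (Fin a → Multiplicative (ZMod (r ^ e))) →* Matrix (Fin n) (Fin n) F :=
    B.comp (MonoidHom.compLeft ((φ.toRingHom.toMonoidHom.comp (Units.coeHom L)).comp ι) (Fin a))
  refine ⟨g.toHomUnits, fun x y h => ?_⟩
  have h1 : g x = g y := congrArg Units.val h
  have h2 := hB h1
  funext i
  exact hι (Units.ext (hinj (congrFun h2 i)))

theorem gl_sylow (hq : Fintype.card F = q) (n : ℕ) (hrn : n < r) (hrq : ¬ r ∣ q) (P : Sylow r (GL (Fin n) F)) :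
    Nonempty (↥(P : Subgroup (GL (Fin n) F)) ≃* (Fin (n / orderOf (q : ZMod r)) →
      Multiplicative (ZMod (r ^ padicValNat r (q ^ orderOf (q : ZMod r) - 1))))) := by
  obtain ⟨f, hf⟩ := exists_block_hom (r := r) hq (orderOf_natCast_pos hr.out hrq) (Nat.mul_div_le n _)
    (pow_padicValNat_dvd (p := r) (n := q ^ orderOf (q : ZMod r) - 1))
  refine sylow_equiv_of_injective f hf ?_ P
  rw [padic_card_GL hq hrn hrq, Nat.card_pi, Finset.prod_const, Finset.card_univ, Fintype.card_fin,
    Nat.card_eq_fintype_card, Fintype.card_multiplicative, ZMod.card, ← pow_mul, mul_comm]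

theorem padic_card_SL (hq : Fintype.card F = q) {n : ℕ} (hn : 1 ≤ n) (hrn : n < r) (hrq : ¬ r ∣ q) :
    padicValNat r (q - 1) + padicValNat r (Nat.card (Matrix.SpecialLinearGroup (Fin n) F)) =
      n / orderOf (q : ZMod r) * padicValNat r (q ^ orderOf (q : ZMod r) - 1) := by
  haveI : Nonempty (Fin n) := ⟨⟨0, hn⟩⟩
  have hq2 : 2 ≤ q := hq ▸ Fintype.one_lt_card
  rw [← padic_card_GL hq hrn hrq, ← CfsgLib.Classical.card_units_mul_card_SL (F := F) (ι := Fin n),
    padicValNat.mul Nat.card_pos.ne' Nat.card_pos.ne', CfsgLib.Classical.card_units_eq hq]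

theorem count_filter (n d : ℕ) (hd : d ≠ 0) :
    ((Finset.Icc 2 n).filter (fun i => d ∣ i)).card = if d = 1 then n - 1 else n / d := by
  split_ifs with h
  · subst h
    rw [Finset.filter_true_of_mem (fun i _ => one_dvd i), Nat.card_Icc]
    omega
  · rw [← Nat.Ioc_filter_dvd_card_eq_div n d]
    congr 1
    ext i
    simp only [Finset.mem_filter, Finset.mem_Icc, Finset.mem_Ioc]
    constructor
    · rintro ⟨⟨h1, h2⟩, h3⟩; exact ⟨⟨by omega, h2⟩, h3⟩
    · rintro ⟨⟨h1, h2⟩, h3⟩
      refine ⟨⟨?_, h2⟩, h3⟩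
      by_contra h4
      obtain rfl : i = 1 := by omega
      exact h (Nat.dvd_one.1 h3)

theorem sl_sylow (hq : Fintype.card F = q) (n : ℕ) (hrn : n < r) (hrq : ¬ r ∣ q)
    (P : Sylow r (Matrix.SpecialLinearGroup (Fin n) F)) :
    Nonempty (↥(P : Subgroup (Matrix.SpecialLinearGroup (Fin n) F)) ≃*
      (Fin (((Finset.Icc 2 n).filter (fun i => orderOf (q : ZMod r) ∣ i)).card) →
        Multiplicative (ZMod (r ^ padicValNat r (q ^ orderOf (q : ZMod r) - 1))))) := by
  have hq2 : 2 ≤ q := hq ▸ Fintype.one_lt_card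
  have hd0 := orderOf_natCast_pos hr.out hrq
  set d := orderOf (q : ZMod r) with hd
  set e := padicValNat r (q ^ d - 1) with he
  rw [count_filter n d hd0.ne']
  have hcardA : ∀ a : ℕ, Nat.card (Fin a → Multiplicative (ZMod (r ^ e))) = r ^ (a * e) := fun a => by
    rw [Nat.card_pi, Finset.prod_const, Finset.card_univ, Fintype.card_fin,
      Nat.card_eq_fintype_card, Fintype.card_multiplicative, ZMod.card, ← pow_mul, mul_comm]
  rcases Nat.eq_zero_or_pos n with rfl | hn
  · rw [show (if d = 1 then 0 - 1 else 0 / d) = 0 by simp]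
    refine sylow_equiv_of_injective (1 : (Fin 0 → Multiplicative (ZMod (r ^ e))) →* _)
      (fun x y _ => Subsingleton.elim x y) ?_ P
    simp
  have hcard := padic_card_SL (r := r) hq hn hrn hrq
  rw [← hd, ← he] at hcard
  by_cases h1 : d = 1
  · rw [if_pos h1]
    have heq : e = padicValNat r (q - 1) := by rw [he, h1, pow_one]
    obtain ⟨ι, hι⟩ := exists_cyclic_hom (L := F) (r := r) (e := e)
      (by rw [Nat.card_eq_fintype_card, hq, heq]; exact pow_padicValNat_dvd)
    obtain ⟨m, rfl⟩ : ∃ m, n = m + 1 := ⟨n - 1, by omega⟩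
    rw [Nat.add_sub_cancel]
    let D : (Fin m → Multiplicative (ZMod (r ^ e))) →* Matrix.SpecialLinearGroup (Fin (m + 1)) F :=
      { toFun := fun x => ⟨Matrix.diagonal (fun i => ((Fin.snoc (α := fun _ => Fˣ) (fun j => ι (x j)) (∏ j, ι (x j))⁻¹ i : Fˣ) : F)), by
          rw [Matrix.det_diagonal, ← Units.coe_prod, Fin.prod_univ_castSucc]
          simp⟩
        map_one' := by
          ext i j
          rcases eq_or_ne i j with rfl | hij
          · induction i using Fin.lastCases <;> simp
          · simp [Matrix.diagonal_apply_ne _ hij, Matrix.one_apply_ne hij]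
        map_mul' := fun x y => by
          apply Subtype.ext
          show Matrix.diagonal _ = Matrix.diagonal _ * Matrix.diagonal _
          rw [Matrix.diagonal_mul_diagonal]
          congr 1
          funext i
          induction i using Fin.lastCases <;> simp [Finset.prod_mul_distrib, mul_comm] }
    refine sylow_equiv_of_injective D (fun x y h => ?_) ?_ P
    · funext j
      have h' := congrArg (fun M : Matrix.SpecialLinearGroup (Fin (m + 1)) F => (M : Matrix _ _ F) j.castSucc j.castSucc) h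
      refine hι (Units.ext ?_)
      change Matrix.diagonal _ j.castSucc j.castSucc = Matrix.diagonal _ j.castSucc j.castSucc at h'
      simpa using h'
    · rw [hcardA]
      congr 1
      rw [h1, Nat.div_one, ← heq, add_mul, one_mul] at hcard
      omega
  · rw [if_neg h1]
    have hr1 : ¬ r ∣ q - 1 := fun h => h1 ((orderOf_natCast_eq_one (by omega)).2 h)
    rw [padicValNat.eq_zero_of_not_dvd hr1, zero_add] at hcard
    obtain ⟨f, hf⟩ := exists_block_hom (r := r) (n := n) (a := n / d) hq hd0 (Nat.mul_div_le n d)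
      (pow_padicValNat_dvd (p := r) (n := q ^ d - 1))
    have hdet : ∀ x, ((f x : GL (Fin n) F) : Matrix (Fin n) (Fin n) F).det = 1 := by
      intro x
      refine det_eq_one_of_pow (m := r ^ e) ?_ (pow_ne_zero _ hr.out.ne_zero) ?_
      · have : x ^ r ^ e = 1 := by
          funext i
          rw [Pi.pow_apply, Pi.one_apply]
          have h2 := pow_card_eq_one' (x := x i)
          rwa [Nat.card_eq_fintype_card, Fintype.card_multiplicative, ZMod.card] at h2
        rw [← Units.val_pow_eq_pow_val, ← map_pow, this, map_one, Units.val_one]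
      · rw [hq]; exact ((hr.out.coprime_iff_not_dvd).2 hr1).pow_left _
    let D : (Fin (n / d) → Multiplicative (ZMod (r ^ e))) →* Matrix.SpecialLinearGroup (Fin n) F :=
      { toFun := fun x => ⟨_, hdet x⟩
        map_one' := by apply Subtype.ext; simp
        map_mul' := fun x y => by apply Subtype.ext; simp only [map_mul, Units.val_mul]; rfl }
    refine sylow_equiv_of_injective D (fun x y h => hf (Units.ext (congrArg Subtype.val h))) ?_ P
    rw [hcardA, hcard]

end CfsgLib.Classical.GLLargePrime
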