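/-
In characteristic two the group of `quadFormOdd` is the symplectic group.
-/
import Cfsg.Agent.Lib.Classical.QuadStd
import Cfsg.Agent.Lib.Classical.SpBasic

set_option autoImplicit false

namespace CfsgLib.Classical

open Matrix Cfsg

variable {F : Type*} [Field F] [CharP F 2] {m : ℕ}

/-- The symplectic part of a vector. -/
def oddPart (m : ℕ) (F : Type*) [Field F] : (OddI m → F) →ₗ[F] (Fin m ⊕ Fin m → F) :=
  LinearMap.funLeft F F Sum.inr

/-- The vectors with vanishing first coordinate. -/
def oddLift (m : ℕ) (F : Type*) [Field F] (a : F) (w : Fin m ⊕ Fin m → F) : OddI m → F :=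
  Sum.elim (fun _ => a) w

omit [CharP F 2] in
theorem qOdd_eq_sq_add (x : OddI m → F) :
    qOdd m F x = x oZ * x oZ + qPlus m F (oddPart m F x) := by
  rw [qOdd_apply, coe_qPlus]
  rfl

theorem polar_qPlus_two (u v : Fin m ⊕ Fin m → F) :
    QuadraticMap.polar (qPlus m F) u v = sympForm m F u v := by
  rw [sympForm_eq, QuadraticMap.polar, coe_qPlus]
  simp only [Cfsg.quadFormPlus, Pi.add_apply]
  rw [← Finset.sum_sub_distrib, ← Finset.sum_sub_distrib]
  refine Finset.sum_congr rfl fun i _ => ?_
  rw [sub_eq_add_neg (u (Sum.inr i) * _) _, CharTwo.neg_eq]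
  ring

theorem polar_qOdd_two (x y : OddI m → F) :
    QuadraticMap.polar (qOdd m F) x y = sympForm m F (oddPart m F x) (oddPart m F y) := by
  rw [← polar_qPlus_two, QuadraticMap.polar, QuadraticMap.polar, qOdd_eq_sq_add, qOdd_eq_sq_add, qOdd_eq_sq_add,
    map_add, Pi.add_apply]
  linear_combination (x oZ * y oZ) * (CharTwo.two_eq_zero : (2 : F) = 0)

omit [CharP F 2] in
theorem oddPart_oddLift (a : F) (w : Fin m ⊕ Fin m → F) : oddPart m F (oddLift m F a w) = w := rfl

omit [CharP F 2] in
theorem oddLift_oddPart (x : OddI m → F) : oddLift m F (x oZ) (oddPart m F x) = x :=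
  funext fun i => by rcases i with ⟨⟩ | i <;> rfl

omit [CharP F 2] in
theorem oddLift_eq (a : F) (w : Fin m ⊕ Fin m → F) : oddLift m F a w = oddLift m F a 0 + oddLift m F 0 w :=
  funext fun i => by rcases i with ⟨⟩ | i <;> simp [oddLift]

theorem oddPart_iso_line (g : isometryGroup F ⇑(qOdd m F)) (a : F) :
    oddPart m F (isoApply g (oddLift m F a 0)) = 0 := by
  refine sympForm_nondeg fun w => ?_
  have h := iso_polar (qOdd m F) g (oddLift m F a 0) (isoApply g⁻¹ (oddLift m F 0 w))
  change QuadraticMap.polar (qOdd m F) (isoApply g (oddLift m F a 0)) (isoApply g (isoApply g⁻¹ (oddLift m F 0 w))) =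
    QuadraticMap.polar (qOdd m F) (oddLift m F a 0) (isoApply g⁻¹ (oddLift m F 0 w)) at h
  rw [isoApply_apply_inv, polar_qOdd_two, polar_qOdd_two, oddPart_oddLift, oddPart_oddLift] at h
  rw [h, sympForm_eq]
  simp

/-- The action on the symplectic quotient. -/
noncomputable def oddToSp (g : isometryGroup F ⇑(qOdd m F)) : symplecticGroup (Fin m) F :=
  ⟨LinearMap.toMatrix' ((oddPart m F) ∘ₗ ((g : GL (OddI m) F) : Matrix (OddI m) (OddI m) F).mulVecLin ∘ₗ
    { toFun := fun w => oddLift m F 0 w
      map_add' := fun u v => funext fun i => by rcases i with ⟨⟩ | i <;> simp [oddLift]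
      map_smul' := fun c u => funext fun i => by rcases i with ⟨⟩ | i <;> simp [oddLift] }),
    mem_sp_iff.2 fun u v => by
      rw [LinearMap.toMatrix'_mulVec, LinearMap.toMatrix'_mulVec]
      change sympForm m F (oddPart m F (isoApply g (oddLift m F 0 u))) (oddPart m F (isoApply g (oddLift m F 0 v))) = _
      rw [← polar_qOdd_two, show QuadraticMap.polar (qOdd m F) (isoApply g (oddLift m F 0 u))
        (isoApply g (oddLift m F 0 v)) = QuadraticMap.polar (qOdd m F) (oddLift m F 0 u) (oddLift m F 0 v) from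
        iso_polar (qOdd m F) g _ _, polar_qOdd_two, oddPart_oddLift, oddPart_oddLift]⟩

theorem oddToSp_apply (g : isometryGroup F ⇑(qOdd m F)) (w : Fin m ⊕ Fin m → F) :
    (oddToSp g).1 *ᵥ w = oddPart m F (isoApply g (oddLift m F 0 w)) :=
  LinearMap.toMatrix'_mulVec _ w

theorem oddPart_isoApply (g : isometryGroup F ⇑(qOdd m F)) (x : OddI m → F) :
    oddPart m F (isoApply g x) = (oddToSp g).1 *ᵥ oddPart m F x := by
  conv_lhs => rw [← oddLift_oddPart x, oddLift_eq]
  rw [oddToSp_apply, show isoApply g (oddLift m F (x oZ) 0 + oddLift m F 0 (oddPart m F x)) =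
    isoApply g (oddLift m F (x oZ) 0) + isoApply g (oddLift m F 0 (oddPart m F x)) from Matrix.mulVec_add _ _ _,
    map_add, oddPart_iso_line, zero_add]

theorem oddToSp_mul (g h : isometryGroup F ⇑(qOdd m F)) : oddToSp (g * h) = oddToSp g * oddToSp h :=
  sp_ext fun w => by
    rw [oddToSp_apply, isoApply_mul, oddPart_isoApply, ← oddToSp_apply, Submonoid.coe_mul, mulVec_mulVec]

/-- `O_{2m+1}(q) ≅ Sp_{2m}(q)` in characteristic two. -/
theorem nonempty_oddToSp [Finite F] :
    Nonempty (isometryGroup F ⇑(qOdd m F) ≃* symplecticGroup (Fin m) F) := by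
  classical
  haveI := Fintype.ofFinite F
  have sqinj : ∀ a b : F, a * a = b * b → a = b := fun a b h => by
    rcases mul_self_eq_mul_self_iff.1 h with h | h
    · exact h
    · rwa [CharTwo.neg_eq] at h
  refine ⟨MulEquiv.ofBijective (MonoidHom.mk' oddToSp oddToSp_mul) ⟨fun g h he => ?_, fun A => ?_⟩⟩
  · change oddToSp g = oddToSp h at he
    refine iso_ext fun x => ?_
    have hp : oddPart m F (isoApply g x) = oddPart m F (isoApply h x) := by
      rw [oddPart_isoApply, oddPart_isoApply, he]
    have hq : qOdd m F (isoApply g x) = qOdd m F (isoApply h x) := by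
      rw [show qOdd m F (isoApply g x) = qOdd m F x from isoApply_Q g x,
        show qOdd m F (isoApply h x) = qOdd m F x from isoApply_Q h x]
    rw [qOdd_eq_sq_add, qOdd_eq_sq_add, hp, add_left_inj] at hq
    rw [← oddLift_oddPart (isoApply g x), ← oddLift_oddPart (isoApply h x), hp, sqinj _ _ hq]
  · have hroot : ∀ w, ∃ s : F, s * s = qPlus m F (A.1 *ᵥ w) + qPlus m F w := fun w => by
      obtain ⟨s, hs⟩ := FiniteField.isSquare_of_char_two (ringChar.eq F 2) (qPlus m F (A.1 *ᵥ w) + qPlus m F w)
      exact ⟨s, hs.symm⟩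
    choose φ hφ using hroot
    have hadd : ∀ u v, φ (u + v) = φ u + φ v := fun u v => by
      refine sqinj _ _ ?_
      have e1 : qPlus m F (A.1 *ᵥ (u + v)) = qPlus m F (A.1 *ᵥ u) + qPlus m F (A.1 *ᵥ v) + sympForm m F u v := by
        rw [mulVec_add, ← sp_form A u v, ← polar_qPlus_two]
        simp [QuadraticMap.polar]
      have e2 : qPlus m F (u + v) = qPlus m F u + qPlus m F v + sympForm m F u v := by
        rw [← polar_qPlus_two]
        simp [QuadraticMap.polar]
      rw [hφ, e1, e2]
      linear_combination (sympForm m F u v - φ u * φ v) * (CharTwo.two_eq_zero : (2 : F) = 0) - hφ u - hφ v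
    have hsmul : ∀ (c : F) u, φ (c • u) = c * φ u := fun c u => by
      refine sqinj _ _ ?_
      rw [hφ, mulVec_smul, QuadraticMap.map_smul, QuadraticMap.map_smul, smul_eq_mul, smul_eq_mul]
      linear_combination -(c * c) * hφ u
    let L : (OddI m → F) →ₗ[F] (OddI m → F) :=
      { toFun := fun x => oddLift m F (x oZ + φ (oddPart m F x)) (A.1 *ᵥ oddPart m F x)
        map_add' := fun x y => funext fun i => by
          rw [map_add, hadd, mulVec_add]
          rcases i with ⟨⟩ | i
          · change (x + y) oZ + _ = _ + (_ : F)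
            simp only [Pi.add_apply]
            change _ = (x oZ + φ (oddPart m F x)) + (y oZ + φ (oddPart m F y))
            ring
          · rfl
        map_smul' := fun c x => funext fun i => by
          rw [map_smul, hsmul, mulVec_smul, RingHom.id_apply]
          rcases i with ⟨⟩ | i
          · change (c • x) oZ + c * φ (oddPart m F x) = c * (x oZ + φ (oddPart m F x))
            rw [Pi.smul_apply, smul_eq_mul]
            ring
          · rfl }
    have hinj : Function.Injective L := fun x y hxy => by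
      have h1 : A.1 *ᵥ oddPart m F x = A.1 *ᵥ oddPart m F y := congrArg (oddPart m F) hxy
      have h2 := sp_mulVec_injective A h1
      have h3 : x oZ + φ (oddPart m F x) = y oZ + φ (oddPart m F y) := congrFun hxy oZ
      rw [h2, add_left_inj] at h3
      rw [← oddLift_oddPart x, ← oddLift_oddPart y, h2, h3]
    have hQ : ∀ x, qOdd m F (L x) = qOdd m F x := fun x => by
      rw [qOdd_eq_sq_add, qOdd_eq_sq_add]
      change (x oZ + φ (oddPart m F x)) * (x oZ + φ (oddPart m F x)) + qPlus m F (A.1 *ᵥ oddPart m F x) = _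
      linear_combination hφ (oddPart m F x) +
        (x oZ * φ (oddPart m F x) + qPlus m F (A.1 *ᵥ oddPart m F x)) * (CharTwo.two_eq_zero : (2 : F) = 0)
    refine ⟨isoMk L hinj hQ, sp_ext fun w => ?_⟩
    change (oddToSp (isoMk L hinj hQ)).1 *ᵥ w = _
    rw [oddToSp_apply, isoMk_apply]
    rfl

end CfsgLib.Classical
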