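/-
Non-degenerate subspaces of the standard symplectic space and their stabilisers.
-/
import Cfsg.Agent.Lib.Classical.AltBasis
import Cfsg.Prelude.Def_ClassicalGeometry

set_option autoImplicit false

namespace CfsgLib.Classical

open Matrix Cfsg

variable {F : Type*} [Field F] {m : ℕ}

/-- A symplectic matrix from a linear isometry. -/
theorem spMk_exists (f : (Fin m ⊕ Fin m → F) →ₗ[F] (Fin m ⊕ Fin m → F))
    (hf : ∀ u v, sympForm m F (f u) (f v) = sympForm m F u v) :
    ∃ g : symplecticGroup (Fin m) F, ∀ x, g.1 *ᵥ x = f x :=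
  ⟨⟨LinearMap.toMatrix' f, mem_sp_iff.2 fun u v => by
      rw [LinearMap.toMatrix'_mulVec, LinearMap.toMatrix'_mulVec]
      exact hf u v⟩, fun x => LinearMap.toMatrix'_mulVec _ x⟩

/-- A split isometry adapted to a non-degenerate subspace. -/
theorem exists_sp_split (k : ℕ) (W : Submodule F (Fin m ⊕ Fin m → F))
    (hWk : Module.finrank F W = 2 * k)
    (hW : ∀ u ∈ W, (∀ v ∈ W, sympForm m F u v = 0) → u = 0) :
    ∃ T : ((Fin k ⊕ Fin k → F) × (Fin (m - k) ⊕ Fin (m - k) → F)) ≃ₗ[F] (Fin m ⊕ Fin m → F),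
      (∀ p r, sympForm m F (T p) (T r) = sympForm k F p.1 r.1 + sympForm (m - k) F p.2 r.2) ∧
      ∀ p, T p ∈ W ↔ p.2 = 0 := by
  classical
  set B := spBilin m F
  have href : B.IsRefl := (spBilin_isAlt (m := m) (F := F)).isRefl
  have hnd : (B.restrict W).Nondegenerate := by
    refine ⟨fun u hu => Subtype.ext (hW u u.2 fun v hv => hu ⟨v, hv⟩), fun u hu =>
      Subtype.ext (hW u u.2 fun v hv => ?_)⟩
    rw [sympForm_swap]
    exact neg_eq_zero.2 (hu ⟨v, hv⟩)
  set W' := B.orthogonal W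
  have hc : IsCompl W W' := LinearMap.BilinForm.isCompl_orthogonal_of_restrict_nondegenerate href hnd
  have hdim : Module.finrank F W + Module.finrank F W' = 2 * m := by
    rw [Submodule.finrank_add_eq_of_isCompl hc, Module.finrank_pi, Fintype.card_sum, Fintype.card_fin]
    omega
  have horth : ∀ u ∈ W, ∀ v ∈ W', sympForm m F u v = 0 := fun u hu v hv =>
    (LinearMap.BilinForm.mem_orthogonal_iff.1 hv) u hu
  have horth' : ∀ u ∈ W, ∀ v ∈ W', sympForm m F v u = 0 := fun u hu v hv => by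
    rw [sympForm_swap, horth u hu v hv, neg_zero]
  obtain ⟨k₁, hk₁, e₁, he₁⟩ := exists_symp_equiv (B.restrict W) (fun u => sympForm_self (u : Fin m ⊕ Fin m → F))
    (fun u hu => hnd.1 u hu)
  obtain ⟨k₂, hk₂, e₂, he₂⟩ := exists_symp_equiv (B.restrict W') (fun u => sympForm_self (u : Fin m ⊕ Fin m → F))
    (fun u hu => Subtype.ext <| sympForm_nondeg fun v => by
      obtain ⟨a, ha, b, hb, rfl⟩ := Submodule.mem_sup.1
        (hc.sup_eq_top ▸ Submodule.mem_top : v ∈ W ⊔ W')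
      rw [sympForm_add_right, horth' a ha u u.2, zero_add]
      exact hu ⟨b, hb⟩)
  obtain rfl : k = k₁ := by omega
  obtain rfl : k₂ = m - k := by omega
  let T := (e₁.prodCongr e₂).trans (Submodule.prodEquivOfIsCompl W W' hc)
  have hT : ∀ p, T p = (e₁ p.1 : Fin m ⊕ Fin m → F) + (e₂ p.2 : Fin m ⊕ Fin m → F) := fun p => by
    simp [T]
  refine ⟨T, fun p r => ?_, fun p => ?_⟩
  · rw [hT, hT, sympForm_add_left, sympForm_add_right, sympForm_add_right,
      horth _ (e₁ p.1).2 _ (e₂ r.2).2, horth' _ (e₁ r.1).2 _ (e₂ p.2).2, add_zero, zero_add,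
      ← he₁, ← he₂]
    rfl
  · rw [hT]
    constructor
    · intro h
      have h2 : (e₂ p.2 : Fin m ⊕ Fin m → F) ∈ W := by
        simpa using W.sub_mem h (e₁ p.1).2
      have h0 : (e₂ p.2 : Fin m ⊕ Fin m → F) ∈ W ⊓ W' := ⟨h2, (e₂ p.2).2⟩
      rw [hc.inf_eq_bot, Submodule.mem_bot] at h0
      exact e₂.map_eq_zero_iff.1 (Subtype.ext h0)
    · intro h
      simp [h]

/-- The stabiliser of a non-degenerate subspace of the symplectic space. -/
theorem sp_stab_nondeg_equiv (k : ℕ) (W : Submodule F (Fin m ⊕ Fin m → F))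
    (hWk : Module.finrank F W = 2 * k)
    (hW : ∀ u ∈ W, (∀ v ∈ W, sympForm m F u v = 0) → u = 0) :
    Nonempty (↥(stabilizing (spToMat m F) (W : Set (Fin m ⊕ Fin m → F))) ≃*
      symplecticGroup (Fin k) F × symplecticGroup (Fin (m - k)) F) := by
  classical
  obtain ⟨T, hT, hTW⟩ := exists_sp_split k W hWk hW
  set S := stabilizing (spToMat m F) (W : Set (Fin m ⊕ Fin m → F))
  have hex : ∀ p : symplecticGroup (Fin k) F × symplecticGroup (Fin (m - k)) F,
      ∃ g : symplecticGroup (Fin m) F, ∀ r, g.1 *ᵥ T r = T (p.1.1 *ᵥ r.1, p.2.1 *ᵥ r.2) := fun p => by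
    obtain ⟨g, hg⟩ := spMk_exists (T.toLinearMap.comp
      (((mulVecLin p.1.1).prodMap (mulVecLin p.2.1)).comp T.symm.toLinearMap)) (fun u v => by
        obtain ⟨a, rfl⟩ := T.surjective u
        obtain ⟨c, rfl⟩ := T.surjective v
        simp [hT, sp_form])
    exact ⟨g, fun r => by rw [hg]; simp⟩
  choose ψ hψ using hex
  have hmem : ∀ p, ψ p ∈ S := fun p v => by
    obtain ⟨r, rfl⟩ := T.surjective v
    change T r ∈ W ↔ (ψ p).1 *ᵥ T r ∈ W
    rw [hψ, hTW, hTW]
    constructor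
    · intro h
      simp [h]
    · intro h
      change p.2.1 *ᵥ r.2 = 0 at h
      rw [← sp_inv_mulVec p.2 r.2, h, mulVec_zero]
  let Ψ : symplecticGroup (Fin k) F × symplecticGroup (Fin (m - k)) F →* S :=
    MonoidHom.mk' (fun p => ⟨ψ p, hmem p⟩) fun p r =>
      Subtype.ext (sp_ext fun x => by
        obtain ⟨t, rfl⟩ := T.surjective x
        rw [hψ]
        change _ = ((ψ p).1 * (ψ r).1) *ᵥ T t
        rw [← mulVec_mulVec, hψ, hψ]
        simp [mulVec_mulVec])
  refine ⟨(MulEquiv.ofBijective Ψ ⟨fun p r h => ?_, fun x => ?_⟩).symm⟩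
  · have h' : ∀ t, (ψ p).1 *ᵥ T t = (ψ r).1 *ᵥ T t := fun t => by
      rw [show ψ p = ψ r from congrArg Subtype.val h]
    refine Prod.ext (sp_ext fun a => ?_) (sp_ext fun c => ?_)
    · have := h' (a, 0)
      rw [hψ, hψ] at this
      exact congrArg Prod.fst (T.injective this)
    · have := h' (0, c)
      rw [hψ, hψ] at this
      exact congrArg Prod.snd (T.injective this)
  · let L : ((Fin k ⊕ Fin k → F) × (Fin (m - k) ⊕ Fin (m - k) → F)) →ₗ[F]
        ((Fin k ⊕ Fin k → F) × (Fin (m - k) ⊕ Fin (m - k) → F)) :=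
      T.symm.toLinearMap.comp ((mulVecLin x.1.1).comp T.toLinearMap)
    have hTL : ∀ t, T (L t) = x.1.1 *ᵥ T t := fun t => T.apply_symm_apply _
    have hform : ∀ p r, sympForm k F (L p).1 (L r).1 + sympForm (m - k) F (L p).2 (L r).2 =
        sympForm k F p.1 r.1 + sympForm (m - k) F p.2 r.2 := fun p r => by
      rw [← hT, ← hT, hTL, hTL, sp_form]
    have hL : ∀ t, t.2 = 0 ↔ (L t).2 = 0 := fun t => by
      rw [← hTW, ← hTW, hTL]
      exact x.2 (T t)
    have hsurj : Function.Surjective L := by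
      intro y
      refine ⟨T.symm (x.1⁻¹.1 *ᵥ T y), T.injective ?_⟩
      rw [hTL, T.apply_symm_apply, sp_mulVec_inv]
    have hperp : ∀ c, (L (0, c)).1 = 0 := fun c => sympForm_nondeg fun w => by
      obtain ⟨a, ha⟩ := hsurj (w, 0)
      have ha2 : a.2 = 0 := (hL a).2 (by rw [ha])
      have h := hform (0, c) a
      rw [ha] at h
      simpa [ha2] using h
    let A := (LinearMap.fst F _ _).comp (L.comp (LinearMap.inl F (Fin k ⊕ Fin k → F) _))
    let C := (LinearMap.snd F _ _).comp (L.comp (LinearMap.inr F _ (Fin (m - k) ⊕ Fin (m - k) → F)))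
    have hA : ∀ a, L (a, 0) = (A a, 0) := fun a => Prod.ext rfl ((hL (a, 0)).1 rfl)
    have hC : ∀ c, L (0, c) = (0, C c) := fun c => Prod.ext (hperp c) rfl
    obtain ⟨gA, hgA⟩ := spMk_exists A (fun u v => by simpa [hA] using hform (u, 0) (v, 0))
    obtain ⟨gC, hgC⟩ := spMk_exists C (fun u v => by simpa [hC] using hform (0, u) (0, v))
    refine ⟨(gA, gC), Subtype.ext (sp_ext fun v => ?_)⟩
    obtain ⟨⟨a, c⟩, rfl⟩ := T.surjective v
    change (ψ (gA, gC)).1 *ᵥ _ = _
    rw [hψ, ← hTL, hgA, hgC]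
    congr 1
    rw [show ((a, c) : (Fin k ⊕ Fin k → F) × (Fin (m - k) ⊕ Fin (m - k) → F)) = (a, 0) + (0, c) by simp,
      map_add, hA, hC]
    simp

end CfsgLib.Classical
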