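/-
The symmetric group on `2n` letters inside the symplectic group of degree `2n - 2` in characteristic two.
-/
import Cfsg.Agent.Lib.Classical.SpSplit

set_option autoImplicit false

namespace CfsgLib.Classical

open Matrix Cfsg

variable {F : Type*} [Field F]

/-- Vectors with zero sum and zero last coordinate. -/
def permSpace (N : ℕ) (F : Type*) [Field F] : Submodule F (Fin (N + 1) → F) where
  carrier := {x | (∑ i, x i) = 0 ∧ x (Fin.last N) = 0}
  add_mem' := fun {x y} hx hy => ⟨by simp [Finset.sum_add_distrib, hx.1, hy.1], by simp [hx.2, hy.2]⟩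
  zero_mem' := ⟨by simp, rfl⟩
  smul_mem' := fun c x hx => ⟨by simp [← Finset.mul_sum, hx.1], by simp [hx.2]⟩

theorem mem_permSpace {N : ℕ} {x : Fin (N + 1) → F} :
    x ∈ permSpace N F ↔ (∑ i, x i) = 0 ∧ x (Fin.last N) = 0 := Iff.rfl

/-- The dot product on `permSpace`. -/
def permForm (N : ℕ) (F : Type*) [Field F] : LinearMap.BilinForm F (permSpace N F) :=
  LinearMap.mk₂ F (fun x y => ∑ i, (x : Fin (N + 1) → F) i * (y : Fin (N + 1) → F) i)
    (fun x y z => by simp [add_mul, Finset.sum_add_distrib])
    (fun c x y => by simp [Finset.mul_sum, mul_assoc])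
    (fun x y z => by simp [mul_add, Finset.sum_add_distrib])
    (fun c x y => by simp [Finset.mul_sum, mul_left_comm])

theorem permForm_apply (N : ℕ) (x y : permSpace N F) :
    permForm N F x y = ∑ i, (x : Fin (N + 1) → F) i * (y : Fin (N + 1) → F) i := rfl

theorem permForm_isAlt [CharP F 2] (N : ℕ) : (permForm N F).IsAlt := fun x => by
  haveI : Fact (Nat.Prime 2) := ⟨Nat.prime_two⟩
  rw [permForm_apply]
  have h := sum_pow_char (R := F) 2 Finset.univ (fun i => (x : Fin (N + 1) → F) i)
  rw [x.2.1, zero_pow two_ne_zero] at h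
  rw [h]
  exact Finset.sum_congr rfl fun i _ => (sq _).symm

theorem finrank_permSpace (N : ℕ) : Module.finrank F (permSpace (N + 1) F) = N := by
  classical
  let f : (Fin (N + 2) → F) →ₗ[F] F × F :=
    (∑ i, LinearMap.proj i).prod (LinearMap.proj (Fin.last (N + 1)))
  have hsurj : Function.Surjective f := fun p => by
    refine ⟨Pi.single 0 (p.1 - p.2) + Pi.single (Fin.last (N + 1)) p.2, Prod.ext ?_ ?_⟩
    · simp [f, Finset.sum_add_distrib]
    · simp [f, (Fin.last_pos' (n := N + 1)).ne']
  have hker : LinearMap.ker f = permSpace (N + 1) F := by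
    ext x
    simp [f, mem_permSpace, Prod.ext_iff]
  have h := LinearMap.finrank_range_add_finrank_ker f
  rw [LinearMap.range_eq_top.2 hsurj, hker, finrank_top, Module.finrank_prod, Module.finrank_self,
    Module.finrank_fin_fun] at h
  have h' : 2 + Module.finrank F (permSpace (N + 1) F) = N + 2 := h
  omega

/-- Permute, then project along the all-one vector. -/
def permAct (N : ℕ) [CharP F 2] (hN : Odd N) (σ : Equiv.Perm (Fin (N + 1))) :
    permSpace N F →ₗ[F] permSpace N F :=
  LinearMap.codRestrict _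
    { toFun := fun x i => (x : Fin (N + 1) → F) (σ.symm i) + (x : Fin (N + 1) → F) (σ.symm (Fin.last N))
      map_add' := fun x y => by funext i; simp; ring
      map_smul' := fun c x => by funext i; simp; ring }
    (fun x => by
      refine ⟨?_, by simpa using CharTwo.add_self_eq_zero _⟩
      simp only [LinearMap.coe_mk, AddHom.coe_mk, Finset.sum_add_distrib, Equiv.sum_comp σ.symm,
        x.2.1, Finset.sum_const, Finset.card_univ, Fintype.card_fin, zero_add]
      rw [nsmul_eq_mul, (CharP.cast_eq_zero_iff F 2 _).2 (by obtain ⟨k, rfl⟩ := hN; omega), zero_mul])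

theorem permAct_apply (N : ℕ) [CharP F 2] (hN : Odd N) (σ : Equiv.Perm (Fin (N + 1)))
    (x : permSpace N F) (i : Fin (N + 1)) :
    (permAct N hN σ x : Fin (N + 1) → F) i =
      (x : Fin (N + 1) → F) (σ.symm i) + (x : Fin (N + 1) → F) (σ.symm (Fin.last N)) := rfl

theorem permAct_mul (N : ℕ) [CharP F 2] (hN : Odd N) (σ τ : Equiv.Perm (Fin (N + 1)))
    (x : permSpace N F) : permAct N hN (σ * τ) x = permAct N hN σ (permAct N hN τ x) := by
  refine Subtype.ext (funext fun i => ?_)
  simp only [permAct_apply, Equiv.Perm.mul_def, Equiv.symm_trans_apply]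
  rw [add_add_add_comm, CharTwo.add_self_eq_zero, add_zero]

theorem permForm_permAct (N : ℕ) [CharP F 2] (hN : Odd N) (σ : Equiv.Perm (Fin (N + 1)))
    (x y : permSpace N F) :
    permForm N F (permAct N hN σ x) (permAct N hN σ y) = permForm N F x y := by
  simp only [permForm_apply, permAct_apply, add_mul, mul_add, Finset.sum_add_distrib]
  rw [Equiv.sum_comp σ.symm fun i => (x : Fin (N + 1) → F) i * (y : Fin (N + 1) → F) i,
    ← Finset.sum_mul, ← Finset.mul_sum, Equiv.sum_comp σ.symm, Equiv.sum_comp σ.symm, x.2.1, y.2.1,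
    Finset.sum_const, Finset.card_univ, Fintype.card_fin, nsmul_eq_mul,
    (CharP.cast_eq_zero_iff F 2 _).2 (by obtain ⟨k, rfl⟩ := hN; omega)]
  simp

/-- `S_{2n}` embeds in `Sp_{2n-2}` over a field of characteristic two. -/
theorem exists_perm_sp [CharP F 2] (n : ℕ) (hn : 3 ≤ n) :
    ∃ f : Equiv.Perm (Fin (2 * n)) →* symplecticGroup (Fin (n - 1)) F, Function.Injective f := by
  classical
  obtain ⟨m, rfl⟩ : ∃ m, n = m + 1 := ⟨n - 1, by omega⟩
  rw [show 2 * (m + 1) = 2 * m + 1 + 1 by ring, Nat.add_sub_cancel]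
  have hN : Odd (2 * m + 1) := ⟨m, rfl⟩
  have hnd : ∀ x, (∀ y, permForm (2 * m + 1) F x y = 0) → x = 0 := by
    intro x hx
    have heq : ∀ a b, a ≠ Fin.last (2 * m + 1) → b ≠ Fin.last (2 * m + 1) →
        (x : Fin (2 * m + 1 + 1) → F) a + (x : Fin (2 * m + 1 + 1) → F) b = 0 := by
      intro a b ha hb
      rcases eq_or_ne a b with rfl | hab
      · exact CharTwo.add_self_eq_zero _
      have h := hx ⟨Pi.single a 1 + Pi.single b 1,
        ⟨by simp [Finset.sum_add_distrib, CharTwo.add_self_eq_zero], by simp [ha.symm, hb.symm]⟩⟩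
      simpa [permForm_apply, mul_add, Finset.sum_add_distrib, Pi.single_apply] using h
    refine Subtype.ext (funext fun a => ?_)
    rcases eq_or_ne a (Fin.last (2 * m + 1)) with rfl | ha
    · exact x.2.2
    have hsum := x.2.1
    rw [Fin.sum_univ_castSucc, x.2.2, add_zero, Finset.sum_congr rfl (g := fun _ => (x : Fin (2 * m + 1 + 1) → F) a)
      (fun i _ => CharTwo.add_eq_zero.1 (heq _ a (Fin.castSucc_ne_last i) ha))] at hsum
    simpa [Finset.sum_const, CharTwo.two_eq_zero] using hsum
  obtain ⟨m', hm', e, he⟩ := exists_symp_equiv (permForm (2 * m + 1) F) (permForm_isAlt _) hnd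
  rw [finrank_permSpace] at hm'
  obtain rfl : m' = m := by omega
  choose g hg using fun σ => spMk_exists
    (e.symm.toLinearMap.comp ((permAct (2 * m' + 1) hN σ).comp e.toLinearMap)) (fun u v => by
      rw [← he, ← he]
      simp [permForm_permAct, he])
  let φ : Equiv.Perm (Fin (2 * m' + 1 + 1)) →* symplecticGroup (Fin m') F :=
    MonoidHom.mk' g fun σ τ => sp_ext fun x => by
      rw [Submonoid.coe_mul, ← mulVec_mulVec, hg, hg, hg]
      simp [permAct_mul]
  refine ⟨φ, (injective_iff_map_eq_one φ).2 fun σ hσ => ?_⟩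
  have hfix : ∀ x, permAct (2 * m' + 1) hN σ x = x := fun x => by
    have h := hg σ (e.symm x)
    rw [show g σ = 1 from hσ] at h
    simpa using congrArg e h.symm
  set l := Fin.last (2 * m' + 1)
  have avoid : ∀ s : Finset (Fin (2 * m' + 1 + 1)), s.card ≤ 5 → ∃ c, c ∉ s := fun s hs => by
    by_contra hc
    push Not at hc
    have := Finset.card_le_card (show Finset.univ ⊆ s from fun c _ => hc c)
    simp at this
    omega
  have key : ∀ a b, a ≠ b → a ≠ l → b ≠ l → σ a = a ∨ σ a = b := by
    intro a b hab ha hb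
    obtain ⟨c, hc⟩ := avoid {a, b, σ a, σ b, l} Finset.card_le_five
    simp at hc
    have h := hfix ⟨Pi.single a 1 + Pi.single b 1,
      ⟨by simp [Finset.sum_add_distrib, CharTwo.add_self_eq_zero], by simp [Ne.symm ha, Ne.symm hb, l]⟩⟩
    have hl := congrFun (congrArg Subtype.val h) c
    simp [permAct_apply, Pi.single_apply, Equiv.symm_apply_eq, hc.1, hc.2.1, hc.2.2.1, hc.2.2.2.1,
      Ne.symm hc.2.2.1] at hl
    have h2 := congrFun (congrArg Subtype.val h) (σ a)
    simp [permAct_apply, Pi.single_apply, Equiv.symm_apply_eq, hl, hab] at h2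
    by_contra hne
    push Not at hne
    simp [hne.1, hne.2] at h2
  have h2 : ∀ a, a ≠ l → σ a = a := fun a ha => by
    obtain ⟨b, hb⟩ := avoid {a, l} (Finset.card_le_two.trans (by norm_num))
    simp at hb
    obtain ⟨c, hc⟩ := avoid {a, b, l} (Finset.card_le_three.trans (by norm_num))
    simp at hc
    rcases key a b (Ne.symm hb.1) ha hb.2 with h | h
    · exact h
    rcases key a c (Ne.symm hc.1) ha hc.2.2 with h' | h'
    · exact h'
    exact absurd (h.symm.trans h') (Ne.symm hc.2.1)
  refine Equiv.ext fun a => ?_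
  rcases eq_or_ne a l with rfl | ha
  · by_contra hne
    exact hne (σ.injective (h2 _ hne))
  · exact h2 a ha

end CfsgLib.Classical
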