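/-
Odd Sylow subgroups of `SL_2(q)` away from the characteristic are cyclic.
-/
import Mathlib

set_option autoImplicit false

namespace CfsgLib.Classical

open Matrix Polynomial
open scoped MatrixGroups

variable {F : Type*} [Field F]

theorem exists_comb_of_commute {x y : Matrix (Fin 2) (Fin 2) F}
    (hx : ¬(x 0 1 = 0 ∧ x 1 0 = 0 ∧ x 0 0 = x 1 1)) (h : y * x = x * y) :
    ∃ a b : F, y = a • (1 : Matrix (Fin 2) (Fin 2) F) + b • x := by
  have e00 := congrFun (congrFun h 0) 0
  have e01 := congrFun (congrFun h 0) 1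
  have e10 := congrFun (congrFun h 1) 0
  simp only [Matrix.mul_apply, Fin.sum_univ_two] at e00 e01 e10
  rcases eq_or_ne (x 0 1) 0 with h01 | h01
  · rcases eq_or_ne (x 1 0) 0 with h10 | h10
    · have hd : x 0 0 - x 1 1 ≠ 0 := sub_ne_zero.2 fun h' => hx ⟨h01, h10, h'⟩
      have y01 : y 0 1 = 0 := by
        rw [h01] at e01
        exact (mul_eq_zero.1 (show y 0 1 * (x 0 0 - x 1 1) = 0 by linear_combination -e01)).resolve_right hd
      have y10 : y 1 0 = 0 := by
        rw [h10] at e10
        exact (mul_eq_zero.1 (show y 1 0 * (x 0 0 - x 1 1) = 0 by linear_combination e10)).resolve_right hd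
      refine ⟨y 0 0 - (y 0 0 - y 1 1) / (x 0 0 - x 1 1) * x 0 0, (y 0 0 - y 1 1) / (x 0 0 - x 1 1), ?_⟩
      ext i j
      fin_cases i <;> fin_cases j <;> simp [h01, h10, y01, y10]
      field_simp
      ring
    · refine ⟨y 0 0 - y 1 0 / x 1 0 * x 0 0, y 1 0 / x 1 0, ?_⟩
      rw [h01] at e00 e01
      ext i j
      fin_cases i <;> fin_cases j <;> simp [h01] <;> (try field_simp) <;>
        (first | linear_combination e10 | linear_combination -e10 | linear_combination e00 |
          linear_combination -e00 | ring1 |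
          exact (mul_eq_zero.1 (show y 0 1 * x 1 0 = 0 by linear_combination e00)).resolve_right h10)
  · refine ⟨y 0 0 - y 0 1 / x 0 1 * x 0 0, y 0 1 / x 0 1, ?_⟩
    ext i j
    fin_cases i <;> fin_cases j <;> simp <;> (try field_simp) <;>
      (first | linear_combination e00 | linear_combination -e00 | linear_combination e01 |
        linear_combination -e01 | ring1)

theorem sylow_odd_cyclic_SL_two [Fintype F] (p : ℕ) [Fact p.Prime] [CharP F p] (r : ℕ) [Fact r.Prime]
    (hr : r ≠ 2) (hrp : r ≠ p) (R : Sylow r (SpecialLinearGroup (Fin 2) F)) :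
    IsCyclic (R : Subgroup (SpecialLinearGroup (Fin 2) F)) := by
  rcases subsingleton_or_nontrivial (R : Subgroup (SpecialLinearGroup (Fin 2) F)) with hs | hn
  · exact isCyclic_of_subsingleton
  have hp : p.Prime := Fact.out
  have hr' : r.Prime := Fact.out
  haveI := R.isPGroup'.center_nontrivial
  obtain ⟨⟨z, hz⟩, hz1⟩ := exists_ne (1 : Subgroup.center (R : Subgroup (SpecialLinearGroup (Fin 2) F)))
  set x : SpecialLinearGroup (Fin 2) F := (z : SpecialLinearGroup (Fin 2) F) with hx
  have hx1 : x ≠ 1 := fun h => hz1 (Subtype.ext (Subtype.ext h))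
  have hpow : ∀ n : ℕ, x ^ n = 1 → r ∣ n := by
    intro n hn
    obtain ⟨j, hj⟩ := IsPGroup.iff_orderOf.1 R.isPGroup' z
    rw [← Subgroup.orderOf_coe, ← hx] at hj
    rcases Nat.eq_zero_or_pos j with rfl | hj0
    · exact absurd (orderOf_eq_one_iff.1 (hj.trans (pow_zero r))) hx1
    · exact (dvd_pow_self r hj0.ne').trans (hj ▸ orderOf_dvd_of_pow_eq_one hn)
  set A := (x : Matrix (Fin 2) (Fin 2) F) with hA
  set t := A.trace with ht
  have hdetA : A 0 0 * A 1 1 - A 0 1 * A 1 0 = 1 := by
    rw [← Matrix.det_fin_two]; exact x.2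
  have hquad : A * A = t • A - 1 := by
    ext i j
    fin_cases i <;> fin_cases j <;> simp [ht, Matrix.trace_fin_two, Matrix.mul_apply, Fin.sum_univ_two] <;>
      first | linear_combination hdetA | linear_combination (-1 : F) * hdetA | ring
  have htr : ∀ s : F, s * s = 1 → t ≠ 2 * s := by
    intro s hs hts
    have hN : (A - s • 1) * (A - s • 1) = 0 := by
      rw [show (A - s • (1 : Matrix (Fin 2) (Fin 2) F)) * (A - s • 1) =
          A * A - (2 * s) • A + (s * s) • 1 by
        simp only [sub_mul, mul_sub, smul_mul_assoc, one_mul, mul_smul_comm, mul_one]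
        module]
      rw [hquad, hts, hs, one_smul]
      abel
    haveI : CharP (Matrix (Fin 2) (Fin 2) F) p := Matrix.charP p
    have hApow : A ^ p = s ^ p • (1 : Matrix (Fin 2) (Fin 2) F) := by
      conv_lhs => rw [show A = s • (1 : Matrix (Fin 2) (Fin 2) F) + (A - s • 1) by abel]
      rw [add_pow_char_of_commute _ ((Commute.one_left _).smul_left s), _root_.smul_pow, one_pow,
        show (A - s • (1 : Matrix (Fin 2) (Fin 2) F)) ^ p = 0 from pow_eq_zero_of_le hp.two_le (by rw [pow_two, hN]),
        add_zero]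
    have h2p : x ^ (p * 2) = 1 := Subtype.ext (by
      rw [Matrix.SpecialLinearGroup.coe_pow, pow_mul, ← hA, hApow, _root_.smul_pow, one_pow, ← pow_mul, mul_comm p 2,
        pow_mul, pow_two, hs, one_pow, one_smul, Matrix.SpecialLinearGroup.coe_one])
    rcases hr'.dvd_mul.1 (hpow _ h2p) with h | h
    · exact hrp ((Nat.prime_dvd_prime_iff_eq hr' hp).1 h)
    · exact hr ((Nat.prime_dvd_prime_iff_eq hr' Nat.prime_two).1 h)
  have hns : ¬(A 0 1 = 0 ∧ A 1 0 = 0 ∧ A 0 0 = A 1 1) := by
    rintro ⟨h1, h2, h3⟩
    refine htr (A 0 0) (by rw [h1, ← h3] at hdetA; linear_combination hdetA) ?_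
    rw [ht, Matrix.trace_fin_two, ← h3, two_mul]
  let φ : F →+* AlgebraicClosure F := algebraMap F (AlgebraicClosure F)
  obtain ⟨r0, hr0⟩ := IsAlgClosed.exists_root (X ^ 2 - C (φ t) * X + 1 : (AlgebraicClosure F)[X])
    (by
      rw [show (X ^ 2 - C (φ t) * X + 1 : (AlgebraicClosure F)[X]) = C 1 * X ^ 2 + C (-φ t) * X + C 1 by
        simp; ring, degree_quadratic one_ne_zero]
      decide)
  have hroot : r0 * r0 = φ t * r0 - 1 := by
    simp [IsRoot] at hr0
    linear_combination hr0
  have hsep : 2 * r0 - φ t ≠ 0 := by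
    intro h
    have e : r0 * r0 = 1 := by linear_combination -hroot + r0 * h
    rcases mul_self_eq_one_iff.1 e with rfl | rfl
    · exact htr 1 (one_mul 1) (φ.injective (by simp only [map_mul, map_ofNat, map_one]; linear_combination -h))
    · exact htr (-1) (by ring)
        (φ.injective (by simp only [map_mul, map_ofNat, map_neg, map_one]; linear_combination -h))
  let ev : Matrix (Fin 2) (Fin 2) F → AlgebraicClosure F := fun y =>
    (φ (A * y).trace - (φ t - r0) * φ y.trace) / (2 * r0 - φ t)
  have hev : ∀ a b : F, ev (a • (1 : Matrix (Fin 2) (Fin 2) F) + b • A) = φ a + φ b * r0 := by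
    intro a b
    have e1 : (A * (a • (1 : Matrix (Fin 2) (Fin 2) F) + b • A)).trace = a * t + b * (t * t - 2) := by
      rw [mul_add, mul_smul_comm, mul_one, mul_smul_comm, hquad, smul_sub, smul_smul, trace_add, trace_sub,
        trace_smul, trace_smul, trace_smul, trace_one, Fintype.card_fin]
      simp only [smul_eq_mul, ← ht, Nat.cast_ofNat]
      ring
    have e2 : (a • (1 : Matrix (Fin 2) (Fin 2) F) + b • A).trace = a * 2 + b * t := by
      rw [trace_add, trace_smul, trace_smul, trace_one, Fintype.card_fin]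
      simp [ht]
    simp only [ev, e1, e2, map_add, map_mul, map_sub, map_ofNat]
    rw [div_eq_iff hsep]
    linear_combination (-2 : AlgebraicClosure F) * φ b * hroot
  have hcomb : ∀ y : (R : Subgroup (SpecialLinearGroup (Fin 2) F)), ∃ a b : F,
      ((y : SpecialLinearGroup (Fin 2) F) : Matrix (Fin 2) (Fin 2) F) = a • 1 + b • A := fun y => by
    refine exists_comb_of_commute hns ?_
    exact congrArg (fun w : (R : Subgroup (SpecialLinearGroup (Fin 2) F)) =>
      ((w : SpecialLinearGroup (Fin 2) F) : Matrix (Fin 2) (Fin 2) F)) (Subgroup.mem_center_iff.1 hz y)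
  let f : (R : Subgroup (SpecialLinearGroup (Fin 2) F)) →* AlgebraicClosure F :=
    { toFun := fun y => ev ((y : SpecialLinearGroup (Fin 2) F) : Matrix (Fin 2) (Fin 2) F)
      map_one' := by
        rw [OneMemClass.coe_one, Matrix.SpecialLinearGroup.coe_one,
          show (1 : Matrix (Fin 2) (Fin 2) F) = (1 : F) • 1 + (0 : F) • A by simp, hev]
        simp
      map_mul' := fun u v => by
        obtain ⟨a, b, hu⟩ := hcomb u
        obtain ⟨c, d, hv⟩ := hcomb v
        rw [Subgroup.coe_mul, Matrix.SpecialLinearGroup.coe_mul, hu, hv, hev, hev,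
          show (a • (1 : Matrix (Fin 2) (Fin 2) F) + b • A) * (c • 1 + d • A) =
            (a * c - b * d) • 1 + (a * d + b * c + b * d * t) • A by
            simp only [add_mul, mul_add, smul_mul_assoc, mul_smul_comm, one_mul, mul_one, hquad]
            module, hev]
        simp only [map_add, map_mul, map_sub]
        linear_combination (-(φ b * φ d)) * hroot }
  refine isCyclic_of_subgroup_isDomain f fun u v huv => ?_
  suffices h : ∀ w, f w = 1 → w = 1 by
    refine mul_inv_eq_one.1 (h (u * v⁻¹) ?_)
    rw [map_mul, huv, ← map_mul, mul_inv_cancel, map_one]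
  intro w hw
  obtain ⟨a, b, hab⟩ := hcomb w
  have hw' : φ a + φ b * r0 = 1 := by rw [← hev, ← hab]; exact hw
  have hd : a * a + a * b * t + b * b = 1 := by
    have h' := (w : SpecialLinearGroup (Fin 2) F).2
    rw [hab, Matrix.det_fin_two] at h'
    simp at h'
    rw [ht, Matrix.trace_fin_two]
    linear_combination h' - b * b * hdetA
  have hd' : φ a * φ a + φ a * φ b * φ t + φ b * φ b = 1 := by
    simpa only [map_add, map_mul, map_one] using congrArg φ hd
  have hb : φ b * (2 * r0 - φ t) = 0 := by
    linear_combination -hd' + (1 + φ a + φ b * φ t - φ b * r0) * hw' + (φ b * φ b) * hroot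
  have hb0 : φ b = 0 := (mul_eq_zero.1 hb).resolve_right hsep
  rw [hb0, zero_mul, add_zero] at hw'
  refine Subtype.ext (Subtype.ext ?_)
  rw [hab, φ.injective (hb0.trans (map_zero φ).symm), φ.injective (hw'.trans (map_one φ).symm)]
  simp

end CfsgLib.Classical
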