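/-
Non-degenerate subspaces of the standard Hermitian space: orthonormal splitting and stabilisers.
-/
import Cfsg.Agent.Lib.Classical.HermOrder
import Cfsg.Agent.S0755
import Cfsg.Prelude.Def_ClassicalGeometry

set_option autoImplicit false

namespace CfsgLib.Classical

open Matrix Cfsg

variable {F : Type*} [Field F] {q n : ℕ}

/-- A unitary matrix as a linear equivalence. -/
def guLin (g : GU n F q) : (Fin n → F) ≃ₗ[F] (Fin n → F) where
  toFun := guApply g
  map_add' := fun _ _ => mulVec_add _ _ _
  map_smul' := fun _ _ => mulVec_smul _ _ _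
  invFun := guApply g⁻¹
  left_inv := guApply_inv_apply g
  right_inv := guApply_apply_inv g

/-- A non-degenerate subspace has an orthonormal spanning family. -/
theorem exists_orthonormal_span [Fintype F] (hF : Fintype.card F = q ^ 2) (W : Submodule F (Fin n → F))
    (hW : ∀ u ∈ W, (∀ v ∈ W, hermForm n F q u v = 0) → u = 0) :
    ∃ b : Fin (Module.finrank F W) → (Fin n → F),
      (∀ i j, hermForm n F q (b i) (b j) = if i = j then 1 else 0) ∧ Submodule.span F (Set.range b) = W := by
  classical
  obtain ⟨σ, hσ, hσ2, hne⟩ := exists_qPow hF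
  have hq := two_le_q hF
  let B : W →ₛₗ[σ] W →ₗ[F] F := (hermB n q hσ).domRestrict₁₂ W W
  have hconj : ∀ u v : W, σ (B u v) = B v u := fun u v => by
    change σ (hermForm n F q v u) = hermForm n F q u v
    rw [hσ, hermForm_conj hF]
  have hleft : B.SeparatingLeft := fun u hu => Subtype.ext (hW u u.2 fun v hv => by
    have h := hu ⟨v, hv⟩
    change hermForm n F q v u = 0 at h
    rw [← hermForm_conj hF v u, h, zero_pow (by omega)])
  have hnd : B.Nondegenerate := ⟨hleft, fun v hv => hleft v fun w => by
    rw [← hconj w v, hv w, map_zero]⟩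
  obtain ⟨b, hb⟩ := Cfsg.Agent.S0755.result σ hne hσ2 B ⟨fun u v => hconj u v⟩ hnd
  refine ⟨fun i => (b i : Fin n → F), fun i j => ?_, ?_⟩
  · have h := hb j i
    change hermForm n F q (b i) (b j) = _ at h
    simp only [h, eq_comm]
  · rw [show (fun i => ((b i : W) : Fin n → F)) = W.subtype ∘ b from rfl, Set.range_comp,
      Submodule.span_image, b.span_eq, Submodule.map_top, Submodule.range_subtype]

/-- Concatenation as a linear equivalence. -/
def appendLin (k m : ℕ) (F : Type*) [Field F] :
    ((Fin k → F) × (Fin m → F)) ≃ₗ[F] (Fin (k + m) → F) where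
  toFun := fun p => Fin.append p.1 p.2
  map_add' := fun p r => by
    funext i
    refine Fin.addCases (fun j => ?_) (fun j => ?_) i <;> simp
  map_smul' := fun c p => by
    funext i
    refine Fin.addCases (fun j => ?_) (fun j => ?_) i <;> simp
  invFun := fun v => (fun i => v (Fin.castAdd m i), fun i => v (Fin.natAdd k i))
  left_inv := fun p => by ext i <;> simp
  right_inv := fun v => by
    funext i
    refine Fin.addCases (fun j => ?_) (fun j => ?_) i <;> simp

theorem hermForm_append {k m : ℕ} (a c : Fin k → F) (b d : Fin m → F) :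
    hermForm (k + m) F q (Fin.append a b) (Fin.append c d) = hermForm k F q a c + hermForm m F q b d := by
  simp [hermForm, Fin.sum_univ_add]

/-- A split isometry adapted to a non-degenerate subspace. -/
theorem exists_split [Fintype F] {k m : ℕ} (hF : Fintype.card F = q ^ 2)
    (W : Submodule F (Fin (k + m) → F)) (hWk : Module.finrank F W = k)
    (hW : ∀ u ∈ W, (∀ v ∈ W, hermForm (k + m) F q u v = 0) → u = 0) :
    ∃ T : ((Fin k → F) × (Fin m → F)) ≃ₗ[F] (Fin (k + m) → F),
      (∀ p r, hermForm (k + m) F q (T p) (T r) = hermForm k F q p.1 r.1 + hermForm m F q p.2 r.2) ∧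
      ∀ p, T p ∈ W ↔ p.2 = 0 := by
  classical
  have hq := two_le_q hF
  obtain ⟨b, hb, hbW⟩ := exists_orthonormal_span hF W hW
  let b' : Fin k → (Fin (k + m) → F) := fun i => b (Fin.cast hWk.symm i)
  obtain ⟨g, hg⟩ := exists_gu_map hF
    (b := fun i : Fin k => (Pi.single (Fin.castAdd m i) (1 : F) : Fin (k + m) → F)) (c := b')
    (fun i j => by rw [hermForm_single_one (by omega)]; simp [Fin.ext_iff])
    (fun i j => by simp [b', hb, Fin.ext_iff])
  let T := (appendLin k m F).trans (guLin g)
  have hT : ∀ p, T p = guApply g (Fin.append p.1 p.2) := fun _ => rfl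
  have hWmap : W = (LinearMap.range (LinearMap.inl F (Fin k → F) (Fin m → F))).map T.toLinearMap := by
    symm
    refine Submodule.eq_of_le_of_finrank_eq ?_ ?_
    · rintro _ ⟨_, ⟨a, rfl⟩, rfl⟩
      rw [← Finset.univ_sum_single a, map_sum, map_sum]
      refine Submodule.sum_mem _ fun i _ => ?_
      have hs : Fin.append (Pi.single i (a i)) (0 : Fin m → F) =
          a i • (Pi.single (Fin.castAdd m i) 1 : Fin (k + m) → F) := by
        funext j
        refine Fin.addCases (fun l => ?_) (fun l => ?_) j
        · simp [Pi.single_apply, Fin.ext_iff]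
        · have : k + (l : ℕ) ≠ (i : ℕ) := by omega
          simp [Pi.single_apply, Fin.ext_iff, this]
      change T ((Pi.single i (a i), 0) : (Fin k → F) × (Fin m → F)) ∈ W
      rw [hT, hs]
      change guLin g _ ∈ W
      rw [map_smul]
      refine W.smul_mem _ ?_
      change guApply g _ ∈ W
      rw [hg, ← hbW]
      exact Submodule.subset_span ⟨_, rfl⟩
    · rw [LinearEquiv.finrank_map_eq, LinearMap.finrank_range_of_inj LinearMap.inl_injective,
        Module.finrank_fin_fun, hWk]
  refine ⟨T, fun p r => by rw [hT, hT, guApply_form, hermForm_append], fun p => ?_⟩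
  rw [hWmap]
  constructor
  · rintro ⟨_, ⟨a, rfl⟩, ha⟩
    rw [← T.injective ha]
    rfl
  · intro h
    exact ⟨p, ⟨p.1, Prod.ext rfl h.symm⟩, rfl⟩

/-- The stabiliser of a non-degenerate subspace. -/
theorem stab_nondeg_equiv [Fintype F] {k m : ℕ} (hF : Fintype.card F = q ^ 2)
    (W : Submodule F (Fin (k + m) → F)) (hWk : Module.finrank F W = k)
    (hW : ∀ u ∈ W, (∀ v ∈ W, hermForm (k + m) F q u v = 0) → u = 0) :
    Nonempty (↥((stabilizing (glToMat (Fin (k + m)) F) (W : Set (Fin (k + m) → F))).subgroupOf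
      (GU (k + m) F q)) ≃* ↥(GU k F q) × ↥(GU m F q)) := by
  classical
  obtain ⟨σ, hσ, hσ2, hne⟩ := exists_qPow hF
  have hq := two_le_q hF
  obtain ⟨T, hT, hTW⟩ := exists_split hF W hWk hW
  set S := (stabilizing (glToMat (Fin (k + m)) F) (W : Set (Fin (k + m) → F))).subgroupOf
      (GU (k + m) F q)
  have hex : ∀ p : GU k F q × GU m F q, ∃ g : GU (k + m) F q,
      ∀ r, guApply g (T r) = T (guApply p.1 r.1, guApply p.2 r.2) := fun p => by
    obtain ⟨g, hg⟩ := guMk_exists (q := q) (T.symm.trans (((guLin p.1).prodCongr (guLin p.2)).trans T))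
      (fun u v => by
        obtain ⟨a, rfl⟩ := T.surjective u
        obtain ⟨c, rfl⟩ := T.surjective v
        simp only [LinearEquiv.trans_apply, LinearEquiv.symm_apply_apply, hT,
          LinearEquiv.prodCongr_apply]
        exact congrArg₂ (· + ·) (guApply_form p.1 _ _) (guApply_form p.2 _ _))
    refine ⟨g, fun r => ?_⟩
    rw [hg]
    simp only [LinearEquiv.trans_apply, LinearEquiv.symm_apply_apply, LinearEquiv.prodCongr_apply]
    rfl
  choose ψ hψ using hex
  have hmem : ∀ p, ψ p ∈ S := fun p v => by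
    obtain ⟨r, rfl⟩ := T.surjective v
    change T r ∈ W ↔ guApply (ψ p) (T r) ∈ W
    rw [hψ, hTW, hTW]
    constructor
    · intro h
      simp [h, guApply]
    · intro h
      change guApply p.2 r.2 = 0 at h
      rw [← guApply_inv_apply p.2 r.2, h]
      simp [guApply]
  let Ψ : GU k F q × GU m F q →* S := MonoidHom.mk' (fun p => ⟨ψ p, hmem p⟩) fun p r =>
    Subtype.ext (gu_ext fun x => by
      obtain ⟨t, rfl⟩ := T.surjective x
      rw [hψ]
      change _ = guApply (ψ p * ψ r) (T t)
      rw [guApply_mul, hψ, hψ, Prod.fst_mul, Prod.snd_mul, guApply_mul, guApply_mul])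
  refine ⟨(MulEquiv.ofBijective Ψ ⟨fun p r h => ?_, fun x => ?_⟩).symm⟩
  · have h' : ∀ t, guApply (ψ p) (T t) = guApply (ψ r) (T t) := fun t => by
      rw [show ψ p = ψ r from congrArg Subtype.val h]
    refine Prod.ext (gu_ext fun a => ?_) (gu_ext fun c => ?_)
    · have := h' (a, 0)
      rw [hψ, hψ] at this
      exact congrArg Prod.fst (T.injective this)
    · have := h' (0, c)
      rw [hψ, hψ] at this
      exact congrArg Prod.snd (T.injective this)
  · let L : ((Fin k → F) × (Fin m → F)) ≃ₗ[F] ((Fin k → F) × (Fin m → F)) :=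
      T.trans ((guLin x.1).trans T.symm)
    have hTL : ∀ t, T (L t) = guApply x.1 (T t) := fun t => T.apply_symm_apply _
    have hform : ∀ p r, hermForm k F q (L p).1 (L r).1 + hermForm m F q (L p).2 (L r).2 =
        hermForm k F q p.1 r.1 + hermForm m F q p.2 r.2 := fun p r => by
      rw [← hT, ← hT, hTL, hTL, guApply_form]
    have hL : ∀ t, t.2 = 0 ↔ (L t).2 = 0 := fun t => by
      rw [← hTW, ← hTW, hTL]
      exact x.2 (T t)
    have hz : ∀ j (u : Fin j → F), hermForm j F q u 0 = 0 ∧ hermForm j F q 0 u = 0 :=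
      fun j u => ⟨(hermForm_zero_left (by omega) u).2, (hermForm_zero_left (by omega) u).1⟩
    have hperp : ∀ c : Fin m → F, (L (0, c)).1 = 0 := fun c => by
      refine hermForm_nondeg hσ (by omega) fun w => ?_
      obtain ⟨a, ha⟩ := L.surjective (w, 0)
      have ha2 : a.2 = 0 := (hL a).2 (by rw [ha])
      have h := hform a (0, c)
      rw [ha] at h
      simpa [ha2, (hz k a.1).1, (hz m c).2, (hz m _).2, hermB_apply] using h
    let A : (Fin k → F) →ₗ[F] (Fin k → F) :=
      (LinearMap.fst F _ _).comp (L.toLinearMap.comp (LinearMap.inl F _ _))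
    let C : (Fin m → F) →ₗ[F] (Fin m → F) :=
      (LinearMap.snd F _ _).comp (L.toLinearMap.comp (LinearMap.inr F _ _))
    have hA : ∀ a, L (a, 0) = (A a, 0) := fun a => Prod.ext rfl ((hL (a, 0)).1 rfl)
    have hC : ∀ c, L (0, c) = (0, C c) := fun c => Prod.ext (hperp c) rfl
    have hAi : Function.Injective A := fun a a' h => by
      have : L (a, 0) = L (a', 0) := by rw [hA, hA, h]
      exact congrArg Prod.fst (L.injective this)
    have hCi : Function.Injective C := fun a a' h => by
      have : L (0, a) = L (0, a') := by rw [hC, hC, h]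
      exact congrArg Prod.snd (L.injective this)
    obtain ⟨gA, hgA⟩ := guMk_exists (q := q) (LinearEquiv.ofInjectiveEndo A hAi) (fun u v => by
      simpa [hA, (hz m _).1] using hform (u, 0) (v, 0))
    obtain ⟨gC, hgC⟩ := guMk_exists (q := q) (LinearEquiv.ofInjectiveEndo C hCi) (fun u v => by
      simpa [hC, (hz k _).1] using hform (0, u) (0, v))
    refine ⟨(gA, gC), Subtype.ext (gu_ext fun v => ?_)⟩
    obtain ⟨⟨a, c⟩, rfl⟩ := T.surjective v
    change guApply (ψ (gA, gC)) _ = _
    rw [hψ, ← hTL, hgA, hgC]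
    congr 1
    rw [show ((a, c) : (Fin k → F) × (Fin m → F)) = (a, 0) + (0, c) by simp, map_add, hA, hC]
    simp

end CfsgLib.Classical
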