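/-
Double counting of two-dimensional subspaces.
-/
import Mathlib

set_option autoImplicit false

namespace CfsgLib.Classical

variable {F V : Type*} [Field F] [AddCommGroup V] [Module F V]

theorem span_pair_eq [FiniteDimensional F V] {W : Submodule F V} (hW : Module.finrank F W = 2) {v w : V}
    (hv : v ∈ W) (hw : w ∈ W) (hv0 : v ≠ 0) (hw0 : w ∉ Submodule.span F {v}) :
    Submodule.span F {v, w} = W := by
  refine Submodule.eq_of_le_of_finrank_le (Submodule.span_le.2 (by
    rintro x (rfl | rfl) <;> assumption)) ?_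
  rw [hW]
  have hlt : Submodule.span F {v} < Submodule.span F {v, w} :=
    lt_of_le_of_ne (Submodule.span_mono (by simp))
      fun h => hw0 (h ▸ Submodule.subset_span (by simp))
  have := Submodule.finrank_lt_finrank_of_lt hlt
  rw [finrank_span_singleton hv0] at this
  omega

theorem finrank_span_pair [FiniteDimensional F V] {v w : V} (hv0 : v ≠ 0)
    (hw0 : w ∉ Submodule.span F {v}) : Module.finrank F (Submodule.span F {v, w}) = 2 := by
  classical
  have hlt : Submodule.span F {v} < Submodule.span F {v, w} :=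
    lt_of_le_of_ne (Submodule.span_mono (by simp))
      fun h => hw0 (h ▸ Submodule.subset_span (by simp))
  have h1 := Submodule.finrank_lt_finrank_of_lt hlt
  rw [finrank_span_singleton hv0] at h1
  have h2 : (Set.finrank F (({v, w} : Finset V) : Set V)) ≤ ({v, w} : Finset V).card :=
    finrank_span_finset_le_card _
  have h3 := Finset.card_le_two (a := v) (b := w)
  rw [Set.finrank, Finset.coe_insert, Finset.coe_singleton] at h2
  omega

/-- Two-dimensional subspaces through a vector. -/
theorem card_planes_through [Finite V] [Finite F] (Good : Submodule F V → Prop) {v : V} (hv : v ≠ 0) :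
    Nat.card {W : Submodule F V // Module.finrank F W = 2 ∧ v ∈ W ∧ Good W} *
        (Nat.card F ^ 2 - Nat.card F) =
      Nat.card {w : V // w ∉ Submodule.span F {v} ∧ Good (Submodule.span F {v, w})} := by
  classical
  haveI : FiniteDimensional F V := Module.Finite.of_finite
  haveI := Fintype.ofFinite V
  let e : (Σ W : {W : Submodule F V // Module.finrank F W = 2 ∧ v ∈ W ∧ Good W},
      {w : V // w ∈ (W : Submodule F V) ∧ w ∉ Submodule.span F {v}}) ≃
      {w : V // w ∉ Submodule.span F {v} ∧ Good (Submodule.span F {v, w})} :=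
    { toFun := fun p => ⟨p.2.1, p.2.2.2, by
        rw [span_pair_eq p.1.2.1 p.1.2.2.1 p.2.2.1 hv p.2.2.2]; exact p.1.2.2.2⟩
      invFun := fun w => ⟨⟨Submodule.span F {v, w.1}, finrank_span_pair hv w.2.1,
        Submodule.subset_span (by simp), w.2.2⟩, ⟨w.1, Submodule.subset_span (by simp), w.2.1⟩⟩
      left_inv := fun p => by
        obtain ⟨⟨W, h1, h2, h3⟩, ⟨w, h4, h5⟩⟩ := p
        have h := span_pair_eq h1 h2 h4 hv h5
        subst h
        rfl
      right_inv := fun w => rfl }
  haveI : Finite (Submodule F V) := Finite.of_injective _ SetLike.coe_injective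
  haveI := Fintype.ofFinite {W : Submodule F V // Module.finrank F W = 2 ∧ v ∈ W ∧ Good W}
  rw [← Nat.card_congr e, Nat.card_sigma, Finset.sum_congr rfl fun W _ => ?_, Finset.sum_const,
    Finset.card_univ, smul_eq_mul, ← Nat.card_eq_fintype_card]
  have hW : Nat.card (W : Submodule F V) = Nat.card F ^ 2 := by
    rw [Module.natCard_eq_pow_finrank (K := F), W.2.1]
  have hs : Nat.card (Submodule.span F {v}) = Nat.card F := by
    rw [Module.natCard_eq_pow_finrank (K := F), finrank_span_singleton hv, pow_one]
  have hle : Submodule.span F {v} ≤ (W : Submodule F V) :=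
    (Submodule.span_singleton_le_iff_mem _ _).2 W.2.2.1
  have : Nat.card {w : V // w ∈ (W : Submodule F V) ∧ w ∉ Submodule.span F {v}} =
      (((W : Submodule F V) : Set V) \ (Submodule.span F {v} : Set V)).ncard :=
    (Nat.card_coe_set_eq _).symm ▸ Nat.card_congr (Equiv.refl _)
  rw [this, Set.ncard_diff (SetLike.coe_subset_coe.2 hle), ← Nat.card_coe_set_eq, ← Nat.card_coe_set_eq]
  exact congrArg₂ (· - ·) hW hs

/-- Two-dimensional subspaces counted by incident non-zero vectors. -/
theorem card_planes [Fintype V] [DecidableEq V] [Finite F] (Good : Submodule F V → Prop) :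
    Nat.card {W : Submodule F V // Module.finrank F W = 2 ∧ Good W} * (Nat.card F ^ 2 - 1) =
      ∑ v : {v : V // v ≠ 0},
        Nat.card {W : Submodule F V // Module.finrank F W = 2 ∧ (v : V) ∈ W ∧ Good W} := by
  classical
  haveI : FiniteDimensional F V := Module.Finite.of_finite
  haveI : Finite (Submodule F V) := Finite.of_injective _ SetLike.coe_injective
  haveI := Fintype.ofFinite {W : Submodule F V // Module.finrank F W = 2 ∧ Good W}
  let e : (Σ W : {W : Submodule F V // Module.finrank F W = 2 ∧ Good W},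
      {v : V // v ∈ (W : Submodule F V) ∧ v ≠ 0}) ≃
      (Σ v : {v : V // v ≠ 0}, {W : Submodule F V // Module.finrank F W = 2 ∧ (v : V) ∈ W ∧ Good W}) :=
    { toFun := fun p => ⟨⟨p.2.1, p.2.2.2⟩, ⟨p.1.1, p.1.2.1, p.2.2.1, p.1.2.2⟩⟩
      invFun := fun p => ⟨⟨p.2.1, p.2.2.1, p.2.2.2.2⟩, ⟨p.1.1, p.2.2.2.1, p.1.2⟩⟩
      left_inv := fun _ => rfl
      right_inv := fun _ => rfl }
  rw [← Nat.card_sigma, ← Nat.card_congr e, Nat.card_sigma, Finset.sum_congr rfl fun W _ => ?_,
    Finset.sum_const, Finset.card_univ, smul_eq_mul, ← Nat.card_eq_fintype_card]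
  have hW : Nat.card (W : Submodule F V) = Nat.card F ^ 2 := by
    rw [Module.natCard_eq_pow_finrank (K := F), W.2.1]
  have : Nat.card {v : V // v ∈ (W : Submodule F V) ∧ v ≠ 0} =
      (((W : Submodule F V) : Set V) \ {0}).ncard :=
    (Nat.card_coe_set_eq _).symm ▸ Nat.card_congr (Equiv.refl _)
  rw [this, Set.ncard_diff (by simp), Set.ncard_singleton, ← Nat.card_coe_set_eq]
  exact congrArg (· - 1) hW

end CfsgLib.Classical
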