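/-
Totally isotropic lines of the standard Hermitian space.
-/
import Cfsg.Agent.Lib.Classical.HermSplit
import Cfsg.Agent.Lib.Classical.LineCount

set_option autoImplicit false

namespace CfsgLib.Classical

open Matrix Cfsg

variable {F : Type*} [Field F] {q n : ℕ}

theorem hermForm_add_left (u v w : Fin n → F) :
    hermForm n F q (u + v) w = hermForm n F q u w + hermForm n F q v w := by
  simp [hermForm, add_mul, Finset.sum_add_distrib]

theorem hermForm_smul_left (a : F) (u w : Fin n → F) :
    hermForm n F q (a • u) w = a * hermForm n F q u w := by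
  simp [hermForm, Finset.mul_sum, mul_assoc]

/-- A totally isotropic span of two vectors. -/
theorem herm_span_pair [Fintype F] (hF : Fintype.card F = q ^ 2) {v : Fin n → F} (hv : hermForm n F q v v = 0)
    (w : Fin n → F) :
    (∀ x ∈ Submodule.span F {v, w}, ∀ y ∈ Submodule.span F {v, w}, hermForm n F q x y = 0) ↔
      hermForm n F q w v = 0 ∧ hermForm n F q w w = 0 := by
  have hq := two_le_q hF
  refine ⟨fun h => ⟨h w (Submodule.subset_span (by simp)) v (Submodule.subset_span (by simp)),
    h w (Submodule.subset_span (by simp)) w (Submodule.subset_span (by simp))⟩, fun h => ?_⟩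
  have hvw : hermForm n F q v w = 0 := by rw [← hermForm_conj hF w v, h.1, zero_pow (by omega)]
  have key : ∀ x ∈ Submodule.span F {v, w}, hermForm n F q x v = 0 ∧ hermForm n F q x w = 0 := by
    intro x hx
    obtain ⟨a, b, rfl⟩ := Submodule.mem_span_pair.1 hx
    constructor <;> simp [hermForm_add_left, hermForm_smul_left, hv, hvw, h.1, h.2]
  intro x hx y hy
  obtain ⟨a, b, rfl⟩ := Submodule.mem_span_pair.1 hx
  rw [hermForm_add_left, hermForm_smul_left, hermForm_smul_left, ← hermForm_conj hF y v,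
    ← hermForm_conj hF y w, (key y hy).1, (key y hy).2, zero_pow (by omega), mul_zero, mul_zero, add_zero]

/-- Isotropic vectors orthogonal to an isotropic vector and outside its line. -/
theorem card_iso_perp [Fintype F] (hF : Fintype.card F = q ^ 2) (m : ℕ) {v : Fin (m + 2) → F} (hv0 : v ≠ 0)
    (hv : hermForm (m + 2) F q v v = 0) :
    Nat.card {w : Fin (m + 2) → F // w ∉ Submodule.span F {v} ∧
        hermForm (m + 2) F q w v = 0 ∧ hermForm (m + 2) F q w w = 0} + q ^ 2 =
      q ^ 2 * hermCount m F q 0 := by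
  classical
  obtain ⟨σ, hσ, hσ2, hne⟩ := exists_qPow hF
  have hq := two_le_q hF
  set h := hermForm (m + 2) F q with hh
  have hconj : ∀ x y, σ (h x y) = h y x := fun x y => by rw [hσ]; exact hermForm_conj hF x y
  have addl : ∀ x y z, h (x + y) z = h x z + h y z := hermForm_add_left
  have smull : ∀ a x z, h (a • x) z = a * h x z := hermForm_smul_left
  have addr : ∀ x y z, h x (y + z) = h x y + h x z := fun x y z => by
    rw [← hconj (y + z) x, addl, map_add, hconj, hconj]
  have smulr : ∀ a x z, h x (a • z) = σ a * h x z := fun a x z => by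
    rw [← hconj (a • z) x, smull, map_mul, hconj]
  obtain ⟨w₀, hw₀⟩ : ∃ w, h w v = 1 := by
    by_contra hc
    push Not at hc
    refine hv0 (hermForm_nondeg hσ (by omega) fun w => ?_)
    rw [hermB_apply]
    by_contra hne0
    exact hc ((h w v)⁻¹ • w) (by rw [smull]; exact inv_mul_cancel₀ hne0)
  have hvw₀ : h v w₀ = 1 := by rw [← hconj, hw₀, map_one]
  obtain ⟨θ, hθ⟩ := exists_trace_one σ hne hσ2
  set w := w₀ + (-(θ * h w₀ w₀)) • v with hw
  have hwv : h w v = 1 := by rw [hw, addl, smull, hw₀, hv, mul_zero, add_zero]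
  have hvw : h v w = 1 := by rw [← hconj, hwv, map_one]
  have hww : h w w = 0 := by
    simp only [hw, addl, addr, smull, smulr, hw₀, hvw₀, hv, map_neg, map_mul, hconj]
    linear_combination -(h w₀ w₀) * hθ
  let P : Submodule F (Fin (m + 2) → F) :=
    { carrier := {x | h x v = 0 ∧ h x w = 0}
      add_mem' := fun {x y} hx hy => ⟨by rw [addl, hx.1, hy.1, add_zero], by rw [addl, hx.2, hy.2, add_zero]⟩
      zero_mem' := ⟨(hermForm_zero_left (by omega) v).1, (hermForm_zero_left (by omega) w).1⟩
      smul_mem' := fun a x hx => ⟨by rw [smull, hx.1, mul_zero], by rw [smull, hx.2, mul_zero]⟩ }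
  have hproj : ∀ x, x - h x w • v - h x v • w ∈ P := by
    intro x
    have h1 : x - h x w • v - h x v • w = x + (-(h x w)) • v + (-(h x v)) • w := by module
    rw [h1]
    exact ⟨by rw [addl, addl, smull, smull, hv, hwv]; ring,
      by rw [addl, addl, smull, smull, hvw, hww]; ring⟩
  have hPperp : ∀ p ∈ P, h v p = 0 ∧ h w p = 0 := fun p hp =>
    ⟨by rw [← hconj, hp.1, map_zero], by rw [← hconj, hp.2, map_zero]⟩
  let E : (F × F) × P →ₗ[F] (Fin (m + 2) → F) :=
    { toFun := fun p => p.1.1 • v + p.1.2 • w + (p.2 : Fin (m + 2) → F)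
      map_add' := fun p r => by simp; module
      map_smul' := fun a p => by simp; module }
  have hEv : ∀ p, h (E p) v = p.1.2 ∧ h (E p) w = p.1.1 := fun p => by
    constructor
    · change h (_ + _ + _) v = _
      rw [addl, addl, smull, smull, hv, hwv, p.2.2.1]; ring
    · change h (_ + _ + _) w = _
      rw [addl, addl, smull, smull, hvw, hww, p.2.2.2]; ring
  have hEbij : Function.Bijective E := by
    refine ⟨fun p r he => ?_, fun x => ⟨((h x w, h x v), ⟨_, hproj x⟩), ?_⟩⟩
    · have h1 := (hEv p).1; have h2 := (hEv p).2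
      rw [he, (hEv r).1] at h1; rw [he, (hEv r).2] at h2
      refine Prod.ext (Prod.ext h2.symm h1.symm) (Subtype.ext ?_)
      have he' : p.1.1 • v + p.1.2 • w + (p.2 : Fin (m + 2) → F) =
          r.1.1 • v + r.1.2 • w + (r.2 : Fin (m + 2) → F) := he
      rw [← h1, ← h2] at he'
      exact add_left_cancel he'
    · simp [E]
  have hdim : Module.finrank F P = m := by
    have := (LinearEquiv.ofBijective E hEbij).finrank_eq
    simp at this
    omega
  have hnd : ∀ u ∈ P, (∀ x ∈ P, h u x = 0) → u = 0 := fun u hu hx =>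
    hermForm_nondeg hσ (by omega) fun y => by
      rw [hermB_apply]
      obtain ⟨p, rfl⟩ := hEbij.2 y
      change h (p.1.1 • v + p.1.2 • w + (p.2 : Fin (m + 2) → F)) u = 0
      rw [addl, addl, smull, smull, (hPperp u hu).1, (hPperp u hu).2, ← hconj u, hx _ p.2.2, map_zero]
      ring
  obtain ⟨b, hb, hbP⟩ := exists_orthonormal_span hF P hnd
  have hbli := orthonormal_li hb
  let ι : (Fin (Module.finrank F P) → F) ≃ₗ[F] P :=
    ((Module.Basis.span hbli).map (LinearEquiv.ofEq _ _ hbP)).equivFun.symm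
  have hι : ∀ a, (ι a : Fin (m + 2) → F) = ∑ i, a i • b i := fun a => by
    simp [ι, Module.Basis.equivFun_symm_apply, Module.Basis.span_apply]
  have hιh : ∀ a, h (ι a) (ι a) = hermForm (Module.finrank F P) F q a a := fun a => by
    rw [hι, hh, hermForm_sum_left]
    unfold hermForm
    refine Finset.sum_congr rfl fun i _ => ?_
    congr 1
    change hermForm (m + 2) F q (b i) (∑ j, a j • b j) = _
    rw [← hermForm_conj hF (∑ j, a j • b j) (b i), hermForm_sum_left]
    simp [hb]
  have hnorm : ∀ (a : F) (p : P), h (E ((a, 0), p)) (E ((a, 0), p)) = h p p := fun a p => by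
    change h (a • v + (0 : F) • w + (p : Fin (m + 2) → F)) (a • v + (0 : F) • w + (p : Fin (m + 2) → F)) = _
    rw [zero_smul, add_zero, addl, addr, addr, smull, smull, smulr, smulr, hv, (hPperp _ p.2).1,
      show h (p : Fin (m + 2) → F) v = 0 from p.2.1]
    ring
  let Iso : Set (Fin (m + 2) → F) := {x | h x v = 0 ∧ h x x = 0}
  have hIso : Nat.card Iso = q ^ 2 * hermCount m F q 0 := by
    rw [show hermCount m F q (0 : F) = hermCount (Module.finrank F P) F q (0 : F) by rw [hdim],
      ← hF, ← Nat.card_eq_fintype_card, hermCount, ← Nat.card_prod]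
    refine (Nat.card_congr (Equiv.ofBijective (fun x => ⟨E ((x.1, 0), ι x.2.1),
      ⟨(hEv _).1, by rw [hnorm, hιh, x.2.2]⟩⟩) ⟨fun x y he => ?_, fun x => ?_⟩)).symm
    · have he' := hEbij.1 (congrArg Subtype.val he)
      simp only [Prod.mk.injEq, and_true] at he'
      exact Prod.ext he'.1 (Subtype.ext (ι.injective he'.2))
    · obtain ⟨⟨⟨a, c⟩, p⟩, hp⟩ := hEbij.2 x.1
      obtain ⟨α, rfl⟩ := ι.surjective p
      have hc : c = 0 := by
        have h' := (hEv ((a, c), ι α)).1
        rw [hp, x.2.1] at h'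
        exact h'.symm
      subst hc
      refine ⟨(a, ⟨α, ?_⟩), Subtype.ext hp⟩
      rw [← hιh, ← hnorm a (ι α), hp]
      exact x.2.2
  have hline : (Submodule.span F {v} : Set (Fin (m + 2) → F)) ⊆ Iso := by
    intro x hx
    obtain ⟨a, rfl⟩ := Submodule.mem_span_singleton.1 hx
    exact ⟨by rw [smull, hv, mul_zero], by rw [smull, smulr, hv, mul_zero, mul_zero]⟩
  have hlc : (Submodule.span F {v} : Set (Fin (m + 2) → F)).ncard = q ^ 2 := by
    rw [← Nat.card_coe_set_eq]
    refine (Module.natCard_eq_pow_finrank (K := F) (V := Submodule.span F {v})).trans ?_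
    rw [finrank_span_singleton hv0, pow_one, Nat.card_eq_fintype_card, hF]
  have hset : Nat.card {w : Fin (m + 2) → F // w ∉ Submodule.span F {v} ∧ h w v = 0 ∧ h w w = 0} =
      (Iso \ (Submodule.span F {v} : Set (Fin (m + 2) → F))).ncard := by
    rw [← Nat.card_coe_set_eq]
    exact Nat.card_congr (Equiv.subtypeEquivRight fun x => and_comm)
  rw [hset, ← hlc, Set.ncard_sdiff_add_ncard_of_subset hline, ← Nat.card_coe_set_eq, hIso, hlc]

/-- Double count of the totally isotropic two-dimensional subspaces. -/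
theorem card_iso_planes [Fintype F] (hF : Fintype.card F = q ^ 2) (m : ℕ) :
    Nat.card {W : Submodule F (Fin (m + 2) → F) //
        Module.finrank F W = 2 ∧ ∀ u ∈ W, ∀ v ∈ W, hermForm (m + 2) F q u v = 0} *
        ((q ^ 2) ^ 2 - 1) * ((q ^ 2) ^ 2 - q ^ 2) =
      (hermCount (m + 2) F q 0 - 1) * (q ^ 2 * hermCount m F q 0 - q ^ 2) := by
  classical
  have hq := two_le_q hF
  have hQ : Nat.card F = q ^ 2 := by rw [Nat.card_eq_fintype_card, hF]
  let Good : Submodule F (Fin (m + 2) → F) → Prop :=
    fun W => ∀ u ∈ W, ∀ v ∈ W, hermForm (m + 2) F q u v = 0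
  have hpt : ∀ v : {v : Fin (m + 2) → F // v ≠ 0},
      Nat.card {W : Submodule F (Fin (m + 2) → F) //
          Module.finrank F W = 2 ∧ (v : Fin (m + 2) → F) ∈ W ∧ Good W} * ((q ^ 2) ^ 2 - q ^ 2) =
        if hermForm (m + 2) F q v v = 0 then q ^ 2 * hermCount m F q 0 - q ^ 2 else 0 := by
    intro v
    split_ifs with hv
    · have h := card_planes_through (F := F) Good v.2
      rw [hQ] at h
      rw [h, ← card_iso_perp hF m v.2 hv, Nat.add_sub_cancel]
      exact Nat.card_congr (Equiv.subtypeEquivRight fun w => and_congr_right fun _ =>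
        herm_span_pair hF hv w)
    · rw [mul_eq_zero]
      refine Or.inl (Nat.card_eq_zero.2 (Or.inl ⟨fun W => hv (W.2.2.2 _ W.2.2.1 _ W.2.2.1)⟩))
  have h := card_planes (F := F) Good
  rw [hQ] at h
  rw [h, Finset.sum_mul, Finset.sum_congr rfl (fun v _ => hpt v), ← Finset.sum_filter, Finset.sum_const,
    smul_eq_mul]
  congr 1
  rw [← Fintype.card_subtype, ← Nat.card_eq_fintype_card, eq_tsub_iff_add_eq_of_le, hermCount]
  · have e := Nat.card_congr (Equiv.sumCompl
      (fun x : {x : Fin (m + 2) → F // hermForm (m + 2) F q x x = 0} => (x : Fin (m + 2) → F) ≠ 0))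
    rw [Nat.card_sum] at e
    rw [← e]
    congr 1
    · exact Nat.card_congr
        { toFun := fun x => ⟨⟨x.1.1, x.2⟩, x.1.2⟩
          invFun := fun x => ⟨⟨x.1.1, x.2⟩, x.1.2⟩
          left_inv := fun _ => rfl
          right_inv := fun _ => rfl }
    · refine (Nat.card_eq_one_iff_unique.2 ⟨⟨fun a b => ?_⟩, ⟨⟨⟨0, ?_⟩, by simp⟩⟩⟩).symm
      · exact Subtype.ext (Subtype.ext ((not_not.1 a.2).trans (not_not.1 b.2).symm))
      · exact (hermForm_zero_left (by omega) 0).1
  · exact Nat.card_pos_iff.2 ⟨⟨0, (hermForm_zero_left (by omega) 0).1⟩, inferInstance⟩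

end CfsgLib.Classical
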