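/-
Primitivity of `Sp` on projective space, perfectness of `Sp` and simplicity of `PSp`.
-/
import Cfsg.Agent.Lib.Classical.SpCenter

set_option autoImplicit false

namespace CfsgLib.Classical

open Matrix Cfsg
open scoped LinearAlgebra.Projectivization commutatorElement Pointwise

variable {F : Type*} [Field F] {m : ℕ}

theorem sp_smul_def (g : symplecticGroup (Fin m) F) (v : Fin m ⊕ Fin m → F) :
    g • v = g.1 *ᵥ v := rfl

theorem spTGroup_fix_smul {S : Set (Fin m ⊕ Fin m → F)} {x : Fin m ⊕ Fin m → F} (hx : x ≠ 0)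
    (hS : ∀ v ∈ S, sympForm m F x v = 0) {g : symplecticGroup (Fin m) F} (hg : g ∈ spTGroup S) :
    g • Projectivization.mk F x hx = Projectivization.mk F x hx := by
  rw [Projectivization.smul_mk, Projectivization.mk_eq_mk_iff']
  exact ⟨1, by rw [one_smul, sp_smul_def, spTGroup_fix hS hg]⟩

theorem sp_smul_mk_eq {g : symplecticGroup (Fin m) F} {v w : Fin m ⊕ Fin m → F}
    (hv : v ≠ 0) (hw : w ≠ 0) (h : g.1 *ᵥ v = w) :
    g • Projectivization.mk F v hv = Projectivization.mk F w hw := by
  rw [Projectivization.smul_mk, Projectivization.mk_eq_mk_iff']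
  exact ⟨1, by rw [one_smul, sp_smul_def, h]⟩

theorem sp_isPretransitive :
    MulAction.IsPretransitive (symplecticGroup (Fin m) F) (ℙ F (Fin m ⊕ Fin m → F)) := by
  refine ⟨fun p p' => ?_⟩
  induction p using Projectivization.ind with | _ v hv =>
  induction p' using Projectivization.ind with | _ w hw =>
  obtain ⟨g, -, hg⟩ := exists_sp_move hv hw
  exact ⟨g, sp_smul_mk_eq hv hw hg⟩

theorem IsBlock.smul_mem {G X : Type*} [Group G] [MulAction G X] {B : Set X}
    (hB : MulAction.IsBlock G B) {g : G} {b x : X} (hb : b ∈ B) (hgb : g • b ∈ B) (hx : x ∈ B) :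
    g • x ∈ B := by
  by_contra hc
  have hne : g • B ≠ (1 : G) • B := by
    rw [one_smul]
    intro h
    exact hc (h ▸ Set.smul_mem_smul_set hx)
  have := hB hne
  rw [one_smul, Set.disjoint_left] at this
  exact this (Set.smul_mem_smul_set hb) hgb

theorem sp_isPreprimitive (hm : 1 ≤ m) :
    MulAction.IsPreprimitive (symplecticGroup (Fin m) F) (ℙ F (Fin m ⊕ Fin m → F)) := by
  have := sp_isPretransitive (m := m) (F := F)
  refine ⟨fun {B} hB => ?_⟩
  by_contra hc
  rw [MulAction.IsTrivialBlock, not_or, Set.not_subsingleton_iff, Set.Nontrivial] at hc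
  obtain ⟨⟨p, hp, q, hq, hpq⟩, hne⟩ := hc
  apply hne
  -- a pair of non-orthogonal points of `B`
  have key : ∀ (u v : Fin m ⊕ Fin m → F) (hu : u ≠ 0) (hv : v ≠ 0),
      Projectivization.mk F u hu ∈ B → Projectivization.mk F v hv ∈ B →
      sympForm m F u v ≠ 0 → B = Set.univ := by
    intro u v hu hv huB hvB huv
    -- everything non-orthogonal to `u` lies in `B`
    have h1 : ∀ (w : Fin m ⊕ Fin m → F) (hw : w ≠ 0), sympForm m F u w ≠ 0 →
        Projectivization.mk F w hw ∈ B := by
      intro w hw huw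
      obtain ⟨g, -, hgu, hgv⟩ := exists_spTGroup_move_partner (⊤ : Submodule F (Fin m ⊕ Fin m → F))
        (u := u) (v := (sympForm m F u v)⁻¹ • v) (v' := (sympForm m F u w)⁻¹ • w) trivial trivial
        trivial (by rw [sympForm_smul_right, inv_mul_cancel₀ huv])
        (by rw [sympForm_smul_right, inv_mul_cancel₀ huw])
      have hgp : g • Projectivization.mk F u hu ∈ B := by rwa [sp_smul_mk_eq hu hu hgu]
      have := IsBlock.smul_mem hB huB hgp hvB
      have e : g • Projectivization.mk F v hv = Projectivization.mk F w hw := by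
        rw [Projectivization.smul_mk, Projectivization.mk_eq_mk_iff']
        refine ⟨sympForm m F u v * (sympForm m F u w)⁻¹, ?_⟩
        rw [mulVec_smul] at hgv
        rw [sp_smul_def, mul_smul, ← hgv, smul_smul, mul_inv_cancel₀ huv, one_smul]
      rwa [e] at this
    refine Set.eq_univ_of_forall fun r => ?_
    induction r using Projectivization.ind with | _ w hw =>
    -- a point `s` non-orthogonal to both
    obtain ⟨s, -, hus, hws⟩ := exists_both_ne_zero (⊤ : Submodule F (Fin m ⊕ Fin m → F))
      (v := u) (w := w) (by simpa using exists_sympForm_ne_zero hu)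
      (by simpa using exists_sympForm_ne_zero hw)
    have hs : s ≠ 0 := fun h => hus (by simp [h])
    obtain ⟨g, -, hg⟩ := exists_sp_move hs hu
    have hsB := h1 s hs hus
    have hgsB : g • Projectivization.mk F s hs ∈ B := by rwa [sp_smul_mk_eq hs hu hg]
    have hgw : (g.1 *ᵥ w) ≠ 0 := fun h => hw (sp_mulVec_injective g (by simpa using h))
    have h2 : Projectivization.mk F (g.1 *ᵥ w) hgw ∈ B := by
      apply h1
      rw [← hg, sp_form, sympForm_swap, neg_ne_zero]
      exact hws
    have h3 := IsBlock.smul_mem hB (g := g⁻¹) (b := Projectivization.mk F u hu)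
      (x := Projectivization.mk F (g.1 *ᵥ w) hgw) huB
      (by rwa [← sp_smul_mk_eq hs hu hg, inv_smul_smul]) h2
    rwa [sp_smul_mk_eq hgw hw (sp_inv_mulVec g w)] at h3
  induction p using Projectivization.ind with | _ u hu =>
  induction q using Projectivization.ind with | _ v hv =>
  by_cases huv : sympForm m F u v = 0
  swap
  · exact key u v hu hv hp hq huv
  -- all points orthogonal to `u`, off `u`, lie in `B`
  set W : Submodule F (Fin m ⊕ Fin m → F) := LinearMap.ker (spBilin m F u) with hW
  have memW : ∀ x, x ∈ W ↔ sympForm m F u x = 0 := fun x => by simp [hW]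
  have sep : ∀ w, w ≠ 0 → (∀ a : F, a • u ≠ w) → ∃ z ∈ W, sympForm m F w z ≠ 0 := by
    intro w hw hwu
    by_contra hc
    push Not at hc
    obtain ⟨t, ht⟩ := exists_sympForm_ne_zero hu
    refine hwu (sympForm m F w t / sympForm m F u t)
      (sub_eq_zero.1 (sympForm_nondeg fun x => ?_))
    have hx : x - (sympForm m F u x / sympForm m F u t) • t ∈ W := by
      rw [memW, sympForm_sub_right, sympForm_smul_right]
      field_simp
      ring
    have := hc _ hx
    rw [sympForm_sub_right, sympForm_smul_right] at this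
    rw [sympForm_sub_left, sympForm_smul_left]
    field_simp at this ⊢
    linear_combination -this
  have hvu : ∀ a : F, a • u ≠ v := by
    intro a ha
    exact hpq ((Projectivization.mk_eq_mk_iff' F v u hv hu).2 ⟨a, ha⟩).symm
  have h1 : ∀ (w : Fin m ⊕ Fin m → F) (hw : w ≠ 0), (∀ a : F, a • u ≠ w) →
      sympForm m F u w = 0 → Projectivization.mk F w hw ∈ B := by
    intro w hw hwu huw
    obtain ⟨g, hg, hgv⟩ := exists_spTGroup_move W ((memW v).2 huv) ((memW w).2 huw)
      (sep v hv hvu) (sep w hw hwu)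
    have hgp : g • Projectivization.mk F u hu ∈ B := by
      rwa [spTGroup_fix_smul hu (fun x hx => (memW x).1 hx) hg]
    have := IsBlock.smul_mem hB hp hgp hq
    rwa [sp_smul_mk_eq hv hw hgv] at this
  obtain ⟨z, hz, hvz⟩ := sep v hv hvu
  have hz0 : z ≠ 0 := fun h => hvz (by simp [h])
  refine key v z hv hz0 hq (h1 z hz0 ?_ ((memW z).1 hz)) hvz
  intro a ha
  apply hvz
  rw [← ha, sympForm_smul_right, sympForm_swap u v, huv, neg_zero, mul_zero]

/-- `fromBlocks 1 B 0 1` for symmetric `B`. -/
def spS (B : Matrix (Fin m) (Fin m) F) (hB : B.IsSymm) : symplecticGroup (Fin m) F :=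
  ⟨fromBlocks 1 B 0 1, by
    rw [SymplecticGroup.fromBlocks_mem_iff]
    simp [Matrix.IsSymm] at hB
    simp [hB]⟩

/-- `fromBlocks A 0 0 A⁻ᵀ`. -/
noncomputable def spD (A : Matrix.GeneralLinearGroup (Fin m) F) : symplecticGroup (Fin m) F :=
  ⟨fromBlocks (A : Matrix _ _ F) 0 0 ((A⁻¹ : Matrix.GeneralLinearGroup (Fin m) F) :
      Matrix _ _ F)ᵀ, by
    rw [SymplecticGroup.fromBlocks_mem_iff]
    simp [← transpose_mul]⟩

theorem spS_mul (B C : Matrix (Fin m) (Fin m) F) (hB : B.IsSymm) (hC : C.IsSymm) :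
    spS B hB * spS C hC = spS (B + C) (hB.add hC) :=
  Subtype.ext (by simp [spS, fromBlocks_multiply, add_comm])

theorem spS_congr {B C : Matrix (Fin m) (Fin m) F} (h : B = C) (hB : B.IsSymm) (hC : C.IsSymm) :
    spS B hB = spS C hC := by
  subst h
  rfl

theorem spS_commutator_mem (A : Matrix.GeneralLinearGroup (Fin m) F)
    (B : Matrix (Fin m) (Fin m) F) (hB : B.IsSymm) {C : Matrix (Fin m) (Fin m) F} (hC : C.IsSymm)
    (h : (A : Matrix _ _ F) * B * (A : Matrix _ _ F)ᵀ = C + B) :
    spS C hC ∈ commutator (symplecticGroup (Fin m) F) := by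
  have key : spD A * spS B hB = (spS C hC * spS B hB) * spD A := by
    rw [spS_mul]
    apply Subtype.ext
    have hinv : (A : Matrix (Fin m) (Fin m) F)ᵀ *
        ((A⁻¹ : Matrix.GeneralLinearGroup (Fin m) F) : Matrix (Fin m) (Fin m) F)ᵀ = 1 := by
      rw [← transpose_mul, ← Units.val_mul, inv_mul_cancel, Units.val_one, transpose_one]
    simp only [spD, spS, Submonoid.coe_mul, fromBlocks_multiply, ← h]
    simp [Matrix.mul_assoc, hinv, -Matrix.coe_units_inv]
  have : ⁅spD A, spS B hB⁆ = spS C hC := by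
    rw [commutatorElement_def, key, mul_inv_cancel_right, mul_inv_cancel_right]
  rw [← this]
  exact Subgroup.commutator_mem_commutator (Subgroup.mem_top _) (Subgroup.mem_top _)

theorem spS_single_eq_spT (i : Fin m) (c : F) (h : (Matrix.single i i c).IsSymm) :
    spS (Matrix.single i i c) h = spT (Pi.single (Sum.inl i) 1) c := by
  refine sp_ext fun x => ?_
  rw [spT_apply, sympForm_single_inl]
  change fromBlocks 1 (Matrix.single i i c) 0 1 *ᵥ x = _
  rw [fromBlocks_mulVec]
  funext j
  rcases j with j | j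
  · simp [single_mulVec_eq, Pi.single_apply, mul_comm]
  · simp

theorem isSymm_single (i : Fin m) (c : F) : (Matrix.single i i c).IsSymm := by
  simp [Matrix.IsSymm, transpose_single]

theorem isSymm_single_pair (i j : Fin m) (c : F) :
    (Matrix.single i j c + Matrix.single j i c).IsSymm := by
  simp [Matrix.IsSymm, transpose_single, add_comm]

/-- The elementary matrix `1 + c E_{ij}` in `GL`. -/
def elemGL {i j : Fin m} (hij : i ≠ j) (c : F) : Matrix.GeneralLinearGroup (Fin m) F :=
  SpecialLinearGroup.toGL (SpecialLinearGroup.transvection hij c)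

theorem spS_pair_mem {i j k : Fin m} (hij : i ≠ j) (hjk : j ≠ k) (hik : i ≠ k) (c : F) :
    spS (Matrix.single i k c + Matrix.single k i c) (isSymm_single_pair i k c) ∈
      commutator (symplecticGroup (Fin m) F) := by
  refine spS_commutator_mem (elemGL hij 1) _ (isSymm_single_pair j k c) _ ?_
  change (1 + Matrix.single i j 1) * _ * (1 + Matrix.single i j 1)ᵀ = _
  simp [transpose_single, mul_add, add_mul, hjk, hik, hij, hjk.symm, hik.symm, hij.symm]
  abel

theorem spS_diag_mem {i j : Fin m} (hij : i ≠ j) (t b : F) :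
    spS ((Matrix.single i j (b * t) + Matrix.single j i (b * t)) +
        Matrix.single i i (t ^ 2 * b)) ((isSymm_single_pair i j _).add (isSymm_single i _)) ∈
      commutator (symplecticGroup (Fin m) F) := by
  refine spS_commutator_mem (elemGL hij t) _ (isSymm_single j b) _ ?_
  change (1 + Matrix.single i j t) * _ * (1 + Matrix.single i j t)ᵀ = _
  simp [transpose_single, mul_add, add_mul, hij.symm, mul_comm, mul_left_comm, sq]
  abel

theorem spT_mem_commutator (h : (∃ a : F, a ≠ 0 ∧ a ^ 2 ≠ 1) ∨ 3 ≤ m ∨ (2 ≤ m ∧ (2 : F) ≠ 0))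
    (v : Fin m ⊕ Fin m → F) (c : F) : spT v c ∈ commutator (symplecticGroup (Fin m) F) := by
  rcases eq_or_ne v 0 with rfl | hv
  · have : spT (0 : Fin m ⊕ Fin m → F) c = 1 := sp_ext fun x => by simp [spT_apply]
    rw [this]
    exact one_mem _
  · rcases h with ⟨a, ha, ha2⟩ | h
    · obtain ⟨g, -, hg⟩ := exists_sp_move hv (smul_ne_zero ha hv)
      have : ⁅g, spT v (c / (a ^ 2 - 1))⁆ = spT v c := by
        rw [commutatorElement_def, spT_conj, hg, spT_smul, spT_inv, spT_mul]
        congr 1
        have : a ^ 2 - 1 ≠ 0 := sub_ne_zero.2 ha2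
        field_simp
        ring
      rw [← this]
      exact Subgroup.commutator_mem_commutator (Subgroup.mem_top _) (Subgroup.mem_top _)
    · obtain ⟨i, j, hij⟩ : ∃ i j : Fin m, i ≠ j :=
        ⟨⟨0, by omega⟩, ⟨1, by omega⟩, by simp⟩
      suffices H : ∀ b : F, spS (Matrix.single i i b) (isSymm_single i b) ∈
          commutator (symplecticGroup (Fin m) F) by
        have hne : (Pi.single (Sum.inl i) (1 : F) : Fin m ⊕ Fin m → F) ≠ 0 := by simp
        obtain ⟨g, -, hg⟩ := exists_sp_move hne hv
        rw [← hg, ← spT_conj, ← spS_single_eq_spT i c (isSymm_single i c)]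
        exact (inferInstance : (commutator (symplecticGroup (Fin m) F)).Normal).conj_mem _ (H c) g
      intro b
      rcases h with h3 | ⟨h2m, h2⟩
      · obtain ⟨k, hk⟩ : ∃ k, k ∉ ({i, j} : Finset (Fin m)) := by
          by_contra hc
          push Not at hc
          have h1 := Finset.card_le_card
            (fun x _ => hc x : Finset.univ ⊆ ({i, j} : Finset (Fin m)))
          have h2 := Finset.card_le_two (a := i) (b := j)
          simp at h1
          omega
        simp only [Finset.mem_insert, Finset.mem_singleton, not_or] at hk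
        have := mul_mem (inv_mem (spS_pair_mem (Ne.symm hk.1) hk.2 hij b))
          (spS_diag_mem hij 1 b)
        convert this using 1
        rw [eq_inv_mul_iff_mul_eq, spS_mul]
        exact spS_congr (by simp) _ _
      · have := mul_mem (spS_diag_mem hij 1 (b / 2)) (spS_diag_mem hij (-1) (b / 2))
        convert this using 1
        rw [spS_mul]
        refine spS_congr ?_ _ _
        ext x y
        simp only [Matrix.add_apply, Matrix.single_apply]
        split_ifs <;> field_simp <;> ring

theorem commutator_sp_eq_top (h : (∃ a : F, a ≠ 0 ∧ a ^ 2 ≠ 1) ∨ 3 ≤ m ∨ (2 ≤ m ∧ (2 : F) ≠ 0)) :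
    commutator (symplecticGroup (Fin m) F) = ⊤ := by
  rw [eq_top_iff, ← spTGroup_univ, spTGroup, Subgroup.closure_le]
  rintro A ⟨v, -, c, rfl⟩
  exact spT_mem_commutator h v c

theorem exists_sq_ne_one_or_two_ne_zero [Fintype F] :
    3 ≤ Fintype.card F → (∃ a : F, a ≠ 0 ∧ a ^ 2 ≠ 1) ∨ (2 : F) ≠ 0 := by
  intro h
  by_contra hc
  push Not at hc
  obtain ⟨h1, h2⟩ := hc
  classical
  have hsub : (Finset.univ : Finset F) ⊆ {0, 1} := by
    intro a _
    rcases eq_or_ne a 0 with rfl | ha
    · simp
    · have : (a - 1) ^ 2 = 0 := by linear_combination h1 a ha - (a - 1) * h2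
      simp [sub_eq_zero.1 (pow_eq_zero_iff (n := 2) (by norm_num) |>.1 this)]
  have := Finset.card_le_card hsub
  have h3 := Finset.card_le_two (a := (0 : F)) (b := 1)
  simp at this
  omega

theorem exists_sq_ne_one_of_four_le [Fintype F] (h : 4 ≤ Fintype.card F) :
    ∃ a : F, a ≠ 0 ∧ a ^ 2 ≠ 1 := by
  classical
  by_contra hc
  push Not at hc
  have hsub : (Finset.univ : Finset F) ⊆ {0, 1, -1} := by
    intro a _
    rcases eq_or_ne a 0 with rfl | ha
    · simp
    · rcases sq_eq_one_iff.1 (hc a ha) with rfl | rfl <;> simp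
  have := Finset.card_le_card hsub
  have h3 := Finset.card_le_three (a := (0 : F)) (b := 1) (c := -1)
  rw [Finset.card_univ] at this
  omega

/-- The root groups of the Iwasawa structure. -/
def spRootGroup (p : ℙ F (Fin m ⊕ Fin m → F)) : Subgroup (symplecticGroup (Fin m) F) where
  carrier := Set.range (spT p.rep)
  mul_mem' := by
    rintro _ _ ⟨c, rfl⟩ ⟨d, rfl⟩
    exact ⟨c + d, (spT_mul _ c d).symm⟩
  one_mem' := ⟨0, spT_zero _⟩
  inv_mem' := by
    rintro _ ⟨c, rfl⟩
    exact ⟨-c, (spT_inv _ c).symm⟩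

theorem mem_spRootGroup_iff {p : ℙ F (Fin m ⊕ Fin m → F)} {v : Fin m ⊕ Fin m → F} {hv : v ≠ 0}
    (hp : Projectivization.mk F v hv = p) {A : symplecticGroup (Fin m) F} :
    A ∈ spRootGroup p ↔ ∃ c, A = spT v c := by
  rw [← Projectivization.mk_rep p, Projectivization.mk_eq_mk_iff'] at hp
  obtain ⟨a, ha⟩ := hp
  have ha0 : a ≠ 0 := fun h => hv (by rw [← ha, h, zero_smul])
  constructor
  · rintro ⟨c, rfl⟩
    refine ⟨c / a ^ 2, ?_⟩
    rw [← ha, spT_smul, div_mul_cancel₀ _ (pow_ne_zero _ ha0)]
  · rintro ⟨c, rfl⟩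
    exact ⟨c * a ^ 2, by rw [← ha, spT_smul]⟩

/-- The Iwasawa structure of `Sp` on projective space. -/
def spIwasawa :
    MulAction.IwasawaStructure (symplecticGroup (Fin m) F) (ℙ F (Fin m ⊕ Fin m → F)) where
  T := spRootGroup
  is_comm p := ⟨⟨by
    rintro ⟨_, c, rfl⟩ ⟨_, d, rfl⟩
    exact Subtype.ext (by simp only [Subgroup.coe_mul, spT_mul, add_comm])⟩⟩
  is_conj g p := by
    induction p using Projectivization.ind with | _ v hv =>
    ext A
    rw [Subgroup.mem_pointwise_smul_iff_inv_smul_mem, mem_spRootGroup_iff (hv := hv) rfl]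
    have hgv : g.1 *ᵥ v ≠ 0 := fun h => hv (sp_mulVec_injective g (by simpa using h))
    rw [mem_spRootGroup_iff (v := g.1 *ᵥ v) (hv := hgv) (sp_smul_mk_eq hv hgv rfl).symm]
    simp only [← spT_conj, MulAut.smul_def, MulAut.inv_apply, MulAut.conj_symm_apply]
    constructor
    · rintro ⟨c, rfl⟩
      exact ⟨c, by group⟩
    · rintro ⟨c, hc⟩
      exact ⟨c, by rw [← hc]; group⟩
  is_generator := by
    rw [eq_top_iff, ← spTGroup_univ, spTGroup, Subgroup.closure_le]
    rintro A ⟨v, -, c, rfl⟩
    rcases eq_or_ne v 0 with rfl | hv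
    · rw [show spT (0 : Fin m ⊕ Fin m → F) c = 1 from sp_ext fun x => by simp [spT_apply]]
      exact one_mem _
    · exact Subgroup.mem_iSup_of_mem (Projectivization.mk F v hv)
        ((mem_spRootGroup_iff (hv := hv) rfl).2 ⟨c, rfl⟩)

theorem mem_center_sp_of_fix_points {g : symplecticGroup (Fin m) F}
    (h : ∀ p : ℙ F (Fin m ⊕ Fin m → F), g • p = p) :
    g ∈ Subgroup.center (symplecticGroup (Fin m) F) := by
  have hline : ∀ v : Fin m ⊕ Fin m → F, ¬ LinearIndependent F ![v, g.1.mulVecLin v] := by
    intro v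
    rcases eq_or_ne v 0 with rfl | hv
    · intro h'
      exact (h'.ne_zero 0) rfl
    · rw [LinearIndependent.pair_iff' hv]
      push Not
      have := h (Projectivization.mk F v hv)
      rw [Projectivization.smul_mk, Projectivization.mk_eq_mk_iff'] at this
      obtain ⟨a, ha⟩ := this
      exact ⟨a, ha⟩
  obtain ⟨a, ha⟩ := g.1.mulVecLin.exists_eq_smul_id_of_forall_notLinearIndependent hline
  have hga : ∀ v, g.1 *ᵥ v = a • v := fun v => by
    have := LinearMap.congr_fun ha v
    simpa using this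
  exact Subgroup.mem_center_iff.2 fun k => sp_ext fun v => by
    rw [Submonoid.coe_mul, Submonoid.coe_mul, ← mulVec_mulVec, ← mulVec_mulVec, hga, hga,
      mulVec_smul]

theorem isSimpleGroup_PSp [Fintype F] (hm : 2 ≤ m) (h : m = 2 → 3 ≤ Fintype.card F) :
    IsSimpleGroup (Cfsg.PSp m F) := by
  have hperf : commutator (symplecticGroup (Fin m) F) = ⊤ := by
    apply commutator_sp_eq_top
    rcases hm.lt_or_eq with h3 | h2
    · exact Or.inr (Or.inl h3)
    · rcases exists_sq_ne_one_or_two_ne_zero (h h2.symm) with h' | h'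
      · exact Or.inl h'
      · exact Or.inr (Or.inr ⟨hm, h'⟩)
  have := sp_isPreprimitive (F := F) (m := m) (by omega)
  set i : Fin m := ⟨0, by omega⟩
  have : Nontrivial (Cfsg.PSp m F) := by
    refine ⟨⟨(spT (Pi.single (Sum.inl i) 1) 1 : symplecticGroup (Fin m) F), 1, fun hq => ?_⟩⟩
    rw [QuotientGroup.eq_one_iff] at hq
    have hc := congrArg (fun k : symplecticGroup (Fin m) F => k.1 *ᵥ (Pi.single (Sum.inr i) 1))
      ((mem_center_sp_iff _).1 hq |>.resolve_right fun h => ?_)
    · simp only [spT_apply, sympForm_single_inl, Submonoid.coe_one, one_mulVec] at hc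
      simpa using congrFun hc (Sum.inl i)
    · have := congrArg (fun k : symplecticGroup (Fin m) F => k.1 *ᵥ (Pi.single (Sum.inr i) 1)) h
      simp only [spT_apply, sympForm_single_inl, spNegOne_apply] at this
      simpa using congrFun this (Sum.inl i)
  refine IsSimpleGroup.mk fun N hN => ?_
  set π := QuotientGroup.mk' (Subgroup.center (symplecticGroup (Fin m) F))
  have hπ : Function.Surjective π := QuotientGroup.mk'_surjective _
  by_cases hfix : MulAction.fixedPoints (N.comap π) (ℙ F (Fin m ⊕ Fin m → F)) = Set.univ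
  · left
    rw [Subgroup.eq_bot_iff_forall]
    intro x hx
    obtain ⟨g, rfl⟩ := hπ x
    refine (QuotientGroup.eq_one_iff g).2 (mem_center_sp_of_fix_points fun p => ?_)
    exact (hfix ▸ Set.mem_univ p : p ∈ MulAction.fixedPoints (N.comap π) _) ⟨g, hx⟩
  · right
    have := spIwasawa.commutator_le (N.comap π) hfix
    rw [hperf, top_le_iff] at this
    rw [← Subgroup.map_comap_eq_self_of_surjective hπ N, this,
      Subgroup.map_top_of_surjective π hπ]

/-- `Sp` maps onto `Cfsg.spGL`. -/
def spToSpGL : symplecticGroup (Fin m) F →* Cfsg.spGL m F :=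
  (MonoidHom.toHomUnits (symplecticGroup (Fin m) F).subtype).codRestrict _
    (fun g u v => sp_form g u v)

theorem spGL_isPreprimitive (hm : 1 ≤ m) :
    MulAction.IsPreprimitive (Cfsg.spGL m F) (ℙ F (Fin m ⊕ Fin m → F)) := by
  have := sp_isPreprimitive (F := F) (m := m) hm
  let f : ℙ F (Fin m ⊕ Fin m → F) →ₑ[(spToSpGL : symplecticGroup (Fin m) F →* Cfsg.spGL m F)]
      ℙ F (Fin m ⊕ Fin m → F) :=
    { toFun := id
      map_smul' := fun g p => by
        induction p using Projectivization.ind with | _ v hv =>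
        rfl }
  exact MulAction.IsPreprimitive.of_surjective (f := f) Function.surjective_id

end CfsgLib.Classical
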