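/-
The order of the centraliser of a nilpotent map of given Jordan type.
-/
import Cfsg.Agent.Lib.Classical.JordanType

set_option autoImplicit false

namespace CfsgLib.Classical.JordanType

open CfsgLib.Classical22.PrimeMaps CfsgLib.Classical22.NilPart

/-- The number of blocks of a given size. -/
def mult {t : ℕ} (d : Fin t → ℕ) (i : ℕ) : ℕ := (Finset.univ.filter fun k : Fin t => d k = i).card

/-- The number of blocks larger than a given size. -/
def above {t : ℕ} (d : Fin t → ℕ) (i : ℕ) : ℕ := (Finset.univ.filter fun k : Fin t => i < d k).card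

variable {F : Type*} [Field F] [Fintype F] {V : Type*} [AddCommGroup V] [Module F V] [FiniteDimensional F V]
  {N : V →ₗ[F] V} {t : ℕ} {d : Fin t → ℕ} (b : Module.Basis ((k : Fin t) × Fin (d k)) F V) (hb : IsJBasis N d b)
  (hd : ∀ k, 1 ≤ d k)

/-- The last members of the chains that are at least `i` long. -/
def socle (N : V →ₗ[F] V) (i : ℕ) : Submodule F V := (LinearMap.ker (N ^ i)).map (N ^ (i - 1))

omit [Fintype F] [FiniteDimensional F V] in
theorem socle_antitone (N : V →ₗ[F] V) {i j : ℕ} (hi : 1 ≤ i) (hij : i ≤ j) : socle N j ≤ socle N i := by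
  rintro _ ⟨x, hx, rfl⟩
  refine ⟨(N ^ (j - i)) x, ?_, ?_⟩
  · show (N ^ i) ((N ^ (j - i)) x) = 0
    rw [← Module.End.mul_apply, ← pow_add, Nat.add_sub_cancel' hij]
    exact hx
  · rw [← Module.End.mul_apply, ← pow_add]
    congr 2
    omega

include hb

omit [Fintype F] in
theorem finrank_ker_pow_jBasis (i : ℕ) : Module.finrank F (LinearMap.ker (N ^ i)) = ∑ l, min i (d l) := by
  have h := LinearMap.finrank_range_add_finrank_ker (N ^ i)
  rw [jBasis_rank b hb, Module.finrank_eq_card_basis b, Fintype.card_sigma] at h
  simp only [Fintype.card_fin] at h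
  have hp : prank (Finset.univ.val.map d) i = ∑ l, (d l - i) := by
    rw [prank, Multiset.map_map]; rfl
  have he : ∑ l, (d l - i) + ∑ l, min i (d l) = ∑ l, d l := by
    rw [← Finset.sum_add_distrib]
    exact Finset.sum_congr rfl fun l _ => by omega
  omega

omit [Fintype F] in
theorem finrank_socle {i : ℕ} (hi : 1 ≤ i) : Module.finrank F (socle N i) = above d (i - 1) := by
  have hle : LinearMap.ker (N ^ (i - 1)) ≤ LinearMap.ker (N ^ i) := fun x hx => by
    rw [LinearMap.mem_ker] at hx ⊢
    rw [show i = 1 + (i - 1) by omega, pow_add, Module.End.mul_apply, hx, map_zero]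
  have h := LinearMap.finrank_range_add_finrank_ker ((N ^ (i - 1)).domRestrict (LinearMap.ker (N ^ i)))
  rw [LinearMap.range_domRestrict, LinearMap.ker_domRestrict, LinearEquiv.finrank_eq (Submodule.comapSubtypeEquivOfLe hle),
    finrank_ker_pow_jBasis b hb, finrank_ker_pow_jBasis b hb] at h
  have he : ∑ l, min i (d l) = ∑ l, min (i - 1) (d l) + above d (i - 1) := by
    rw [above, Finset.card_filter, ← Finset.sum_add_distrib]
    exact Finset.sum_congr rfl fun l _ => by split_ifs <;> omega
  change Module.finrank F (socle N i) + _ = _ at h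
  omega

/-- Independent families in the socles. -/
theorem card_socle_tuples [Finite V] (s : Finset (Fin t)) (hs : ∀ k ∈ s, ∀ l, d k < d l → l ∈ s) (hd : ∀ k, 1 ≤ d k) :
    Nat.card {f : Fin t → V // (∀ k, k ∉ s → f k = 0) ∧ (∀ k ∈ s, f k ∈ socle N (d k)) ∧ LinearIndepOn F f (s : Set (Fin t))} =
      ∏ i ∈ Finset.range (Finset.univ.sup d + 1), ∏ r ∈ Finset.range (s.filter fun k => d k = i).card,
        (Fintype.card F ^ (mult d i + above d i) - Fintype.card F ^ (above d i + r)) := by
  classical
  haveI := Fintype.ofFinite V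
  induction s using Finset.strongInduction with
  | _ s ih =>
    rcases s.eq_empty_or_nonempty with rfl | hne
    · rw [Finset.prod_eq_one (fun i _ => by simp), Nat.card_eq_one_iff_exists]
      exact ⟨⟨0, fun _ _ => rfl, fun k hk => absurd hk (Finset.notMem_empty k), by simp⟩,
        fun f => Subtype.ext (funext fun k => f.2.1 k (Finset.notMem_empty k))⟩
    obtain ⟨a, ha, hmin⟩ := Finset.exists_min_image s d hne
    have hs' : ∀ k ∈ s.erase a, ∀ l, d k < d l → l ∈ s.erase a := fun k hk l hl => Finset.mem_erase.2 ⟨fun e => by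
      subst e
      have := hmin k (Finset.mem_of_mem_erase hk)
      omega, hs k (Finset.mem_of_mem_erase hk) l hl⟩
    have hcoe : (s : Set (Fin t)) = insert a ((s.erase a : Finset (Fin t)) : Set (Fin t)) := by
      rw [← Finset.coe_insert, Finset.insert_erase ha]
    let T := {f : Fin t → V // (∀ k, k ∉ s.erase a → f k = 0) ∧ (∀ k ∈ s.erase a, f k ∈ socle N (d k)) ∧
      LinearIndepOn F f ((s.erase a : Finset (Fin t)) : Set (Fin t))}
    have hupd : ∀ (f : Fin t → V) (v : V), Set.EqOn (Function.update f a v) f ((s.erase a : Finset (Fin t)) : Set (Fin t)) :=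
      fun f v k hk => Function.update_of_ne (Finset.ne_of_mem_erase (Finset.mem_coe.1 hk)) v f
    have e : {f : Fin t → V // (∀ k, k ∉ s → f k = 0) ∧ (∀ k ∈ s, f k ∈ socle N (d k)) ∧ LinearIndepOn F f (s : Set (Fin t))} ≃
        Σ f : T, {v : V // v ∈ socle N (d a) ∧ v ∉ Submodule.span F (f.1 '' ((s.erase a : Finset (Fin t)) : Set (Fin t)))} :=
      { toFun := fun f => ⟨⟨Function.update f.1 a 0, fun k hk => by
            by_cases hka : k = a
            · rw [hka, Function.update_self]
            · rw [Function.update_of_ne hka]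
              exact f.2.1 k fun h => hk (Finset.mem_erase.2 ⟨hka, h⟩),
            fun k hk => by rw [hupd f.1 0 hk]; exact f.2.2.1 k (Finset.mem_of_mem_erase hk),
            ((f.2.2.2.mono (by rw [hcoe]; exact Set.subset_insert _ _)).congr (hupd f.1 0).symm)⟩, f.1 a, f.2.2.1 a ha, by
            rw [Set.image_congr (hupd f.1 0)]
            have h : LinearIndepOn F f.1 (insert a ((s.erase a : Finset (Fin t)) : Set (Fin t))) := by
              rw [← hcoe]; exact f.2.2.2
            exact ((linearIndepOn_insert (by simp)).1 h).2⟩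
        invFun := fun p => ⟨Function.update p.1.1 a p.2.1, fun k hk => by
            have hka : k ≠ a := fun e => hk (e ▸ ha)
            rw [Function.update_of_ne hka]
            exact p.1.2.1 k fun h => hk (Finset.mem_of_mem_erase h),
            fun k hk => by
              by_cases hka : k = a
              · rw [hka, Function.update_self]; exact p.2.2.1
              · rw [Function.update_of_ne hka]; exact p.1.2.2.1 k (Finset.mem_erase.2 ⟨hka, hk⟩),
            by
              rw [hcoe, linearIndepOn_insert (by simp), Set.image_congr (hupd p.1.1 p.2.1), Function.update_self]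
              exact ⟨p.1.2.2.2.congr (hupd p.1.1 p.2.1).symm, p.2.2.2⟩⟩
        left_inv := fun f => Subtype.ext (by simp)
        right_inv := fun p => by
          obtain ⟨⟨f, hf1, hf2, hf3⟩, ⟨v, hv⟩⟩ := p
          refine Sigma.subtype_ext (Subtype.ext ?_) ?_
          · show Function.update (Function.update f a v) a 0 = f
            rw [Function.update_idem, ← hf1 a (by simp), Function.update_eq_self]
          · show Function.update f a v a = v
            rw [Function.update_self] }
    have hfib : ∀ f : T, Nat.card {v : V // v ∈ socle N (d a) ∧ v ∉ Submodule.span F (f.1 '' ((s.erase a : Finset (Fin t)) : Set (Fin t)))} =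
        Fintype.card F ^ (mult d (d a) + above d (d a)) - Fintype.card F ^ (s.erase a).card := by
      intro f
      set X := Submodule.span F (f.1 '' ((s.erase a : Finset (Fin t)) : Set (Fin t))) with hX
      have hle : X ≤ socle N (d a) := Submodule.span_le.2 (by
        rintro _ ⟨k, hk, rfl⟩
        exact socle_antitone N (hd a) (hmin k (Finset.mem_of_mem_erase hk)) (f.2.2.1 k hk))
      have hXd : Module.finrank F X = (s.erase a).card := by
        rw [hX, ← Finset.coe_image, finrank_span_finset_eq_card, Finset.card_image_of_injOn]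
        · exact f.2.2.2.injOn
        · rw [Finset.coe_image]; exact f.2.2.2.id_image
      have hSd : Module.finrank F (socle N (d a)) = mult d (d a) + above d (d a) := by
        rw [finrank_socle b hb (hd a), mult, above, above, Finset.card_filter, Finset.card_filter, Finset.card_filter,
          ← Finset.sum_add_distrib]
        have := hd a
        exact Finset.sum_congr rfl fun l _ => by split_ifs <;> omega
      rw [Nat.card_congr (show {v : V // v ∈ socle N (d a) ∧ v ∉ X} ≃ ↥((socle N (d a) : Set V) \ (X : Set V)) from Equiv.refl _),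
        Nat.card_coe_set_eq, Set.ncard_sdiff (SetLike.coe_subset_coe.2 hle), ← Nat.card_coe_set_eq, ← Nat.card_coe_set_eq,
        SetLike.coe_sort_coe, SetLike.coe_sort_coe, Module.natCard_eq_pow_finrank (K := F), Module.natCard_eq_pow_finrank (K := F) (V := X),
        hXd, hSd, Nat.card_eq_fintype_card]
    haveI : Fintype T := Fintype.ofFinite T
    rw [Nat.card_congr e, Nat.card_sigma, Finset.sum_congr rfl fun f _ => hfib f, Finset.sum_const, Finset.card_univ,
      smul_eq_mul, ← Nat.card_eq_fintype_card, ih _ (Finset.erase_ssubset ha) hs']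
    have hcard : (s.erase a).card = above d (d a) + ((s.erase a).filter fun k => d k = d a).card := by
      rw [← Finset.card_filter_add_card_filter_not (s := s.erase a) (fun k => d k = d a), add_comm]
      congr 1
      rw [above]
      congr 1
      ext k
      simp only [Finset.mem_filter, Finset.mem_univ, true_and, Finset.mem_erase]
      constructor
      · rintro ⟨⟨-, hk⟩, hne⟩
        have := hmin k hk
        omega
      · intro hk
        exact ⟨⟨fun e => by rw [e] at hk; omega, hs a ha k hk⟩, by omega⟩
    have hin : d a ∈ Finset.range (Finset.univ.sup d + 1) := Finset.mem_range.2 (Nat.lt_succ_of_le (Finset.le_sup (Finset.mem_univ a)))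
    rw [← Finset.mul_prod_erase _ _ hin, ← Finset.mul_prod_erase _ _ hin]
    have hsame : ∀ i ∈ (Finset.range (Finset.univ.sup d + 1)).erase (d a),
        ((s.erase a).filter fun k => d k = i) = s.filter fun k => d k = i := fun i hi => by
      ext k
      have hne := Finset.ne_of_mem_erase hi
      simp only [Finset.mem_filter, Finset.mem_erase]
      exact ⟨fun h => ⟨h.1.2, h.2⟩, fun h => ⟨⟨fun e => hne (by rw [← h.2, e]), h.1⟩, h.2⟩⟩
    have hone : (s.filter fun k => d k = d a).card = ((s.erase a).filter fun k => d k = d a).card + 1 := by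
      rw [Finset.filter_erase]
      exact (Finset.card_erase_add_one (show a ∈ s.filter (fun k => d k = d a) from Finset.mem_filter.2 ⟨ha, rfl⟩)).symm
    have hrest : ∏ i ∈ (Finset.range (Finset.univ.sup d + 1)).erase (d a), ∏ r ∈ Finset.range ((s.erase a).filter fun k => d k = i).card,
          (Fintype.card F ^ (mult d i + above d i) - Fintype.card F ^ (above d i + r)) =
        ∏ i ∈ (Finset.range (Finset.univ.sup d + 1)).erase (d a), ∏ r ∈ Finset.range (s.filter fun k => d k = i).card,
          (Fintype.card F ^ (mult d i + above d i) - Fintype.card F ^ (above d i + r)) :=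
      Finset.prod_congr rfl fun i hi => by rw [hsame i hi]
    rw [hone, Finset.prod_range_succ, hcard, hrest]
    ring

/-- The commutant is parametrised by the images of the chain starts. -/
theorem card_commutant_gl [Finite V] (hd : ∀ k, 1 ≤ d k) :
    Nat.card {g : V ≃ₗ[F] V // ∀ v, g (N v) = N (g v)} =
      Fintype.card F ^ (∑ k, ∑ l, min (d k - 1) (d l)) * ∏ i ∈ Finset.range (Finset.univ.sup d + 1), ∏ r ∈ Finset.range (mult d i),
        (Fintype.card F ^ (mult d i + above d i) - Fintype.card F ^ (above d i + r)) := by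
  classical
  haveI := Fintype.ofFinite V
  let top : Fin t → ((k : Fin t) × Fin (d k)) := fun k => ⟨k, ⟨d k - 1, by have := hd k; omega⟩⟩
  let bot : Fin t → ((k : Fin t) × Fin (d k)) := fun k => ⟨k, ⟨0, hd k⟩⟩
  have hbot : ∀ k i (h : i < d k), (N ^ i) (b (bot k)) = b ⟨k, ⟨i, h⟩⟩ := fun k i h => by
    rw [jBasis_pow hb, dif_pos (show 0 + i < d k by omega)]
    simp [bot]
  have hbot0 : ∀ k, (N ^ d k) (b (bot k)) = 0 := fun k => by
    rw [jBasis_pow hb, dif_neg (show ¬ 0 + d k < d k by omega)]
  have htop : ∀ k, (N ^ (d k - 1)) (b (bot k)) = b (top k) := fun k => hbot k _ _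
  have htinj : Function.Injective top := fun k l h => congrArg Sigma.fst h
  have hker : LinearMap.ker N = Submodule.span F (Set.range (b ∘ top)) := by
    refine (Submodule.eq_of_le_of_finrank_eq (Submodule.span_le.2 ?_) ?_).symm
    · rintro _ ⟨k, rfl⟩
      show N (b (top k)) = 0
      rw [hb, dif_neg (show ¬ (d k - 1) + 1 < d k by omega)]
    · rw [finrank_span_eq_card (b.linearIndependent.comp top htinj), Fintype.card_fin]
      have h := finrank_ker_pow_jBasis b hb 1
      rw [pow_one] at h
      rw [h, Finset.sum_congr rfl (fun l _ => min_eq_left (hd l)), Finset.sum_const, Finset.card_univ, Fintype.card_fin,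
        smul_eq_mul, mul_one]
  let Ker : Fin t → Submodule F V := fun k => LinearMap.ker (N ^ d k)
  let W := {w : ∀ k, Ker k // LinearIndependent F fun k => (N ^ (d k - 1)) (w k : V)}
  -- automorphisms are given by the images of the starts
  have e1 : Nat.card {g : V ≃ₗ[F] V // ∀ v, g (N v) = N (g v)} = Nat.card W := by
    have hcom : ∀ (g : {g : V ≃ₗ[F] V // ∀ v, g (N v) = N (g v)}) (i : ℕ) (v : V), g.1 ((N ^ i) v) = (N ^ i) (g.1 v) := by
      intro g i
      induction i with
      | zero => intro v; simp
      | succ i ih => intro v; rw [pow_succ', Module.End.mul_apply, g.2, ih, Module.End.mul_apply]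
    refine Nat.card_eq_of_bijective (fun g => ⟨fun k => ⟨g.1 (b (bot k)), ?_⟩, ?_⟩) ⟨?_, ?_⟩
    · show (N ^ d k) (g.1 (b (bot k))) = 0
      rw [← hcom, hbot0, map_zero]
    · have : (fun k => (N ^ (d k - 1)) (g.1 (b (bot k)))) = g.1 ∘ (b ∘ top) := funext fun k => by
        rw [← hcom, htop]; rfl
      show LinearIndependent F fun k => (N ^ (d k - 1)) (g.1 (b (bot k)))
      rw [this]
      exact (b.linearIndependent.comp top htinj).map' g.1.toLinearMap (LinearEquiv.ker g.1)
    · intro g g' h
      refine Subtype.ext (LinearEquiv.toLinearMap_injective (b.ext fun x => ?_))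
      show g.1 (b x) = g'.1 (b x)
      obtain ⟨k, i, hi⟩ := x
      rw [← hbot k i hi, hcom, hcom]
      exact congrArg (N ^ i) (congrArg (fun w : W => ((w.1 k : Ker k) : V)) h)
    · rintro ⟨w, hw⟩
      let g : V →ₗ[F] V := b.constr F fun x => (N ^ (x.2 : ℕ)) (w x.1 : V)
      have hg : ∀ x, g (b x) = (N ^ (x.2 : ℕ)) (w x.1 : V) := fun x => b.constr_basis F _ x
      have hgN : ∀ v, g (N v) = N (g v) := LinearMap.congr_fun (b.ext fun x => by
        show g (N (b x)) = N (g (b x))
        rw [hg, hb, ← Module.End.mul_apply, ← pow_succ']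
        by_cases hx : (x.2 : ℕ) + 1 < d x.1
        · rw [dif_pos hx, hg]
        · have hlt := x.2.2
          rw [dif_neg hx, map_zero, show (x.2 : ℕ) + 1 = d x.1 by omega]
          exact (w x.1).2.symm : g.comp N = N.comp g)
      have hgker : ∀ v ∈ LinearMap.ker N, g v = 0 → v = 0 := by
        intro v hv h0
        rw [hker, Submodule.mem_span_range_iff_exists_fun] at hv
        obtain ⟨c, rfl⟩ := hv
        have hz : ∑ k, c k • (N ^ (d k - 1)) (w k : V) = 0 := by
          rw [← h0, map_sum]
          refine Finset.sum_congr rfl fun k _ => ?_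
          rw [map_smul, Function.comp_apply, hg]
        have := Fintype.linearIndependent_iff.1 hw c hz
        exact Finset.sum_eq_zero fun k _ => by rw [this k, zero_smul]
      have hinj : Function.Injective g := by
        rw [← LinearMap.ker_eq_bot, Submodule.eq_bot_iff]
        intro v hv
        rw [LinearMap.mem_ker] at hv
        by_contra hv0
        have hgNp : ∀ i, g ((N ^ i) v) = 0 := fun i => by
          induction i with
          | zero => simpa using hv
          | succ i ih => rw [pow_succ', Module.End.mul_apply, hgN, ih, map_zero]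
        have hex : ∃ i, (N ^ i) v = 0 := ⟨Finset.univ.sup d, by
          have : N ^ Finset.univ.sup d = 0 := b.ext fun x => by
            rw [jBasis_pow hb, dif_neg (by have := Finset.le_sup (f := d) (Finset.mem_univ x.1); omega)]; rfl
          rw [this]; rfl⟩
        have hi0 : 0 < Nat.find hex := (Nat.find_pos hex).2 (by simpa using hv0)
        apply Nat.find_min hex (Nat.sub_lt hi0 one_pos)
        apply hgker _ ?_ (hgNp _)
        rw [LinearMap.mem_ker, ← Module.End.mul_apply, ← pow_succ', Nat.sub_add_cancel (show 1 ≤ Nat.find hex from hi0)]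
        exact Nat.find_spec hex
      refine ⟨⟨LinearEquiv.ofBijective g ⟨hinj, LinearMap.injective_iff_surjective.1 hinj⟩, hgN⟩, Subtype.ext (funext fun k => Subtype.ext ?_)⟩
      show g (b (bot k)) = w k
      rw [hg]; rfl
  -- the socle map and its fibres
  let S := {f : Fin t → V // (∀ k, k ∉ (Finset.univ : Finset (Fin t)) → f k = 0) ∧ (∀ k ∈ (Finset.univ : Finset (Fin t)), f k ∈ socle N (d k)) ∧
    LinearIndepOn F f ((Finset.univ : Finset (Fin t)) : Set (Fin t))}
  let φ : W → S := fun w => ⟨fun k => (N ^ (d k - 1)) (w.1 k : V), fun k hk => absurd (Finset.mem_univ k) hk,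
    fun k _ => ⟨_, (w.1 k).2, rfl⟩, by rw [Finset.coe_univ, linearIndepOn_univ]; exact w.2⟩
  have e2' : ∀ f : S, {w : W // φ w = f} ≃ ∀ k, {w : Ker k // (N ^ (d k - 1)) (w : V) = f.1 k} := fun f =>
    { toFun := fun w k => ⟨w.1.1 k, congrFun (congrArg Subtype.val w.2) k⟩
      invFun := fun x => ⟨⟨fun k => (x k).1, by
          rw [funext fun k => (x k).2]
          exact linearIndepOn_univ.1 (f.2.2.2.mono (by simp))⟩, Subtype.ext (funext fun k => (x k).2)⟩
      left_inv := fun w => rfl
      right_inv := fun x => rfl }
  have e2 : W ≃ Σ f : S, ∀ k, {w : Ker k // (N ^ (d k - 1)) (w : V) = f.1 k} :=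
    (Equiv.sigmaFiberEquiv φ).symm.trans (Equiv.sigmaCongrRight e2')
  have hfib : ∀ (f : S) k, Nat.card {w : Ker k // (N ^ (d k - 1)) (w : V) = f.1 k} =
      Fintype.card F ^ (∑ l, min (d k - 1) (d l)) := by
    intro f k
    obtain ⟨w₀, hw₀, hfk⟩ := f.2.2.1 k (Finset.mem_univ k)
    have hle : LinearMap.ker (N ^ (d k - 1)) ≤ Ker k := fun x hx => by
      show (N ^ d k) x = 0
      rw [LinearMap.mem_ker] at hx
      rw [show d k = 1 + (d k - 1) by have := hd k; omega, pow_add, Module.End.mul_apply, hx, map_zero]
    rw [← finrank_ker_pow_jBasis b hb (d k - 1), ← Nat.card_eq_fintype_card, ← Module.natCard_eq_pow_finrank]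
    refine Nat.card_congr
      { toFun := fun w => ⟨(w.1 : V) - w₀, by rw [LinearMap.mem_ker, map_sub, w.2, ← hfk, sub_self]⟩
        invFun := fun x => ⟨⟨(x : V) + w₀, (Ker k).add_mem (hle x.2) hw₀⟩, by rw [map_add, LinearMap.mem_ker.1 x.2, zero_add, hfk]⟩
        left_inv := fun w => Subtype.ext (Subtype.ext (sub_add_cancel _ _))
        right_inv := fun x => Subtype.ext (add_sub_cancel_right _ _) }
  haveI : Fintype S := Fintype.ofFinite S
  rw [e1, Nat.card_congr e2, Nat.card_sigma, Finset.sum_congr rfl fun f _ => by
      rw [Nat.card_pi, Finset.prod_congr rfl fun k _ => hfib f k, Finset.prod_pow_eq_pow_sum],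
    Finset.sum_const, Finset.card_univ, smul_eq_mul, ← Nat.card_eq_fintype_card,
    card_socle_tuples b hb Finset.univ (fun k _ l _ => Finset.mem_univ l) hd, mul_comm]
  rfl

end CfsgLib.Classical.JordanType
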