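/-
The sign of an even-dimensional quadratic space, by its numbers of representations; classification.
-/
import Cfsg.Agent.Lib.Classical.QuadStd
import Cfsg.Agent.Lib.Classical.QuadEichler
import Cfsg.Agent.Lib.KnownSimple.POAut.Quadratic
import Cfsg.Agent.Lib.KnownSimple.POAut.Frame

set_option autoImplicit false

namespace CfsgLib.Classical.QuadSign

open CfsgLib.Classical CfsgLib.POAut

universe u

variable {F : Type u} [Field F] [Fintype F]
variable {V : Type u} [AddCommGroup V] [Module F V] {W : Type u} [AddCommGroup W] [Module F W]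

/-- The number of vectors of a given value. -/
noncomputable def reps (Q : QuadraticForm F V) (c : F) : ℕ := Nat.card {v : V // Q v = c}

open _root_.Classical in
/-- `q [c = 0] - 1`. -/
noncomputable def dfun (c : F) : ℤ := (if c = 0 then (Fintype.card F : ℤ) else 0) - 1

/-- The form has sign `ε` in dimension `2 k`. -/
def HasSign (Q : QuadraticForm F V) (k : ℕ) (ε : ℤ) : Prop :=
  ∀ c : F, (Fintype.card F : ℤ) * reps Q c = (Fintype.card F : ℤ) ^ (2 * k) + ε * (Fintype.card F : ℤ) ^ k * dfun c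

theorem hasSign_congr {Q : QuadraticForm F V} {Q' : QuadraticForm F W} (e : V ≃ₗ[F] W) (he : ∀ v, Q' (e v) = Q v)
    {k : ℕ} {ε : ℤ} (h : HasSign Q k ε) : HasSign Q' k ε := fun c => by
  rw [show reps Q' c = reps Q c from (Nat.card_congr (e.toEquiv.subtypeEquiv (fun v => by simp [he]))).symm]
  exact h c

theorem hasSign_unique {Q : QuadraticForm F V} {k : ℕ} {ε ε' : ℤ} (h : HasSign Q k ε) (h' : HasSign Q k ε') : ε = ε' := by
  classical
  have h0 := (h 0).symm.trans (h' 0)
  have hq : 1 < (Fintype.card F : ℤ) := by exact_mod_cast Fintype.one_lt_card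
  rw [dfun, if_pos rfl, add_right_inj, mul_assoc, mul_assoc] at h0
  exact mul_right_cancel₀ (mul_ne_zero (pow_ne_zero _ (by omega)) (by omega)) h0

omit [Fintype F] in
theorem reps_prod [Fintype F] [Finite V] [Finite W] (Q : QuadraticForm F V) (Q' : QuadraticForm F W) (d : F) :
    reps (Q.prod Q') d = ∑ c, reps Q c * reps Q' (d - c) := by
  let e : {x : V × W // Q.prod Q' x = d} ≃ Σ c : F, {v : V // Q v = c} × {w : W // Q' w = d - c} :=
    { toFun := fun x => ⟨Q x.1.1, ⟨x.1.1, rfl⟩, ⟨x.1.2, by have := x.2; simp at this; exact eq_sub_of_add_eq' this⟩⟩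
      invFun := fun s => ⟨(s.2.1.1, s.2.2.1), by simp [s.2.1.2, s.2.2.2]⟩
      left_inv := fun _ => rfl
      right_inv := fun s => by obtain ⟨c, ⟨v, rfl⟩, w⟩ := s; rfl }
  rw [reps, Nat.card_congr e, Nat.card_sigma]
  simp only [Nat.card_prod]
  rfl

theorem hasSign_prod [Finite V] [Finite W] {Q : QuadraticForm F V} {Q' : QuadraticForm F W} {k l : ℕ} {ε ε' : ℤ}
    (h : HasSign Q k ε) (h' : HasSign Q' l ε') : HasSign (Q.prod Q') (k + l) (ε * ε') := by
  classical
  intro d
  obtain ⟨q, hq⟩ : ∃ q, q = (Fintype.card F : ℤ) := ⟨_, rfl⟩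
  have hq0 : q ≠ 0 := by rw [hq]; exact_mod_cast Fintype.card_ne_zero
  have hs : ∑ c : F, dfun c = 0 := by
    simp [dfun, Finset.sum_sub_distrib]
  have hs' : ∑ c : F, dfun (d - c) = 0 := by
    simpa using (Fintype.sum_equiv (Equiv.subLeft d) (fun c => dfun (d - c)) dfun (fun c => rfl)).trans hs
  have hg : ∑ c : F, dfun c * dfun (d - c) = q * dfun d := by
    have : ∀ c : F, dfun c * dfun (d - c) = (if c = 0 then q * dfun (d - c) else 0) - dfun (d - c) := fun c => by
      conv_lhs => rw [dfun, ← hq]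
      split_ifs <;> ring
    rw [Finset.sum_congr rfl fun c _ => this c, Finset.sum_sub_distrib, hs', Finset.sum_ite_eq' Finset.univ (0 : F) (fun c => q * dfun (d - c))]
    simp
  have hmain : q * (q * (reps (Q.prod Q') d : ℤ)) = q * (q ^ (2 * (k + l)) + ε * ε' * q ^ (k + l) * dfun d) := by
    rw [reps_prod, Nat.cast_sum, Finset.mul_sum, Finset.mul_sum]
    have : ∀ c : F, q * (q * ((reps Q c * reps Q' (d - c) : ℕ) : ℤ)) =
        q ^ (2 * k) * q ^ (2 * l) + q ^ (2 * k) * ε' * q ^ l * dfun (d - c) + ε * q ^ k * q ^ (2 * l) * dfun c +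
          ε * ε' * q ^ k * q ^ l * (dfun c * dfun (d - c)) := fun c => by
      have h1 := h c
      have h2 := h' (d - c)
      rw [← hq] at h1 h2
      push_cast
      linear_combination (q * (reps Q' (d - c) : ℤ)) * h1 + (q ^ (2 * k) + ε * q ^ k * dfun c) * h2
    rw [Finset.sum_congr rfl fun c _ => this c]
    simp only [Finset.sum_add_distrib, ← Finset.mul_sum, hs, hs', hg, Finset.sum_const, Finset.card_univ, nsmul_eq_mul, ← hq]
    ring
  rw [← hq]
  exact mul_left_cancel₀ hq0 hmain

theorem hasSign_zero [Subsingleton V] (Q : QuadraticForm F V) : HasSign Q 0 1 := fun c => by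
  classical
  by_cases hc : c = 0
  · subst hc
    have : reps Q 0 = 1 := Nat.card_eq_one_iff_unique.2 ⟨inferInstance, ⟨⟨0, map_zero Q⟩⟩⟩
    simp [this, dfun]
  · have : reps Q c = 0 := Nat.card_eq_zero.2 (Or.inl ⟨fun v => hc (by rw [← v.2, Subsingleton.elim v.1 0, map_zero])⟩)
    simp [this, dfun, hc]

/-- A pairing of a space with its dual. -/
theorem hasSign_of_pairing [Finite V] [FiniteDimensional F V] (Q : QuadraticForm F (V × Module.Dual F V))
    (hQ : ∀ x, Q x = x.2 x.1) {k : ℕ} (hk : Module.finrank F V = k) : HasSign Q k 1 := by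
  classical
  letI := Fintype.ofFinite V
  haveI : Finite (Module.Dual F V) := Module.finite_of_finite F
  intro c
  obtain ⟨q, hq⟩ : ∃ q, q = Fintype.card F := ⟨_, rfl⟩
  have hV : Nat.card V = q ^ k := by rw [Module.natCard_eq_pow_finrank (K := F), hk, Nat.card_eq_fintype_card, hq]
  have hD : Nat.card (Module.Dual F V) = q ^ k := by
    rw [Module.natCard_eq_pow_finrank (K := F), Subspace.dual_finrank_eq, hk, Nat.card_eq_fintype_card, hq]
  let e : {x : V × Module.Dual F V // Q x = c} ≃ Σ v : V, {f : Module.Dual F V // f v = c} :=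
    { toFun := fun x => ⟨x.1.1, x.1.2, by rw [← hQ]; exact x.2⟩
      invFun := fun s => ⟨(s.1, s.2.1), by rw [hQ]; exact s.2.2⟩
      left_inv := fun _ => rfl
      right_inv := fun _ => rfl }
  have hfib : ∀ v : V, v ≠ 0 → q * Nat.card {f : Module.Dual F V // f v = c} = q ^ k := fun v hv => by
    obtain ⟨f₁, hf₁⟩ : ∃ f : Module.Dual F V, f v = 1 := by
      obtain ⟨f, hf⟩ : ∃ f : Module.Dual F V, f v ≠ 0 := by
        by_contra hc'; push Not at hc'
        exact hv ((Module.forall_dual_apply_eq_zero_iff F v).1 hc')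
      exact ⟨(f v)⁻¹ • f, by simp [hf]⟩
    let e' : F × {f : Module.Dual F V // f v = c} ≃ Module.Dual F V :=
      { toFun := fun p => p.2.1 + p.1 • f₁
        invFun := fun f => (f v - c, ⟨f - (f v - c) • f₁, by simp [hf₁]⟩)
        left_inv := fun p => by
          obtain ⟨a, f, hf⟩ := p
          have : (f + a • f₁) v - c = a := by simp [hf, hf₁]
          exact Prod.ext this (Subtype.ext (by simp only [this]; simp))
        right_inv := fun f => by simp }
    rw [← hD, ← Nat.card_congr e', Nat.card_prod, Nat.card_eq_fintype_card (α := F), hq]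
  rw [reps, Nat.card_congr e, Nat.card_sigma, Nat.cast_sum, Finset.mul_sum, ← Finset.add_sum_erase _ _ (Finset.mem_univ (0 : V)),
    Finset.sum_congr rfl (g := fun _ => (q : ℤ) ^ k) (fun v hv => by rw [← hq]; exact_mod_cast hfib v (Finset.ne_of_mem_erase hv)),
    Finset.sum_const, Finset.card_erase_of_mem (Finset.mem_univ _), Finset.card_univ, show Fintype.card V = q ^ k from Nat.card_eq_fintype_card.symm.trans hV, nsmul_eq_mul,
    Nat.cast_sub (Nat.one_le_pow _ _ (hq ▸ Fintype.card_pos))]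
  have h0 : (Nat.card {f : Module.Dual F V // f 0 = c} : ℤ) = if c = 0 then (q : ℤ) ^ k else 0 := by
    split_ifs with hc
    · subst hc
      rw [Nat.card_congr (Equiv.subtypeUnivEquiv (fun f => map_zero f)), hD]; push_cast; rfl
    · simp [Ne.symm hc]
  rw [h0, dfun, ← hq]
  push_cast
  split_ifs <;> ring

theorem hasSign_hyp2 : HasSign (hyp2 F) 1 1 := by
  let e : (F × Module.Dual F F) ≃ₗ[F] F × F :=
    { toFun := fun x => (x.1, x.2 1)
      map_add' := fun x y => rfl
      map_smul' := fun c x => rfl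
      invFun := fun x => (x.1, x.2 • LinearMap.id)
      left_inv := fun x => Prod.ext rfl (LinearMap.ext_ring (by simp))
      right_inv := fun x => by simp }
  refine hasSign_congr e (Q := (hyp2 F).comp e.toLinearMap) (fun v => rfl) (hasSign_of_pairing _ (fun x => ?_) (Module.finrank_self F))
  show hyp2 F (x.1, x.2 1) = _
  rw [show hyp2 F (x.1, x.2 1) = x.1 * x.2 1 by simp [hyp2], ← smul_eq_mul, ← map_smul, smul_eq_mul, mul_one]

theorem hasSign_qBin {a b : F} (h : BinAniso a b) : HasSign (qBin a b) 1 (-1) := by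
  classical
  haveI := qe_fact h
  letI : Fintype (QE a b) := Fintype.ofFinite _
  obtain ⟨q, hq⟩ : ∃ q, q = Fintype.card F := ⟨_, rfl⟩
  have hrep : ∀ c, reps (qBin a b) c = Nat.card {x : QE a b // QuadraticAlgebra.norm x = c} := fun c =>
    (Nat.card_congr ((qeCoord a b).toEquiv.subtypeEquiv fun x => by simp [qBin_qeCoord])).symm
  have h0 : reps (qBin a b) 0 = 1 := zeros_qBin h
  have hc : ∀ c : F, c ≠ 0 → reps (qBin a b) c = reps (qBin a b) 1 := fun c hc => by
    obtain ⟨v, hv⟩ := exists_value (qBin a b) (polarNondeg_qBin h) (by simp) hc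
    obtain ⟨x, rfl⟩ := (qeCoord a b).surjective v
    rw [qBin_qeCoord] at hv
    have hx : x ≠ 0 := fun h => hc (by rw [← hv, h]; simp [QuadraticAlgebra.norm_def])
    rw [hrep, hrep]
    refine (Nat.card_congr ((Equiv.mulLeft₀ x hx).subtypeEquiv fun y => ?_)).symm
    show _ ↔ QuadraticAlgebra.norm (x * y) = c
    rw [map_mul, hv, mul_eq_left₀ hc]
  have hsum : ∑ c : F, reps (qBin a b) c = q ^ 2 := by
    show ∑ c : F, Nat.card {v // qBin a b v = c} = _
    rw [← Nat.card_sigma,
      Nat.card_congr (Equiv.sigmaFiberEquiv (qBin a b)), Nat.card_fun, Nat.card_eq_fintype_card, Nat.card_eq_fintype_card, hq, Fintype.card_fin]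
  rw [← Finset.add_sum_erase _ _ (Finset.mem_univ (0 : F)), h0, Finset.sum_congr rfl (fun c hc' => hc c (Finset.ne_of_mem_erase hc')),
    Finset.sum_const, Finset.card_erase_of_mem (Finset.mem_univ _), Finset.card_univ, smul_eq_mul, ← hq] at hsum
  have hq2 : 2 ≤ q := hq ▸ Fintype.one_lt_card
  have h1 : reps (qBin a b) 1 = q + 1 := by
    have e : (q - 1) * reps (qBin a b) 1 = (q - 1) * (q + 1) := by
      zify [(by omega : 1 ≤ q)] at hsum ⊢
      linear_combination hsum
    exact Nat.eq_of_mul_eq_mul_left (by omega) e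
  intro c
  rw [← hq, dfun, ← hq]
  by_cases hc0 : c = 0
  · subst hc0; rw [h0, if_pos rfl]; push_cast; ring
  · rw [hc c hc0, h1, if_neg hc0]; push_cast; ring

variable [FiniteDimensional F V] [FiniteDimensional F W]

omit [FiniteDimensional F W] in
/-- Splitting a hyperbolic plane at a singular vector. -/
theorem exists_split (Q : QuadraticForm F V) (hQ : PolarNondeg Q) {u : V} (hu0 : u ≠ 0) (hu : Q u = 0) :
    ∃ (M : Submodule F V) (e : ((F × F) × M) ≃ₗ[F] V), PolarNondeg (Q.comp M.subtype) ∧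
      Module.finrank F M + 2 = Module.finrank F V ∧ ∀ x, Q (e x) = hypSum (Q.comp M.subtype) x := by
  obtain ⟨z, h⟩ := exists_hypPair_left Q hQ hu0 hu
  let φ : ((F × F) × pM Q u z) →ₗ[F] V :=
    ((LinearMap.fst F F F).smulRight u + (LinearMap.snd F F F).smulRight z).coprod (pM Q u z).subtype
  have hφ : ∀ x, φ x = x.1.1 • u + x.1.2 • z + (x.2 : V) := fun x => rfl
  refine ⟨pM Q u z, LinearEquiv.ofBijective φ ⟨fun x y e => ?_, fun v => ?_⟩, h.polarNondeg_qM hQ, h.finrank_pM, fun x => ?_⟩
  · rw [hφ, hφ] at e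
    obtain ⟨a, b, c⟩ := h.coord_inj e
    exact Prod.ext (Prod.ext a b) c
  · obtain ⟨s, t, m, rfl⟩ := h.exists_coord v
    exact ⟨((s, t), m), rfl⟩
  · show Q (φ x) = _
    rw [hφ, h.quad_coord, hypSum_apply]; rfl

omit [FiniteDimensional F W] in
/-- An anisotropic plane. -/
theorem exists_qBin (Q : QuadraticForm F V) (hQ : PolarNondeg Q) (hn : Module.finrank F V = 2)
    (hani : ∀ u, Q u = 0 → u = 0) :
    ∃ (a b : F) (e : (Fin 2 → F) ≃ₗ[F] V), BinAniso a b ∧ ∀ x, Q (e x) = qBin a b x := by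
  obtain ⟨v, hv⟩ := exists_value Q hQ hn.ge one_ne_zero
  have hv0 : v ≠ 0 := by rintro rfl; simp at hv
  obtain ⟨w, hw⟩ : ∃ w, w ∉ Submodule.span F {v} := by
    by_contra hc; push Not at hc
    have := Submodule.finrank_mono (show (⊤ : Submodule F V) ≤ _ from fun x _ => hc x)
    rw [finrank_top, finrank_span_singleton hv0] at this
    omega
  have hli : LinearIndependent F ![v, w] := by
    rw [LinearIndependent.pair_iff' hv0]
    exact fun a e => hw (Submodule.mem_span_singleton.2 ⟨a, e⟩)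
  let B := basisOfLinearIndependentOfCardEqFinrank hli (by simp [hn])
  let e := B.equivFun.symm
  have he : ∀ x, Q (e x) = qBin (QuadraticMap.polar Q v w) (Q w) x := fun x => by
    simp only [e, B, Module.Basis.equivFun_symm_apply, Fin.sum_univ_two, coe_basisOfLinearIndependentOfCardEqFinrank,
      Matrix.cons_val_zero, Matrix.cons_val_one, qBin_apply]
    rw [quad_add, quad_smul, quad_smul, hv, QuadraticMap.polar_smul_left, QuadraticMap.polar_smul_right, smul_eq_mul, smul_eq_mul]
    ring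
  refine ⟨_, _, e, fun z₁ z₂ hz => ?_, he⟩
  have h0 := e.map_eq_zero_iff.1 (hani (e ![z₁, z₂]) (by rw [he, qBin_apply]; simpa using hz))
  exact ⟨congrFun h0 0, congrFun h0 1⟩

theorem hasSign_hypSum [Finite V] {Q : QuadraticForm F V} {k : ℕ} {ε : ℤ} (h : HasSign Q k ε) : HasSign (hypSum Q) (k + 1) ε := by
  have := hasSign_prod (hasSign_hyp2 (F := F)) h
  rwa [one_mul, add_comm 1 k] at this

omit [FiniteDimensional F W] in
theorem exists_hasSign : ∀ (k : ℕ) {V : Type u} [AddCommGroup V] [Module F V] [FiniteDimensional F V] (Q : QuadraticForm F V),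
    PolarNondeg Q → Module.finrank F V = 2 * k → ∃ ε : ℤ, (ε = 1 ∨ ε = -1) ∧ HasSign Q k ε
  | 0, V, _, _, _, Q, _, hn => by
    haveI : Subsingleton V := Module.finrank_zero_iff.1 (by simpa using hn)
    exact ⟨1, Or.inl rfl, hasSign_zero Q⟩
  | k + 1, V, _, _, _, Q, hQ, hn => by
    by_cases hs : ∃ u, u ≠ 0 ∧ Q u = 0
    · obtain ⟨u, hu0, hu⟩ := hs
      obtain ⟨M, e, hM, hd, he⟩ := exists_split Q hQ hu0 hu
      haveI : Finite M := Module.finite_of_finite F
      obtain ⟨ε, hε, hsg⟩ := exists_hasSign k (Q.comp M.subtype) hM (by omega)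
      exact ⟨ε, hε, hasSign_congr e he (hasSign_hypSum hsg)⟩
    · push Not at hs
      have hk : k = 0 := by
        by_contra hk
        obtain ⟨u, hu0, hu⟩ := exists_singular Q hQ (by omega)
        exact hs u hu0 hu
      subst hk
      obtain ⟨a, b, e, hab, he⟩ := exists_qBin Q hQ hn fun u hu => by_contra fun h => hs u h hu
      exact ⟨-1, Or.inr rfl, hasSign_congr e he (hasSign_qBin hab)⟩

theorem exists_isometry_of_hasSign : ∀ (k : ℕ) {V W : Type u} [AddCommGroup V] [Module F V] [FiniteDimensional F V]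
    [AddCommGroup W] [Module F W] [FiniteDimensional F W] (Q : QuadraticForm F V) (Q' : QuadraticForm F W) (ε : ℤ),
    PolarNondeg Q → PolarNondeg Q' → Module.finrank F V = 2 * k → Module.finrank F W = 2 * k →
    HasSign Q k ε → HasSign Q' k ε → ∃ e : V ≃ₗ[F] W, ∀ v, Q' (e v) = Q v
  | 0, V, W, _, _, _, _, _, _, Q, Q', _, _, _, hn, hn', _, _ => by
    haveI : Subsingleton V := Module.finrank_zero_iff.1 (by simpa using hn)
    exact ⟨LinearEquiv.ofFinrankEq V W (by rw [hn, hn']), fun v => by simp [Subsingleton.elim v 0]⟩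
  | k + 1, V, W, _, _, _, _, _, _, Q, Q', ε, hQ, hQ', hn, hn', hs, hs' => by
    haveI : Finite V := Module.finite_of_finite F
    haveI : Finite W := Module.finite_of_finite F
    have hiff : ∀ {X : Type u} [AddCommGroup X] [Module F X] [Finite X] (R : QuadraticForm F X), HasSign R (k + 1) ε →
        ((∀ u, R u = 0 → u = 0) ↔ (Fintype.card F : ℤ) = (Fintype.card F : ℤ) ^ (2 * (k + 1)) + ε * (Fintype.card F : ℤ) ^ (k + 1) * dfun (0 : F)) := by
      intro X _ _ _ R hR
      rw [← hR 0]
      constructor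
      · intro h
        rw [show reps R 0 = 1 from Nat.card_eq_one_iff_unique.2 ⟨⟨fun a b => Subtype.ext ((h _ a.2).trans (h _ b.2).symm)⟩, ⟨⟨0, map_zero R⟩⟩⟩]
        simp
      · intro h u hu
        have h1 : reps R 0 = 1 := by
          have hq : (Fintype.card F : ℤ) ≠ 0 := by exact_mod_cast Fintype.card_ne_zero
          exact_mod_cast (mul_right_eq_self₀.1 h.symm).resolve_right hq
        haveI := (Nat.card_eq_one_iff_unique.1 h1).1
        exact congrArg Subtype.val (Subsingleton.elim (⟨u, hu⟩ : {v // R v = 0}) ⟨0, map_zero R⟩)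
    by_cases hani : ∀ u, Q u = 0 → u = 0
    · have hani' : ∀ u, Q' u = 0 → u = 0 := (hiff Q' hs').2 ((hiff Q hs).1 hani)
      have hk : k = 0 := by
        by_contra hk
        obtain ⟨u, hu0, hu⟩ := exists_singular Q hQ (by omega)
        exact hu0 (hani u hu)
      subst hk
      obtain ⟨a, b, e, hab, he⟩ := exists_qBin Q hQ hn hani
      obtain ⟨a', b', e', hab', he'⟩ := exists_qBin Q' hQ' hn' hani'
      obtain ⟨f, hf⟩ := exists_isometry_qBin hab hab'
      refine ⟨e.symm.trans (f.trans e'), fun v => ?_⟩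
      obtain ⟨x, rfl⟩ := e.surjective v
      simp [he, he', hf]
    · have hani' : ¬ ∀ u, Q' u = 0 → u = 0 := fun h => hani ((hiff Q hs).2 ((hiff Q' hs').1 h))
      push Not at hani hani'
      obtain ⟨u, hu, hu0⟩ := hani
      obtain ⟨u', hu', hu0'⟩ := hani'
      obtain ⟨M, e, hM, hd, he⟩ := exists_split Q hQ hu0 hu
      obtain ⟨M', e', hM', hd', he'⟩ := exists_split Q' hQ' hu0' hu'
      obtain ⟨ε₁, -, hs₁⟩ := exists_hasSign k (Q.comp M.subtype) hM (by omega)
      obtain ⟨ε₂, -, hs₂⟩ := exists_hasSign k (Q'.comp M'.subtype) hM' (by omega)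
      haveI : Finite M := Module.finite_of_finite F
      haveI : Finite M' := Module.finite_of_finite F
      obtain rfl : ε₁ = ε := hasSign_unique (hasSign_congr e he (hasSign_hypSum hs₁)) hs
      obtain rfl : ε₂ = ε₁ := hasSign_unique (hasSign_congr e' he' (hasSign_hypSum hs₂)) hs'
      obtain ⟨f, hf⟩ := exists_isometry_of_hasSign k (Q.comp M.subtype) (Q'.comp M'.subtype) ε₂ hM hM' (by omega) (by omega) hs₁ hs₂
      refine ⟨e.symm.trans (((LinearEquiv.refl F (F × F)).prodCongr f).trans e'), fun v => ?_⟩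
      obtain ⟨x, rfl⟩ := e.surjective v
      simp only [LinearEquiv.trans_apply, LinearEquiv.symm_apply_apply]
      rw [he, he', hypSum_apply, hypSum_apply]
      show x.1.1 * x.1.2 + _ = _
      rw [← hf]
      rfl

theorem hasSign_qPlus (m : ℕ) : HasSign (qPlus m F) m 1 := by
  have h : ∀ k, HasSign (qExt k (0 : QuadraticForm F (Fin 0 → F))) k 1 := fun k => by
    induction k with
    | zero => exact hasSign_congr extZero (qExt_extZero _) (hasSign_zero _)
    | succ k ih => exact hasSign_congr (extSucc k) (qExt_extSucc k _) (hasSign_hypSum ih)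
  exact hasSign_congr (plusLin m F) (qPlus_plusLin m) (h m)

theorem hasSign_qExt_qBin {a b : F} (hab : BinAniso a b) : ∀ k, HasSign (qExt k (qBin a b)) (k + 1) (-1)
  | 0 => hasSign_congr extZero (qExt_extZero _) (hasSign_qBin hab)
  | k + 1 => hasSign_congr (extSucc k) (qExt_extSucc k _) (hasSign_hypSum (hasSign_qExt_qBin hab k))

/-- Odd-dimensional spaces are similar to the standard one. -/
theorem exists_similar_line (h2 : (2 : F) ≠ 0) : ∀ (k : ℕ) {V : Type u} [AddCommGroup V] [Module F V] [FiniteDimensional F V]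
    (Q : QuadraticForm F V), PolarNondeg Q → Module.finrank F V = 2 * k + 1 →
    ∃ (c : F) (e : ((Fin k ⊕ Fin k) ⊕ Unit → F) ≃ₗ[F] V), c ≠ 0 ∧ ∀ x, Q (e x) = c * qExt k (qLine F) x
  | 0, V, _, _, _, Q, hQ, hn => by
    obtain ⟨v, hv0, hspan⟩ := finrank_eq_one_iff'.1 (show Module.finrank F V = 1 by simpa using hn)
    have hQv : Q v ≠ 0 := fun h => hv0 (hQ v fun w => by
      obtain ⟨a, rfl⟩ := hspan w
      rw [QuadraticMap.polar_smul_right, quad_polar_self, h, mul_zero, smul_zero])
    let f : (Unit → F) →ₗ[F] V := (LinearMap.proj ()).smulRight v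
    let e : (Unit → F) ≃ₗ[F] V := LinearEquiv.ofBijective f ⟨fun x y h => funext fun _ => smul_left_injective F hv0 h,
      fun w => by obtain ⟨a, rfl⟩ := hspan w; exact ⟨fun _ => a, rfl⟩⟩
    refine ⟨Q v, extZero.symm.trans e, hQv, fun x => ?_⟩
    obtain ⟨y, rfl⟩ := (extZero (J := Unit) (F := F)).surjective x
    rw [LinearEquiv.trans_apply, LinearEquiv.symm_apply_apply, qExt_extZero]
    show Q (y () • v) = Q v * qLine F y
    rw [quad_smul]; simp [qLine]; ring
  | k + 1, V, _, _, _, Q, hQ, hn => by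
    obtain ⟨u, hu0, hu⟩ := exists_singular Q hQ (by omega)
    obtain ⟨M, e, hM, hd, he⟩ := exists_split Q hQ hu0 hu
    obtain ⟨c, e', hc, he'⟩ := exists_similar_line h2 k (Q.comp M.subtype) hM (by omega)
    refine ⟨c, (extSucc k).symm.trans ((((LinearEquiv.smulOfNeZero F F c hc).prodCongr (LinearEquiv.refl F F)).prodCongr e').trans e), hc, fun x => ?_⟩
    obtain ⟨y, rfl⟩ := (extSucc (J := Unit) (F := F) k).surjective x
    rw [LinearEquiv.trans_apply, LinearEquiv.symm_apply_apply, qExt_extSucc, LinearEquiv.trans_apply, he, hypSum_apply, hypSum_apply]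
    show c * y.1.1 * y.1.2 + Q.comp M.subtype (e' y.2) = _
    rw [he']; ring

end CfsgLib.Classical.QuadSign
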