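/-
Linear maps annihilated by a product of distinct irreducible polynomials: decomposition, similarity, existence.
-/
import Mathlib

set_option autoImplicit false

namespace CfsgLib.Classical.Primary

open Polynomial

universe u v w

variable {F : Type u} [Field F]

section Decomp

variable {V : Type v} [AddCommGroup V] [Module F V] {J : Type w} [Fintype J] [DecidableEq J]

theorem exists_decomp (f : Module.End F V) (P : J → F[X]) (hco : Pairwise (Function.onFun IsCoprime P))
    (hf : aeval f (∏ j, P j) = 0) :
    ∃ e : V ≃ₗ[F] ((j : J) → LinearMap.ker (aeval f (P j))), ∀ v j, ((e (f v) j : LinearMap.ker (aeval f (P j))) : V) = f (e v j) := by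
  classical
  obtain ⟨Q, hQ⟩ : ∃ Q : J → F[X], ∀ j, Q j = ∏ l ∈ Finset.univ.erase j, P l := ⟨_, fun j => rfl⟩
  have hPQ : ∀ j, P j * Q j = ∏ l, P l := fun j => by rw [hQ]; exact Finset.mul_prod_erase _ _ (Finset.mem_univ j)
  choose a b hab using fun j => (IsCoprime.prod_right fun l hl => hco (Finset.ne_of_mem_erase hl).symm : IsCoprime (P j) (∏ l ∈ Finset.univ.erase j, P l))
  simp only [← hQ] at hab
  obtain ⟨E, hE⟩ : ∃ E : J → F[X], ∀ j, E j = b j * Q j := ⟨_, fun j => rfl⟩
  have hker : ∀ j v, aeval f (P j) (aeval f (E j) v) = 0 := fun j v => by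
    rw [← Module.End.mul_apply, ← map_mul, hE, show P j * (b j * Q j) = b j * (P j * Q j) by ring, hPQ, map_mul, hf,
      mul_zero, LinearMap.zero_apply]
  have hdiv : ∀ j l, l ≠ j → P l ∣ E j := fun j l h => by
    rw [hE, hQ]
    exact (Finset.dvd_prod_of_mem P (Finset.mem_erase.2 ⟨h, Finset.mem_univ l⟩)).mul_left _
  have hone : ∀ j, P j ∣ E j - 1 := fun j => ⟨-a j, by rw [hE]; linear_combination hab j⟩
  have hsum : ∏ j, P j ∣ (∑ j, E j) - 1 := by
    refine Fintype.prod_dvd_of_coprime hco fun l => ?_
    rw [← Finset.add_sum_erase _ _ (Finset.mem_univ l), add_sub_right_comm]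
    exact dvd_add (hone l) (Finset.dvd_sum fun j hj => hdiv j l (Finset.ne_of_mem_erase hj).symm)
  have hsum' : ∀ v, ∑ j, aeval f (E j) v = v := fun v => by
    obtain ⟨c, hc⟩ := hsum
    have h := congrArg (fun p => aeval f p v) hc
    simp only [map_sub, map_one, map_mul, hf, zero_mul, LinearMap.sub_apply, Module.End.one_apply, LinearMap.zero_apply,
      sub_eq_zero, map_sum, LinearMap.coe_sum, Finset.sum_apply] at h
    exact h
  have hproj : ∀ j l (x : LinearMap.ker (aeval f (P l))), aeval f (E j) (x : V) = if j = l then (x : V) else 0 := by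
    intro j l x
    by_cases h : j = l
    · subst h
      obtain ⟨c, hc⟩ := hone j
      rw [if_pos rfl, show E j = c * P j + 1 by linear_combination hc, map_add, map_one, map_mul, LinearMap.add_apply,
        Module.End.mul_apply, LinearMap.mem_ker.1 x.2, map_zero, Module.End.one_apply, zero_add]
    · obtain ⟨c, hc⟩ := hdiv j l (Ne.symm h)
      rw [if_neg h, hc, mul_comm, map_mul, Module.End.mul_apply, LinearMap.mem_ker.1 x.2, map_zero]
  let e₀ : V →ₗ[F] ((j : J) → LinearMap.ker (aeval f (P j))) :=
    LinearMap.pi fun j => (aeval f (E j)).codRestrict _ fun v => hker j v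
  have he₀ : ∀ v j, ((e₀ v j : LinearMap.ker (aeval f (P j))) : V) = aeval f (E j) v := fun v j => rfl
  have hinj : Function.Injective e₀ := fun v v' h => by
    rw [← hsum' v, ← hsum' v']
    exact Finset.sum_congr rfl fun j _ => by rw [← he₀, ← he₀, h]
  have hsurj : Function.Surjective e₀ := fun x => ⟨∑ l, (x l : V), funext fun j => Subtype.ext (by
    rw [he₀, map_sum, Finset.sum_congr rfl (fun l _ => hproj j l (x l)), Finset.sum_ite_eq, if_pos (Finset.mem_univ j)])⟩
  refine ⟨LinearEquiv.ofBijective e₀ ⟨hinj, hsurj⟩, fun v j => ?_⟩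
  show aeval f (E j) (f v) = f (aeval f (E j) v)
  have h : Commute (aeval f (E j)) (aeval f (X : F[X])) := (Commute.all _ _).map (aeval f)
  rw [aeval_X] at h
  exact congrArg (fun g : Module.End F V => g v) h.eq

theorem ker_invariant (f : Module.End F V) (p : F[X]) : ∀ v ∈ LinearMap.ker (aeval f p), f v ∈ LinearMap.ker (aeval f p) := by
  intro v hv
  have h : Commute (aeval f p) (aeval f (X : F[X])) := (Commute.all _ _).map (aeval f)
  rw [aeval_X] at h
  rw [LinearMap.mem_ker, ← Module.End.mul_apply, h.eq, Module.End.mul_apply, LinearMap.mem_ker.1 hv, map_zero]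

end Decomp

section Single

variable (P : F[X]) [Fact (Irreducible P)]

/-- The field structure on a space with a map annihilated by an irreducible polynomial. -/
theorem exists_module {U : Type v} [AddCommGroup U] [Module F U] (f : Module.End F U) (hf : aeval f P = 0) :
    ∃ (I : Module (AdjoinRoot P) U), (letI := I; IsScalarTower F (AdjoinRoot P) U ∧ ∀ x : U, AdjoinRoot.root P • x = f x) := by
  let ψ : AdjoinRoot P →+* Module.End F U := Ideal.Quotient.lift (Ideal.span {P}) (aeval f).toRingHom fun x hx => by
    obtain ⟨c, rfl⟩ := Ideal.mem_span_singleton.1 hx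
    show aeval f (P * c) = 0
    rw [map_mul, hf, zero_mul]
  have hψ : ∀ q, ψ (AdjoinRoot.mk P q) = aeval f q := fun q => rfl
  refine ⟨Module.compHom U ψ, ?_, fun x => ?_⟩
  · letI := Module.compHom U ψ
    refine ⟨fun a k x => ?_⟩
    obtain ⟨q, rfl⟩ := AdjoinRoot.mk_surjective k
    rw [AdjoinRoot.smul_mk]
    show ψ (AdjoinRoot.mk P (a • q)) x = a • ψ (AdjoinRoot.mk P q) x
    rw [hψ, hψ, map_smul, LinearMap.smul_apply]
  · show ψ (AdjoinRoot.mk P X) x = f x
    rw [hψ, aeval_X]

theorem natDegree_dvd_finrank {U : Type v} [AddCommGroup U] [Module F U] (f : Module.End F U) (hf : aeval f P = 0) :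
    P.natDegree ∣ Module.finrank F U := by
  obtain ⟨I, hI, -⟩ := exists_module P f hf
  letI := I
  haveI := hI
  have hP : P ≠ 0 := (Fact.out : Irreducible P).ne_zero
  rw [← AdjoinRoot.powerBasis_dim hP, ← (AdjoinRoot.powerBasis hP).finrank]
  exact Dvd.intro _ (Module.finrank_mul_finrank F (AdjoinRoot P) U)

theorem exists_intertwine {U W : Type v} [AddCommGroup U] [Module F U] [FiniteDimensional F U] [AddCommGroup W] [Module F W]
    [FiniteDimensional F W] (f : Module.End F U) (hf : aeval f P = 0) (g : Module.End F W) (hg : aeval g P = 0)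
    (h : Module.finrank F U = Module.finrank F W) : ∃ e : U ≃ₗ[F] W, ∀ x, e (f x) = g (e x) := by
  obtain ⟨I, hI, hr⟩ := exists_module P f hf
  obtain ⟨I', hI', hr'⟩ := exists_module P g hg
  letI := I
  haveI := hI
  letI := I'
  haveI := hI'
  have hP : P ≠ 0 := (Fact.out : Irreducible P).ne_zero
  haveI : Module.Finite (AdjoinRoot P) U := Module.Finite.of_restrictScalars_finite F _ _
  haveI : Module.Finite (AdjoinRoot P) W := Module.Finite.of_restrictScalars_finite F _ _
  have hpos : 0 < Module.finrank F (AdjoinRoot P) := by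
    rw [(AdjoinRoot.powerBasis hP).finrank, AdjoinRoot.powerBasis_dim]
    exact (Fact.out : Irreducible P).natDegree_pos
  have h' : Module.finrank (AdjoinRoot P) U = Module.finrank (AdjoinRoot P) W := by
    rw [← Module.finrank_mul_finrank F (AdjoinRoot P) U, ← Module.finrank_mul_finrank F (AdjoinRoot P) W] at h
    exact Nat.eq_of_mul_eq_mul_left hpos h
  let e := LinearEquiv.ofFinrankEq U W h'
  exact ⟨e.restrictScalars F, fun x => by
    show e (f x) = g (e x)
    rw [← hr, ← hr', map_smul]⟩

/-- Multiplication by the root on a free module of given rank. -/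
noncomputable def rootMap (a : ℕ) : Module.End F (Fin a → AdjoinRoot P) :=
  LinearMap.pi fun i => (LinearMap.mulLeft F (AdjoinRoot.root P)).comp (LinearMap.proj i)

theorem aeval_rootMap (a : ℕ) : aeval (rootMap P a) P = 0 := by
  have h : ∀ (q : F[X]) x i, aeval (rootMap P a) q x i = AdjoinRoot.mk P q * x i := by
    intro q
    induction q using Polynomial.induction_on with
    | C c => intro x i; rw [aeval_C, Module.algebraMap_end_apply, AdjoinRoot.mk_C, Pi.smul_apply, Algebra.smul_def]; rfl
    | add q q' hq hq' => intro x i; rw [map_add, LinearMap.add_apply, Pi.add_apply, hq, hq', map_add, add_mul]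
    | monomial k c ih =>
      intro x i
      rw [show C c * X ^ (k + 1) = C c * X ^ k * X by ring, map_mul (aeval (rootMap P a)) _ X, aeval_X, Module.End.mul_apply, ih,
        map_mul (AdjoinRoot.mk P) _ X, AdjoinRoot.mk_X, mul_assoc]
      rfl
  refine LinearMap.ext fun x => funext fun i => ?_
  rw [h, AdjoinRoot.mk_self, zero_mul]
  rfl

theorem finrank_rootMap (a : ℕ) : Module.finrank F (Fin a → AdjoinRoot P) = a * P.natDegree := by
  have hP : P ≠ 0 := (Fact.out : Irreducible P).ne_zero
  haveI : Module.Finite F (AdjoinRoot P) := (AdjoinRoot.powerBasis hP).finite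
  rw [Module.finrank_pi_fintype, Finset.sum_const, Finset.card_univ, Fintype.card_fin, smul_eq_mul,
    (AdjoinRoot.powerBasis hP).finrank, AdjoinRoot.powerBasis_dim]

end Single

section Main

variable {V : Type v} [AddCommGroup V] [Module F V] [FiniteDimensional F V] {J : Type w} [Fintype J]
  (P : J → F[X]) [hirr : ∀ j, Fact (Irreducible (P j))] (hco : Pairwise (Function.onFun IsCoprime P))

omit [FiniteDimensional F V] [Fintype J] hirr in
theorem aeval_restrict_ker (f : Module.End F V) (p : F[X]) :
    aeval (f.restrict (ker_invariant f p)) p = 0 := by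
  have hpow : ∀ (q : F[X]) (x : LinearMap.ker (aeval f p)), (aeval (f.restrict (ker_invariant f p)) q x : V) = aeval f q (x : V) := by
    intro q
    induction q using Polynomial.induction_on' with
    | add q q' hq hq' => intro x; simp [hq, hq']
    | monomial k c =>
      intro x
      rw [aeval_monomial, aeval_monomial, Module.End.mul_apply, Module.End.mul_apply, Module.End.pow_restrict]
      simp [Module.algebraMap_end_apply]
  exact LinearMap.ext fun x => Subtype.ext ((hpow p x).trans (LinearMap.mem_ker.1 x.2))

include hco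

/-- Similarity from the dimensions of the primary parts. -/
theorem similar_of_finrank (f g : Module.End F V) (hf : aeval f (∏ j, P j) = 0) (hg : aeval g (∏ j, P j) = 0)
    (h : ∀ j, Module.finrank F (LinearMap.ker (aeval f (P j))) = Module.finrank F (LinearMap.ker (aeval g (P j)))) :
    ∃ e : V ≃ₗ[F] V, ∀ v, e (f v) = g (e v) := by
  classical
  obtain ⟨d, hd⟩ := exists_decomp f P hco hf
  obtain ⟨d', hd'⟩ := exists_decomp g P hco hg
  choose φ hφ using fun j => exists_intertwine (P j) (f.restrict (ker_invariant f (P j))) (aeval_restrict_ker f (P j))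
    (g.restrict (ker_invariant g (P j))) (aeval_restrict_ker g (P j)) (h j)
  refine ⟨d.trans ((LinearEquiv.piCongrRight φ).trans d'.symm), fun v => d'.injective (funext fun j => ?_)⟩
  simp only [LinearEquiv.trans_apply, LinearEquiv.apply_symm_apply, LinearEquiv.piCongrRight_apply]
  apply Subtype.ext
  rw [hd', LinearEquiv.apply_symm_apply, LinearEquiv.piCongrRight_apply,
    show d (f v) j = f.restrict (ker_invariant f (P j)) (d v j) from Subtype.ext (hd v j), hφ]
  rfl

omit [FiniteDimensional F V] in
theorem finrank_sum [FiniteDimensional F V] (f : Module.End F V) (hf : aeval f (∏ j, P j) = 0) :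
    ∑ j, Module.finrank F (LinearMap.ker (aeval f (P j))) = Module.finrank F V := by
  classical
  obtain ⟨d, -⟩ := exists_decomp f P hco hf
  rw [d.finrank_eq, Module.finrank_pi_fintype]

/-- Every admissible multiplicity function occurs. -/
theorem exists_of_mult (a : J → ℕ) (ha : ∑ j, a j * (P j).natDegree = Module.finrank F V) :
    ∃ f : Module.End F V, aeval f (∏ j, P j) = 0 ∧
      ∀ j, Module.finrank F (LinearMap.ker (aeval f (P j))) = a j * (P j).natDegree := by
  classical
  haveI : ∀ j, Module.Finite F (AdjoinRoot (P j)) := fun j => (AdjoinRoot.powerBasis (hirr j).out.ne_zero).finite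
  let M : Module.End F ((j : J) → Fin (a j) → AdjoinRoot (P j)) :=
    LinearMap.pi fun j => (rootMap (P j) (a j)).comp (LinearMap.proj j)
  let e : ((j : J) → Fin (a j) → AdjoinRoot (P j)) ≃ₗ[F] V := LinearEquiv.ofFinrankEq _ _ (by
    rw [Module.finrank_pi_fintype, ← ha]
    exact Finset.sum_congr rfl fun j _ => finrank_rootMap (P j) (a j))
  have hM : ∀ (q : F[X]) x j, aeval M q x j = aeval (rootMap (P j) (a j)) q (x j) := by
    intro q
    induction q using Polynomial.induction_on with
    | C c => intro x j; simp [Module.algebraMap_end_apply]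
    | add q q' hq hq' => intro x j; simp [hq, hq']
    | monomial k c ih =>
      intro x j
      rw [show C c * X ^ (k + 1) = C c * X ^ k * X by ring, map_mul (aeval M) _ X, map_mul (aeval (rootMap (P j) (a j))) _ X, aeval_X, aeval_X,
        Module.End.mul_apply, Module.End.mul_apply, ih]
      rfl
  have hconj : ∀ (q : F[X]) v, aeval (e.conj M) q v = e (aeval M q (e.symm v)) := by
    intro q
    induction q using Polynomial.induction_on with
    | C c => intro v; simp [Module.algebraMap_end_apply]
    | add q q' hq hq' => intro v; simp [hq, hq']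
    | monomial k c ih =>
      intro v
      rw [show C c * X ^ (k + 1) = C c * X ^ k * X by ring, map_mul (aeval (e.conj M)) _ X, map_mul (aeval M) _ X, aeval_X, aeval_X,
        Module.End.mul_apply, Module.End.mul_apply, ih, LinearEquiv.conj_apply]
      simp
  refine ⟨e.conj M, LinearMap.ext fun v => ?_, fun j => ?_⟩
  · rw [hconj, show aeval M (∏ j, P j) (e.symm v) = 0 from funext fun j => by
      obtain ⟨c, hc⟩ := Finset.dvd_prod_of_mem P (Finset.mem_univ j)
      rw [hM, hc, map_mul, aeval_rootMap, zero_mul]; rfl, map_zero]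
    rfl
  · -- the inclusion of one factor
    let ι : (Fin (a j) → AdjoinRoot (P j)) →ₗ[F] V := e.toLinearMap ∘ₗ LinearMap.single F (fun l => Fin (a l) → AdjoinRoot (P l)) j
    have hι : Function.Injective ι := fun x y h => Pi.single_injective (M := fun l => Fin (a l) → AdjoinRoot (P l)) j (e.injective h)
    have hr : LinearMap.range ι = LinearMap.ker (aeval (e.conj M) (P j)) := by
      ext v
      constructor
      · rintro ⟨y, rfl⟩
        rw [LinearMap.mem_ker, hconj]
        show e (aeval M (P j) (e.symm (e (Pi.single j y)))) = 0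
        rw [LinearEquiv.symm_apply_apply, LinearEquiv.map_eq_zero_iff]
        funext l
        rw [hM]
        rcases eq_or_ne l j with rfl | hl
        · rw [aeval_rootMap]; rfl
        · rw [Pi.single_eq_of_ne hl, map_zero]; rfl
      · intro hv
        rw [LinearMap.mem_ker, hconj, LinearEquiv.map_eq_zero_iff] at hv
        refine ⟨e.symm v j, ?_⟩
        show e (Pi.single j (e.symm v j)) = v
        rw [← LinearEquiv.eq_symm_apply]
        funext l
        rcases eq_or_ne l j with rfl | hl
        · rw [Pi.single_eq_same]
        · rw [Pi.single_eq_of_ne hl]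
          have h1 := congrFun hv l
          rw [hM, Pi.zero_apply] at h1
          obtain ⟨c, d, hcd⟩ := hco hl
          have h2 := congrArg (fun q => aeval (rootMap (P l) (a l)) q (e.symm v l)) hcd
          simp only [map_add, map_mul, LinearMap.add_apply, Module.End.mul_apply, h1, aeval_rootMap, map_zero, add_zero,
            map_one, Module.End.one_apply, LinearMap.zero_apply] at h2
          exact h2
    rw [← hr, LinearMap.finrank_range_of_inj hι, finrank_rootMap]

end Main

end CfsgLib.Classical.Primary
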