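/-
The inversion of eigenvalue orbits among the factors of `X ^ r - 1`.
-/
import Cfsg.Agent.Lib.Classical.PrimaryDecomp

set_option autoImplicit false

namespace CfsgLib.Classical.InvIdx

open Polynomial CfsgLib.Classical.Primary

variable {F : Type*} [Field F] {r t i : ℕ} {P : Option (Fin t) → F[X]}

/-- The data of a factorisation of `X ^ r - 1`. -/
structure Data (F : Type*) [Field F] (r i t : ℕ) (P : Option (Fin t) → F[X]) : Prop where
  prime : r.Prime
  ne_two : r ≠ 2
  cast_ne : (r : F) ≠ 0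
  zero : P none = X - C 1
  irred : ∀ o, Irreducible (P o)
  deg : ∀ j, (P (some j)).natDegree = i
  coprime : Pairwise (Function.onFun IsCoprime P)
  prod : ∏ o, P o = X ^ r - 1

variable (hD : Data F r i t P)
include hD

theorem dvd_X_pow (o : Option (Fin t)) : P o ∣ X ^ r - 1 := hD.prod ▸ Finset.dvd_prod_of_mem P (Finset.mem_univ o)

theorem exists_inv : ∃ δ : Option (Fin t) → Option (Fin t), δ none = none ∧ (∀ o, δ (δ o) = o) ∧
    ∀ l o, P o ∣ (P l).comp (X ^ (r - 1)) ↔ o = δ l := by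
  classical
  have hr := hD.prime.one_le
  have hp : ∀ o, Prime (P o) := fun o => (hD.irred o).prime
  have hex : ∀ o, ∃ l, P o ∣ (P l).comp (X ^ (r - 1)) := fun o => by
    have h1 : (X ^ r - 1 : F[X]) ∣ (X ^ r - 1 : F[X]).comp (X ^ (r - 1)) := by
      simp only [sub_comp, pow_comp, X_comp, one_comp]
      rw [← pow_mul, mul_comm, pow_mul]
      simpa using sub_dvd_pow_sub_pow (X ^ r : F[X]) 1 (r - 1)
    have h2 : P o ∣ ∏ l, (P l).comp (X ^ (r - 1)) := by
      rw [← prod_comp, hD.prod]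
      exact (dvd_X_pow hD o).trans h1
    exact ((Prime.dvd_finset_prod_iff (hp o) _).1 h2).imp fun l h => h.2
  choose δ hδ using hex
  have huniq : ∀ o l l', P o ∣ (P l).comp (X ^ (r - 1)) → P o ∣ (P l').comp (X ^ (r - 1)) → l = l' := by
    intro o l l' h h'
    by_contra hne
    obtain ⟨u, v, huv⟩ := hD.coprime hne
    have h2 := congrArg (fun S : F[X] => S.comp (X ^ (r - 1))) huv
    simp only [add_comp, mul_comp, one_comp] at h2
    exact (hp o).not_dvd_one (h2 ▸ dvd_add (h.mul_left _) (h'.mul_left _))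
  have hinv : ∀ o, δ (δ o) = o := by
    intro o
    by_contra hne
    obtain ⟨c, hc⟩ := hδ (δ o)
    have h1 : P o ∣ ((P (δ (δ o))).comp (X ^ (r - 1))).comp (X ^ (r - 1)) := by
      rw [hc, mul_comp]; exact (hδ o).mul_right _
    rw [comp_assoc, pow_comp, X_comp, ← pow_mul] at h1
    have h2 : (X ^ r - 1 : F[X]) ∣ X ^ ((r - 1) * (r - 1)) - X := by
      obtain ⟨k, hk⟩ : ∃ k, (r - 1) * (r - 1) = r * k + 1 := ⟨r - 2, by
        obtain ⟨s, rfl⟩ : ∃ s, r = s + 2 := ⟨r - 2, by have := hD.prime.two_le; omega⟩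
        simp; ring⟩
      rw [hk, pow_succ, pow_mul, show (X ^ r) ^ k * X - X = ((X ^ r) ^ k - 1) * (X : F[X]) by ring]
      exact (by simpa using sub_dvd_pow_sub_pow (X ^ r : F[X]) 1 k : (X ^ r - 1 : F[X]) ∣ (X ^ r) ^ k - 1).mul_right _
    have h3 : P o ∣ (P (δ (δ o))).comp (X ^ ((r - 1) * (r - 1))) - (P (δ (δ o))).comp X :=
      ((dvd_X_pow hD o).trans h2).trans (by
        have := sub_dvd_eval_sub (X ^ ((r - 1) * (r - 1))) (X : F[X]) ((P (δ (δ o))).map C)
        simpa [eval_map, comp] using this)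
    have h4 := dvd_sub h1 h3
    rw [sub_sub_cancel, comp_X] at h4
    exact hne (by_contra fun hne' => (hp o).not_unit
      ((hD.coprime (Ne.symm hne')).isUnit_of_dvd' dvd_rfl h4))
  have hnone : δ none = none := huniq none _ _ (hδ none) (by
    rw [hD.zero, sub_comp, X_comp, C_comp, map_one]
    exact sub_one_dvd_pow_sub_one (X : F[X]) (r - 1))
  exact ⟨δ, hnone, hinv, fun l o => ⟨fun h => by rw [huniq o l (δ o) h (hδ o), hinv], fun h => by subst h; have := hδ (δ l); rwa [hinv] at this⟩⟩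

/-- An orbit is its own inverse exactly if the degree is even. -/
theorem fixed_iff [Fintype F] {q : ℕ} (hq : Fintype.card F = q) (hord : orderOf (q : ZMod r) = i) (hi : 0 < i)
    (j : Fin t) : P (some j) ∣ (P (some j)).comp (X ^ (r - 1)) ↔ Even i := by
  haveI : Fact (Irreducible (P (some j))) := ⟨hD.irred _⟩
  haveI : Fact r.Prime := ⟨hD.prime⟩
  let L := AdjoinRoot (P (some j))
  let ρ : L := AdjoinRoot.root _
  have hne : P (some j) ≠ 0 := (hD.irred _).ne_zero
  haveI : Module.Finite F L := (AdjoinRoot.powerBasis hne).finite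
  haveI : Finite L := Module.finite_of_finite F
  have hroot : aeval ρ (P (some j)) = 0 := by
    show aeval (AdjoinRoot.root (P (some j))) _ = 0
    rw [AdjoinRoot.aeval_eq, AdjoinRoot.mk_self]
  have hev : P (some j) ∣ (P (some j)).comp (X ^ (r - 1)) ↔ aeval (ρ ^ (r - 1)) (P (some j)) = 0 := by
    rw [← AdjoinRoot.mk_eq_zero, ← AdjoinRoot.aeval_eq, aeval_comp, map_pow, aeval_X]
  have hρr : ρ ^ r = 1 := by
    obtain ⟨c, hc⟩ := dvd_X_pow hD (some j)
    have h := congrArg (aeval ρ) hc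
    rw [map_mul, hroot, zero_mul, map_sub, map_pow, aeval_X, map_one, sub_eq_zero] at h
    exact h
  have hρ1 : ρ ≠ 1 := fun h => by
    obtain ⟨u, v, huv⟩ := hD.coprime (show (none : Option (Fin t)) ≠ some j from nofun)
    have := congrArg (aeval ρ) huv
    rw [hD.zero] at this
    simp [hroot] at this
    rw [h] at this
    simp at this
  have hρ : orderOf ρ = r := orderOf_eq_prime hρr hρ1
  have hfin : IsOfFinOrder ρ := isOfFinOrder_iff_pow_eq_one.2 ⟨r, hD.prime.pos, hρr⟩
  rw [hev]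
  constructor
  · intro h
    obtain ⟨σ, hσ⟩ : ∃ σ : L →ₐ[F] L, σ ρ = ρ ^ (r - 1) :=
      ⟨AdjoinRoot.liftAlgHom _ (Algebra.ofId F L) (ρ ^ (r - 1)) h, AdjoinRoot.liftAlgHom_root _ _ _ h⟩
    have hb : Function.Bijective σ := Finite.injective_iff_bijective.1 σ.toRingHom.injective
    let τ : L ≃ₐ[F] L := AlgEquiv.ofBijective σ hb
    have hττ : τ ^ 2 = 1 := by
      have h2 : σ.comp σ = AlgHom.id F L := AdjoinRoot.algHom_ext (by
        show σ (σ ρ) = ρ
        rw [hσ, map_pow, hσ, ← pow_mul]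
        have hm : (r - 1) * (r - 1) ≡ 1 [MOD r] := by
          rw [← ZMod.natCast_eq_natCast_iff]
          push_cast [Nat.cast_sub hD.prime.one_le]
          simp
        conv_rhs => rw [← pow_one ρ]
        exact hfin.pow_eq_pow_iff_modEq.2 (hρ.symm ▸ hm))
      exact AlgEquiv.ext fun x => congrArg (fun f : L →ₐ[F] L => f x) h2
    have hτ1 : τ ≠ 1 := fun h1 => by
      have h2 : σ ρ = ρ := congrArg (fun f : L ≃ₐ[F] L => f ρ) h1
      rw [hσ] at h2
      have h3 : ρ * ρ = 1 := by nth_rewrite 1 [← h2]; rw [← pow_succ, Nat.sub_add_cancel hD.prime.one_le, hρr]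
      have := orderOf_dvd_of_pow_eq_one (show ρ ^ 2 = 1 by rw [pow_two, h3])
      rw [hρ] at this
      exact hD.ne_two ((Nat.prime_dvd_prime_iff_eq hD.prime Nat.prime_two).1 this)
    have hdvd := orderOf_dvd_natCard τ
    rw [orderOf_eq_prime hττ hτ1, IsGalois.card_aut_eq_finrank, (AdjoinRoot.powerBasis hne).finrank, AdjoinRoot.powerBasis_dim, hD.deg] at hdvd
    exact even_iff_two_dvd.2 hdvd
  · rintro ⟨h, rfl⟩
    have hqh : (q : ZMod r) ^ h = -1 := by
      have h2 : ((q : ZMod r) ^ h) ^ 2 = 1 := by rw [← pow_mul, mul_two]; rw [← hord]; exact pow_orderOf_eq_one _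
      rcases sq_eq_one_iff.1 h2 with h' | h'
      · have := Nat.le_of_dvd (by omega) (hord ▸ orderOf_dvd_of_pow_eq_one h')
        omega
      · exact h'
    have hm : q ^ h ≡ r - 1 [MOD r] := by
      rw [← ZMod.natCast_eq_natCast_iff]
      push_cast [Nat.cast_sub hD.prime.one_le]
      rw [hqh]; simp
    have h1 : ρ ^ (r - 1) = ρ ^ q ^ h := by
      exact (hfin.pow_eq_pow_iff_modEq.2 (hρ.symm ▸ hm)).symm
    rw [h1]
    have key : ∀ k (x : L), aeval (x ^ q ^ k) (P (some j)) = aeval x (P (some j)) ^ q ^ k := by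
      intro k
      induction k with
      | zero => simp
      | succ k ih =>
        intro x
        rw [pow_succ, pow_mul, pow_mul (aeval x _), ← ih]
        have h2 := (aeval_algHom_apply (FiniteField.frobeniusAlgHom F L) (x ^ q ^ k) (P (some j)))
        simpa [hq] using h2
    rw [key, hroot, zero_pow (pow_ne_zero _ (by rw [← hq]; exact Fintype.card_ne_zero))]

end CfsgLib.Classical.InvIdx
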