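/-
Involutions of `PSp_{2m}(q)`, `q` odd, up to conjugacy: at most `m / 2 + 1` classes.
-/
import Cfsg.Agent.Lib.Classical.SpCenter
import Cfsg.Agent.Lib.Classical.FiniteFieldSq

set_option autoImplicit false

namespace CfsgLib.Classical

open Matrix Cfsg

variable {F : Type*} [Field F] {m : ℕ}

/-- The `i`-th basis vector `e_i`. -/
abbrev spE (i : Fin m) : Fin m ⊕ Fin m → F := Pi.single (Sum.inl i) 1

/-- The `i`-th basis vector `f_i`. -/
abbrev spF (i : Fin m) : Fin m ⊕ Fin m → F := Pi.single (Sum.inr i) 1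

theorem sp_ext_basis {g h : symplecticGroup (Fin m) F}
    (he : ∀ i, g.1 *ᵥ spE i = h.1 *ᵥ spE i) (hf : ∀ i, g.1 *ᵥ spF i = h.1 *ᵥ spF i) : g = h :=
  Subtype.ext (Matrix.ext_of_mulVec_single fun j => by
    rcases j with j | j
    · exact he j
    · exact hf j)

/-- The linear substitution `x ↦ x ∘ Sum.map σ σ`. -/
def spPerm (σ : Equiv.Perm (Fin m)) : symplecticGroup (Fin m) F :=
  ⟨(1 : Matrix (Fin m ⊕ Fin m) (Fin m ⊕ Fin m) F).submatrix (Sum.map σ σ) id, by
    rw [mem_sp_iff]
    intro u v
    have h : ∀ w : Fin m ⊕ Fin m → F,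
        (1 : Matrix (Fin m ⊕ Fin m) (Fin m ⊕ Fin m) F).submatrix (Sum.map σ σ) id *ᵥ w =
          w ∘ Sum.map σ σ := fun w => by
      funext j
      simp [mulVec, dotProduct, submatrix, Matrix.one_apply]
    rw [h, h, sympForm_eq, sympForm_eq]
    exact Equiv.sum_comp σ (fun i => u (Sum.inr i) * v (Sum.inl i) - u (Sum.inl i) * v (Sum.inr i))⟩

theorem spPerm_apply (σ : Equiv.Perm (Fin m)) (w : Fin m ⊕ Fin m → F) :
    (spPerm σ).1 *ᵥ w = w ∘ Sum.map σ σ := by
  funext j
  simp [spPerm, mulVec, dotProduct, submatrix, Matrix.one_apply]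

/-- The sign of the `i`-th coordinate in `spSign j`. -/
def signFun (F : Type*) [Field F] (j : ℕ) (i : Fin m) : F := if (i : ℕ) < j then -1 else 1

theorem signFun_mul_self (j : ℕ) (i : Fin m) : signFun F j i * signFun F j i = 1 := by
  unfold signFun
  split_ifs <;> ring

/-- The diagonal involution which is `-1` on the first `j` hyperbolic pairs. -/
def spSign (m : ℕ) (F : Type*) [Field F] (j : ℕ) : symplecticGroup (Fin m) F :=
  ⟨Matrix.diagonal (Sum.elim (signFun F j) (signFun F j)), by
    rw [mem_sp_iff]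
    intro u v
    rw [sympForm_eq, sympForm_eq]
    refine Finset.sum_congr rfl fun i _ => ?_
    simp only [mulVec_diagonal, Sum.elim_inl, Sum.elim_inr]
    linear_combination
      (u (Sum.inr i) * v (Sum.inl i) - u (Sum.inl i) * v (Sum.inr i)) * signFun_mul_self (F := F) j i⟩

theorem spSign_apply (j : ℕ) (w : Fin m ⊕ Fin m → F) (k : Fin m ⊕ Fin m) :
    ((spSign m F j).1 *ᵥ w) k = Sum.elim (signFun F j) (signFun F j) k * w k :=
  mulVec_diagonal _ w k

theorem spSign_spE (j : ℕ) (i : Fin m) : (spSign m F j).1 *ᵥ spE i = signFun F j i • spE i := by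
  funext k
  rw [spSign_apply]
  rcases eq_or_ne k (Sum.inl i) with rfl | h <;> simp [*]

theorem spSign_spF (j : ℕ) (i : Fin m) : (spSign m F j).1 *ᵥ spF i = signFun F j i • spF i := by
  funext k
  rw [spSign_apply]
  rcases eq_or_ne k (Sum.inr i) with rfl | h <;> simp [*]

theorem spSign_zero : spSign m F 0 = 1 :=
  sp_ext fun w => by
    funext k
    rw [spSign_apply]
    rcases k with k | k <;> simp [signFun]

theorem spSign_top : spSign m F m = spNegOne :=
  sp_ext fun w => by
    funext k
    rw [spSign_apply, spNegOne_apply]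
    rcases k with k | k <;> simp [signFun, k.2]

theorem spNegOne_mul_apply (g : symplecticGroup (Fin m) F) (w : Fin m ⊕ Fin m → F) :
    (spNegOne * g).1 *ᵥ w = -(g.1 *ᵥ w) := by
  rw [Submonoid.coe_mul, ← mulVec_mulVec, spNegOne_apply]

theorem spSign_neg {j : ℕ} (hj : j ≤ m) :
    spPerm Fin.revPerm * (spNegOne * spSign m F j) * (spPerm Fin.revPerm)⁻¹ = spSign m F (m - j) := by
  rw [mul_inv_eq_iff_eq_mul]
  refine sp_ext fun w => ?_
  simp only [Submonoid.coe_mul, ← mulVec_mulVec, spPerm_apply, spNegOne_apply]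
  funext k
  rw [spSign_apply, Function.comp_apply, Pi.neg_apply, spSign_apply, Function.comp_apply]
  have key : ∀ i : Fin m, -signFun F j i.rev = signFun F (m - j) i := by
    intro i
    have := i.2
    simp only [signFun, Fin.val_rev]
    split_ifs <;> first | omega | simp
  rcases k with k | k <;> simp [← key]

/-- The vectors `e_i, f_i`, `i ∈ s`, are sent to prescribed multiples. -/
def SpEigen (t : symplecticGroup (Fin m) F) (s : Finset (Fin m)) (ε : Fin m → F) : Prop :=
  ∀ i ∈ s, t.1 *ᵥ spE i = ε i • spE i ∧ t.1 *ᵥ spF i = ε i • spF i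

theorem spE_mem_coordPerp {s : Finset (Fin m)} {a : Fin m} (ha : a ∉ s) :
    (spE a : Fin m ⊕ Fin m → F) ∈ coordPerp s := by
  intro i hi
  have : i ≠ a := fun h => ha (h ▸ hi)
  simp [this]

theorem spF_mem_coordPerp {s : Finset (Fin m)} {a : Fin m} (ha : a ∉ s) :
    (spF a : Fin m ⊕ Fin m → F) ∈ coordPerp s := by
  intro i hi
  have : i ≠ a := fun h => ha (h ▸ hi)
  simp [this]

theorem spTGroup_coordPerp_fix {s : Finset (Fin m)} {k : symplecticGroup (Fin m) F}
    (hk : k ∈ spTGroup ((coordPerp s : Submodule F (Fin m ⊕ Fin m → F)) : Set (Fin m ⊕ Fin m → F))) {i : Fin m} (hi : i ∈ s) :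
    k.1 *ᵥ spE i = spE i ∧ k.1 *ᵥ spF i = spF i := by
  constructor
  · refine spTGroup_fix (fun v hv => ?_) hk
    rw [sympForm_swap, sympForm_single_inl, (hv i hi).2, neg_zero]
  · refine spTGroup_fix (fun v hv => ?_) hk
    rw [sympForm_swap, sympForm_single_inr, (hv i hi).1, neg_zero, neg_zero]

/-- A pair of `W = coordPerp s` can be moved to `(f_a, e_a)` keeping the shape on `s`. -/
theorem exists_conj_pair {s : Finset (Fin m)} {a : Fin m} (ha : a ∉ s)
    {u v : Fin m ⊕ Fin m → F} (hu : u ∈ coordPerp s) (hv : v ∈ coordPerp s)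
    (huv : sympForm m F u v = 1) :
    ∃ k : symplecticGroup (Fin m) F,
      (∀ i ∈ s, k.1 *ᵥ spE i = spE i ∧ k.1 *ᵥ spF i = spF i) ∧
      k.1 *ᵥ u = spF a ∧ k.1 *ᵥ v = spE a := by
  obtain ⟨k, hk, hku, hkv⟩ := exists_spTGroup_move_pair (coordPerp s) hu hv
    (spF_mem_coordPerp ha) (spE_mem_coordPerp ha) huv (by simp [sympForm_single_inl])
  exact ⟨k, fun i hi => spTGroup_coordPerp_fix hk hi, hku, hkv⟩

theorem conj_mulVec_eq {k t : symplecticGroup (Fin m) F} {x y z : Fin m ⊕ Fin m → F}
    (hx : k.1 *ᵥ x = z) (ht : t.1 *ᵥ x = y) : (k * t * k⁻¹).1 *ᵥ z = k.1 *ᵥ y := by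
  rw [Submonoid.coe_mul, Submonoid.coe_mul, ← mulVec_mulVec, ← mulVec_mulVec, ← hx, sp_inv_mulVec,
    ht]

theorem sp_eigen_preserve {t : symplecticGroup (Fin m) F} {s : Finset (Fin m)} {ε : Fin m → F}
    (hε : ∀ i, ε i ≠ 0) (h : SpEigen t s ε) {x : Fin m ⊕ Fin m → F} (hx : x ∈ coordPerp s) :
    t.1 *ᵥ x ∈ coordPerp s := by
  intro i hi
  have h1 := sp_form t x (spE i)
  have h2 := sp_form t x (spF i)
  rw [(h i hi).1, sympForm_smul_right, sympForm_single_inl, sympForm_single_inl, (hx i hi).2,
    mul_eq_zero] at h1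
  rw [(h i hi).2, sympForm_smul_right, sympForm_single_inr, sympForm_single_inr, (hx i hi).1,
    neg_zero, mul_eq_zero] at h2
  exact ⟨neg_eq_zero.1 (h2.resolve_left (hε i)), h1.resolve_left (hε i)⟩

theorem coordPerp_nondeg {s : Finset (Fin m)} {x : Fin m ⊕ Fin m → F} (hx : x ∈ coordPerp s)
    (hx0 : x ≠ 0) : ∃ z ∈ coordPerp s, sympForm m F x z ≠ 0 := by
  obtain ⟨k, hk⟩ := Function.ne_iff.1 hx0
  rcases k with i | i
  · have hi : i ∉ s := fun h => hk (hx i h).1
    exact ⟨spF i, spF_mem_coordPerp hi, by simpa [sympForm_single_inr] using hk⟩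
  · have hi : i ∉ s := fun h => hk (hx i h).2
    exact ⟨spE i, spE_mem_coordPerp hi, by simpa [sympForm_single_inl] using hk⟩

/-- An involution of `Sp` is conjugate to some `spSign j`. -/
theorem exists_conj_spSign (h2 : (2 : F) ≠ 0) (t : symplecticGroup (Fin m) F) (ht : t * t = 1) :
    ∃ j ≤ m, ∃ k : symplecticGroup (Fin m) F, k * t * k⁻¹ = spSign m F j := by
  suffices H : ∀ d n : ℕ, n + d = m → ∀ t : symplecticGroup (Fin m) F, t * t = 1 →
      SpEigen t (Finset.univ.filter fun i : Fin m => (i : ℕ) < n) (fun _ => -1) →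
      ∃ j ≤ m, ∃ k : symplecticGroup (Fin m) F, k * t * k⁻¹ = spSign m F j from
    H m 0 (by simp) t ht (fun i hi => by simp at hi)
  intro d
  induction d with
  | zero =>
    intro n hn t _ hs
    refine ⟨m, le_rfl, 1, ?_⟩
    have hh : ∀ i : Fin m, i ∈ Finset.univ.filter fun i : Fin m => (i : ℕ) < n := fun i => by
      have := i.2
      simp
      omega
    rw [one_mul, inv_one, mul_one]
    refine sp_ext_basis (fun i => ?_) (fun i => ?_)
    · rw [(hs i (hh i)).1, spSign_spE]; simp [signFun, i.2]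
    · rw [(hs i (hh i)).2, spSign_spF]; simp [signFun, i.2]
  | succ d ih =>
    intro n hn t ht hs
    set s := Finset.univ.filter fun i : Fin m => (i : ℕ) < n with hsdef
    by_cases hfix : ∀ x ∈ coordPerp (F := F) s, t.1 *ᵥ x = x
    · refine ⟨n, by omega, 1, ?_⟩
      rw [one_mul, inv_one, mul_one]
      refine sp_ext_basis (fun i => ?_) (fun i => ?_)
      all_goals
        by_cases hi : i ∈ s
        · have hi' : (i : ℕ) < n := (Finset.mem_filter.1 hi).2
          first
            | rw [(hs i hi).1, spSign_spE]; simp [signFun, hi']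
            | rw [(hs i hi).2, spSign_spF]; simp [signFun, hi']
        · have hi' : ¬ (i : ℕ) < n := fun h => hi (by simp [hsdef, h])
          first
            | rw [hfix _ (spE_mem_coordPerp hi), spSign_spE]; simp [signFun, hi']
            | rw [hfix _ (spF_mem_coordPerp hi), spSign_spF]; simp [signFun, hi']
    · push Not at hfix
      obtain ⟨x, hx, htx⟩ := hfix
      have htt : ∀ w, t.1 *ᵥ (t.1 *ᵥ w) = w := fun w => by
        rw [mulVec_mulVec, ← Submonoid.coe_mul, ht, Submonoid.coe_one, one_mulVec]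
      have hpres : ∀ w ∈ coordPerp (F := F) s, t.1 *ᵥ w ∈ coordPerp (F := F) s :=
        fun w hw => sp_eigen_preserve (fun _ => by simp) hs hw
      set u := x - t.1 *ᵥ x with hu
      have hu0 : u ≠ 0 := fun h => htx (sub_eq_zero.1 h).symm
      have hum : u ∈ coordPerp s := Submodule.sub_mem _ hx (hpres x hx)
      have htu : t.1 *ᵥ u = -u := by rw [hu, mulVec_sub, htt]; abel
      obtain ⟨z, hz, hzu⟩ := coordPerp_nondeg hum hu0
      have hfu : sympForm m F u (z - t.1 *ᵥ z) = 2 * sympForm m F u z := by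
        have := sp_form t u (t.1 *ᵥ z)
        rw [htu, htt, ← neg_one_smul F u, sympForm_smul_left] at this
        rw [sympForm_sub_right, ← this]
        ring
      set v := (2 * sympForm m F u z)⁻¹ • (z - t.1 *ᵥ z) with hv
      have huv : sympForm m F u v = 1 := by
        rw [hv, sympForm_smul_right, hfu, inv_mul_cancel₀ (mul_ne_zero h2 hzu)]
      have hvm : v ∈ coordPerp s :=
        Submodule.smul_mem _ _ (Submodule.sub_mem _ hz (hpres z hz))
      have htv : t.1 *ᵥ v = -v := by
        rw [hv, mulVec_smul, mulVec_sub, htt, ← smul_neg, neg_sub]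
      set a : Fin m := ⟨n, by omega⟩
      have ha : a ∉ s := by simp [hsdef, a]
      obtain ⟨k, hk, hku, hkv⟩ := exists_conj_pair ha hum hvm huv
      obtain ⟨j, hj, k', hk'⟩ := ih (n + 1) (by omega) (k * t * k⁻¹)
        (by
          calc k * t * k⁻¹ * (k * t * k⁻¹) = k * (t * t) * k⁻¹ := by group
            _ = 1 := by rw [ht, mul_one, mul_inv_cancel])
        (by
          intro i hi
          rcases Nat.lt_succ_iff_lt_or_eq.1 (Finset.mem_filter.1 hi).2 with h | h
          · have his : i ∈ s := by simp [hsdef, h]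
            constructor
            · rw [conj_mulVec_eq (hk i his).1 (hs i his).1, mulVec_smul, (hk i his).1]
            · rw [conj_mulVec_eq (hk i his).2 (hs i his).2, mulVec_smul, (hk i his).2]
          · obtain rfl : i = a := Fin.ext h
            constructor
            · rw [conj_mulVec_eq hkv htv, mulVec_neg, hkv, neg_one_smul]
            · rw [conj_mulVec_eq hku htu, mulVec_neg, hku, neg_one_smul])
      exact ⟨j, hj, k' * k, by rw [← hk']; group⟩

/-- An element of square `-1` is conjugate to `J`. -/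
theorem exists_conj_spJ [Finite F] (h2 : (2 : F) ≠ 0) (t : symplecticGroup (Fin m) F)
    (ht : t * t = spNegOne) :
    ∃ k : symplecticGroup (Fin m) F, k * t * k⁻¹ = SymplecticGroup.symJ (Fin m) F := by
  have hJE : ∀ i : Fin m, (SymplecticGroup.symJ (Fin m) F).1 *ᵥ spE i = spF i := by
    intro i
    funext k
    rcases k with k | k <;> simp [J, spE, spF, Matrix.one_apply, Pi.single_apply]
  have hJF : ∀ i : Fin m, (SymplecticGroup.symJ (Fin m) F).1 *ᵥ spF i = -spE i := by
    intro i
    funext k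
    rcases k with k | k <;> simp [J, spE, spF, Matrix.one_apply, Pi.single_apply]
  suffices H : ∀ s : Finset (Fin m), ∀ t : symplecticGroup (Fin m) F, t * t = spNegOne →
      (∀ i ∉ s, t.1 *ᵥ spE i = spF i ∧ t.1 *ᵥ spF i = -spE i) →
      ∃ k : symplecticGroup (Fin m) F, k * t * k⁻¹ = SymplecticGroup.symJ (Fin m) F from
    H Finset.univ t ht (fun i hi => absurd (Finset.mem_univ i) hi)
  intro r
  induction r using Finset.induction_on with
  | empty =>
    intro t _ hs
    refine ⟨1, ?_⟩
    rw [one_mul, inv_one, mul_one]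
    exact sp_ext_basis (fun i => by rw [(hs i (by simp)).1, hJE])
      (fun i => by rw [(hs i (by simp)).2, hJF])
  | insert a r har ih =>
    intro t ht hs
    set s := Finset.univ.filter fun i : Fin m => i ∉ insert a r with hsdef
    have hsf : ∀ i ∈ s, t.1 *ᵥ spE i = spF i ∧ t.1 *ᵥ spF i = -spE i :=
      fun i hi => hs i (Finset.mem_filter.1 hi).2
    have ha : a ∉ s := by simp [hsdef]
    have htt : ∀ w, t.1 *ᵥ (t.1 *ᵥ w) = -w := fun w => by
      rw [mulVec_mulVec, ← Submonoid.coe_mul, ht, spNegOne_apply]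
    have hpres : ∀ w ∈ coordPerp (F := F) s, t.1 *ᵥ w ∈ coordPerp (F := F) s := by
      intro w hw i hi
      have h1 := sp_form t w (spE i)
      have h2' := sp_form t w (spF i)
      rw [(hsf i hi).1, sympForm_single_inl, sympForm_single_inr, (hw i hi).2] at h1
      rw [(hsf i hi).2, ← neg_one_smul F (spE i), sympForm_smul_right, sympForm_single_inl,
        sympForm_single_inr, (hw i hi).1] at h2'
      exact ⟨neg_eq_zero.1 h1, by simpa using h2'⟩
    obtain ⟨x, hx, hQ⟩ : ∃ x ∈ coordPerp (F := F) s, sympForm m F (t.1 *ᵥ x) x ≠ 0 := by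
      by_contra hc
      push Not at hc
      set e := spE (F := F) a
      have hem : e ∈ coordPerp s := spE_mem_coordPerp ha
      obtain ⟨z, hz, hze⟩ := coordPerp_nondeg hem (by simp [e])
      set w := -(t.1 *ᵥ z) with hw
      have hwm : w ∈ coordPerp s := Submodule.neg_mem _ (hpres z hz)
      have htw : t.1 *ᵥ w = z := by rw [hw, mulVec_neg, htt, neg_neg]
      have h1 := hc _ (Submodule.add_mem _ hem hwm)
      rw [mulVec_add, sympForm_add_left, sympForm_add_right, sympForm_add_right, hc e hem,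
        hc w hwm, zero_add, add_zero, htw] at h1
      have h3 : sympForm m F (t.1 *ᵥ e) w = sympForm m F z e := by
        have := sp_form t (t.1 *ᵥ e) w
        rw [htt, htw, ← neg_one_smul F e, sympForm_smul_left] at this
        rw [← this, sympForm_swap e z]
        ring
      rw [h3, ← two_mul, mul_eq_zero] at h1
      rw [sympForm_swap z e, h1.resolve_left h2, neg_zero] at hze
      exact hze rfl
    set c := sympForm m F (t.1 *ᵥ x) x
    obtain ⟨p, q, hpq⟩ := exists_sq_add_sq h2 c⁻¹
    set y := p • x + q • (t.1 *ᵥ x) with hy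
    have hym : y ∈ coordPerp s :=
      Submodule.add_mem _ (Submodule.smul_mem _ _ hx) (Submodule.smul_mem _ _ (hpres x hx))
    have hy1 : sympForm m F (t.1 *ᵥ y) y = 1 := by
      rw [hy, mulVec_add, mulVec_smul, mulVec_smul, htt]
      simp only [← neg_one_smul F x, sympForm_add_left, sympForm_add_right, sympForm_smul_left,
        sympForm_smul_right, sympForm_self]
      rw [sympForm_swap (t.1 *ᵥ x) x]
      linear_combination c * hpq + mul_inv_cancel₀ hQ
    obtain ⟨k, hk, hku, hkv⟩ := exists_conj_pair ha (hpres y hym) hym hy1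
    obtain ⟨k', hk'⟩ := ih (k * t * k⁻¹) (by
        calc k * t * k⁻¹ * (k * t * k⁻¹) = k * (t * t) * k⁻¹ := by group
          _ = spNegOne := by
            rw [ht, Subgroup.mem_center_iff.1 spNegOne_mem_center k, mul_inv_cancel_right])
      (by
        intro i hi
        by_cases hia : i = a
        · subst hia
          constructor
          · rw [conj_mulVec_eq hkv rfl, hku]
          · rw [conj_mulVec_eq hku (htt y), mulVec_neg, hkv]
        · have his : i ∈ s := by simp [hsdef, hi, hia]
          constructor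
          · rw [conj_mulVec_eq (hk i his).1 (hsf i his).1, (hk i his).2]
          · rw [conj_mulVec_eq (hk i his).2 (hsf i his).2, mulVec_neg, (hk i his).1])
    exact ⟨k' * k, by rw [← hk']; group⟩

theorem mk_spNegOne :
    ((spNegOne : symplecticGroup (Fin m) F) : Cfsg.PSp m F) = 1 :=
  (QuotientGroup.eq_one_iff _).2 spNegOne_mem_center

/-- Representatives of the classes of involutions of `PSp`. -/
def pspRep (m : ℕ) (F : Type*) [Field F] : Option (Fin (m / 2)) → Cfsg.PSp m F
  | none => (SymplecticGroup.symJ (Fin m) F : symplecticGroup (Fin m) F)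
  | some j => (spSign m F ((j : ℕ) + 1) : symplecticGroup (Fin m) F)

theorem exists_conj_pspRep [Finite F] (h2 : (2 : F) ≠ 0) {x : Cfsg.PSp m F} (hx : x * x = 1)
    (hx1 : x ≠ 1) : ∃ o, IsConj (pspRep m F o) x := by
  obtain ⟨t, rfl⟩ := QuotientGroup.mk_surjective x
  have hconj : ∀ {u w k : symplecticGroup (Fin m) F}, k * u * k⁻¹ = w →
      IsConj (w : Cfsg.PSp m F) (u : Cfsg.PSp m F) := by
    intro u w k h
    refine (isConj_iff.2 ⟨(k : Cfsg.PSp m F), ?_⟩).symm
    rw [← h, QuotientGroup.mk_mul, QuotientGroup.mk_mul, QuotientGroup.mk_inv]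
  rw [← QuotientGroup.mk_mul, QuotientGroup.eq_one_iff, mem_center_sp_iff] at hx
  rcases hx with ht | ht
  · obtain ⟨j, hj, k, hk⟩ := exists_conj_spSign h2 t ht
    have hne : ∀ z : symplecticGroup (Fin m) F, (z : Cfsg.PSp m F) = 1 → k * t * k⁻¹ ≠ z := by
      intro z hz h
      refine hx1 ?_
      have := congrArg (fun g : symplecticGroup (Fin m) F => (g : Cfsg.PSp m F)) h
      simp only [QuotientGroup.mk_mul, QuotientGroup.mk_inv, hz, mul_inv_eq_one] at this
      simpa using this
    have hj0 : j ≠ 0 := by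
      rintro rfl
      rw [spSign_zero] at hk
      exact hne 1 (QuotientGroup.mk_one _) hk
    have hjm : j ≠ m := by
      intro h
      rw [h, spSign_top] at hk
      exact hne _ mk_spNegOne hk
    by_cases hle : j ≤ m / 2
    · refine ⟨some ⟨j - 1, by omega⟩, ?_⟩
      have : j - 1 + 1 = j := by omega
      simpa [pspRep, this] using hconj hk
    · refine ⟨some ⟨m - j - 1, by omega⟩, ?_⟩
      have : m - j - 1 + 1 = m - j := by omega
      have h3 : spPerm Fin.revPerm * k * (spNegOne * t) * (spPerm Fin.revPerm * k)⁻¹ =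
          spSign m F (m - j) := by
        rw [← spSign_neg hj, ← hk]
        have hc := Subgroup.mem_center_iff.1 (spNegOne_mem_center (m := m) (F := F))
        calc spPerm Fin.revPerm * k * (spNegOne * t) * (spPerm Fin.revPerm * k)⁻¹
            = spPerm Fin.revPerm * ((k * spNegOne) * t * k⁻¹) * (spPerm Fin.revPerm)⁻¹ := by group
          _ = _ := by rw [hc k]; group
      have h4 := hconj h3
      rw [QuotientGroup.mk_mul, mk_spNegOne, one_mul] at h4
      simpa [pspRep, this] using h4
  · obtain ⟨k, hk⟩ := exists_conj_spJ h2 t ht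
    exact ⟨none, hconj hk⟩

end CfsgLib.Classical
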