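/-
Discriminants and similarities of quadratic spaces over finite fields.
-/
import Mathlib
import Cfsg.Agent.Lib.Classical.Elusive.Partition

set_option autoImplicit false

namespace CfsgLib.Classical

open Matrix

variable {F : Type*} [Field F] {ι : Type} [Fintype ι] [DecidableEq ι]

theorem det_polarGram_of_isometry (Q₁ Q₂ : QuadraticForm F (ι → F)) (g : (ι → F) ≃ₗ[F] (ι → F))
    (hg : ∀ v, Q₂ (g v) = Q₁ v) :
    ∃ t : F, (polarGram Q₁).det = t ^ 2 * (polarGram Q₂).det := by
  set X := LinearMap.toMatrix' (g : (ι → F) →ₗ[F] (ι → F)) with hX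
  refine ⟨X.det, ?_⟩
  have hpolar : ∀ u v, QuadraticMap.polar Q₂ (g u) (g v) = QuadraticMap.polar Q₁ u v := fun u v => by
    simp only [QuadraticMap.polar, ← map_add, hg]
  have hG : polarGram Q₁ = Xᵀ * polarGram Q₂ * X := Matrix.ext fun i j => by
    rw [show polarGram Q₁ i j = QuadraticMap.polar Q₁ (Pi.single i 1) (Pi.single j 1) from rfl, ← hpolar,
      SylowTwo.polarGram_form]
    have hcol : ∀ k, g (Pi.single k 1) = X *ᵥ Pi.single k 1 := fun k => by
      rw [hX, LinearMap.toMatrix'_mulVec]; rfl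
    rw [hcol, hcol, mulVec_mulVec, ← vecMul_transpose, ← dotProduct_mulVec, mulVec_mulVec, ← Matrix.mul_assoc]
    simp [Matrix.mulVec_single_one, dotProduct, Pi.single_apply]
  rw [hG, det_mul, det_mul, det_transpose]
  ring

theorem isometry_iff_isSquare [Fintype F] (h2 : (2 : F) ≠ 0) (Q₁ Q₂ : QuadraticForm F (ι → F))
    (h₁ : PolarNondeg Q₁) (h₂ : PolarNondeg Q₂) :
    (∃ g : (ι → F) ≃ₗ[F] (ι → F), ∀ v, Q₂ (g v) = Q₁ v) ↔ IsSquare ((polarGram Q₁).det * (polarGram Q₂).det) := by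
  have d1 := SylowTwo.det_polarGram_ne Q₁ h₁
  have d2 := SylowTwo.det_polarGram_ne Q₂ h₂
  constructor
  · rintro ⟨g, hg⟩
    obtain ⟨t, ht⟩ := det_polarGram_of_isometry Q₁ Q₂ g hg
    exact ⟨t * (polarGram Q₂).det, by rw [ht]; ring⟩
  · rintro ⟨r, hr⟩
    obtain ⟨e, he⟩ := Elusive.exists_isometry_of_congr h2 Q₂ Q₁ (CfsgLib.Forms.congr_of_det h2
      (SylowTwo.polarGram_transpose Q₂) (SylowTwo.polarGram_transpose Q₁) (Equiv.refl ι) d2
      (t := r / (polarGram Q₂).det) (div_ne_zero (by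
        rintro rfl
        rw [mul_zero, mul_eq_zero] at hr
        exact hr.elim d1 d2) d2) (by rw [div_pow, sq r, ← hr]; field_simp))
    exact ⟨e, he⟩

theorem exists_similitude [Fintype F] (he : Even (Fintype.card ι)) (Q : QuadraticForm F (ι → F))
    (hQ : PolarNondeg Q) {c : F} (hc : c ≠ 0) :
    ∃ g : (ι → F) ≃ₗ[F] (ι → F), ∀ v, Q (g v) = c * Q v := by
  by_cases h2 : (2 : F) = 0
  · haveI : CharP F 2 := CharTwo.of_one_ne_zero_of_two_eq_zero one_ne_zero h2
    obtain ⟨s, hs⟩ := FiniteField.isSquare_of_char_two (ringChar.eq F 2) c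
    have hs0 : s ≠ 0 := by rintro rfl; simp [hc] at hs
    exact ⟨LinearEquiv.smulOfNeZero F (ι → F) s hs0, fun v => by
      rw [LinearEquiv.smulOfNeZero_apply, QuadraticMap.map_smul, smul_eq_mul, hs]⟩
  · have hcQ : PolarNondeg (c • Q) := fun v hv => hQ v fun w => by
      have h := hv w
      simp only [QuadraticMap.polar, QuadraticMap.smul_apply, smul_eq_mul, ← mul_sub] at h
      exact (mul_eq_zero.1 h).resolve_left hc
    obtain ⟨g, hg⟩ := (isometry_iff_isSquare h2 (c • Q) Q hcQ hQ).2 (by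
      have hG : polarGram (c • Q) = c • polarGram Q := Matrix.ext fun i j => by
        simp [polarGram, QuadraticMap.polar, mul_sub]
      obtain ⟨k, hk⟩ := he
      refine ⟨c ^ k * (polarGram Q).det, ?_⟩
      rw [hG, det_smul, hk, pow_add]
      ring)
    exact ⟨g, fun v => (hg v).trans (by rw [QuadraticMap.smul_apply, smul_eq_mul])⟩

end CfsgLib.Classical
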