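/-
The quadratic forms over `F₂` with a given alternating polar form.
-/
import Mathlib
import Cfsg.Agent.Lib.Classical.QuadStd
import Cfsg.Agent.Lib.Classical.QuadPOmega
import Cfsg.Agent.Lib.KnownSimple.POAut.FormClass

set_option autoImplicit false

namespace CfsgLib.Classical.F2Forms

open CfsgLib.Classical

variable (m : ℕ)

/-- The space. -/
abbrev V := Fin m ⊕ Fin m → ZMod 2

variable {m}

/-- The polar form as a functional. -/
def fw (w : V m) : V m →ₗ[ZMod 2] ZMod 2 := (QuadraticMap.polarBilin (qPlus m (ZMod 2))).flip w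

theorem fw_apply (w v : V m) : fw w v = QuadraticMap.polar (qPlus m (ZMod 2)) v w := rfl

/-- The form `qPlus + f(·, w)`. -/
def qw (w : V m) : QuadraticForm (ZMod 2) (V m) := qPlus m (ZMod 2) + QuadraticMap.linMulLin (fw w) (fw w)

theorem mul_self_two (x : ZMod 2) : x * x = x := by revert x; decide

theorem qw_apply (w v : V m) : qw w v = qPlus m (ZMod 2) v + QuadraticMap.polar (qPlus m (ZMod 2)) v w := by
  simp [qw, fw_apply, mul_self_two]

theorem polar_qw (w u v : V m) : QuadraticMap.polar (qw w) u v = QuadraticMap.polar (qPlus m (ZMod 2)) u v := by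
  simp only [QuadraticMap.polar, qw_apply]
  have h := (QuadraticMap.polarBilin (qPlus m (ZMod 2))).map_add₂ u v w
  simp only [QuadraticMap.polarBilin_apply_apply] at h
  simp only [QuadraticMap.polar] at h
  rw [h]
  ring

theorem qw_add (w w' v : V m) :
    qw w v + QuadraticMap.polar (qPlus m (ZMod 2)) v w' = qw (w + w') v := by
  rw [qw_apply, qw_apply, add_assoc, QuadraticMap.polar_add_right]

theorem qw_injective : Function.Injective (qw : V m → QuadraticForm (ZMod 2) (V m)) := fun a b h => by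
  refine sub_eq_zero.1 (polarNondeg_qPlus m (a - b) fun v => ?_)
  have := congrArg (fun Q : QuadraticForm (ZMod 2) (V m) => Q v) h
  simp only [qw_apply] at this
  rw [QuadraticMap.polar_comm, QuadraticMap.polar_sub_right, add_left_cancel this, sub_self]

/-- Every function with the given polar is one of the `qw`. -/
theorem exists_qw (q : V m → ZMod 2)
    (hq : ∀ u v, q (u + v) = q u + q v + (qPlus m (ZMod 2) (u + v) - qPlus m (ZMod 2) u - qPlus m (ZMod 2) v)) :
    ∃ w, ∀ v, q v = qw w v := by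
  let ℓ : V m →ₗ[ZMod 2] ZMod 2 := (AddMonoidHom.mk' (fun v => q v - qPlus m (ZMod 2) v) fun u v => by
    simp only [hq]; ring).toZModLinearMap 2
  obtain ⟨w, hw⟩ := (LinearMap.BilinForm.toDual (QuadraticMap.polarBilin (qPlus m (ZMod 2)))
    (polarNondeg_qPlus m).nondegenerate).surjective ℓ
  refine ⟨w, fun v => ?_⟩
  have h : QuadraticMap.polar (qPlus m (ZMod 2)) w v = ℓ v := LinearMap.congr_fun hw v
  rw [qw_apply, QuadraticMap.polar_comm, h]
  show q v = qPlus m (ZMod 2) v + (q v - qPlus m (ZMod 2) v)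
  ring

theorem qw_polar_rule (w u v : V m) : qw w (u + v) = qw w u + qw w v +
    (qPlus m (ZMod 2) (u + v) - qPlus m (ZMod 2) u - qPlus m (ZMod 2) v) := by
  have h := polar_qw w u v
  simp only [QuadraticMap.polar] at h
  rw [← h]
  ring

/-- The transvection. -/
theorem exists_iso_of_zero {w : V m} (hw : qPlus m (ZMod 2) w = 0) :
    ∃ g : V m ≃ₗ[ZMod 2] V m, ∀ v, qw w v = qPlus m (ZMod 2) (g v) := by
  let T : V m →ₗ[ZMod 2] V m := LinearMap.id + (fw w).smulRight w
  have hT : ∀ v, T v = v + QuadraticMap.polar (qPlus m (ZMod 2)) v w • w := fun v => rfl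
  have hww : QuadraticMap.polar (qPlus m (ZMod 2)) w w = 0 := by
    rw [QuadraticMap.polar_self, hw, smul_zero]
  have hTT : ∀ v, T (T v) = v := fun v => by
    rw [hT, hT, QuadraticMap.polar_add_left, QuadraticMap.polar_smul_left, hww, smul_zero, add_zero, add_assoc,
      ← add_smul, CharTwo.add_self_eq_zero, zero_smul, add_zero]
  refine ⟨LinearEquiv.ofLinearMap T T (LinearMap.ext hTT) (LinearMap.ext hTT), fun v => ?_⟩
  show qw w v = qPlus m (ZMod 2) (T v)
  rw [hT, QuadraticMap.map_add (qPlus m (ZMod 2)), QuadraticMap.map_smul, hw, smul_zero, add_zero, QuadraticMap.polar_smul_right,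
    smul_eq_mul, mul_self_two, qw_apply]

theorem zeros_add (w : V m) (hw : qPlus m (ZMod 2) w = 1) :
    zeros (qw w) + zeros (qPlus m (ZMod 2)) = 2 ^ (2 * m) := by
  classical
  have h : ∀ v, qw w v = 0 ↔ ¬ qPlus m (ZMod 2) (v + w) = 0 := fun v => by
    rw [qw_apply, QuadraticMap.map_add (qPlus m (ZMod 2)) v w, hw]
    generalize qPlus m (ZMod 2) v = a
    generalize QuadraticMap.polar (qPlus m (ZMod 2)) v w = b
    revert a b; decide
  rw [zeros, Nat.card_congr ((Equiv.addRight w).subtypeEquiv (p := fun v => qw w v = 0)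
    (q := fun v => ¬ qPlus m (ZMod 2) v = 0) h), zeros, Nat.card_eq_fintype_card, Nat.card_eq_fintype_card,
    Fintype.card_subtype_compl, Nat.sub_add_cancel (Fintype.card_subtype_le _), Fintype.card_fun]
  simp [two_mul]

theorem zeros_qPlus (hm : 1 ≤ m) : zeros (qPlus m (ZMod 2)) = 2 ^ (2 * m - 1) + 2 ^ (m - 1) := by
  obtain ⟨k, rfl⟩ : ∃ k, m = k + 1 := ⟨m - 1, by omega⟩
  rw [zeros_congr (plusLin (k + 1) (ZMod 2)) (qPlus_plusLin (k + 1))]
  have h := zeros_plus (F := ZMod 2) k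
  rw [ZMod.card] at h
  rw [show 2 * (k + 1) - 1 = 2 * k + 1 by omega, show k + 1 - 1 = k by omega]
  have h' : (zeros (qExt (k + 1) (0 : QuadraticForm (ZMod 2) (Fin 0 → ZMod 2))) : ℤ) =
      ((2 ^ (2 * k + 1) + 2 ^ k : ℕ) : ℤ) := by
    rw [h]; push_cast; ring
  exact_mod_cast h'

theorem zeros_ne (hm : 1 ≤ m) {w : V m} (hw : qPlus m (ZMod 2) w = 1) :
    zeros (qw w) ≠ zeros (qPlus m (ZMod 2)) := by
  have h := zeros_add w hw
  have h2 := zeros_qPlus hm
  have h3 : 2 ^ (2 * m) = 2 * 2 ^ (2 * m - 1) := by rw [← pow_succ']; congr 1; omega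
  have h4 : 0 < 2 ^ (m - 1) := Nat.two_pow_pos _
  omega

theorem exists_minus (k : ℕ) {w : V (k + 1)} (hw : qPlus (k + 1) (ZMod 2) w = 1) :
    ∃ g : V (k + 1) ≃ₗ[ZMod 2] ((Fin k ⊕ Fin k) ⊕ Fin 2 → ZMod 2), ∀ v, qw w v = qExt k (qBin (1 : ZMod 2) 1) (g v) := by
  have hnd : PolarNondeg (qw w) := fun v hv => polarNondeg_qPlus (k + 1) v fun u => (polar_qw w v u) ▸ hv u
  have hc1 : ∀ c : ZMod 2, c ≠ 0 → c = 1 := by decide
  rcases CfsgLib.POAut.similar_even k (qw w) hnd (by simp; ring) with ⟨c, e, hc, he⟩ | ⟨a, b, hab, hs⟩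
  · refine absurd ?_ (zeros_ne (Nat.le_add_left 1 k) hw)
    refine (zeros_congr (e.trans (plusLin (k + 1) (ZMod 2))) fun v => ?_).symm
    rw [LinearEquiv.trans_apply, qPlus_plusLin, he, hc1 c hc, one_mul]
  · have hab1 : a = 1 ∧ b = 1 := by
      have h1 := hab 1 1
      have h2 := hab 0 1
      exact (show ∀ x y : ZMod 2, (1 ^ 2 + x * 1 * 1 + y * 1 ^ 2 = 0 → (1 : ZMod 2) = 0 ∧ (1 : ZMod 2) = 0) →
        ((0 : ZMod 2) ^ 2 + x * 0 * 1 + y * 1 ^ 2 = 0 → (0 : ZMod 2) = 0 ∧ (1 : ZMod 2) = 0) → x = 1 ∧ y = 1 by decide) a b h1 h2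
    obtain ⟨rfl, rfl⟩ := hab1
    obtain ⟨c, e, hc, he⟩ := hs
    exact ⟨e, fun v => by rw [he, hc1 c hc, one_mul]⟩

theorem iso_iff (hm : 1 ≤ m) (u w : V m) :
    (∃ g : V m ≃ₗ[ZMod 2] V m, ∀ v, qw u v = qw w (g v)) ↔ qPlus m (ZMod 2) u = qPlus m (ZMod 2) w := by
  have key : ∀ u, (∃ g : V m ≃ₗ[ZMod 2] V m, ∀ v, qw u v = qPlus m (ZMod 2) (g v)) ↔ qPlus m (ZMod 2) u = 0 := by
    refine fun u => ⟨fun ⟨g, hg⟩ => ?_, exists_iso_of_zero⟩
    by_contra h
    refine zeros_ne hm (show qPlus m (ZMod 2) u = 1 by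
      revert h; generalize qPlus m (ZMod 2) u = a; revert a; decide) ?_
    exact (zeros_congr g fun v => (hg v).symm).symm
  constructor
  · rintro ⟨g, hg⟩
    have h1 : qPlus m (ZMod 2) u = 0 ↔ qPlus m (ZMod 2) w = 0 := by
      rw [← key, ← key]
      exact ⟨fun ⟨e, he⟩ => ⟨g.symm.trans e, fun v => by
          rw [LinearEquiv.trans_apply, ← he, hg, g.apply_symm_apply]⟩,
        fun ⟨e, he⟩ => ⟨g.trans e, fun v => by rw [LinearEquiv.trans_apply, ← he, hg]⟩⟩
    revert h1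
    generalize qPlus m (ZMod 2) u = a
    generalize qPlus m (ZMod 2) w = b
    revert a b; decide
  · intro h
    rcases (show ∀ a : ZMod 2, a = 0 ∨ a = 1 by decide) (qPlus m (ZMod 2) u) with h0 | h1
    · obtain ⟨e, he⟩ := (key u).2 h0
      obtain ⟨e', he'⟩ := (key w).2 (h ▸ h0)
      exact ⟨e.trans e'.symm, fun v => by rw [LinearEquiv.trans_apply, he', e'.apply_symm_apply, he]⟩
    · obtain ⟨k, rfl⟩ : ∃ k, m = k + 1 := ⟨m - 1, by omega⟩
      obtain ⟨e, he⟩ := exists_minus k h1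
      obtain ⟨e', he'⟩ := exists_minus k (h ▸ h1)
      exact ⟨e.trans e'.symm, fun v => by rw [LinearEquiv.trans_apply, he', e'.apply_symm_apply, he]⟩

end CfsgLib.Classical.F2Forms
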