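/-
Matrices whose image under a field automorphism is a scalar multiple of themselves.
-/
import Cfsg.Agent.Lib.Classical.GLOrder

set_option autoImplicit false

namespace CfsgLib.Classical.FieldAutCent

open Matrix

variable {F : Type*} [Field F] [Fintype F] {n : ℕ}

theorem card_semifixed {q₀ r : ℕ} (hr : r.Prime) (hn : 1 ≤ n) (hF : Fintype.card F = q₀ ^ r)
    (σ : F ≃+* F) (hσ : orderOf σ = r) :
    Nat.card {g : GL (Fin n) F // ∃ c : F, c ≠ 0 ∧ (g : Matrix (Fin n) (Fin n) F).map σ = c • (g : Matrix (Fin n) (Fin n) F)}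
      = (q₀ ^ r - 1) / (q₀ - 1) * ∏ i : Fin n, (q₀ ^ n - q₀ ^ (i : ℕ)) := by
  classical
  let G := Subgroup.zpowers σ
  have : FaithfulSMul G F := ⟨fun {a b} h => Subtype.ext (RingEquiv.ext h)⟩
  have : Finite G := Nat.finite_of_card_ne_zero (by rw [Nat.card_zpowers, hσ]; exact hr.ne_zero)
  have : Fintype G := Fintype.ofFinite G
  let F₀ := FixedPoints.subfield G F
  have hmem : ∀ x : F, σ x = x → x ∈ F₀ := by
    intro x hx g
    have hg : (g : F ≃+* F) ∈ MulAction.stabilizer (F ≃+* F) x :=
      (Subgroup.zpowers_le.2 (MulAction.mem_stabilizer_iff.2 hx)) g.2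
    exact MulAction.mem_stabilizer_iff.1 hg
  have hfix : ∀ x : F₀, σ (x : F) = x := fun x => x.2 ⟨σ, Subgroup.mem_zpowers σ⟩
  have hcard : Fintype.card F₀ = q₀ := by
    have h := Module.card_eq_pow_finrank (K := F₀) (V := F)
    rw [FixedPoints.finrank_eq_card G F, ← Nat.card_eq_fintype_card (α := G), Nat.card_zpowers, hσ, hF] at h
    exact (Nat.pow_left_injective hr.ne_zero h).symm
  have hinj0 : Function.Injective (GeneralLinearGroup.map (n := Fin n) (F₀.subtype)) := by
    intro a b h
    apply Units.ext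
    exact Matrix.map_injective F₀.subtype.injective (congrArg Units.val h)
  let ψ : Fˣ × GL (Fin n) F₀ →* GL (Fin n) F :=
    MonoidHom.noncommCoprod (GeneralLinearGroup.scalar (Fin n)) (GeneralLinearGroup.map F₀.subtype) (fun a h => by
      apply Units.ext
      exact (Matrix.scalar_commute (a : F) (Commute.all _) _).eq)
  have hψ : ∀ (a : Fˣ) (h : GL (Fin n) F₀) (i j : Fin n),
      ((ψ (a, h)) : Matrix (Fin n) (Fin n) F) i j = (a : F) * ((h : Matrix (Fin n) (Fin n) F₀) i j : F) := by
    intro a h i j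
    show (Matrix.scalar (Fin n) (a : F) * (h : Matrix (Fin n) (Fin n) F₀).map F₀.subtype) i j = _
    simp [Matrix.scalar_apply, Matrix.diagonal_mul]
  have hrange : (ψ.range : Set (GL (Fin n) F)) =
      {g : GL (Fin n) F | ∃ c : F, c ≠ 0 ∧ (g : Matrix (Fin n) (Fin n) F).map σ = c • (g : Matrix (Fin n) (Fin n) F)} := by
    ext g
    simp only [SetLike.mem_coe, MonoidHom.mem_range, Set.mem_setOf_eq]
    constructor
    · rintro ⟨⟨a, h⟩, rfl⟩
      refine ⟨σ a / a, div_ne_zero (by simp) a.ne_zero, ?_⟩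
      ext i j
      simp only [Matrix.map_apply, Matrix.smul_apply, hψ, map_mul, hfix, smul_eq_mul]
      field_simp
    · rintro ⟨c, hc0, hc⟩
      obtain ⟨i₀, j₀, h0⟩ : ∃ i j, (g : Matrix (Fin n) (Fin n) F) i j ≠ 0 := by
        by_contra hcon
        push Not at hcon
        apply g.det_ne_zero
        rw [show (g : Matrix (Fin n) (Fin n) F) = 0 from Matrix.ext hcon]
        have : Nonempty (Fin n) := ⟨⟨0, hn⟩⟩
        exact Matrix.det_zero
      have hσc : ∀ i j, σ ((g : Matrix (Fin n) (Fin n) F) i j) = c * (g : Matrix (Fin n) (Fin n) F) i j :=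
        fun i j => by simpa using congrFun (congrFun hc i) j
      set e := (g : Matrix (Fin n) (Fin n) F) i₀ j₀ with he
      let M : Matrix (Fin n) (Fin n) F₀ := Matrix.of fun i j =>
        ⟨(g : Matrix (Fin n) (Fin n) F) i j / e, hmem _ (by
          rw [map_div₀, hσc, he, hσc]; field_simp)⟩
      have hM : M.map F₀.subtype = e⁻¹ • (g : Matrix (Fin n) (Fin n) F) := by
        ext i j; simp [M, div_eq_inv_mul]
      have hdet : M.det ≠ 0 := by
        intro h
        have h' := congrArg F₀.subtype h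
        rw [RingHom.map_det, RingHom.mapMatrix_apply, hM, map_zero, Matrix.det_smul] at h'
        exact mul_ne_zero (pow_ne_zero _ (inv_ne_zero h0)) g.det_ne_zero h'
      refine ⟨(Units.mk0 e h0, GeneralLinearGroup.mkOfDetNeZero M hdet), Units.ext ?_⟩
      ext i j
      rw [hψ]
      simp [M, mul_div_cancel₀ _ h0]
  have hker : Nat.card ψ.ker = q₀ - 1 := by
    rw [← CfsgLib.Classical.card_units_eq hcard]
    symm
    refine Nat.card_congr (Equiv.ofBijective
      (fun b => ⟨((Units.map F₀.subtype.toMonoidHom b)⁻¹, GeneralLinearGroup.scalar (Fin n) b), ?_⟩) ⟨?_, ?_⟩)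
    · rw [MonoidHom.mem_ker]
      apply Units.ext
      ext i j
      rw [hψ]
      by_cases h : i = j <;> simp [h]
    · intro b b' h
      have := congrArg (fun z : ψ.ker => z.1.1) h
      have := _root_.inv_injective this
      exact Units.ext (Subtype.ext (congrArg Units.val this))
    · rintro ⟨⟨a, h⟩, hah⟩
      rw [MonoidHom.mem_ker] at hah
      have hent : ∀ i j, (a : F) * ((h : Matrix (Fin n) (Fin n) F₀) i j : F) = if i = j then 1 else 0 := by
        intro i j
        rw [← hψ, hah]
        simp [Matrix.one_apply]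
      let i0 : Fin n := ⟨0, hn⟩
      have h00 := hent i0 i0
      rw [if_pos rfl] at h00
      have hb : (h : Matrix (Fin n) (Fin n) F₀) i0 i0 ≠ 0 := by
        intro hz; rw [hz] at h00; simp at h00
      refine ⟨Units.mk0 _ hb, Subtype.ext (Prod.ext ?_ ?_)⟩
      · exact inv_eq_of_mul_eq_one_left (Units.ext (by simpa using h00))
      · apply Units.ext
        ext i j
        have h2 : (a : F) * (((h : Matrix (Fin n) (Fin n) F₀) i j : F₀) : F) =
            (a : F) * ((if i = j then (h : Matrix (Fin n) (Fin n) F₀) i0 i0 else 0 : F₀) : F) := by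
          rw [hent]
          split_ifs with hij
          · exact h00.symm
          · simp
        simpa [Matrix.diagonal_apply] using congrArg (fun z => z) (Subtype.ext (mul_left_cancel₀ a.ne_zero h2)).symm
  have hcount : Nat.card ψ.ker * Nat.card ψ.range = Nat.card (Fˣ × GL (Fin n) F₀) := by
    rw [← Subgroup.card_mul_index ψ.ker, Subgroup.index_ker]
  have hset : Nat.card ψ.range = Nat.card {g : GL (Fin n) F // ∃ c : F, c ≠ 0 ∧
      (g : Matrix (Fin n) (Fin n) F).map σ = c • (g : Matrix (Fin n) (Fin n) F)} :=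
    Nat.card_congr (Equiv.setCongr hrange)
  rw [hker, hset, Nat.card_prod, CfsgLib.Classical.card_units_eq hF, Matrix.card_GL_field, hcard] at hcount
  have hq2 : 2 ≤ q₀ := hcard ▸ Fintype.one_lt_card
  have hdvd : q₀ - 1 ∣ q₀ ^ r - 1 := by simpa using Nat.sub_dvd_pow_sub_pow q₀ 1 r
  obtain ⟨t, ht⟩ := hdvd
  rw [ht, Nat.mul_div_cancel_left _ (by omega)]
  rw [ht, mul_assoc] at hcount
  exact Nat.eq_of_mul_eq_mul_left (by omega) hcount

end CfsgLib.Classical.FieldAutCent
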