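/-
Counting totally isotropic frames and the stabilisers of totally isotropic subspaces.
-/
import Mathlib

set_option autoImplicit false

namespace CfsgLib.Classical

variable {F : Type*} [Field F] {V V' : Type*} [AddCommGroup V] [Module F V] [AddCommGroup V'] [Module F V']

/-- Linearly independent families spanning totally isotropic subspaces. -/
abbrev IsoFrame (F : Type*) [Field F] {V : Type*} [AddCommGroup V] [Module F V] (B : V → V → F) (k : ℕ) : Type _ :=
  {f : Fin k → V // LinearIndependent F f ∧ ∀ i j, B (f i) (f j) = 0}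

theorem card_isoFrame_zero (B : V → V → F) : Nat.card (IsoFrame F B 0) = 1 := by
  rw [Nat.card_eq_one_iff_unique]
  exact ⟨⟨fun a b => Subtype.ext (Subsingleton.elim _ _)⟩,
    ⟨⟨Fin.elim0, linearIndependent_empty_type, fun i => i.elim0⟩⟩⟩

theorem card_isoFrame_succ [Finite F] [Finite V] [Finite V'] (B : V → V → F) (B' : V' → V' → F)
    (hflip : ∀ x y, B x y = 0 → B y x = 0)
    (hperp : ∀ v : V, v ≠ 0 → B v v = 0 → ∃ E : (F × V') →ₗ[F] V, Function.Injective E ∧ E (1, 0) = v ∧
      (∀ x, B x v = 0 ↔ x ∈ LinearMap.range E) ∧ ∀ a b, B (E a) (E b) = B' a.2 b.2)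
    (k : ℕ) :
    Nat.card (IsoFrame F B (k + 1)) =
      Nat.card {v : V // v ≠ 0 ∧ B v v = 0} * (Nat.card F ^ k * Nat.card (IsoFrame F B' k)) := by
  classical
  choose E hinj hE1 hran hEB using fun v : {v : V // v ≠ 0 ∧ B v v = 0} => hperp v.1 v.2.1 v.2.2
  have hsum : ∀ (v : {v : V // v ≠ 0 ∧ B v v = 0}) (c : Fin (k + 1) → F) (p : Fin k → F × V'),
      ∑ i, c i • (Fin.cons v.1 (fun j => E v (p j)) : Fin (k + 1) → V) i =
        E v (c 0 + ∑ j, c j.succ * (p j).1, ∑ j, c j.succ • (p j).2) := by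
    intro v c p
    rw [Fin.sum_univ_succ]
    simp only [Fin.cons_zero, Fin.cons_succ]
    rw [← hE1 v, ← map_smul, Finset.sum_congr rfl fun j _ => (map_smul (E v) (c j.succ) (p j)).symm,
      ← map_sum, ← map_add]
    congr 1
    refine Prod.ext ?_ ?_
    · rw [Prod.fst_add, Prod.fst_sum]
      simp
    · rw [Prod.snd_add, Prod.snd_sum]
      simp
  let fwd : (Σ _ : {v : V // v ≠ 0 ∧ B v v = 0}, (Fin k → F) × IsoFrame F B' k) → IsoFrame F B (k + 1) :=
    fun s => ⟨Fin.cons s.1.1 (fun j => E s.1 (s.2.1 j, s.2.2.1 j)), by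
      refine ⟨Fintype.linearIndependent_iff.2 fun c hc => ?_, ?_⟩
      · rw [hsum] at hc
        have h0 := (map_eq_zero_iff _ (hinj s.1)).1 hc
        have h2 := Fintype.linearIndependent_iff.1 s.2.2.2.1 (fun j => c j.succ) (congrArg Prod.snd h0)
        have h1 : c 0 + ∑ j, c j.succ * s.2.1 j = 0 := congrArg Prod.fst h0
        simp only [h2, zero_mul, Finset.sum_const_zero, add_zero] at h1
        exact fun i => Fin.cases h1 h2 i
      · intro i j
        refine Fin.cases ?_ (fun i => ?_) i <;> refine Fin.cases ?_ (fun j => ?_) j <;>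
          simp only [Fin.cons_zero, Fin.cons_succ]
        · exact s.1.2.2
        · exact hflip _ _ ((hran s.1 _).2 ⟨_, rfl⟩)
        · exact (hran s.1 _).2 ⟨_, rfl⟩
        · rw [hEB]
          exact s.2.2.2.2 i j⟩
  have hbij : Function.Bijective fwd := by
    refine ⟨?_, fun f => ?_⟩
    · rintro ⟨v, a, g⟩ ⟨v', a', g'⟩ h
      have hf : (Fin.cons v.1 (fun j => E v (a j, g.1 j)) : Fin (k + 1) → V) =
          Fin.cons v'.1 (fun j => E v' (a' j, g'.1 j)) := congrArg Subtype.val h
      obtain ⟨e0, e1⟩ := Fin.cons_inj.1 hf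
      obtain rfl : v = v' := Subtype.ext e0
      have e2 : ∀ j, (a j, g.1 j) = (a' j, g'.1 j) := fun j => hinj v (congrFun e1 j)
      obtain rfl : a = a' := funext fun j => congrArg Prod.fst (e2 j)
      obtain rfl : g = g' := Subtype.ext (funext fun j => congrArg Prod.snd (e2 j))
      rfl
    · let v : {v : V // v ≠ 0 ∧ B v v = 0} := ⟨f.1 0, f.2.1.ne_zero 0, f.2.2 0 0⟩
      choose p hp using fun j : Fin k => LinearMap.mem_range.1 ((hran v _).1 (f.2.2 j.succ 0))
      have hf : (Fin.cons v.1 (fun j => E v (p j)) : Fin (k + 1) → V) = f.1 := by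
        funext i
        refine Fin.cases ?_ (fun j => ?_) i
        · rfl
        · rw [Fin.cons_succ, hp]
      refine ⟨⟨v, fun j => (p j).1, ⟨fun j => (p j).2, Fintype.linearIndependent_iff.2 fun c hc => ?_, fun i j => ?_⟩⟩, ?_⟩
      · have h1 := hsum v (Fin.cons (-∑ j, c j * (p j).1) c) p
        simp only [Fin.cons_zero, Fin.cons_succ, neg_add_cancel, hc, hf] at h1
        rw [show ((0 : F), (0 : V')) = 0 from rfl, map_zero] at h1
        have := Fintype.linearIndependent_iff.1 f.2.1 _ h1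
        exact fun j => by simpa using this j.succ
      · have h1 := f.2.2 i.succ j.succ
        rw [← hp i, ← hp j, hEB] at h1
        exact h1
      · exact Subtype.ext hf
  haveI : Finite (IsoFrame F B' k) := inferInstance
  haveI : Fintype {v : V // v ≠ 0 ∧ B v v = 0} := Fintype.ofFinite _
  rw [← Nat.card_eq_of_bijective fwd hbij, Nat.card_sigma, Finset.sum_const, Finset.card_univ, smul_eq_mul,
    ← Nat.card_eq_fintype_card, Nat.card_prod, Nat.card_fun, Nat.card_fin]

section Orbit

variable {G X : Type*} [Group G]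

/-- Fibres of an orbit map. -/
theorem card_orbit_fibre (a : G → X) (P : Subgroup G) (hP : ∀ g h, a g = a h ↔ g⁻¹ * h ∈ P) (Y : Set X)
    (hY : ∀ y ∈ Y, ∃ g, a g = y) :
    Nat.card {g : G // a g ∈ Y} = Nat.card Y * Nat.card P := by
  rw [← Nat.card_prod]
  choose s hs using hY
  refine Nat.card_congr
    { toFun := fun g => (⟨a g.1, g.2⟩, ⟨(s _ g.2)⁻¹ * g.1, (hP _ _).1 (hs _ g.2)⟩)
      invFun := fun p => ⟨s p.1.1 p.1.2 * p.2.1, ?_⟩
      left_inv := fun g => Subtype.ext (by simp)
      right_inv := fun p => ?_ }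
  · have h : a (s p.1.1 p.1.2) = a (s p.1.1 p.1.2 * p.2.1) :=
      (hP _ _).2 (by rw [inv_mul_cancel_left]; exact p.2.2)
    rw [← h, hs]
    exact p.1.2
  · obtain ⟨⟨y, hy⟩, ⟨t, ht⟩⟩ := p
    have h : a (s y hy * t) = y := by
      rw [← (hP (s y hy) (s y hy * t)).2 (by rw [inv_mul_cancel_left]; exact ht), hs]
    refine Prod.ext (Subtype.ext h) (Subtype.ext ?_)
    simp only [h, inv_mul_cancel_left]

/-- A subgroup cut out by an orbit map. -/
theorem card_mul_card_of_orbit (a : G → X) (P : Subgroup G) (hP : ∀ g h, a g = a h ↔ g⁻¹ * h ∈ P)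
    (hsurj : Function.Surjective a) (S : Subgroup G) (Y : Set X) (hS : ∀ g, g ∈ S ↔ a g ∈ Y) :
    Nat.card S * Nat.card X = Nat.card G * Nat.card Y := by
  have h1 : Nat.card S = Nat.card Y * Nat.card P := by
    rw [← card_orbit_fibre a P hP Y fun y _ => hsurj y]
    exact Nat.card_congr (Equiv.subtypeEquivRight hS)
  have h2 : Nat.card G = Nat.card X * Nat.card P := by
    have := card_orbit_fibre a P hP Set.univ fun y _ => hsurj y
    rwa [Nat.card_congr (Equiv.subtypeUnivEquiv fun g => Set.mem_univ (a g)), Nat.card_univ] at this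
  rw [h1, h2]
  ring

end Orbit

section Frames

variable {W : Submodule F V}

/-- Frames of a totally isotropic subspace. -/
theorem card_frames_in [Fintype F] [Finite V] (B : V → V → F) (hW : ∀ u ∈ W, ∀ v ∈ W, B u v = 0) {k : ℕ}
    (hk : Module.finrank F W = k) :
    Nat.card {f : IsoFrame F B k | ∀ i, f.1 i ∈ W} =
      ∏ i : Fin k, (Fintype.card F ^ k - Fintype.card F ^ (i : ℕ)) := by
  haveI : Module.Finite F W := Module.Finite.of_finite
  have e := card_linearIndependent (K := F) (V := W) (k := k) (by omega)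
  rw [hk] at e
  rw [← e]
  refine Nat.card_congr
    { toFun := fun f => ⟨fun i => ⟨f.1.1 i, f.2 i⟩, LinearIndependent.of_comp W.subtype f.1.2.1⟩
      invFun := fun s => ⟨⟨fun i => (s.1 i : V), s.2.map' W.subtype W.ker_subtype,
        fun i j => hW _ (s.1 i).2 _ (s.1 j).2⟩, fun i => (s.1 i).2⟩
      left_inv := fun f => Subtype.ext (Subtype.ext rfl)
      right_inv := fun s => Subtype.ext rfl }

end Frames

end CfsgLib.Classical
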