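/-
Zorn's algebra as a doubled matrix algebra and the automorphisms fixing the quaternion subalgebra.
-/
import Mathlib
import Cfsg.Prelude.Def_G2

set_option autoImplicit false

namespace CfsgLib.Classical.ZornCD

open Matrix Cfsg.Lie

variable {F : Type*} [Field F]

local notation "M₂" => Matrix (Fin 2) (Fin 2) F

/-- The standard symplectic matrix. -/
def jmat : Matrix (Fin 2) (Fin 2) F := !![0, 1; -1, 0]

/-- The product on pairs of matrices. -/
def cdMul (p p' : M₂ × M₂) : M₂ × M₂ :=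
  (p.1 * p'.1 + jmat * p'.2 * jmat * p.2ᵀ, p.1ᵀ * p'.2 + adjugate p'.1ᵀ * p.2)

/-- The coordinates of a pair. -/
def cdEquiv : (M₂ × M₂) ≃ₗ[F] (Fin 8 → F) where
  toFun p := ![p.1 0 0, p.1 0 1, p.2 0 0, p.2 0 1, p.1 1 0, -p.2 1 1, p.2 1 0, p.1 1 1]
  map_add' p p' := by funext i; fin_cases i <;> simp [add_comm]
  map_smul' c p := by funext i; fin_cases i <;> simp
  invFun z := (!![z 0, z 1; z 4, z 7], !![z 2, z 3; z 6, -z 5])
  left_inv p := by
    refine Prod.ext ?_ ?_ <;> ext k l <;> fin_cases k <;> fin_cases l <;> simp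
  right_inv z := by funext i; fin_cases i <;> simp

theorem zornMul_cdEquiv (p p' : M₂ × M₂) : zornMul (cdEquiv p) (cdEquiv p') = cdEquiv (cdMul p p') := by
  funext i
  fin_cases i <;>
    simp [zornMul, cdEquiv, cdMul, jmat, dot3, cross3, Matrix.mul_apply, Fin.sum_univ_two, adjugate_fin_two,
      Matrix.vecHead, Matrix.vecTail, Matrix.vecMul, dotProduct] <;> ring

theorem jmat_mul_self : (jmat : M₂) * jmat = -1 := by
  ext k l; fin_cases k <;> fin_cases l <;> simp [jmat, Matrix.mul_apply, Fin.sum_univ_two]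

theorem mul_jmat_transpose (b : M₂) : bᵀ * jmat * b = b.det • jmat := by
  ext k l; fin_cases k <;> fin_cases l <;>
    simp [jmat, Matrix.mul_apply, Fin.sum_univ_two, Matrix.det_fin_two] <;> ring

theorem jmat_mul_transpose (a : M₂) : jmat * adjugate aᵀ = a * jmat := by
  ext k l; fin_cases k <;> fin_cases l <;>
    simp [jmat, Matrix.mul_apply, Fin.sum_univ_two, adjugate_fin_two]

/-- The linear map attached to a pair of matrices. -/
def actLin (a b : M₂) : (M₂ × M₂) →ₗ[F] (M₂ × M₂) where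
  toFun p := (a.det⁻¹ • (a * p.1 * adjugate a), a.det⁻¹ • (adjugate aᵀ * p.2 * bᵀ))
  map_add' p p' := by simp [Matrix.mul_add, Matrix.add_mul, smul_add]
  map_smul' c p := by simp [smul_comm c]

theorem actLin_one : actLin (1 : M₂) 1 = LinearMap.id := LinearMap.ext fun p => by simp [actLin]

theorem actLin_comp (a b a' b' : M₂) : (actLin a b).comp (actLin a' b') = actLin (a * a') (b * b') :=
  LinearMap.ext fun p => by
    simp only [actLin, LinearMap.comp_apply, LinearMap.coe_mk, AddHom.coe_mk, Matrix.det_mul, adjugate_mul_distrib,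
      transpose_mul, mul_smul_comm, smul_mul_assoc, smul_smul, mul_inv, Matrix.mul_assoc]

theorem cdMul_actLin {a b : M₂} (ha : a.det ≠ 0) (hab : b.det = a.det) (p p' : M₂ × M₂) :
    actLin a b (cdMul p p') = cdMul (actLin a b p) (actLin a b p') := by
  have e1 : adjugate a * a = a.det • 1 := adjugate_mul a
  have e2 : aᵀ.det = a.det := det_transpose a
  have e3 : adjugate (adjugate a) = a := by ext k l; fin_cases k <;> fin_cases l <;> simp [adjugate_fin_two]
  have e4 : ∀ z : M₂, z * jmat * (jmat : M₂) = -z := fun z => by rw [Matrix.mul_assoc, jmat_mul_self, Matrix.mul_neg, Matrix.mul_one]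
  refine Prod.ext ?_ ?_
  · have h1 : (a * p.1 * adjugate a) * (a * p'.1 * adjugate a) = a.det • (a * (p.1 * p'.1) * adjugate a) := by
      rw [Matrix.mul_assoc (a * p.1), ← Matrix.mul_assoc (adjugate a), ← Matrix.mul_assoc (adjugate a), e1]
      simp [Matrix.mul_assoc]
    have h2 : jmat * (adjugate aᵀ * p'.2 * bᵀ) * jmat * (adjugate aᵀ * p.2 * bᵀ)ᵀ =
        a.det • (a * (jmat * p'.2 * jmat * p.2ᵀ) * adjugate a) := by
      have hb := mul_jmat_transpose b
      calc jmat * (adjugate aᵀ * p'.2 * bᵀ) * jmat * (adjugate aᵀ * p.2 * bᵀ)ᵀ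
          = (jmat * adjugate aᵀ) * p'.2 * (bᵀ * jmat * b) * p.2ᵀ * (adjugate aᵀ)ᵀ := by
            simp [Matrix.mul_assoc, transpose_mul]
        _ = a.det • (a * (jmat * p'.2 * jmat * p.2ᵀ) * adjugate a) := by
            rw [jmat_mul_transpose, hb, hab, adjugate_transpose, transpose_transpose]
            simp [Matrix.mul_assoc]
    show a.det⁻¹ • (a * (p.1 * p'.1 + jmat * p'.2 * jmat * p.2ᵀ) * adjugate a) =
      (a.det⁻¹ • (a * p.1 * adjugate a)) * (a.det⁻¹ • (a * p'.1 * adjugate a)) +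
        jmat * (a.det⁻¹ • (adjugate aᵀ * p'.2 * bᵀ)) * jmat * (a.det⁻¹ • (adjugate aᵀ * p.2 * bᵀ))ᵀ
    simp only [transpose_smul, smul_mul_assoc, mul_smul_comm, h1, h2, smul_smul, Matrix.mul_add, Matrix.add_mul, smul_add]
    rw [mul_assoc, inv_mul_cancel₀ ha, mul_one]
  · have h1 : (a * p.1 * adjugate a)ᵀ * (adjugate aᵀ * p'.2 * bᵀ) = a.det • (adjugate aᵀ * (p.1ᵀ * p'.2) * bᵀ) := by
      calc (a * p.1 * adjugate a)ᵀ * (adjugate aᵀ * p'.2 * bᵀ)
          = adjugate aᵀ * p.1ᵀ * (aᵀ * adjugate aᵀ) * p'.2 * bᵀ := by simp [Matrix.mul_assoc, transpose_mul, adjugate_transpose]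
        _ = _ := by rw [mul_adjugate, e2]; simp [Matrix.mul_assoc]
    have h2 : adjugate (a * p'.1 * adjugate a)ᵀ * (adjugate aᵀ * p.2 * bᵀ) = a.det • (adjugate aᵀ * (adjugate p'.1ᵀ * p.2) * bᵀ) := by
      calc adjugate (a * p'.1 * adjugate a)ᵀ * (adjugate aᵀ * p.2 * bᵀ)
          = adjugate aᵀ * adjugate p'.1ᵀ * (aᵀ * adjugate aᵀ) * p.2 * bᵀ := by
            rw [transpose_mul, transpose_mul, adjugate_mul_distrib, adjugate_mul_distrib, ← adjugate_transpose (adjugate a), e3]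
            simp [Matrix.mul_assoc]
        _ = _ := by rw [mul_adjugate, e2]; simp [Matrix.mul_assoc]
    show a.det⁻¹ • (adjugate aᵀ * (p.1ᵀ * p'.2 + adjugate p'.1ᵀ * p.2) * bᵀ) =
      (a.det⁻¹ • (a * p.1 * adjugate a))ᵀ * (a.det⁻¹ • (adjugate aᵀ * p'.2 * bᵀ)) +
        adjugate (a.det⁻¹ • (a * p'.1 * adjugate a))ᵀ * (a.det⁻¹ • (adjugate aᵀ * p.2 * bᵀ))
    rw [transpose_smul, transpose_smul, adjugate_smul, Fintype.card_fin, show 2 - 1 = 1 from rfl, pow_one]
    simp only [smul_mul_assoc, mul_smul_comm, h1, h2, smul_smul, Matrix.mul_add, Matrix.add_mul, smul_add]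
    rw [mul_assoc, inv_mul_cancel₀ ha, mul_one]

/-- Pairs of invertible matrices of equal determinant. -/
def detPairs (F : Type*) [Field F] : Subgroup (GL (Fin 2) F × GL (Fin 2) F) where
  carrier := {g | (g.2 : Matrix (Fin 2) (Fin 2) F).det = (g.1 : Matrix (Fin 2) (Fin 2) F).det}
  mul_mem' {g h} hg hh := by
    show (((g * h).2 : GL (Fin 2) F) : Matrix (Fin 2) (Fin 2) F).det = (((g * h).1 : GL (Fin 2) F) : Matrix (Fin 2) (Fin 2) F).det
    rw [Prod.snd_mul, Prod.fst_mul, Units.val_mul, Units.val_mul, det_mul, det_mul, hg, hh]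
  one_mem' := rfl
  inv_mem' {g} hg := by
    show ((g.2⁻¹ : GL (Fin 2) F) : Matrix (Fin 2) (Fin 2) F).det = ((g.1⁻¹ : GL (Fin 2) F) : Matrix (Fin 2) (Fin 2) F).det
    rw [coe_units_inv, coe_units_inv, det_nonsing_inv, det_nonsing_inv, hg]

/-- The endomorphism of the coordinate space attached to a pair. -/
noncomputable def actEnd : ↥(detPairs F) →* Matrix (Fin 8) (Fin 8) F where
  toFun g := LinearMap.toMatrixAlgEquiv' ((cdEquiv (F := F)).conj (actLin (g.1.1 : M₂) (g.1.2 : M₂)))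
  map_one' := by
    simp [actLin_one, LinearEquiv.conj_id]
  map_mul' g h := by
    rw [← map_mul]
    congr 1
    rw [Module.End.mul_eq_comp, ← LinearEquiv.conj_comp, actLin_comp]
    rfl

/-- The action on Zorn's algebra. -/
noncomputable def actG2 : ↥(detPairs F) →* ↥(Cfsg.Lie.G2 F) :=
  (actEnd (F := F)).toHomUnits.codRestrict _ fun g x y => by
    obtain ⟨p, rfl⟩ := (cdEquiv (F := F)).surjective x
    obtain ⟨p', rfl⟩ := (cdEquiv (F := F)).surjective y
    have h : ∀ p, (actEnd g : Matrix (Fin 8) (Fin 8) F) *ᵥ cdEquiv p = cdEquiv (actLin (g.1.1 : M₂) (g.1.2 : M₂) p) := fun p => by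
      show LinearMap.toMatrix' ((cdEquiv (F := F)).conj (actLin (g.1.1 : M₂) (g.1.2 : M₂))) *ᵥ _ = _
      rw [LinearMap.toMatrix'_mulVec, LinearEquiv.conj_apply]
      simp
    show actEnd g *ᵥ zornMul _ _ = zornMul (actEnd g *ᵥ _) (actEnd g *ᵥ _)
    rw [zornMul_cdEquiv, h, h, h, zornMul_cdEquiv, cdMul_actLin (Matrix.GeneralLinearGroup.det_ne_zero _) g.2]

theorem actG2_apply (g : detPairs F) (p : M₂ × M₂) :
    ((actG2 g : GL (Fin 8) F) : Matrix (Fin 8) (Fin 8) F) *ᵥ cdEquiv p = cdEquiv (actLin (g.1.1 : M₂) (g.1.2 : M₂) p) := by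
  show LinearMap.toMatrix' ((cdEquiv (F := F)).conj (actLin (g.1.1 : M₂) (g.1.2 : M₂))) *ᵥ _ = _
  rw [LinearMap.toMatrix'_mulVec, LinearEquiv.conj_apply]
  simp

theorem g2_ext {g h : Cfsg.Lie.G2 F}
    (H : ∀ p : M₂ × M₂, ((g : GL (Fin 8) F) : Matrix (Fin 8) (Fin 8) F) *ᵥ cdEquiv p =
      ((h : GL (Fin 8) F) : Matrix (Fin 8) (Fin 8) F) *ᵥ cdEquiv p) : g = h :=
  Subtype.ext (Units.ext (Matrix.ext_of_mulVec_single fun i => by
    obtain ⟨p, hp⟩ := (cdEquiv (F := F)).surjective (Pi.single i 1)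
    rw [← hp]; exact H p))

theorem scalar_of_commute {a : M₂} (h : ∀ x, a * x = x * a) : a = a 0 0 • 1 := by
  have h01 := h !![0, 1; 0, 0]
  have e1 := congrFun (congrFun h01 0) 0
  have e2 := congrFun (congrFun h01 0) 1
  have h10 := h !![0, 0; 1, 0]
  have e3 := congrFun (congrFun h10 0) 0
  simp [Matrix.mul_apply, Fin.sum_univ_two] at e1 e2 e3
  ext k l
  fin_cases k <;> fin_cases l <;> simp [← e1, e2, e3]

theorem mem_ker_actG2 {g : detPairs F} (hg : actG2 g = 1) :
    ∃ c : F, (g.1.1 : M₂) = c • 1 ∧ (g.1.2 : M₂) = c • 1 := by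
  have hne : (g.1.1 : M₂).det ≠ 0 := Matrix.GeneralLinearGroup.det_ne_zero _
  have h : ∀ p : M₂ × M₂, actLin (g.1.1 : M₂) (g.1.2 : M₂) p = p := fun p => by
    refine (cdEquiv (F := F)).injective ?_
    rw [← actG2_apply, hg]
    exact Matrix.one_mulVec _
  have ha : ∀ x : M₂, (g.1.1 : M₂) * x = x * (g.1.1 : M₂) := fun x => by
    have h1 := congrArg Prod.fst (h (x, 0))
    simp only [actLin, LinearMap.coe_mk, AddHom.coe_mk] at h1
    have h2 := congrArg (fun y => y * (g.1.1 : M₂)) h1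
    rw [smul_mul_assoc, Matrix.mul_assoc, adjugate_mul, mul_smul_comm, Matrix.mul_one, smul_smul, inv_mul_cancel₀ hne, one_smul] at h2
    exact h2
  have hs := scalar_of_commute ha
  obtain ⟨c, hc⟩ : ∃ c, c = (g.1.1 : M₂) 0 0 := ⟨_, rfl⟩
  rw [← hc] at hs
  have hc0 : c ≠ 0 := fun e => hne (by rw [hs, e, zero_smul]; simp)
  refine ⟨c, hs, ?_⟩
  have h2 := congrArg Prod.snd (h (0, 1))
  simp only [actLin, LinearMap.coe_mk, AddHom.coe_mk] at h2
  rw [hs, det_smul, det_one, transpose_smul, transpose_one, adjugate_smul, adjugate_one, Fintype.card_fin,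
    show 2 - 1 = 1 from rfl, pow_one, smul_mul_assoc, Matrix.one_mul, smul_mul_assoc, smul_smul, Matrix.one_mul] at h2
  have h3 := congrArg Matrix.transpose h2
  rw [transpose_smul, transpose_transpose, transpose_one] at h3
  have e : (c ^ 2 * 1)⁻¹ * c * c = 1 := by field_simp
  calc (g.1.2 : M₂) = (((c ^ 2 * 1)⁻¹ * c) * c) • (g.1.2 : M₂) := by rw [e, one_smul]
    _ = c • (((c ^ 2 * 1)⁻¹ * c) • (g.1.2 : M₂)) := by rw [smul_smul, mul_comm]
    _ = c • 1 := by rw [h3]

/-- The involution attached to `(1, -1)`. -/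
def negSecond (F : Type*) [Field F] : ↥(detPairs F) :=
  ⟨(1, -1), by show ((-1 : GL (Fin 2) F) : Matrix (Fin 2) (Fin 2) F).det = _; simp [Matrix.det_neg]⟩

theorem negSecond_act (p : M₂ × M₂) :
    ((actG2 (negSecond F) : GL (Fin 8) F) : Matrix (Fin 8) (Fin 8) F) *ᵥ cdEquiv p = cdEquiv (p.1, -p.2) := by
  rw [actG2_apply]
  simp [negSecond, actLin]

/-- The centraliser of the involution. -/
theorem centralizer_negSecond (h2 : (2 : F) ≠ 0) (g : Cfsg.Lie.G2 F)
    (hg : g * actG2 (negSecond F) = actG2 (negSecond F) * g) : g ∈ (actG2 (F := F)).range := by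
  classical
  let G := ((g : GL (Fin 8) F) : Matrix (Fin 8) (Fin 8) F)
  let L : (M₂ × M₂) →ₗ[F] (M₂ × M₂) := (cdEquiv (F := F)).symm.toLinearMap ∘ₗ Matrix.toLin' G ∘ₗ (cdEquiv (F := F)).toLinearMap
  have hL : ∀ p, cdEquiv (L p) = G *ᵥ cdEquiv p := fun p => by simp [L]
  have hLm : ∀ p p', L (cdMul p p') = cdMul (L p) (L p') := fun p p' => by
    apply (cdEquiv (F := F)).injective
    rw [hL, ← zornMul_cdEquiv, ← zornMul_cdEquiv, hL, hL]
    exact g.2 _ _
  have hLt : ∀ p, L (p.1, -p.2) = ((L p).1, -(L p).2) := fun p => by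
    apply (cdEquiv (F := F)).injective
    rw [hL, ← negSecond_act, ← negSecond_act, hL, mulVec_mulVec, mulVec_mulVec]
    congr 1
    exact congrArg (fun k : Cfsg.Lie.G2 F => ((k : GL (Fin 8) F) : Matrix (Fin 8) (Fin 8) F)) hg
  have hhalf : ∀ v : M₂, v = -v → v = 0 := fun v h => by
    have : (2 : F) • v = 0 := by rw [two_smul]; nth_rewrite 1 [h]; exact neg_add_cancel v
    exact (smul_eq_zero.1 this).resolve_left h2
  have hA : ∀ x, (L (x, 0)).2 = 0 := fun x => hhalf _ (by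
    have := congrArg Prod.snd (hLt (x, 0))
    simpa using this)
  have hB : ∀ Y, (L (0, Y)).1 = 0 := fun Y => hhalf _ (by
    have := congrArg Prod.fst (hLt (0, Y))
    rw [show ((0 : M₂), -Y) = -((0 : M₂), Y) by simp, map_neg] at this
    simpa using this.symm)
  let φ : M₂ →ₗ[F] M₂ := LinearMap.fst F M₂ M₂ ∘ₗ L ∘ₗ LinearMap.inl F M₂ M₂
  let ψ : M₂ →ₗ[F] M₂ := LinearMap.snd F M₂ M₂ ∘ₗ L ∘ₗ LinearMap.inr F M₂ M₂
  have hφ : ∀ x, L (x, 0) = (φ x, 0) := fun x => Prod.ext rfl (hA x)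
  have hψ : ∀ Y, L (0, Y) = (0, ψ Y) := fun Y => Prod.ext (hB Y) rfl
  have hφm : ∀ x y, φ (x * y) = φ x * φ y := fun x y => by
    have := congrArg Prod.fst (hLm (x, 0) (y, 0))
    simpa [hφ, cdMul] using this
  have hLinj : Function.Injective L := fun p p' h => (cdEquiv (F := F)).injective
    ((Matrix.mulVec_injective_iff_isUnit.2 (g : GL (Fin 8) F).isUnit) (by rw [← hL, ← hL, h]))
  have hφinj : Function.Injective φ := fun x y h => (Prod.mk.injEq _ _ _ _ ▸ hLinj (by rw [hφ, hφ, h]) : x = y ∧ (0 : M₂) = 0).1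
  -- the automorphism of the matrix algebra is inner
  obtain ⟨v, hv⟩ : ∃ v : Fin 2 → F, φ (single 0 0 1) *ᵥ v ≠ 0 := by
    by_contra hc
    push Not at hc
    have : φ (single 0 0 1) = φ 0 := by
      rw [map_zero]; exact Matrix.ext_of_mulVec_single fun i => by rw [hc, zero_mulVec]
    exact one_ne_zero (congrFun (congrFun (hφinj this) 0) 0 |>.symm.trans (by simp) |>.symm)
  let a : M₂ := Matrix.of fun k m => (φ (single m 0 1) *ᵥ v) k
  have ha : ∀ x, φ x * a = a * x := by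
    intro x
    ext k m
    have h1 : x * single m 0 1 = ∑ l, x l m • single l 0 (1 : F) := by
      ext k l; fin_cases k <;> fin_cases l <;> fin_cases m <;> simp [Matrix.mul_apply, Fin.sum_univ_two, Matrix.single_apply]
    calc (φ x * a) k m = (φ x *ᵥ (φ (single m 0 1) *ᵥ v)) k := rfl
      _ = (∑ l, x l m • (φ (single l 0 1) *ᵥ v)) k := by
        rw [mulVec_mulVec, ← hφm, h1, map_sum, Matrix.sum_mulVec]
        simp only [map_smul, smul_mulVec]
      _ = (a * x) k m := by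
        rw [Finset.sum_apply, Matrix.mul_apply]
        exact Finset.sum_congr rfl fun l _ => mul_comm _ _
  have hadet : a.det ≠ 0 := by
    intro h0
    obtain ⟨y, hy, hay⟩ := Matrix.exists_mulVec_eq_zero_iff.2 h0
    obtain ⟨j, hj⟩ : ∃ j, y j ≠ 0 := Function.ne_iff.1 hy
    have h1 : a *ᵥ (single (0 : Fin 2) j (y j)⁻¹ *ᵥ y) = 0 := by
      rw [mulVec_mulVec, ← ha, ← mulVec_mulVec, hay, mulVec_zero]
    have h3 : single (0 : Fin 2) j (y j)⁻¹ *ᵥ y = Pi.single (0 : Fin 2) 1 := by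
      funext k
      fin_cases k <;> simp [Matrix.mulVec, dotProduct, Matrix.single_apply, hj]
    rw [h3, Matrix.mulVec_single_one] at h1
    exact hv h1
  -- the rest fixes the subalgebra
  let ga : GL (Fin 2) F := GeneralLinearGroup.mkOfDetNeZero a hadet
  let d : M₂ := !![1, 0; 0, a.det]
  have hd : d.det = a.det := by simp [d, det_fin_two]
  let gd : GL (Fin 2) F := GeneralLinearGroup.mkOfDetNeZero d (hd.symm ▸ hadet)
  let e : detPairs F := ⟨(ga, gd), hd⟩
  obtain ⟨M, hM⟩ : ∃ M : M₂, ∀ Y, ψ Y = adjugate aᵀ * Y * M := by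
    refine ⟨a.det⁻¹ • (aᵀ * ψ 1), fun Y => ?_⟩
    have h1 : ψ Y = (φ Yᵀ)ᵀ * ψ 1 := by
      have := congrArg Prod.snd (hLm (Yᵀ, 0) (0, 1))
      simpa [hφ, hψ, cdMul, Matrix.adjugate_zero] using this
    have h2 : (φ Yᵀ)ᵀ = a.det⁻¹ • (adjugate aᵀ * Y * aᵀ) := by
      have h3 : φ Yᵀ = a.det⁻¹ • (a * Yᵀ * adjugate a) := by
        rw [← ha, Matrix.mul_assoc, mul_adjugate, mul_smul_comm, Matrix.mul_one, smul_smul, inv_mul_cancel₀ hadet, one_smul]
      rw [h3, transpose_smul, transpose_mul, transpose_mul, transpose_transpose, adjugate_transpose, Matrix.mul_assoc]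
    rw [h1, h2, smul_mul_assoc, mul_smul_comm, Matrix.mul_assoc (adjugate aᵀ * Y)]
  let b : M₂ := a.det • Mᵀ
  have hb : b.det = a.det := by
    have h1 := congrArg Prod.fst (hLm (0, 1) (0, 1))
    have hc : cdMul ((0 : M₂), (1 : M₂)) (0, 1) = (-1, 0) := by simp [cdMul, jmat_mul_self, Matrix.adjugate_zero]
    rw [hc, hψ, hφ] at h1
    have h2 : φ (-1) * a = -a := by rw [ha, Matrix.mul_neg, Matrix.mul_one]
    simp only [cdMul, zero_mul, zero_add, hM, Matrix.mul_one] at h1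
    have h3 : jmat * (adjugate aᵀ * M) * jmat * (adjugate aᵀ * M)ᵀ * a = (a.det * M.det) • -a := by
      have hj : M * jmat * Mᵀ = M.det • jmat := by
        have := mul_jmat_transpose Mᵀ
        rwa [transpose_transpose, det_transpose] at this
      calc jmat * (adjugate aᵀ * M) * jmat * (adjugate aᵀ * M)ᵀ * a
          = (jmat * adjugate aᵀ) * (M * jmat * Mᵀ) * ((adjugate aᵀ)ᵀ * a) := by simp [Matrix.mul_assoc, transpose_mul]
        _ = _ := by
          rw [jmat_mul_transpose, hj, adjugate_transpose, transpose_transpose, adjugate_mul]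
          simp [Matrix.mul_assoc, jmat_mul_self, smul_smul]
    rw [← h1, h2] at h3
    have hne : a ≠ 0 := fun h => hadet (by rw [h]; simp)
    have h4 : (1 : F) = a.det * M.det := smul_left_injective F (neg_ne_zero.2 hne) (by simpa using h3)
    rw [show b.det = a.det ^ 2 * M.det by simp [b, det_smul], pow_two, mul_assoc, ← h4, mul_one]
  let gb : GL (Fin 2) F := GeneralLinearGroup.mkOfDetNeZero b (hb.symm ▸ hadet)
  refine ⟨⟨(ga, gb), hb⟩, g2_ext fun p => ?_⟩
  rw [actG2_apply]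
  show _ = G *ᵥ cdEquiv p
  rw [← hL]
  congr 1
  show actLin a b p = L p
  rw [show p = (p.1, (0 : M₂)) + ((0 : M₂), p.2) by simp, map_add, map_add, hφ, hψ, hM]
  refine Prod.ext ?_ ?_
  · simp [actLin]
    rw [← ha, Matrix.mul_assoc, mul_adjugate, mul_smul_comm, Matrix.mul_one, smul_smul, inv_mul_cancel₀ hadet, one_smul]
  · simp [actLin, b, transpose_smul, smul_smul, inv_mul_cancel₀ hadet]

end CfsgLib.Classical.ZornCD
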