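/-
Sylow 2-subgroups of the automorphism group of Zorn's algebra in odd characteristic.
-/
import Cfsg.Agent.Lib.Classical.ZornCayley
import Cfsg.Agent.Lib.Classical.SylowTwo.Abstract
import Cfsg.Agent.Lib.Classical.FiniteFieldSq
import Cfsg.Agent.Lib.Solvable.Sylow
import Cfsg.Agent.Lib.Classical.SL2Sylow

set_option autoImplicit false

namespace CfsgLib.Classical.G2Two

open Matrix CfsgLib.Classical.ZornCD

variable {F : Type*} [Field F]

local notation "M₂" => Matrix (Fin 2) (Fin 2) F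

/-- An element of order four of `SL₂` together with an anticommuting one. -/
structure Pair (k w : GL (Fin 2) F) : Prop where
  detk : (k : M₂).det = 1
  detw : (w : M₂).det = 1
  trk : (k : M₂) 1 1 = -(k : M₂) 0 0
  sqk : k * k = -1
  sqw : w * w = -1
  anti : w * k = -k * w
  cent : ∀ g : GL (Fin 2) F, g * k = k * g → ∃ x y : F, (g : M₂) = x • 1 + y • (k : M₂)

variable [Fintype F]

omit [Fintype F] in
theorem conj_centraliser {k w : GL (Fin 2) F} (h : Pair k w) {g : GL (Fin 2) F} (hg : g * k = k * g) :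
    (w : M₂) * g = adjugate (g : M₂) * w := by
  obtain ⟨x, y, hxy⟩ := h.cent g hg
  have ha : adjugate (g : M₂) = x • 1 - y • (k : M₂) := by
    rw [hxy]
    ext a b
    fin_cases a <;> fin_cases b <;> simp [adjugate_fin_two, h.trk] <;> ring
  have hw : (w : M₂) * k = -((k : M₂) * w) := by
    have := congrArg Units.val h.anti
    simpa using this
  rw [ha, hxy, Matrix.mul_add, Matrix.sub_mul, mul_smul_comm, mul_smul_comm, hw, smul_mul_assoc, smul_mul_assoc,
    Matrix.mul_one, Matrix.one_mul, smul_neg, sub_eq_add_neg]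

theorem exists_pair (h2 : (2 : F) ≠ 0) : ∃ k w : GL (Fin 2) F, Pair k w ∧ ∃ o : ℕ, Odd o ∧
    Nat.card (GL (Fin 2) F) = 2 * o * Nat.card {g : GL (Fin 2) F // g * k = k * g} := by
  classical
  have hchar : ringChar F ≠ 2 := fun h => h2 (by
    haveI : CharP F 2 := h ▸ ringChar.charP F
    exact CharTwo.two_eq_zero)
  have hodd : Fintype.card F % 2 = 1 := FiniteField.odd_card_of_char_ne_two hchar
  obtain ⟨q, hq⟩ : ∃ q, q = Fintype.card F := ⟨_, rfl⟩
  obtain ⟨p, f, hp, hpf⟩ := FiniteField.card' F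
  have hGL : Nat.card (GL (Fin 2) F) = (q ^ 2 - 1) * (q ^ 2 - q) := by
    rw [Matrix.card_GL_field, Fin.prod_univ_two, hq]; simp
  by_cases hs : IsSquare (-1 : F)
  · obtain ⟨i, hi⟩ := hs
    have hq4 : q % 4 = 1 := by
      have := (FiniteField.isSquare_neg_one_iff (F := F)).1 ⟨i, hi⟩
      omega
    have hi0 : i ≠ 0 := fun e => by rw [e] at hi; simp at hi
    let k : GL (Fin 2) F := GeneralLinearGroup.mkOfDetNeZero !![i, 0; 0, -i] (by rw [det_fin_two_of]; simp [hi0])
    let w : GL (Fin 2) F := GeneralLinearGroup.mkOfDetNeZero !![0, 1; -1, 0] (by rw [det_fin_two_of]; simp)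
    have hoff : ∀ g : GL (Fin 2) F, g * k = k * g ↔ (g : M₂) 0 1 = 0 ∧ (g : M₂) 1 0 = 0 := fun g => by
      constructor
      · intro hg
        have h01 := congrArg (fun z : GL (Fin 2) F => (z : M₂) 0 1) hg
        have h10 := congrArg (fun z : GL (Fin 2) F => (z : M₂) 1 0) hg
        simp [k, Matrix.mul_apply, Fin.sum_univ_two] at h01 h10
        have hii : (2 : F) * i ≠ 0 := mul_ne_zero h2 hi0
        exact ⟨(mul_eq_zero.1 (show (2 * i) * (g : M₂) 0 1 = 0 by linear_combination -h01)).resolve_left hii,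
          (mul_eq_zero.1 (show (2 * i) * (g : M₂) 1 0 = 0 by linear_combination h10)).resolve_left hii⟩
      · rintro ⟨h01, h10⟩
        apply Units.ext
        ext a b
        fin_cases a <;> fin_cases b <;> simp [k, Matrix.mul_apply, Fin.sum_univ_two, h01, h10, mul_comm]
    refine ⟨k, w, ⟨by simp [k, det_fin_two_of, ← hi], by simp [w, det_fin_two_of], by simp [k], ?_, ?_, ?_, fun g hg => ?_⟩, (q + 1) / 2 * q, ?_, ?_⟩
    · apply Units.ext; ext a b; fin_cases a <;> fin_cases b <;> simp [k, ← hi]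
    · apply Units.ext; ext a b; fin_cases a <;> fin_cases b <;> simp [w]
    · apply Units.ext; ext a b; fin_cases a <;> fin_cases b <;> simp [k, w]
    · obtain ⟨h01, h10⟩ := (hoff g).1 hg
      refine ⟨((g : M₂) 0 0 + (g : M₂) 1 1) / 2, ((g : M₂) 0 0 - (g : M₂) 1 1) / (2 * i), ?_⟩
      ext a b
      fin_cases a <;> fin_cases b <;> simp [k, h01, h10] <;> field_simp <;> ring
    · exact (Nat.odd_iff.2 (by omega : (q + 1) / 2 % 2 = 1)).mul (Nat.odd_iff.2 (hq ▸ hodd))
    · have e : {g : GL (Fin 2) F // g * k = k * g} ≃ Fˣ × Fˣ :=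
        { toFun := fun g => (Units.mk0 ((g.1 : M₂) 0 0) fun e => by
              have := GeneralLinearGroup.det_ne_zero g.1
              rw [det_fin_two, e, ((hoff _).1 g.2).1] at this; simp at this,
            Units.mk0 ((g.1 : M₂) 1 1) fun e => by
              have := GeneralLinearGroup.det_ne_zero g.1
              rw [det_fin_two, e, ((hoff _).1 g.2).1] at this; simp at this)
          invFun := fun p => ⟨GeneralLinearGroup.mkOfDetNeZero !![(p.1 : F), 0; 0, (p.2 : F)]
            (by rw [det_fin_two_of]; simp), (hoff _).2 (by simp)⟩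
          left_inv := fun g => by
            apply Subtype.ext; apply Units.ext; ext a b
            fin_cases a <;> fin_cases b <;> simp [((hoff _).1 g.2).1, ((hoff _).1 g.2).2]
          right_inv := fun p => by ext <;> simp }
      rw [hGL, Nat.card_congr e, Nat.card_prod, Nat.card_units, Nat.card_eq_fintype_card, ← hq]
      obtain ⟨r, rfl⟩ : ∃ r, q = 4 * r + 1 := ⟨q / 4, by omega⟩
      rw [show (4 * r + 1 + 1) / 2 = 2 * r + 1 by omega, show (4 * r + 1) ^ 2 = (4 * r) * (4 * r + 2) + 1 by ring,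
        Nat.add_sub_cancel, show 4 * r * (4 * r + 2) + 1 - (4 * r + 1) = (4 * r) * (4 * r + 1) by
          apply Nat.sub_eq_of_eq_add; ring, Nat.add_sub_cancel]
      ring
  · have hq4 : q % 4 = 3 := by
      by_contra h
      exact hs (FiniteField.isSquare_neg_one_iff.2 (hq ▸ h))
    obtain ⟨a, b, hab⟩ := exists_sq_add_sq h2 (-1 : F)
    let k : GL (Fin 2) F := GeneralLinearGroup.mkOfDetNeZero !![0, -1; 1, 0] (by rw [det_fin_two_of]; simp)
    let w : GL (Fin 2) F := GeneralLinearGroup.mkOfDetNeZero !![a, b; b, -a] (by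
      rw [det_fin_two_of, show a * -a - b * b = 1 by linear_combination -hab]; exact one_ne_zero)
    have hoff : ∀ g : GL (Fin 2) F, g * k = k * g ↔ (g : M₂) 1 1 = (g : M₂) 0 0 ∧ (g : M₂) 0 1 = -(g : M₂) 1 0 := fun g => by
      constructor
      · intro hg
        have h00 := congrArg (fun z : GL (Fin 2) F => (z : M₂) 0 0) hg
        have h10 := congrArg (fun z : GL (Fin 2) F => (z : M₂) 1 0) hg
        simp [k, Matrix.mul_apply, Fin.sum_univ_two] at h00 h10
        exact ⟨h10, h00⟩
      · rintro ⟨h11, h01⟩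
        apply Units.ext
        ext c d
        fin_cases c <;> fin_cases d <;> simp [k, Matrix.mul_apply, Fin.sum_univ_two, h11, h01]
    have hnz : ∀ x y : F, x ^ 2 + y ^ 2 = 0 → x = 0 ∧ y = 0 := fun x y h => by
      have hy : y = 0 := by
        by_contra hy
        exact hs ⟨x / y, by field_simp; linear_combination -h⟩
      subst hy
      exact ⟨by simpa using h, rfl⟩
    refine ⟨k, w, ⟨by simp [k, det_fin_two_of], ?_, by simp [k], ?_, ?_, ?_, fun g hg => ?_⟩, q * ((q - 1) / 2), ?_, ?_⟩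
    · simp [w, det_fin_two_of]; linear_combination -hab
    · apply Units.ext; ext c d; fin_cases c <;> fin_cases d <;> simp [k]
    · apply Units.ext; ext c d; fin_cases c <;> fin_cases d <;> simp [w] <;> first | linear_combination hab | ring
    · apply Units.ext; ext c d; fin_cases c <;> fin_cases d <;> simp [k, w]
    · obtain ⟨h11, h01⟩ := (hoff g).1 hg
      refine ⟨(g : M₂) 0 0, (g : M₂) 1 0, ?_⟩
      ext c d
      fin_cases c <;> fin_cases d <;> simp [k, h11, h01]
    · exact (Nat.odd_iff.2 (hq ▸ hodd)).mul (Nat.odd_iff.2 (by omega : (q - 1) / 2 % 2 = 1))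
    · have e : {g : GL (Fin 2) F // g * k = k * g} ≃ ↥(({0} : Set (F × F))ᶜ) :=
        { toFun := fun g => ⟨((g.1 : M₂) 0 0, (g.1 : M₂) 1 0), fun e => by
              have := GeneralLinearGroup.det_ne_zero g.1
              simp only [Set.mem_singleton_iff, Prod.mk_eq_zero] at e
              rw [det_fin_two, ((hoff _).1 g.2).1, ((hoff _).1 g.2).2, e.1, e.2] at this; simp at this⟩
          invFun := fun p => ⟨GeneralLinearGroup.mkOfDetNeZero !![p.1.1, -p.1.2; p.1.2, p.1.1]
            (by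
              rw [det_fin_two_of]
              intro h0
              exact p.2 (Prod.ext (hnz p.1.1 p.1.2 (by linear_combination h0)).1 (hnz p.1.1 p.1.2 (by linear_combination h0)).2)),
            (hoff _).2 (by simp)⟩
          left_inv := fun g => by
            apply Subtype.ext; apply Units.ext; ext c d
            fin_cases c <;> fin_cases d <;> simp [((hoff _).1 g.2).1, ((hoff _).1 g.2).2]
          right_inv := fun p => by apply Subtype.ext; simp }
      rw [hGL, Nat.card_congr e, Nat.card_coe_set_eq, Set.ncard_compl, Set.ncard_singleton, Nat.card_prod, Nat.card_eq_fintype_card, ← hq]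
      obtain ⟨r, rfl⟩ : ∃ r, q = 4 * r + 3 := ⟨q / 4, by omega⟩
      rw [show (4 * r + 3 - 1) / 2 = 2 * r + 1 by omega, show (4 * r + 3) * (4 * r + 3) = (4 * r + 2) * (4 * r + 4) + 1 by ring,
        show (4 * r + 3) ^ 2 = (4 * r + 2) * (4 * r + 4) + 1 by ring, Nat.add_sub_cancel,
        show (4 * r + 2) * (4 * r + 4) + 1 - (4 * r + 3) = (4 * r + 2) * (4 * r + 3) by apply Nat.sub_eq_of_eq_add; ring]
      ring

/-- The structure of a Sylow 2-subgroup of `GL₂`. -/
theorem exists_sylow_gl (h2 : (2 : F) ≠ 0) : ∃ (k w : GL (Fin 2) F) (T : Sylow 2 (GL (Fin 2) F)),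
    Pair k w ∧ k ∈ (T : Subgroup (GL (Fin 2) F)) ∧ w ∈ (T : Subgroup (GL (Fin 2) F)) ∧
      ∀ g ∈ (T : Subgroup (GL (Fin 2) F)), g * k = k * g ∨ (g * w⁻¹) * k = k * (g * w⁻¹) := by
  classical
  haveI : Fact (Nat.Prime 2) := ⟨Nat.prime_two⟩
  obtain ⟨k, w, h, o, ho, hcard⟩ := exists_pair h2
  let K : Subgroup (GL (Fin 2) F) := Subgroup.centralizer {k}
  have hK : ∀ g, g ∈ K ↔ g * k = k * g := fun g => by
    simp [K, Subgroup.mem_centralizer_singleton_iff]
  have hcomm : ∀ a ∈ K, ∀ b ∈ K, a * b = b * a := fun a ha b hb => by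
    obtain ⟨x, y, hxy⟩ := h.cent a ((hK a).1 ha)
    have hbk : (k : M₂) * b = (b : M₂) * k := (congrArg Units.val ((hK b).1 hb)).symm
    apply Units.ext
    rw [Units.val_mul, Units.val_mul, hxy, Matrix.add_mul, Matrix.mul_add, smul_mul_assoc, smul_mul_assoc, mul_smul_comm,
      mul_smul_comm, hbk, Matrix.one_mul, Matrix.mul_one]
  letI : CommGroup K := { (inferInstance : Group K) with mul_comm := fun a b => Subtype.ext (hcomm a a.2 b b.2) }
  obtain ⟨S⟩ := (inferInstance : Nonempty (Sylow 2 K))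
  have hmem : ∀ g : K, g ∈ (S : Subgroup K) ↔ ∃ n, g ^ 2 ^ n = 1 := fun g => by
    refine ⟨fun hg => ?_, fun ⟨n, hn⟩ => ?_⟩
    · obtain ⟨n, hn⟩ := S.2 ⟨g, hg⟩
      exact ⟨n, congrArg Subtype.val hn⟩
    · have hp : IsPGroup 2 (Subgroup.zpowers g) := by
        intro x
        obtain ⟨z, hz⟩ := x.2
        exact ⟨n, Subtype.ext (by
          show (x : K) ^ 2 ^ n = 1
          rw [← hz, ← zpow_natCast, ← _root_.zpow_mul, mul_comm, _root_.zpow_mul, zpow_natCast, hn, _root_.one_zpow])⟩
      haveI : (Subgroup.zpowers g).Normal := ⟨fun a ha b => by rwa [mul_comm b a, mul_inv_cancel_right]⟩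
      exact hp.le_sylow_of_normal S (Subgroup.mem_zpowers g)
  let C : Subgroup (GL (Fin 2) F) := (S : Subgroup K).map K.subtype
  have hCmem : ∀ g, g ∈ C ↔ g ∈ K ∧ ∃ n, g ^ 2 ^ n = 1 := fun g => by
    constructor
    · rintro ⟨x, hx, rfl⟩
      obtain ⟨n, hn⟩ := (hmem x).1 hx
      exact ⟨x.2, n, congrArg Subtype.val hn⟩
    · rintro ⟨hg, n, hn⟩
      exact ⟨⟨g, hg⟩, (hmem _).2 ⟨n, Subtype.ext hn⟩, rfl⟩
  have hneg : (-1 : GL (Fin 2) F) ∈ C := (hCmem _).2 ⟨(hK _).2 (by simp), 1, by simp⟩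
  have hwC : ∀ g ∈ C, w * g * w⁻¹ ∈ C := by
    intro g hg
    obtain ⟨hgK, n, hn⟩ := (hCmem g).1 hg
    refine (hCmem _).2 ⟨(hK _).2 ?_, n, by rw [conj_pow, hn, mul_one, mul_inv_cancel]⟩
    have h1 := congrArg (fun z => w * z * w⁻¹) ((hK g).1 hgK)
    have hwk : w * k * w⁻¹ = -k := by rw [h.anti, mul_inv_cancel_right]
    have h2' : w * (g * k) * w⁻¹ = (w * g * w⁻¹) * (w * k * w⁻¹) := by group
    have h3' : w * (k * g) * w⁻¹ = (w * k * w⁻¹) * (w * g * w⁻¹) := by group
    rw [h2', h3', hwk, mul_neg, neg_mul, neg_inj] at h1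
    exact h1
  have hw1 : w⁻¹ = (-1) * w := inv_eq_of_mul_eq_one_left (by rw [mul_assoc, h.sqw, neg_mul, one_mul, neg_neg])
  have hw2 : ∀ g ∈ C, w⁻¹ * g * w ∈ C := fun g hg => by
    have := hwC g hg
    rwa [hw1, show (-1 : GL (Fin 2) F) * w * g * w = w * g * ((-1) * w) by simp [mul_assoc], ← hw1]
  let T : Subgroup (GL (Fin 2) F) :=
    { carrier := {g | g ∈ C ∨ g * w⁻¹ ∈ C}
      one_mem' := Or.inl C.one_mem
      mul_mem' := by
        rintro a b (ha | ha) (hb | hb)
        · exact Or.inl (C.mul_mem ha hb)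
        · exact Or.inr (by rw [mul_assoc]; exact C.mul_mem ha hb)
        · refine Or.inr ?_
          rw [show a * b * w⁻¹ = (a * w⁻¹) * (w * b * w⁻¹) by group]
          exact C.mul_mem ha (hwC b hb)
        · refine Or.inl ?_
          rw [show a * b = (a * w⁻¹) * (w * (b * w⁻¹) * w⁻¹) * (w * w) by group, h.sqw]
          exact C.mul_mem (C.mul_mem ha (hwC _ hb)) hneg
      inv_mem' := by
        rintro a (ha | ha)
        · exact Or.inl (C.inv_mem ha)
        · refine Or.inr ?_
          rw [show a⁻¹ * w⁻¹ = (w⁻¹ * (a * w⁻¹)⁻¹ * w) * (w * w)⁻¹ by group, h.sqw]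
          exact C.mul_mem (hw2 _ (C.inv_mem ha)) (C.inv_mem hneg) }
  have hwnot : w ∉ C := fun hw => by
    have h1 := (hK w).1 ((hCmem w).1 hw).1
    rw [h.anti] at h1
    have h3 : (k * w : GL (Fin 2) F) = -(k * w) := by rw [← neg_mul]; exact h1.symm
    have h5 := congrArg (fun z : GL (Fin 2) F => (z : M₂).det) h3
    have h6 := congrArg (fun z : GL (Fin 2) F => (z : M₂)) h3
    simp only [Units.val_neg] at h6
    have h7 : (2 : F) • ((k * w : GL (Fin 2) F) : M₂) = 0 := by rw [two_smul]; nth_rewrite 1 [h6]; exact neg_add_cancel _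
    exact (k * w).ne_zero ((smul_eq_zero.1 h7).resolve_left h2)
  have hTC : Nat.card T = 2 * Nat.card C := by
    have e : (C : Type _) ⊕ C ≃ T :=
      Equiv.ofBijective (Sum.elim (fun c => ⟨c.1, Or.inl c.2⟩) (fun c => ⟨c.1 * w, Or.inr (by rw [mul_inv_cancel_right]; exact c.2)⟩))
        ⟨by
          rintro (a | a) (b | b) e <;> have e' := congrArg Subtype.val e <;> simp only [Sum.elim_inl, Sum.elim_inr] at e'
          · exact congrArg Sum.inl (Subtype.ext e')
          · exact absurd (by rw [eq_inv_mul_iff_mul_eq.2 e'.symm]; exact C.mul_mem (C.inv_mem b.2) a.2) hwnot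
          · exact absurd (by rw [eq_inv_mul_iff_mul_eq.2 e']; exact C.mul_mem (C.inv_mem a.2) b.2) hwnot
          · exact congrArg Sum.inr (Subtype.ext (mul_right_cancel e')),
        by
          rintro ⟨g, hg | hg⟩
          · exact ⟨Sum.inl ⟨g, hg⟩, rfl⟩
          · exact ⟨Sum.inr ⟨_, hg⟩, Subtype.ext (inv_mul_cancel_right g w)⟩⟩
    rw [← Nat.card_congr e, Nat.card_sum, two_mul]
  have hCS : Nat.card C = Nat.card S := Subgroup.card_map_of_injective K.subtype_injective
  have hindex : ¬ 2 ∣ T.index := by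
    have h1 := T.card_mul_index
    have h3 := (S : Subgroup K).card_mul_index
    have hKc : Nat.card K = Nat.card {g : GL (Fin 2) F // g * k = k * g} := Nat.card_congr (Equiv.subtypeEquivRight hK)
    rw [hcard, ← hKc, ← h3, hTC, hCS] at h1
    have h5 : T.index = o * (S : Subgroup K).index :=
      Nat.eq_of_mul_eq_mul_left (show 0 < 2 * Nat.card S by have := Nat.card_pos (α := S); omega) (by rw [h1]; ring)
    rw [h5, ← even_iff_two_dvd, Nat.not_even_iff_odd]
    exact ho.mul (Nat.not_even_iff_odd.1 (fun e => S.not_dvd_index (even_iff_two_dvd.1 e)))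
  have hP : IsPGroup 2 T := by
    obtain ⟨n, hn⟩ := IsPGroup.iff_card.1 S.2
    exact IsPGroup.of_card (show Nat.card T = 2 ^ (n + 1) by rw [hTC, hCS, hn, pow_succ'])
  refine ⟨k, w, hP.toSylow hindex, h, ?_, ?_, fun g hg => ?_⟩
  · refine Or.inl ((hCmem _).2 ⟨(hK _).2 rfl, 2, ?_⟩)
    rw [show (2 : ℕ) ^ 2 = 2 * 2 from rfl, pow_mul, pow_two k, h.sqk]; simp
  · exact Or.inr (by rw [mul_inv_cancel]; exact C.one_mem)
  · exact hg.imp (fun h => (hK _).1 ((hCmem _).1 h).1) (fun h => (hK _).1 ((hCmem _).1 h).1)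

end CfsgLib.Classical.G2Two
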