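/-
Sylow 2-subgroups of the automorphism group of Zorn's algebra have elementary abelian abelianisation.
-/
import Cfsg.Agent.Lib.Classical.G2SylowTwo

set_option autoImplicit false

namespace CfsgLib.Classical.G2Two

open Matrix CfsgLib.Classical.ZornCD

variable {F : Type*} [Field F] [Fintype F]

local notation "M₂" => Matrix (Fin 2) (Fin 2) F

omit [Fintype F] in
theorem actG2_scalar (g : detPairs F) (c : F) (h1 : (g.1.1 : M₂) = c • 1) (h2 : (g.1.2 : M₂) = c • 1) : actG2 g = 1 := by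
  have hc : c ≠ 0 := fun e => by
    have := Matrix.GeneralLinearGroup.det_ne_zero g.1.1
    rw [h1, e, zero_smul] at this; simp at this
  refine g2_ext fun p => ?_
  rw [actG2_apply]
  show _ = (1 : Matrix (Fin 8) (Fin 8) F) *ᵥ _
  rw [Matrix.one_mulVec]
  congr 1
  have e : (c ^ 2)⁻¹ * (c * c) = 1 := by field_simp
  refine Prod.ext ?_ ?_
  · simp [actLin, h1, h2, adjugate_smul, det_smul, smul_smul, mul_assoc, e]
  · simp [actLin, h1, h2, adjugate_smul, det_smul, smul_smul, mul_assoc, e]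

omit [Fintype F] in
/-- The commutator with the anticommuting element. -/
theorem comm_w {k w : GL (Fin 2) F} (h : Pair k w) {g : GL (Fin 2) F} (hg : g * k = k * g) :
    ((g * w * g⁻¹ * w⁻¹ : GL (Fin 2) F) : M₂) = (g : M₂).det⁻¹ • ((g : M₂) * g) := by
  have hd : (g : M₂).det ≠ 0 := Matrix.GeneralLinearGroup.det_ne_zero g
  have e : ((g * w * g⁻¹ * w⁻¹ : GL (Fin 2) F) : M₂) * ((w : M₂) * g) = (g : M₂) * w := by
    rw [← Units.val_mul, ← Units.val_mul, ← Units.val_mul]
    congr 1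
    group
  have e2 : ((g : M₂).det⁻¹ • ((g : M₂) * g)) * ((w : M₂) * g) = (g : M₂) * w := by
    rw [conj_centraliser h hg, smul_mul_assoc, Matrix.mul_assoc, ← Matrix.mul_assoc (g : M₂) (adjugate _), mul_adjugate,
      smul_mul_assoc, Matrix.one_mul, mul_smul_comm, smul_smul, inv_mul_cancel₀ hd, one_smul]
  have hu : IsUnit ((w : M₂) * g) := w.isUnit.mul g.isUnit
  exact hu.mul_right_cancel (e.trans e2.symm)

omit [Fintype F] in
theorem sq_cases {k w : GL (Fin 2) F} (h : Pair k w) {a : GL (Fin 2) F}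
    (ha : a * k = k * a ∨ (a * w⁻¹) * k = k * (a * w⁻¹)) :
    ∃ (ε : F) (A : GL (Fin 2) F), (ε = 1 ∨ ε = -1) ∧ ((a * a : GL (Fin 2) F) : M₂) = (ε * (a : M₂).det) • (A : M₂) ∧
      (A = 1 ∨ A = a * w * a⁻¹ * w⁻¹) := by
  have hd : (a : M₂).det ≠ 0 := Matrix.GeneralLinearGroup.det_ne_zero a
  rcases ha with hg | hg
  · refine ⟨1, _, Or.inl rfl, ?_, Or.inr rfl⟩
    rw [comm_w h hg, one_mul, smul_smul, mul_inv_cancel₀ hd, one_smul, Units.val_mul]
  · obtain ⟨g, rfl⟩ : ∃ g, a = g * w := ⟨a * w⁻¹, by rw [inv_mul_cancel_right]⟩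
    rw [mul_inv_cancel_right] at hg
    refine ⟨-1, 1, Or.inr rfl, ?_, Or.inl rfl⟩
    have hww : (w : M₂) * w = -1 := by
      have := congrArg Units.val h.sqw
      simpa using this
    rw [Units.val_mul, Units.val_mul, Matrix.det_mul, h.detw, mul_one, Units.val_one, Matrix.mul_assoc,
      ← Matrix.mul_assoc (w : M₂), conj_centraliser h hg, Matrix.mul_assoc, hww, ← Matrix.mul_assoc, mul_adjugate]
    simp

omit [Fintype F] in
theorem scalar_of_commute_pair (h2 : (2 : F) ≠ 0) {k w a : GL (Fin 2) F} (h : Pair k w) (hk : a * k = k * a) (hw : a * w = w * a) :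
    ∃ α : F, (a : M₂) = α • 1 := by
  obtain ⟨x, y, hxy⟩ := h.cent a hk
  refine ⟨x, ?_⟩
  have h1 := conj_centraliser h hk
  rw [← Units.val_mul, ← hw, Units.val_mul] at h1
  have h3 : (a : M₂) = adjugate (a : M₂) := w.isUnit.mul_right_cancel h1
  have ha : adjugate (a : M₂) = x • 1 - y • (k : M₂) := by
    rw [hxy]; ext c d
    fin_cases c <;> fin_cases d <;> simp [adjugate_fin_two, h.trk] <;> ring
  rw [ha, hxy] at h3
  have h4 : ((2 : F) * y) • (k : M₂) = 0 := by
    rw [mul_smul, two_smul]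
    linear_combination (norm := module) h3
  rcases smul_eq_zero.1 h4 with e | e
  · rw [hxy, (mul_eq_zero.1 e).resolve_left h2, zero_smul, add_zero]
  · exact absurd e k.ne_zero

theorem sq_mem_commutator_sylow (h2 : (2 : F) ≠ 0) (P : Sylow 2 (Cfsg.Lie.G2 F)) :
    ∀ x : (P : Subgroup (Cfsg.Lie.G2 F)), x ^ 2 ∈ commutator (P : Subgroup (Cfsg.Lie.G2 F)) := by
  classical
  haveI : Fact (Nat.Prime 2) := ⟨Nat.prime_two⟩
  haveI : Finite (GL (Fin 8) F) := inferInstance
  obtain ⟨k, w, T, h, hkT, hwT, hT⟩ := exists_sylow_gl h2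
  let T2 : Subgroup (GL (Fin 2) F × GL (Fin 2) F) := (T : Subgroup (GL (Fin 2) F)).prod T
  have hT2p : IsPGroup 2 T2 := by
    intro x
    obtain ⟨a, ha⟩ := T.2 ⟨x.1.1, x.2.1⟩
    obtain ⟨b, hb⟩ := T.2 ⟨x.1.2, x.2.2⟩
    refine ⟨a + b, Subtype.ext (Prod.ext ?_ ?_)⟩
    · have := congrArg Subtype.val ha
      simp only [SubmonoidClass.coe_pow, OneMemClass.coe_one, Prod.pow_fst, Prod.fst_one] at this ⊢
      rw [pow_add, pow_mul, this, one_pow]
    · have := congrArg Subtype.val hb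
      simp only [SubmonoidClass.coe_pow, OneMemClass.coe_one, Prod.pow_snd, Prod.snd_one] at this ⊢
      rw [pow_add, mul_comm, pow_mul, this, one_pow]
  have hT2i : ¬ 2 ∣ T2.index := by
    rw [Subgroup.index_prod]
    exact fun hd => (Nat.prime_two.dvd_mul.1 hd).elim T.not_dvd_index T.not_dvd_index
  let R : Sylow 2 (GL (Fin 2) F × GL (Fin 2) F) := hT2p.toSylow hT2i
  haveI hnorm : (detPairs F).Normal := ⟨fun n hn g => by
    show (((g * n * g⁻¹).2 : GL (Fin 2) F) : M₂).det = (((g * n * g⁻¹).1 : GL (Fin 2) F) : M₂).det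
    simp only [Prod.snd_mul, Prod.fst_mul, Prod.snd_inv, Prod.fst_inv, Units.val_mul, Matrix.det_units_conj]
    exact hn⟩
  obtain ⟨Q⟩ := (inferInstance : Nonempty (Sylow 2 (detPairs F)))
  let S0 : Subgroup (detPairs F) := T2.subgroupOf (detPairs F)
  have hS0p : IsPGroup 2 S0 := hT2p.comap_of_injective (detPairs F).subtype (detPairs F).subtype_injective
  have hS0c : Nat.card S0 = Nat.card Q := by
    rw [← CfsgLib.Solvable.card_inf_of_isSubnormal R hnorm.isSubnormal Q]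
    show Nat.card (T2.subgroupOf (detPairs F)) = Nat.card ↥(T2 ⊓ detPairs F)
    rw [← Subgroup.inf_subgroupOf_right]
    exact Nat.card_congr (Subgroup.subgroupOfEquivOfLe inf_le_right).toEquiv
  let Q0 : Sylow 2 (detPairs F) := Sylow.ofCard S0 (by rw [hS0c, Q.card_eq_multiplicity])
  let H := (actG2 (F := F)).range
  let S : Subgroup (Cfsg.Lie.G2 F) := S0.map actG2
  have hSp : IsPGroup 2 S := hS0p.map _
  have hSH : ∀ R' : Subgroup (Cfsg.Lie.G2 F), IsPGroup 2 R' → S ≤ R' → R' ≤ H → R' ≤ S := by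
    intro R' hR' hle hRH
    let QH : Sylow 2 H := Q0.mapSurjective (MonoidHom.rangeRestrict_surjective actG2)
    have hQH : (QH : Subgroup H).map H.subtype = S := by
      show ((S0.map (actG2 (F := F)).rangeRestrict).map H.subtype) = S0.map actG2
      rw [Subgroup.map_map, MonoidHom.subtype_comp_rangeRestrict]
    have hR2 : IsPGroup 2 (R'.subgroupOf H) := hR'.comap_of_injective H.subtype H.subtype_injective
    have hQR : (QH : Subgroup H) ≤ R'.subgroupOf H := fun y hy =>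
      hle (hQH ▸ Subgroup.mem_map_of_mem H.subtype hy)
    have := QH.is_maximal' hR2 hQR
    intro y hy
    rw [← hQH, ← this]
    exact ⟨⟨y, hRH hy⟩, hy, rfl⟩
  -- elements of S₀
  have hmem : ∀ g : detPairs F, g ∈ S0 ↔ g.1.1 ∈ (T : Subgroup _) ∧ g.1.2 ∈ (T : Subgroup _) := fun g => Iff.rfl
  let one1 (a : GL (Fin 2) F) (ha : (a : M₂).det = 1) : detPairs F :=
    ⟨(a, 1), by show ((1 : GL (Fin 2) F) : M₂).det = (a : M₂).det; rw [ha, Units.val_one, det_one]⟩
  let one2 (a : GL (Fin 2) F) (ha : (a : M₂).det = 1) : detPairs F :=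
    ⟨(1, a), by show (a : M₂).det = ((1 : GL (Fin 2) F) : M₂).det; rw [ha, Units.val_one, det_one]⟩
  have h1T := (T : Subgroup (GL (Fin 2) F)).one_mem
  have hk1 : one1 k h.detk ∈ S0 := ⟨hkT, h1T⟩
  have hk2 : one2 k h.detk ∈ S0 := ⟨h1T, hkT⟩
  have hw1 : one1 w h.detw ∈ S0 := ⟨hwT, h1T⟩
  have hw2 : one2 w h.detw ∈ S0 := ⟨h1T, hwT⟩
  let t := actG2 (negSecond F)
  have hk3 : (k : M₂) * k = -1 := by
    have := congrArg Units.val h.sqk
    simpa using this
  have hnegc : k * w * k⁻¹ * w⁻¹ = -1 := Units.ext (by rw [comm_w h rfl, h.detk, inv_one, one_smul, hk3]; simp)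
  have hneg2 : negSecond F = one2 k h.detk * one2 w h.detw * (one2 k h.detk)⁻¹ * (one2 w h.detw)⁻¹ :=
    Subtype.ext (Prod.ext (by simp [negSecond, one2]) (by simp [negSecond, one2, hnegc]))
  have htS : negSecond F ∈ S0 := hneg2 ▸ S0.mul_mem (S0.mul_mem (S0.mul_mem hk2 hw2) (S0.inv_mem hk2)) (S0.inv_mem hw2)
  have ht1 : t ≠ 1 := fun e => by
    obtain ⟨c, hc1, hc2⟩ := mem_ker_actG2 e
    have e1 := congrFun (congrFun hc1 0) 0
    have e2 := congrFun (congrFun hc2 0) 0
    simp [negSecond] at e1 e2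
    exact h2 (by rw [← e1] at e2; linear_combination -e2)
  have htt : t * t = 1 := by
    rw [← map_mul, show negSecond F * negSecond F = 1 from Subtype.ext (Prod.ext (by simp [negSecond]) (by simp [negSecond])), map_one]
  have hkerc : ∀ (a b : detPairs F), actG2 a * actG2 b = actG2 b * actG2 a →
      ∃ c : F, ((a.1.1 * b.1.1 * a.1.1⁻¹ * b.1.1⁻¹ : GL (Fin 2) F) : M₂) = c • 1 ∧
        ((a.1.2 * b.1.2 * a.1.2⁻¹ * b.1.2⁻¹ : GL (Fin 2) F) : M₂) = c • 1 := fun a b e => by
    have h1 : actG2 (a * b * a⁻¹ * b⁻¹) = 1 := by rw [map_mul, map_mul, map_mul, map_inv, map_inv, e]; group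
    exact mem_ker_actG2 h1
  have hcentre : ∀ z ∈ S, (∀ y ∈ S, z * y = y * z) → z = 1 ∨ z = t := by
    rintro _ ⟨z, hz, rfl⟩ hc
    have hcomm1 : ∀ (a : GL (Fin 2) F) (ha : (a : M₂).det = 1), one1 a ha ∈ S0 → z.1.1 * a = a * z.1.1 := fun a ha hm => by
      obtain ⟨c, hc1, hc2⟩ := hkerc z (one1 a ha) (hc _ (Subgroup.mem_map_of_mem _ hm))
      have e := congrFun (congrFun hc2 0) 0
      simp [one1] at e
      rw [← e, one_smul] at hc1
      have h3 : z.1.1 * a * z.1.1⁻¹ * a⁻¹ = 1 := Units.ext hc1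
      rwa [mul_inv_eq_one, mul_inv_eq_iff_eq_mul] at h3
    have hcomm2 : ∀ (a : GL (Fin 2) F) (ha : (a : M₂).det = 1), one2 a ha ∈ S0 → z.1.2 * a = a * z.1.2 := fun a ha hm => by
      obtain ⟨c, hc1, hc2⟩ := hkerc z (one2 a ha) (hc _ (Subgroup.mem_map_of_mem _ hm))
      have e := congrFun (congrFun hc1 0) 0
      simp [one2] at e
      rw [← e, one_smul] at hc2
      have h3 : z.1.2 * a * z.1.2⁻¹ * a⁻¹ = 1 := Units.ext hc2
      rwa [mul_inv_eq_one, mul_inv_eq_iff_eq_mul] at h3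
    obtain ⟨α, hα⟩ := scalar_of_commute_pair h2 h (hcomm1 k h.detk hk1) (hcomm1 w h.detw hw1)
    obtain ⟨β, hβ⟩ := scalar_of_commute_pair h2 h (hcomm2 k h.detk hk2) (hcomm2 w h.detw hw2)
    have hd : (z.1.2 : M₂).det = (z.1.1 : M₂).det := z.2
    rw [hα, hβ] at hd
    simp [det_smul] at hd
    rcases sq_eq_sq_iff_eq_or_eq_neg.1 hd with e | e
    · exact Or.inl (actG2_scalar z α hα (e ▸ hβ))
    · refine Or.inr ?_
      have h1 : actG2 (z * negSecond F) = 1 := actG2_scalar _ α (by simp [negSecond, hα]) (by simp [negSecond, hβ, e])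
      rw [map_mul, mul_eq_one_iff_eq_inv] at h1
      rw [h1]
      exact inv_eq_of_mul_eq_one_left htt
  -- S is a Sylow subgroup
  obtain ⟨R, hR⟩ := hSp.exists_le_sylow
  have hRS : (R : Subgroup (Cfsg.Lie.G2 F)) = S := by
    by_contra hne
    have hlt : S.subgroupOf (R : Subgroup _) < ⊤ := by
      rw [lt_top_iff_ne_top, Ne, Subgroup.subgroupOf_eq_top]
      exact fun hle => hne (le_antisymm hle hR)
    haveI : Group.IsNilpotent (R : Subgroup (Cfsg.Lie.G2 F)) := R.2.isNilpotent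
    obtain ⟨n, hn, hnS⟩ := SetLike.exists_of_lt (Group.normalizerCondition_of_isNilpotent _ hlt)
    let N : Subgroup (Cfsg.Lie.G2 F) := S ⊔ Subgroup.zpowers (n : Cfsg.Lie.G2 F)
    have hnorm' : ∀ y, y ∈ S ↔ (n : Cfsg.Lie.G2 F) * y * (n : Cfsg.Lie.G2 F)⁻¹ ∈ S := fun y => by
      constructor
      · intro hy
        exact (Subgroup.mem_normalizer_iff.1 hn ⟨y, hR hy⟩).1 hy
      · intro hy
        have hy' : y ∈ (R : Subgroup (Cfsg.Lie.G2 F)) := by
          have := (R : Subgroup (Cfsg.Lie.G2 F)).mul_mem ((R : Subgroup (Cfsg.Lie.G2 F)).mul_mem ((R : Subgroup (Cfsg.Lie.G2 F)).inv_mem n.2) (hR hy)) n.2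
          simpa [mul_assoc] using this
        exact (Subgroup.mem_normalizer_iff.1 hn ⟨y, hy'⟩).2 hy
    have hnt : (n : Cfsg.Lie.G2 F) * t * (n : Cfsg.Lie.G2 F)⁻¹ = t := by
      have htc : ∀ y ∈ S, t * y = y * t := by
        rintro _ ⟨y, hy, rfl⟩
        show actG2 (negSecond F) * actG2 y = actG2 y * actG2 (negSecond F)
        rw [← map_mul, ← map_mul]
        congr 1
        exact Subtype.ext (Prod.ext (by simp [negSecond]) (by simp [negSecond]))
      refine (hcentre _ ((hnorm' t).1 (Subgroup.mem_map_of_mem _ htS)) fun y hy => ?_).resolve_left fun e => ht1 ?_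
      · obtain ⟨y', rfl⟩ : ∃ y', y = (n : Cfsg.Lie.G2 F) * y' * (n : Cfsg.Lie.G2 F)⁻¹ := ⟨(n : Cfsg.Lie.G2 F)⁻¹ * y * n, by group⟩
        rw [← hnorm'] at hy
        have := htc y' hy
        calc _ = (n : Cfsg.Lie.G2 F) * (t * y') * (n : Cfsg.Lie.G2 F)⁻¹ := by group
          _ = (n : Cfsg.Lie.G2 F) * (y' * t) * (n : Cfsg.Lie.G2 F)⁻¹ := by rw [this]
          _ = _ := by group
      · rw [mul_inv_eq_one, mul_eq_left] at e; exact e
    have hnH : (n : Cfsg.Lie.G2 F) ∈ H := centralizer_negSecond h2 _ (mul_inv_eq_iff_eq_mul.1 hnt)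
    have hNR : N ≤ (R : Subgroup _) := sup_le hR (Subgroup.zpowers_le.2 n.2)
    have hle := hSH N (R.2.to_le hNR) le_sup_left (sup_le (Subgroup.map_le_range _ _) (Subgroup.zpowers_le.2 hnH))
    exact hnS (hle (Subgroup.mem_sup_right (Subgroup.mem_zpowers _)))
  -- squares are commutators
  have hsq : ∀ x : S, x ^ 2 ∈ commutator S := by
    intro x
    have hmap : (commutator S).map S.subtype = ⁅S, S⁆ := by
      rw [commutator_def, Subgroup.map_commutator, ← MonoidHom.range_eq_map, Subgroup.range_subtype]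
    suffices hx : (x : Cfsg.Lie.G2 F) ^ 2 ∈ ⁅S, S⁆ by
      rw [← hmap] at hx
      obtain ⟨y, hy, e⟩ := hx
      rwa [show x ^ 2 = y from Subtype.ext (by rw [SubmonoidClass.coe_pow]; exact e.symm)]
    obtain ⟨z, hz, hzx⟩ := x.2
    rw [← hzx]
    have hcomm : ∀ a ∈ S0, ∀ b ∈ S0, actG2 (a * b * a⁻¹ * b⁻¹) ∈ ⁅S, S⁆ := fun a ha b hb => by
      rw [map_mul, map_mul, map_mul, map_inv, map_inv]
      exact Subgroup.commutator_mem_commutator (Subgroup.mem_map_of_mem _ ha) (Subgroup.mem_map_of_mem _ hb)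
    have htJ : t ∈ ⁅S, S⁆ := by
      show actG2 (negSecond F) ∈ _
      rw [hneg2]; exact hcomm _ hk2 _ hw2
    obtain ⟨ε, A, hε, hA, hA'⟩ := sq_cases h (hT _ ((hmem z).1 hz).1)
    obtain ⟨ε', B, hε', hB, hB'⟩ := sq_cases h (hT _ ((hmem z).1 hz).2)
    have hdetA : (A : M₂).det = 1 := by
      rcases hA' with e | e <;> rw [e]
      · simp
      · rw [Units.val_mul, Units.val_mul, Units.val_mul, Matrix.det_mul, Matrix.det_units_conj, coe_units_inv, det_nonsing_inv,
          h.detw]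
        simp
    have hdetB : (B : M₂).det = 1 := by
      rcases hB' with e | e <;> rw [e]
      · simp
      · rw [Units.val_mul, Units.val_mul, Units.val_mul, Matrix.det_mul, Matrix.det_units_conj, coe_units_inv, det_nonsing_inv,
          h.detw]
        simp
    have hAJ : actG2 (one1 A hdetA) ∈ ⁅S, S⁆ := by
      rcases hA' with e | e
      · rw [show one1 A hdetA = 1 from Subtype.ext (Prod.ext e rfl), map_one]; exact Subgroup.one_mem _
      · rw [show one1 A hdetA = z * one1 w h.detw * z⁻¹ * (one1 w h.detw)⁻¹ from Subtype.ext (Prod.ext (by simp [one1, e]) (by simp [one1]))]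
        exact hcomm _ hz _ hw1
    have hBJ : actG2 (one2 B hdetB) ∈ ⁅S, S⁆ := by
      rcases hB' with e | e
      · rw [show one2 B hdetB = 1 from Subtype.ext (Prod.ext rfl e), map_one]; exact Subgroup.one_mem _
      · rw [show one2 B hdetB = z * one2 w h.detw * z⁻¹ * (one2 w h.detw)⁻¹ from Subtype.ext (Prod.ext (by simp [one2]) (by simp [one2, e]))]
        exact hcomm _ hz _ hw2
    have hd : (z.1.2 : M₂).det = (z.1.1 : M₂).det := z.2
    obtain ⟨d, hdd⟩ : ∃ d, d = z ^ 2 * (one1 A hdetA * one2 B hdetB)⁻¹ := ⟨_, rfl⟩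
    have hz2 : z ^ 2 = d * (one1 A hdetA * one2 B hdetB) := by rw [hdd, inv_mul_cancel_right]
    have hd1 : (d.1.1 : M₂) = (ε * (z.1.1 : M₂).det) • 1 := by
      have e1 : (d.1.1 : M₂) * A = ((z.1.1 * z.1.1 : GL (Fin 2) F) : M₂) := by
        rw [← Units.val_mul]; congr 1; rw [hdd]; simp [one1, one2, pow_two]
      rw [hA] at e1
      exact A.isUnit.mul_right_cancel (e1.trans (by rw [smul_mul_assoc, Matrix.one_mul]))
    have hd2 : (d.1.2 : M₂) = (ε' * (z.1.1 : M₂).det) • 1 := by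
      have e1 : (d.1.2 : M₂) * B = ((z.1.2 * z.1.2 : GL (Fin 2) F) : M₂) := by
        rw [← Units.val_mul]; congr 1; rw [hdd]; simp [one1, one2, pow_two]
      rw [hB, hd] at e1
      exact B.isUnit.mul_right_cancel (e1.trans (by rw [smul_mul_assoc, Matrix.one_mul]))
    have hdJ : actG2 d ∈ ⁅S, S⁆ := by
      by_cases he : ε = ε'
      · rw [actG2_scalar d _ hd1 (he ▸ hd2)]; exact Subgroup.one_mem _
      · have he' : ε' = -ε := by rcases hε with e | e <;> rcases hε' with e' | e' <;> rw [e, e'] at he ⊢ <;> first | exact absurd rfl he | norm_num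
        have h1 : actG2 (d * negSecond F) = 1 := actG2_scalar _ (ε * (z.1.1 : M₂).det) (by simp [negSecond, hd1]) (by simp [negSecond, hd2, he'])
        rw [map_mul, mul_eq_one_iff_eq_inv] at h1
        rw [h1]; exact Subgroup.inv_mem _ htJ
    rw [← map_pow, hz2, map_mul, map_mul]
    exact Subgroup.mul_mem _ hdJ (Subgroup.mul_mem _ hAJ hBJ)
  exact SylowTwo.sq_mem_of_sylow S (by rw [← hRS, R.card_eq_multiplicity]) hsq P

end CfsgLib.Classical.G2Two
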