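/-
Maximal parabolic subgroups of the general linear group.
-/
import Cfsg.Agent.Lib.Transvec.Linear
import Cfsg.Prelude.Def_ClassicalGeometry

set_option autoImplicit false

namespace CfsgLib.Classical

open Matrix Cfsg CfsgLib.Transvec
open scoped MatrixGroups

variable {F : Type*} [Field F] {n : ℕ}

/-- The span of the first `k` coordinate vectors. -/
def coordFirst (n k : ℕ) (F : Type*) [Field F] : Submodule F (Fin n → F) where
  carrier := {v | ∀ i : Fin n, k ≤ (i : ℕ) → v i = 0}
  add_mem' := fun hx hy i hi => by simp [hx i hi, hy i hi]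
  zero_mem' := fun _ _ => rfl
  smul_mem' := fun c x hx i hi => by simp [hx i hi]

theorem coe_coordFirst (n k : ℕ) :
    (coordFirst n k F : Set (Fin n → F)) = {v | ∀ i : Fin n, k ≤ (i : ℕ) → v i = 0} := rfl

theorem finrank_coordFirst {k : ℕ} (hk : k ≤ n) : Module.finrank F (coordFirst n k F) = k := by
  have e : coordFirst n k F ≃ₗ[F] (Fin k → F) :=
    { toFun := fun x i => (x : Fin n → F) (Fin.castLE hk i)
      map_add' := fun _ _ => rfl
      map_smul' := fun _ _ => rfl
      invFun := fun y => ⟨fun i => if h : (i : ℕ) < k then y ⟨i, h⟩ else 0,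
        fun i hi => by simp [Nat.not_lt.2 hi]⟩
      left_inv := fun x => Subtype.ext (funext fun i => by
        dsimp only
        split_ifs with h
        · exact congrArg _ (Fin.ext rfl)
        · exact (x.2 i (Nat.not_lt.1 h)).symm)
      right_inv := fun y => funext fun i => by simp [i.2] }
  rw [e.finrank_eq, Module.finrank_fin_fun]

/-- The stabiliser of a subspace. -/
abbrev glStab (W : Submodule F (Fin n → F)) : Subgroup (GL (Fin n) F) :=
  stabilizing (glToMat (Fin n) F) (W : Set (Fin n → F))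

theorem mem_glStab {W : Submodule F (Fin n → F)} {g : GL (Fin n) F}
    (h : ∀ v ∈ W, (g : Matrix (Fin n) (Fin n) F) *ᵥ v ∈ W) : g ∈ glStab W := by
  intro v
  refine ⟨fun hv => h v hv, fun hv => ?_⟩
  let f : W →ₗ[F] W := (mulVecLin (g : Matrix (Fin n) (Fin n) F)).restrict h
  have hinj : Function.Injective f := fun a b hab => Subtype.ext (mulVec_injective g (congrArg Subtype.val hab))
  obtain ⟨a, ha⟩ := LinearMap.injective_iff_surjective.1 hinj ⟨_, hv⟩
  have := mulVec_injective g (congrArg Subtype.val ha : (g : Matrix (Fin n) (Fin n) F) *ᵥ (a : Fin n → F) = _)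
  exact this ▸ a.2

theorem transv_mem_glStab {W : Submodule F (Fin n → F)} {v φ : Fin n → F} (h : φ ⬝ᵥ v = 0)
    (h' : v ∈ W ∨ ∀ x ∈ W, φ ⬝ᵥ x = 0) : transv v φ ∈ glStab W := by
  refine mem_glStab fun x hx => ?_
  rw [transv_mulVec h]
  rcases h' with h' | h'
  · exact W.add_mem hx (W.smul_mem _ h')
  · simpa [h' x hx] using hx

/-- A subgroup containing the stabiliser of `W` moves every vector outside `W` to every other, up to scalars. -/
theorem allPairs_outside {W : Submodule F (Fin n → F)} {H : Subgroup (GL (Fin n) F)} (hH : glStab W ≤ H)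
    {u v : Fin n → F} (hu : u ∉ W) (hv : v ∉ W) (h : ∀ φ : Fin n → F, φ ⬝ᵥ u = 0 → FullPair H u φ) :
    ∀ φ : Fin n → F, φ ⬝ᵥ v = 0 → FullPair H v φ := by
  by_cases hd : u ∈ W ⊔ Submodule.span F {v - u}
  · obtain ⟨w, hw, x, hx, hwx⟩ := Submodule.mem_sup.1 hd
    obtain ⟨a, rfl⟩ := Submodule.mem_span_singleton.1 hx
    have ha : a ≠ 0 := fun h0 => hu (by rw [← hwx, h0, zero_smul, add_zero]; exact hw)
    have hv' : a • v = (a + 1) • u + (-w) := by linear_combination (norm := module) hwx
    have ha1 : a + 1 ≠ 0 := fun h0 => hv (by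
      rw [h0, zero_smul, zero_add] at hv'
      simpa [smul_smul, ha] using W.smul_mem a⁻¹ (hv' ▸ W.neg_mem hw : a • v ∈ W))
    obtain ⟨ψ, hψ, hψu⟩ := exists_functional (E := W) hu
    set w' := (a + 1)⁻¹ • (-w)
    have hw' : w' ∈ W := W.smul_mem _ (W.neg_mem hw)
    have hu' : u + w' = ((a + 1)⁻¹ * a) • v := by
      rw [← smul_smul, hv', smul_add, smul_smul, inv_mul_cancel₀ ha1, one_smul]
    have hg : transv w' ψ ∈ H := hH (transv_mem_glStab (hψ _ hw') (Or.inl hw'))
    have h1 := allPairs_conj hg h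
    rw [transv_mulVec (hψ _ hw'), hψu, one_smul, hu'] at h1
    intro φ hφ
    have h2 := h1 φ (by rw [dotProduct_smul, hφ, smul_zero])
    have hc : (a + 1)⁻¹ * a ≠ 0 := mul_ne_zero (inv_ne_zero ha1) ha
    have h3 := fullPair_smul_left (by rw [dotProduct_smul, hφ, smul_zero]) h2 ((a + 1)⁻¹ * a)⁻¹
    rwa [smul_smul, inv_mul_cancel₀ hc, one_smul] at h3
  · obtain ⟨ψ, hψ, hψu⟩ := exists_functional hd
    have hψd : ψ ⬝ᵥ (v - u) = 0 :=
      hψ _ (Submodule.mem_sup_right (Submodule.mem_span_singleton_self _))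
    have hg : transv (v - u) ψ ∈ H :=
      hH (transv_mem_glStab hψd (Or.inr fun x hx => hψ x (Submodule.mem_sup_left hx)))
    have h1 := allPairs_conj hg h
    rwa [transv_mulVec hψd, hψu, one_smul, add_sub_cancel] at h1

/-- Stabilisers of coordinate subspaces are maximal. -/
theorem isCoatom_glStab {k : ℕ} (hk0 : 0 < k) (hkn : k < n) : IsCoatom (glStab (coordFirst n k F)) := by
  classical
  set W := coordFirst n k F with hW
  have hWdim : Module.finrank F W = k := finrank_coordFirst hkn.le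
  refine ⟨fun htop => ?_, fun H hH => ?_⟩
  · have hmem : transv (Pi.single ⟨k, hkn⟩ (1 : F)) (Pi.single ⟨0, by omega⟩ 1) ∈ glStab W := htop ▸ Subgroup.mem_top _
    have h := (hmem (Pi.single ⟨0, by omega⟩ 1)).1 (fun i hi => by
      rw [Pi.single_eq_of_ne (fun h => by subst h; simp at hi; omega)])
    change (transv _ _ : GL (Fin n) F).val *ᵥ _ ∈ _ at h
    rw [transv_mulVec (single_dotProduct_single (Fin.ne_of_val_ne (by simp; omega)) 1)] at h
    have h2 := h ⟨k, hkn⟩ le_rfl
    simp [Pi.single_apply, hk0.ne'] at h2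
  obtain ⟨hle, hne⟩ := lt_iff_le_and_ne.1 hH
  obtain ⟨g, hgH, hg⟩ := SetLike.exists_of_lt hH
  obtain ⟨w, hw, hgw⟩ : ∃ w ∈ W, (g : Matrix (Fin n) (Fin n) F) *ᵥ w ∉ W := by
    by_contra hc
    push Not at hc
    exact hg (mem_glStab hc)
  have hin : ∀ v ∈ W, ∀ φ : Fin n → F, φ ⬝ᵥ v = 0 → FullPair H v φ := fun v hv φ hφ a =>
    hle (transv_mem_glStab (by rw [smul_dotProduct, hφ, smul_zero]) (Or.inl hv))
  have hout := allPairs_conj hgH (hin w hw)
  have hall : ∀ v φ : Fin n → F, φ ⬝ᵥ v = 0 → transv v φ ∈ H := by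
    intro v φ hφ
    have h : FullPair H v φ := by
      by_cases hv : v ∈ W
      · exact hin v hv φ hφ
      · exact allPairs_outside hle hgw hv hout φ hφ
    simpa using h 1
  refine eq_top_iff.2 fun x _ => ?_
  set d : Fin n → F := Function.update 1 ⟨0, by omega⟩ (x : Matrix (Fin n) (Fin n) F).det
  have hdet : (diagonal d).det = (x : Matrix (Fin n) (Fin n) F).det := by
    simp [d, det_diagonal, Finset.prod_update_of_mem]
  have hx0 : (x : Matrix (Fin n) (Fin n) F).det ≠ 0 := by
    simpa using (GeneralLinearGroup.det x).ne_zero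
  set y : GL (Fin n) F := GeneralLinearGroup.mkOfDetNeZero (diagonal d) (hdet ▸ hx0)
  have hy : y ∈ H := hle (mem_glStab fun v hv i hi => by
    simp [y, mulVec_diagonal, hv i hi])
  rw [show x = y * (y⁻¹ * x) by group]
  refine H.mul_mem hy (specialLinear_le hall ?_)
  rw [Cfsg.Geo.specialLinear, MonoidHom.mem_ker, map_mul, map_inv,
    show GeneralLinearGroup.det y = GeneralLinearGroup.det x from Units.ext (by simpa [y] using hdet),
    inv_mul_cancel]

/-- A subspace invariant under the stabiliser of `W` is trivial, `W`, or everything. -/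
theorem glStab_invariant {W U : Submodule F (Fin n → F)}
    (hU : ∀ g ∈ glStab W, ∀ x ∈ U, (g : Matrix (Fin n) (Fin n) F) *ᵥ x ∈ U) : U = ⊥ ∨ U = W ∨ U = ⊤ := by
  classical
  by_cases hUW : U ≤ W
  · rcases eq_or_ne U ⊥ with h | h
    · exact Or.inl h
    refine Or.inr (Or.inl (le_antisymm hUW fun w hw => ?_))
    obtain ⟨u, hu, hu0⟩ := U.ne_bot_iff.1 h
    by_cases hs : u ∈ Submodule.span F {w}
    · obtain ⟨a, rfl⟩ := Submodule.mem_span_singleton.1 hs
      have ha : a ≠ 0 := fun h0 => hu0 (by rw [h0, zero_smul])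
      simpa [smul_smul, ha] using U.smul_mem a⁻¹ hu
    · obtain ⟨φ, hφ, hφu⟩ := exists_functional hs
      have hφw := hφ w (Submodule.mem_span_singleton_self w)
      have := hU _ (transv_mem_glStab hφw (Or.inl hw)) u hu
      rw [transv_mulVec hφw, hφu, one_smul] at this
      simpa using U.sub_mem this hu
  · obtain ⟨u, hu, huW⟩ := SetLike.not_le_iff_exists.1 hUW
    have hWU : W ≤ U := fun w hw => by
      obtain ⟨φ, hφ, hφu⟩ := exists_functional huW
      have := hU _ (transv_mem_glStab (hφ w hw) (Or.inl hw)) u hu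
      rw [transv_mulVec (hφ w hw), hφu, one_smul] at this
      simpa using U.sub_mem this hu
    refine Or.inr (Or.inr (eq_top_iff.2 fun v _ => ?_))
    by_cases hd : u ∈ W ⊔ Submodule.span F {v}
    · obtain ⟨w, hw, x, hx, hwx⟩ := Submodule.mem_sup.1 hd
      obtain ⟨a, rfl⟩ := Submodule.mem_span_singleton.1 hx
      have ha : a ≠ 0 := fun h0 => huW (by rw [← hwx, h0, zero_smul, add_zero]; exact hw)
      have hav : a • v ∈ U := by rw [show a • v = u - w from eq_sub_of_add_eq' hwx]; exact U.sub_mem hu (hWU hw)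
      simpa [smul_smul, ha] using U.smul_mem a⁻¹ hav
    · obtain ⟨φ, hφ, hφu⟩ := exists_functional hd
      have hφv := hφ v (Submodule.mem_sup_right (Submodule.mem_span_singleton_self _))
      have := hU _ (transv_mem_glStab hφv (Or.inr fun x hx => hφ x (Submodule.mem_sup_left hx))) u hu
      rw [transv_mulVec hφv, hφu, one_smul] at this
      simpa using U.sub_mem this hu

/-- Transpose-inverse followed by the reversal of coordinates. -/
theorem glStab_dual_equiv {k : ℕ} (hk : k ≤ n) :
    Nonempty (glStab (coordFirst n k F) ≃* glStab (coordFirst n (n - k) F)) := by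
  classical
  let e : Fin n ≃ Fin n := Fin.revPerm
  let r : GL (Fin n) F →* GL (Fin n) F :=
    Units.map (Matrix.reindexRingEquiv F e).toMonoidHom
  have hmem : ∀ (j : ℕ) (g : GL (Fin n) F), g ∈ glStab (coordFirst n j F) ↔
      ∀ a b : Fin n, j ≤ (a : ℕ) → (b : ℕ) < j → (g : Matrix (Fin n) (Fin n) F) a b = 0 := by
    intro j g
    refine ⟨fun hg a b ha hb => ?_, fun h => mem_glStab fun v hv a ha => ?_⟩
    · have h1 := (hg (Pi.single b 1)).1 (fun i hi => by
        rw [Pi.single_eq_of_ne (fun h => by subst h; omega)]) a ha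
      simpa using h1
    · change ∑ b, (g : Matrix (Fin n) (Fin n) F) a b * v b = 0
      refine Finset.sum_eq_zero fun b _ => ?_
      rcases lt_or_ge (b : ℕ) j with hb | hb
      · rw [h a b ha hb, zero_mul]
      · rw [hv b hb, mul_zero]
  let τ : GL (Fin n) F → GL (Fin n) F := fun g =>
    r ⟨((g⁻¹ : GL (Fin n) F) : Matrix (Fin n) (Fin n) F)ᵀ, (g : Matrix (Fin n) (Fin n) F)ᵀ,
      by rw [← transpose_mul, ← Units.val_mul, mul_inv_cancel, Units.val_one, transpose_one],
      by rw [← transpose_mul, ← Units.val_mul, inv_mul_cancel, Units.val_one, transpose_one]⟩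
  have hτ : ∀ g a b, (τ g : Matrix (Fin n) (Fin n) F) a b =
      ((g⁻¹ : GL (Fin n) F) : Matrix (Fin n) (Fin n) F) b.rev a.rev := fun g a b => by
    simp [τ, r, e, Matrix.reindexRingEquiv, Matrix.reindex_apply]
  have hτmul : ∀ g h, τ (g * h) = τ g * τ h := fun g h => Units.ext (Matrix.ext fun a b => by
    rw [hτ, _root_.mul_inv_rev, Units.val_mul, Units.val_mul, Matrix.mul_apply, Matrix.mul_apply,
      ← Equiv.sum_comp Fin.revPerm]
    exact Finset.sum_congr rfl fun i _ => by rw [hτ, hτ, mul_comm]; rfl)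
  let T : GL (Fin n) F →* GL (Fin n) F := MonoidHom.mk' τ hτmul
  have hττ : ∀ g, T (T g) = g := fun g => Units.ext (Matrix.ext fun a b => by
    change (τ (τ g) : Matrix (Fin n) (Fin n) F) a b = _
    rw [hτ, show (τ g)⁻¹ = τ g⁻¹ from (map_inv T g).symm, hτ, inv_inv, Fin.rev_rev, Fin.rev_rev])
  let E : GL (Fin n) F ≃* GL (Fin n) F :=
    { toFun := T, invFun := T, left_inv := hττ, right_inv := hττ, map_mul' := T.map_mul }
  have hmap : ∀ j ≤ n, ∀ g ∈ glStab (coordFirst n j F), E g ∈ glStab (coordFirst n (n - j) F) := by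
    intro j hj g hg
    rw [hmem]
    intro a b ha hb
    change (τ g : Matrix (Fin n) (Fin n) F) a b = 0
    rw [hτ]
    exact (hmem j g⁻¹).1 (inv_mem hg) _ _ (by simp only [Fin.val_rev]; omega) (by simp only [Fin.val_rev]; omega)
  refine ⟨(E.subgroupMap _).trans (MulEquiv.subgroupCongr (le_antisymm ?_ ?_))⟩
  · rintro _ ⟨g, hg, rfl⟩
    exact hmap k hk g hg
  · intro g hg
    have h := hmap (n - k) (Nat.sub_le _ _) g hg
    rw [show n - (n - k) = k by omega] at h
    exact ⟨E g, h, hττ g⟩

end CfsgLib.Classical
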