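import Mathlib

/-!
`GL(p, F)` with `p` dividing `#F - 1` exactly once has a redundant Sylow `p`-subgroup: the group
of monomial matrices over the `p`-th roots of unity whose permutation is a translation of `ZMod p`.
-/

set_option autoImplicit false

open Matrix
open scoped Pointwise

namespace CfsgLib.Classical.GLRedundant

variable {F : Type*} [Field F] {p : ℕ} [hp : Fact p.Prime]

/-- The monomial matrix with nonzero entries `a j` at `(j, j + i)`. -/
def mono (a : ZMod p → F) (i : ZMod p) : Matrix (ZMod p) (ZMod p) F :=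
  Matrix.of fun j k => if k = j + i then a j else 0

theorem mono_apply (a : ZMod p → F) (i j k : ZMod p) :
    mono a i j k = if k = j + i then a j else 0 := rfl

theorem mono_mul (a : ZMod p → F) (i : ZMod p) (M : Matrix (ZMod p) (ZMod p) F) (j k : ZMod p) :
    (mono a i * M) j k = a j * M (j + i) k := by
  simp [Matrix.mul_apply, mono_apply, ite_mul]

theorem mono_mulVec (a : ZMod p → F) (i : ZMod p) (v : ZMod p → F) (j : ZMod p) :
    (mono a i *ᵥ v) j = a j * v (j + i) := by
  simp [Matrix.mulVec, dotProduct, mono_apply, ite_mul]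

theorem mono_mul_mono (a b : ZMod p → F) (i k : ZMod p) :
    mono a i * mono b k = mono (fun j => a j * b (j + i)) (i + k) := by
  ext j l
  rw [mono_mul, mono_apply, mono_apply, mul_ite, mul_zero, add_assoc]

theorem mono_one : mono (1 : ZMod p → F) 0 = 1 := by
  ext j k
  simp [mono_apply, Matrix.one_apply, eq_comm]

theorem mono_zero_eq (a : ZMod p → F) : mono a 0 = Matrix.diagonal a := by
  ext j k
  simp [mono_apply, Matrix.diagonal_apply, eq_comm]

theorem exists_smul_eq {i : ZMod p} (hi : i ≠ 0) (x : ZMod p) : ∃ n : ℕ, x = n • i :=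
  ⟨(x * i⁻¹).val, by rw [nsmul_eq_mul, ZMod.natCast_zmod_val, mul_assoc, inv_mul_cancel₀ hi, mul_one]⟩

/-- A vector fixed by a non-diagonal monomial matrix vanishes as soon as one coordinate does. -/
theorem fixed_eq_zero {a : ZMod p → F} (ha : ∀ j, a j ≠ 0) {i : ZMod p} (hi : i ≠ 0)
    {v : ZMod p → F} (hv : mono a i *ᵥ v = v) {j : ZMod p} (hj : v j = 0) : v = 0 := by
  have step : ∀ n : ℕ, v (j + n • i) = 0 := by
    intro n
    induction n with
    | zero => simpa using hj
    | succ n ih =>
      have h := congrFun hv (j + n • i)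
      rw [mono_mulVec, ih, add_assoc, ← succ_nsmul] at h
      exact (mul_eq_zero.1 h).resolve_left (ha _)
  funext x
  obtain ⟨n, hn⟩ := exists_smul_eq hi (x - j)
  have := step n
  rwa [← hn, add_sub_cancel] at this

/-- A nonzero fixed vector forces the product of the entries to be one. -/
theorem prod_eq_one_of_fixed {a : ZMod p → F} (ha : ∀ j, a j ≠ 0) {i : ZMod p} (hi : i ≠ 0)
    {v : ZMod p → F} (hv : mono a i *ᵥ v = v) (hne : v ≠ 0) : ∏ j, a j = 1 := by
  have hz : ∀ j, v j ≠ 0 := fun j h => hne (fixed_eq_zero ha hi hv h)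
  have h1 : ∏ j, v j = (∏ j, a j) * ∏ j, v (j + i) := by
    rw [← Finset.prod_mul_distrib]
    exact Finset.prod_congr rfl fun j _ => by rw [← mono_mulVec, hv]
  rw [Equiv.prod_comp (Equiv.addRight i) v |> (show ∏ j, v (j + i) = _ from ·)] at h1
  exact (mul_eq_right₀ (Finset.prod_ne_zero_iff.2 fun j _ => hz j)).1 h1.symm

/-- The subgroup of monomial matrices with `p`-th roots of unity along a translation. -/
def monoSub (F : Type*) [Field F] (p : ℕ) [Fact p.Prime] [Finite F] : Subgroup (GL (ZMod p) F) :=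
  subgroupOfIdempotent {g | ∃ a : ZMod p → F, (∀ j, a j ^ p = 1) ∧ ∃ i, (g : Matrix (ZMod p) (ZMod p) F) = mono a i}
    ⟨1, 1, fun _ => one_pow p, 0, by rw [mono_one]; rfl⟩
    (by
      ext g
      constructor
      · rintro ⟨u, ⟨a, ha, i, hu⟩, v, ⟨b, hb, k, hv⟩, rfl⟩
        exact ⟨fun j => a j * b (j + i), fun j => by rw [mul_pow, ha, hb, one_mul], i + k,
          by rw [Units.val_mul, hu, hv, mono_mul_mono]⟩
      · intro hg
        exact ⟨g, hg, 1, ⟨1, fun _ => one_pow p, 0, by rw [mono_one]; rfl⟩, mul_one g⟩)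

variable [Fintype F]

theorem mem_monoSub {g : GL (ZMod p) F} : g ∈ monoSub F p ↔
    ∃ a : ZMod p → F, (∀ j, a j ^ p = 1) ∧ ∃ i, (g : Matrix (ZMod p) (ZMod p) F) = mono a i :=
  Iff.rfl

omit [Fintype F] in
theorem ne_zero_of_pow {x : F} (h : x ^ p = 1) : x ≠ 0 := fun e => by
  rw [e, zero_pow hp.out.ne_zero] at h
  exact zero_ne_one h

omit [Fintype F] in
theorem mono_injective {a b : ZMod p → F} (ha : ∀ j, a j ≠ 0) {i k : ZMod p}
    (h : mono a i = mono b k) : a = b ∧ i = k := by
  have key : i = k := by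
    by_contra hne
    have := congrFun (congrFun h 0) (0 + i)
    rw [mono_apply, mono_apply, if_pos rfl, if_neg (fun e => hne (add_left_cancel e))] at this
    exact ha 0 this
  subst key
  refine ⟨funext fun j => ?_, rfl⟩
  have := congrFun (congrFun h j) (j + i)
  rwa [mono_apply, mono_apply, if_pos rfl, if_pos rfl] at this

omit [Fintype F] in
theorem exists_unit_mono {a : ZMod p → F} (ha : ∀ j, a j ≠ 0) (i : ZMod p) :
    ∃ g : GL (ZMod p) F, (g : Matrix (ZMod p) (ZMod p) F) = mono a i := by
  refine ⟨⟨mono a i, mono (fun j => (a (j + -i))⁻¹) (-i), ?_, ?_⟩, rfl⟩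
  · rw [mono_mul_mono, add_neg_cancel, ← mono_one]
    congr 1
    funext j
    rw [Pi.one_apply, add_assoc, add_neg_cancel, add_zero, mul_inv_cancel₀ (ha j)]
  · rw [mono_mul_mono, neg_add_cancel, ← mono_one]
    congr 1
    funext j
    rw [Pi.one_apply, inv_mul_cancel₀ (ha _)]

theorem card_monoSub (h1 : p ∣ Fintype.card F - 1) : Nat.card (monoSub F p) = p ^ (p + 1) := by
  classical
  obtain ⟨ω, hω⟩ := exists_prime_orderOf_dvd_card (G := Fˣ) p (by rwa [Fintype.card_units])
  have hroots : Nat.card {x : F // x ^ p = 1} = p := by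
    have hprim : IsPrimitiveRoot (ω : F) p := by
      rw [IsPrimitiveRoot.iff_orderOf, orderOf_units, hω]
    rw [Nat.card_congr (Equiv.subtypeEquivRight (q := fun x => x ∈ Polynomial.nthRootsFinset p (1 : F))
        (fun x => (Polynomial.mem_nthRootsFinset hp.out.pos (1 : F)).symm)),
      Nat.card_eq_fintype_card, Fintype.card_coe, hprim.card_nthRootsFinset]
  have e : (ZMod p → {x : F // x ^ p = 1}) × ZMod p ≃ monoSub F p := by
    refine Equiv.ofBijective (fun q =>
      ⟨(exists_unit_mono (fun j => ne_zero_of_pow (q.1 j).2) q.2).choose,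
        mem_monoSub.2 ⟨fun j => (q.1 j).1, fun j => (q.1 j).2, q.2,
          (exists_unit_mono (fun j => ne_zero_of_pow (q.1 j).2) q.2).choose_spec⟩⟩) ⟨?_, ?_⟩
    · rintro ⟨a, i⟩ ⟨b, k⟩ h
      have h' := congrArg (fun g : monoSub F p => ((g : GL (ZMod p) F) : Matrix (ZMod p) (ZMod p) F)) h
      simp only [(exists_unit_mono (fun j => ne_zero_of_pow (a j).2) i).choose_spec,
        (exists_unit_mono (fun j => ne_zero_of_pow (b j).2) k).choose_spec] at h'
      obtain ⟨e1, e2⟩ := mono_injective (fun j => ne_zero_of_pow (a j).2) h'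
      exact Prod.ext (funext fun j => Subtype.ext (congrFun e1 j)) e2
    · rintro ⟨g, hg⟩
      obtain ⟨a, ha, i, hai⟩ := mem_monoSub.1 hg
      exact ⟨⟨fun j => ⟨a j, ha j⟩, i⟩, Subtype.ext (Units.ext
        ((exists_unit_mono (fun j => ne_zero_of_pow (ha j)) i).choose_spec.trans hai.symm))⟩
  rw [← Nat.card_congr e, Nat.card_prod, Nat.card_fun, hroots, Nat.card_zmod, pow_succ]

theorem factorization_card (hp2 : p ≠ 2) (h1 : p ∣ Fintype.card F - 1)
    (h2 : ¬ p ^ 2 ∣ Fintype.card F - 1) :
    (Nat.card (GL (ZMod p) F)).factorization p = p + 1 := by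
  have hq : 1 < Fintype.card F := Fintype.one_lt_card
  set q := Fintype.card F with hqdef
  have hpq : ¬ p ∣ q := fun h => by
    have h' := Nat.dvd_sub h h1
    rw [show q - (q - 1) = 1 by omega] at h'
    exact hp.out.not_dvd_one h'
  have hv1 : padicValNat p (q - 1) = 1 := by
    have hge : 1 ≤ padicValNat p (q - 1) := one_le_padicValNat_of_dvd (by omega) h1
    have hlt : ¬ 2 ≤ padicValNat p (q - 1) := fun h =>
      h2 ((pow_dvd_pow p h).trans pow_padicValNat_dvd)
    omega
  have hv : ∀ m : ℕ, m ≠ 0 → padicValNat p (q ^ m - 1) = 1 + padicValNat p m := fun m hm => by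
    have := padicValNat.pow_sub_pow (p := p) (hp.out.odd_of_ne_two hp2) (x := q) (y := 1)
      (by omega) h1 hpq (n := m) hm
    rwa [one_pow, hv1] at this
  have hcard : Nat.card (GL (ZMod p) F) = ∏ i : Fin p, (q ^ p - q ^ (i : ℕ)) := by
    rw [Nat.card_congr (Units.mapEquiv
        (Matrix.reindexAlgEquiv F F (ZMod.finEquiv p).symm.toEquiv).toMulEquiv).toEquiv]
    exact Matrix.card_GL_field p
  have hne : ∀ i : Fin p, q ^ p - q ^ (i : ℕ) ≠ 0 := fun i => by
    have := Nat.pow_lt_pow_right hq i.2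
    omega
  have hterm : ∀ i : Fin p, padicValNat p (q ^ p - q ^ (i : ℕ)) = 1 + padicValNat p (p - (i : ℕ)) := by
    intro i
    have hi := i.2
    have e : q ^ p - q ^ (i : ℕ) = q ^ (i : ℕ) * (q ^ (p - (i : ℕ)) - 1) := by
      rw [Nat.mul_sub, mul_one, ← pow_add, Nat.add_sub_cancel' hi.le]
    have hne' := hne i
    rw [e] at hne' ⊢
    rw [padicValNat.mul (mul_ne_zero_iff.1 hne').1 (mul_ne_zero_iff.1 hne').2, hv _ (by omega),
      padicValNat.eq_zero_of_not_dvd (fun h => hpq (hp.out.dvd_of_dvd_pow h)), zero_add]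
  rw [hcard, Nat.factorization_prod (fun i _ => hne i), Finsupp.finset_sum_apply]
  simp only [Nat.factorization_def _ hp.out, hterm, Finset.sum_add_distrib, Finset.sum_const,
    Finset.card_univ, Fintype.card_fin, smul_eq_mul, mul_one]
  rw [Finset.sum_eq_single ⟨0, hp.out.pos⟩]
  · simp [padicValNat_self]
  · intro i _ hi
    refine padicValNat.eq_zero_of_not_dvd fun h => ?_
    have hi' : 0 < (i : ℕ) := Nat.pos_of_ne_zero fun e => hi (Fin.ext e)
    have := Nat.le_of_dvd (by have := i.2; omega) h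
    omega
  · exact fun h => absurd (Finset.mem_univ _) h

omit [Fintype F] in
theorem col_ne_zero (g : GL (ZMod p) F) {c : ZMod p → F}
    (hc : (g : Matrix (ZMod p) (ZMod p) F) *ᵥ c = 0) : c = 0 := by
  have := congrArg (((g⁻¹ : GL (ZMod p) F) : Matrix (ZMod p) (ZMod p) F) *ᵥ ·) hc
  simpa [Matrix.mulVec_mulVec, ← Units.val_mul] using this

/-- An element with two nonzero entries in a row does not normalize `monoSub`. -/
theorem not_mem_normalizer (hp2 : p ≠ 2) (h1 : p ∣ Fintype.card F - 1) (g : GL (ZMod p) F)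
    {j k l : ZMod p} (hkl : k ≠ l) (hk : (g : Matrix (ZMod p) (ZMod p) F) j k ≠ 0)
    (hl : (g : Matrix (ZMod p) (ZMod p) F) j l ≠ 0) :
    g ∉ Subgroup.normalizer ((monoSub F p : Subgroup (GL (ZMod p) F)) : Set (GL (ZMod p) F)) := by
  classical
  intro hg
  obtain ⟨ω, hω⟩ := exists_prime_orderOf_dvd_card (G := Fˣ) p (by rwa [Fintype.card_units])
  have hω1 : (ω : F) ≠ 1 := fun e => by
    rw [Units.val_eq_one.1 e, orderOf_one] at hω
    exact hp.out.ne_one hω.symm
  have hωp : (ω : F) ^ p = 1 := by rw [← Units.val_pow_eq_pow_val, ← hω, pow_orderOf_eq_one, Units.val_one]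
  set b : ZMod p → F := fun x => if x = k then (ω : F) else 1 with hb
  have hbp : ∀ x, b x ^ p = 1 := fun x => by
    by_cases hx : x = k <;> simp [hb, hx, hωp]
  obtain ⟨d, hd⟩ := exists_unit_mono (fun x => ne_zero_of_pow (hbp x)) 0
  have he := (Subgroup.mem_normalizer_iff.1 hg d).1 (mem_monoSub.2 ⟨b, hbp, 0, hd⟩)
  obtain ⟨a, ha, i, hai⟩ := mem_monoSub.1 he
  set M := (g : Matrix (ZMod p) (ZMod p) F) with hM
  have hrel : mono a i * M = M * Matrix.diagonal b := by
    rw [← hai, ← mono_zero_eq, ← hd, hM, ← Units.val_mul, ← Units.val_mul, inv_mul_cancel_right]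
  have ent : ∀ x y, a x * M (x + i) y = M x y * b y := fun x y => by
    rw [← mono_mul, hrel, Matrix.mul_diagonal]
  rcases eq_or_ne i 0 with rfl | hi
  · have e1 := ent j k
    have e2 := ent j l
    simp only [add_zero, hb, if_pos, if_neg (Ne.symm hkl), mul_one] at e1 e2
    have ha1 : a j = 1 := (mul_eq_right₀ hl).1 e2
    rw [ha1, one_mul] at e1
    exact hω1 ((mul_eq_left₀ hk).1 e1.symm)
  · obtain ⟨y, hyk, hyl⟩ : ∃ y : ZMod p, y ≠ k ∧ y ≠ l := by
      obtain ⟨y, -, hy⟩ := Finset.exists_mem_notMem_of_card_lt_card (s := ({k, l} : Finset (ZMod p)))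
        (t := Finset.univ) (by
          rw [Finset.card_univ, ZMod.card, Finset.card_pair hkl]
          have := hp.out.two_le
          omega)
      exact ⟨y, by simpa using hy⟩
    -- two independent fixed vectors
    have hfix : ∀ z, z ≠ k → mono a i *ᵥ (fun x => M x z) = fun x => M x z := fun z hz => by
      funext x
      rw [mono_mulVec, ent x z]
      simp [hb, hz]
    set c : ZMod p → F := M 0 y • (Pi.single l 1 : ZMod p → F) - M 0 l • Pi.single y 1 with hc
    have hMc : M *ᵥ c = M 0 y • (fun x => M x l) - M 0 l • (fun x => M x y) := by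
      rw [hc, Matrix.mulVec_sub, Matrix.mulVec_smul, Matrix.mulVec_smul, Matrix.mulVec_single_one,
        Matrix.mulVec_single_one]
      rfl
    have h0 : M *ᵥ c = 0 := by
      refine fixed_eq_zero (fun x => ne_zero_of_pow (ha x)) hi (v := M *ᵥ c) ?_ (j := 0) ?_
      · rw [hMc, Matrix.mulVec_sub, Matrix.mulVec_smul, Matrix.mulVec_smul, hfix l (Ne.symm hkl), hfix y hyk]
      · rw [hMc]
        simp [mul_comm]
    have hczero := col_ne_zero g h0
    have hl0 : M 0 l = 0 := by
      have := congrFun hczero y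
      simpa [hc, Pi.single_apply, hyl] using this
    have hz : (fun x => M x l) = 0 :=
      fixed_eq_zero (fun x => ne_zero_of_pow (ha x)) hi (hfix l (Ne.symm hkl)) hl0
    exact hl (congrFun hz j)

omit [Fintype F] in
/-- The matrix of powers of distinct field elements is invertible. -/
theorem det_powers_ne_zero {d : ZMod p → F} (hd : Function.Injective d) :
    (Matrix.of fun j k : ZMod p => d j ^ k.val).det ≠ 0 := by
  let e : Fin p ≃ ZMod p :=
    { toFun := fun m => (m : ℕ)
      invFun := fun k => ⟨k.val, ZMod.val_lt k⟩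
      left_inv := fun m => Fin.ext (ZMod.val_cast_of_lt m.2)
      right_inv := fun k => ZMod.natCast_zmod_val k }
  have h : (Matrix.of fun j k : ZMod p => d j ^ k.val) =
      (Matrix.vandermonde (d ∘ e)).submatrix e.symm e.symm := by
    ext j k
    simp only [Matrix.submatrix_apply, Matrix.vandermonde_apply, Function.comp_apply,
      Equiv.apply_symm_apply, Matrix.of_apply]
    rfl
  rw [h, Matrix.det_submatrix_equiv_self, Matrix.det_vandermonde_ne_zero_iff]
  exact hd.comp e.injective

/-- Every element of `monoSub` is conjugate into `monoSub` by an element outside the normalizer. -/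
theorem exists_witness (hp2 : p ≠ 2) (h1 : p ∣ Fintype.card F - 1) {x : GL (ZMod p) F}
    (hx : x ∈ monoSub F p) :
    ∃ g : GL (ZMod p) F, g⁻¹ * x * g ∈ monoSub F p ∧
      g ∉ Subgroup.normalizer ((monoSub F p : Subgroup (GL (ZMod p) F)) : Set (GL (ZMod p) F)) := by
  classical
  obtain ⟨a, ha, i, hai⟩ := mem_monoSub.1 hx
  have ha0 : ∀ j, a j ≠ 0 := fun j => ne_zero_of_pow (ha j)
  have commutes : ∀ g : GL (ZMod p) F, Commute (x : Matrix (ZMod p) (ZMod p) F) g →
      g⁻¹ * x * g ∈ monoSub F p := fun g hg => by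
    rw [mul_assoc, show x * g = g * x from Units.ext hg.eq, inv_mul_cancel_left]
    exact hx
  have via : ∀ (g : GL (ZMod p) F) (b : ZMod p → F) (k : ZMod p), (∀ j, b j ^ p = 1) →
      mono a i * (g : Matrix (ZMod p) (ZMod p) F) = g * mono b k → g⁻¹ * x * g ∈ monoSub F p := by
    intro g b k hb h
    refine mem_monoSub.2 ⟨b, hb, k, ?_⟩
    rw [Units.val_mul, Units.val_mul, hai, mul_assoc, h, ← mul_assoc, ← Units.val_mul,
      inv_mul_cancel, Units.val_one, one_mul]
  have h01 : (0 : ZMod p) ≠ 1 := zero_ne_one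
  rcases eq_or_ne i 0 with rfl | hi
  · by_cases hinj : Function.Injective a
    · -- all roots of unity occur
      refine ⟨Matrix.GeneralLinearGroup.mkOfDetNeZero _ (det_powers_ne_zero hinj), via _ 1 (-1)
        (fun _ => one_pow p) ?_, not_mem_normalizer hp2 h1 _ (j := 0) h01 ?_ ?_⟩
      · ext j k
        rw [mono_mul, add_zero]
        simp only [Matrix.GeneralLinearGroup.mkOfDetNeZero, Matrix.GeneralLinearGroup.mk',
          Matrix.mul_apply, mono_apply, Pi.one_apply, mul_ite, mul_one, mul_zero, Matrix.of_apply]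
        rw [Finset.sum_eq_single (k + 1)]
        · rw [if_pos (add_neg_cancel_right k 1).symm]
          show a j * a j ^ k.val = a j ^ (k + 1).val
          rw [ZMod.val_add, ← pow_eq_pow_mod _ (ha j), ZMod.val_one, ← pow_succ']
        · intro m _ hm
          exact if_neg fun e => hm (by rw [e, neg_add_cancel_right])
        · exact fun h => absurd (Finset.mem_univ _) h
      · exact pow_ne_zero _ (ha0 0)
      · exact pow_ne_zero _ (ha0 0)
    · -- a transvection commutes with `x`
      simp only [Function.Injective, not_forall] at hinj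
      obtain ⟨j, k, hjk, hne⟩ := hinj
      refine ⟨Matrix.GeneralLinearGroup.mkOfDetNeZero (Matrix.transvection j k (1 : F))
          (by rw [Matrix.det_transvection_of_ne j k hne]; exact one_ne_zero), commutes _ ?_,
        not_mem_normalizer hp2 h1 _ (j := j) hne ?_ ?_⟩
      · rw [hai, mono_zero_eq]
        show Matrix.diagonal a * Matrix.transvection j k 1 = Matrix.transvection j k 1 * Matrix.diagonal a
        ext u v
        rw [Matrix.diagonal_mul, Matrix.mul_diagonal]
        simp only [Matrix.transvection, Matrix.add_apply, Matrix.one_apply, Matrix.single_apply]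
        by_cases huv : u = v
        · subst huv; ring
        · by_cases hc : j = u ∧ k = v
          · obtain ⟨rfl, rfl⟩ := hc; rw [hjk]; ring
          · simp [huv, hc]
      · show Matrix.transvection j k (1 : F) j j ≠ 0
        simp [Matrix.transvection, Matrix.single_apply, Ne.symm hne]
      · show Matrix.transvection j k (1 : F) j k ≠ 0
        simp [Matrix.transvection, hne]
  · by_cases hprod : ∏ j, a j = 1
    · -- `x` is diagonalized by a monomial times a Vandermonde matrix
      obtain ⟨ω, hω⟩ := exists_prime_orderOf_dvd_card (G := Fˣ) p (by rwa [Fintype.card_units])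
      set χ : ZMod p → F := fun m => (ω : F) ^ m.val with hχ
      have hωp : (ω : F) ^ p = 1 := by
        rw [← Units.val_pow_eq_pow_val, ← hω, pow_orderOf_eq_one, Units.val_one]
      have hχadd : ∀ u v, χ (u + v) = χ u * χ v := fun u v => by
        simp only [hχ]
        rw [ZMod.val_add, ← pow_eq_pow_mod _ hωp, pow_add]
      have hχinj : Function.Injective χ := fun u v h => by
        refine ZMod.val_injective p (pow_injOn_Iio_orderOf (x := ω) ?_ ?_ (Units.ext (by simpa [hχ] using h)))
        · rw [Set.mem_Iio, hω]; exact ZMod.val_lt u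
        · rw [Set.mem_Iio, hω]; exact ZMod.val_lt v
      set β : ℕ → F := fun n => ∏ m ∈ Finset.range n, (a (m • i))⁻¹ with hβ
      have hβp : β p = 1 := by
        simp only [hβ, Finset.prod_inv_distrib, inv_eq_one]
        rw [← hprod]
        refine Finset.prod_bij (fun m _ => m • i) (fun m _ => Finset.mem_univ _) (fun m hm n hn e => ?_)
          (fun y _ => ?_) (fun m _ => rfl)
        · rw [nsmul_eq_mul, nsmul_eq_mul] at e
          have e' := congrArg ZMod.val (mul_right_cancel₀ hi e)
          rwa [ZMod.val_cast_of_lt (Finset.mem_range.1 hm), ZMod.val_cast_of_lt (Finset.mem_range.1 hn)] at e'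
        · exact ⟨(y * i⁻¹).val, Finset.mem_range.2 (ZMod.val_lt _), by
            rw [nsmul_eq_mul, ZMod.natCast_zmod_val, mul_assoc, inv_mul_cancel₀ hi, mul_one]⟩
      set b : ZMod p → F := fun j => β (j * i⁻¹).val with hb
      have hb0 : ∀ j, b j ≠ 0 := fun j =>
        Finset.prod_ne_zero_iff.2 fun m _ => inv_ne_zero (ha0 _)
      have hbstep : ∀ j, a j * b (j + i) = b j := by
        intro j
        have hn : (j * i⁻¹).val • i = j := by
          rw [nsmul_eq_mul, ZMod.natCast_zmod_val, mul_assoc, inv_mul_cancel₀ hi, mul_one]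
        have hval : ((j + i) * i⁻¹).val = ((j * i⁻¹).val + 1) % p := by
          rw [add_mul, mul_inv_cancel₀ hi, ZMod.val_add, ZMod.val_one]
        have hβsucc : β ((j * i⁻¹).val + 1) = β (j * i⁻¹).val * (a j)⁻¹ := by
          simp only [hβ, Finset.prod_range_succ, hn]
        have hwrap : β (((j * i⁻¹).val + 1) % p) = β ((j * i⁻¹).val + 1) := by
          rcases (Nat.succ_le_of_lt (ZMod.val_lt (j * i⁻¹))).lt_or_eq with h | h
          · rw [Nat.mod_eq_of_lt h]
          · rw [show (j * i⁻¹).val + 1 = p from h, Nat.mod_self, hβp]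
            simp [hβ]
        simp only [hb, hval]
        rw [hwrap, hβsucc, mul_left_comm, mul_inv_cancel₀ (ha0 j), mul_one]
      let V : Matrix (ZMod p) (ZMod p) F := Matrix.of fun j k => b j * χ j ^ k.val
      have hV : V.det ≠ 0 := by
        rw [show V = Matrix.diagonal b * Matrix.of (fun j k : ZMod p => χ j ^ k.val) from
          Matrix.ext fun j k => by rw [Matrix.diagonal_mul]; rfl, Matrix.det_mul, Matrix.det_diagonal]
        exact mul_ne_zero (Finset.prod_ne_zero_iff.2 fun j _ => hb0 j) (det_powers_ne_zero hχinj)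
      have hV0 : ∀ j k, V j k ≠ 0 := fun j k => mul_ne_zero (hb0 j) (pow_ne_zero _ (pow_ne_zero _ ω.ne_zero))
      refine ⟨Matrix.GeneralLinearGroup.mkOfDetNeZero V hV,
        via _ (fun k => χ i ^ k.val) 0 (fun k => ?_) ?_,
        not_mem_normalizer hp2 h1 _ (j := 0) h01 (hV0 0 0) (hV0 0 1)⟩
      · show (((ω : F) ^ i.val) ^ k.val) ^ p = 1
        rw [← pow_mul, ← pow_mul, show i.val * (k.val * p) = p * (i.val * k.val) by ring, pow_mul, hωp, one_pow]
      · show mono a i * V = V * mono _ 0
        ext j k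
        rw [mono_mul, mono_zero_eq, Matrix.mul_diagonal]
        show a j * (b (j + i) * χ (j + i) ^ k.val) = b j * χ j ^ k.val * χ i ^ k.val
        rw [hχadd, mul_pow, ← mul_assoc, hbstep, mul_assoc]
    · -- `x - 1` is invertible and commutes with `x`
      have hdet : (mono a i - 1).det ≠ 0 := by
        intro h
        obtain ⟨v, hv, hv'⟩ := Matrix.exists_mulVec_eq_zero_iff.2 h
        rw [Matrix.sub_mulVec, Matrix.one_mulVec, sub_eq_zero] at hv'
        exact hprod (prod_eq_one_of_fixed ha0 hi hv' hv)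
      refine ⟨Matrix.GeneralLinearGroup.mkOfDetNeZero _ hdet, commutes _ ?_,
        not_mem_normalizer hp2 h1 _ (j := 0) (k := 0) (l := 0 + i)
          (fun e => hi (by simpa using e.symm)) ?_ ?_⟩
      · rw [hai]
        exact (Commute.refl (mono a i)).sub_right (Commute.one_right _)
      · show (mono a i - 1) 0 0 ≠ 0
        simp [mono_apply, hi.symm]
      · show (mono a i - 1) 0 (0 + i) ≠ 0
        simp [mono_apply, Matrix.one_apply_ne hi.symm, ha0 0]

theorem exists_redundant (hp2 : p ≠ 2) (h1 : p ∣ Fintype.card F - 1)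
    (h2 : ¬ p ^ 2 ∣ Fintype.card F - 1) :
    ∃ Q : Sylow p (GL (ZMod p) F), ∀ x : GL (ZMod p) F,
      (∃ k : ℕ, orderOf x = p ^ k) → ∃ P : Sylow p (GL (ZMod p) F), P ≠ Q ∧ x ∈ P := by
  let Q : Sylow p (GL (ZMod p) F) := Sylow.ofCard (monoSub F p)
    (by rw [factorization_card hp2 h1 h2, card_monoSub h1])
  refine ⟨Q, fun x hx => ?_⟩
  by_cases hxQ : x ∈ Q
  · obtain ⟨g, hg, hgn⟩ := exists_witness hp2 h1 (x := x) hxQ
    refine ⟨g • Q, fun e => hgn (Sylow.smul_eq_iff_mem_normalizer.1 e), ?_⟩
    show x ∈ ((g • Q : Sylow p (GL (ZMod p) F)) : Subgroup _)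
    rw [Sylow.coe_subgroup_smul, Subgroup.mem_pointwise_smul_iff_inv_smul_mem, ← map_inv,
      MulAut.smul_def, MulAut.conj_apply, inv_inv]
    exact hg
  · obtain ⟨k, hk⟩ := hx
    obtain ⟨P, hP⟩ := (IsPGroup.of_card (n := k) (G := Subgroup.zpowers x)
      (by rw [Nat.card_zpowers, hk])).exists_le_sylow
    exact ⟨P, fun e => hxQ (e ▸ hP (Subgroup.mem_zpowers x)), hP (Subgroup.mem_zpowers x)⟩

/-- Transport to `Fin p`. -/
theorem exists_redundant_fin (hp2 : p ≠ 2) (h1 : p ∣ Fintype.card F - 1)
    (h2 : ¬ p ^ 2 ∣ Fintype.card F - 1) :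
    ∃ Q : Sylow p (GL (Fin p) F), ∀ x : GL (Fin p) F,
      (∃ k : ℕ, orderOf x = p ^ k) → ∃ P : Sylow p (GL (Fin p) F), P ≠ Q ∧ x ∈ P := by
  obtain ⟨Q, hQ⟩ := exists_redundant (F := F) hp2 h1 h2
  let e : GL (ZMod p) F ≃* GL (Fin p) F :=
    Units.mapEquiv (Matrix.reindexAlgEquiv F F (ZMod.finEquiv p).symm.toEquiv).toMulEquiv
  refine ⟨Sylow.mapSurjective (f := e.toMonoidHom) e.surjective Q, fun y hy => ?_⟩
  obtain ⟨P, hP, hyP⟩ := hQ (e.symm y) (by rwa [MulEquiv.orderOf_eq])
  refine ⟨Sylow.mapSurjective (f := e.toMonoidHom) e.surjective P, fun h => hP (Sylow.ext ?_),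
    ⟨e.symm y, hyP, e.apply_symm_apply y⟩⟩
  have h' := congrArg Sylow.toSubgroup h
  exact Subgroup.map_injective e.injective h'

end CfsgLib.Classical.GLRedundant
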