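/-
Hilbert's theorem 90 and norm surjectivity for finite commutative rings with an involution, and square roots
for self-adjoint units of finite algebras with a semilinear involution.
-/
import Mathlib

set_option autoImplicit false

namespace CfsgLib.Classical.InvolNorm

open Polynomial

section CommRing

variable {R : Type*} [CommRing R] [Finite R] (σ : R →+* R)

/-- Hilbert's theorem 90. -/
theorem exists_unit_twist (hσ : ∀ a, σ (σ a) = a)
    (hc : ∀ M : Ideal R, M.IsMaximal → M.comap σ = M → ∃ c, c - σ c ∉ M)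
    {u : R} (hu : u * σ u = 1) : ∃ z, IsUnit z ∧ u * σ z = z := by
  classical
  suffices h : ∃ a, ∀ M : Ideal R, M.IsMaximal → a + u * σ a ∉ M by
    obtain ⟨a, ha⟩ := h
    refine ⟨a + u * σ a, ?_, ?_⟩
    · by_contra hn
      obtain ⟨M, hM, hle⟩ := Ideal.exists_le_maximal (Ideal.span {a + u * σ a})
        (fun h => hn (Ideal.span_singleton_eq_top.1 h))
      exact ha M hM (hle (Ideal.mem_span_singleton_self _))
    · rw [map_add, map_mul, hσ]
      linear_combination a * hu
  have hsurj : Function.Surjective σ := fun b => ⟨σ b, hσ b⟩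
  have hmax : ∀ M : Ideal R, M.IsMaximal → (M.comap σ).IsMaximal := fun M hM =>
    Ideal.comap_isMaximal_of_surjective σ hsurj (H := hM)
  have hττ : ∀ M : Ideal R, (M.comap σ).comap σ = M := fun M => by ext a; simp [hσ]
  let S := MaximalSpectrum R
  haveI : Finite S := inferInstance
  obtain ⟨f, hf⟩ : ∃ f : S → ℕ, Function.Injective f := by
    obtain ⟨n, ⟨e⟩⟩ := Finite.exists_equiv_fin S
    exact ⟨fun s => e s, Fin.val_injective.comp e.injective⟩
  let τ : S → S := fun M => ⟨M.asIdeal.comap σ, hmax _ M.isMaximal⟩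
  have hr : ∀ M : S, τ M = M → ∃ r, r + u * σ r ∉ M.asIdeal := by
    intro M hM
    by_cases h1 : (1 : R) + u * σ 1 ∈ M.asIdeal
    · obtain ⟨c, hc'⟩ := hc _ M.isMaximal (congrArg MaximalSpectrum.asIdeal hM)
      refine ⟨c, fun h => hc' ?_⟩
      rw [map_one, mul_one] at h1
      have h2 := M.asIdeal.sub_mem h (M.asIdeal.mul_mem_left (σ c) h1)
      rwa [show c + u * σ c - σ c * (1 + u) = c - σ c by ring] at h2
    · exact ⟨1, h1⟩
  choose! r hr using hr
  let x : S → R := fun M => if τ M = M then r M else if f M < f (τ M) then 1 else 0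
  have hI : Pairwise (Function.onFun IsCoprime fun M : S => M.asIdeal) := fun M M' h =>
    Ideal.isCoprime_iff_sup_eq.2 (M.isMaximal.coprime_of_ne M'.isMaximal fun e => h (MaximalSpectrum.ext e))
  obtain ⟨a, ha⟩ := Ideal.exists_forall_sub_mem_ideal hI x
  refine ⟨a, fun M0 hM0 hmem => ?_⟩
  obtain ⟨M, rfl⟩ : ∃ M : S, M.asIdeal = M0 := ⟨⟨M0, hM0⟩, rfl⟩
  have hne1 : (1 : R) ∉ M.asIdeal := fun h => M.isMaximal.ne_top ((Ideal.eq_top_iff_one _).2 h)
  have hu' : u ∉ M.asIdeal := fun h => hne1 (hu ▸ M.asIdeal.mul_mem_right (σ u) h)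
  have hτa : σ (a - x (τ M)) ∈ M.asIdeal := ha (τ M)
  have hττ' : τ (τ M) = M := MaximalSpectrum.ext (hττ M.asIdeal)
  by_cases he : τ M = M
  · rw [he] at hτa
    apply hr M he
    have h1 := ha M
    simp only [x, if_pos he] at h1 hτa
    rw [map_sub] at hτa
    have h2 := M.asIdeal.sub_mem hmem (M.asIdeal.add_mem h1 (M.asIdeal.mul_mem_left u hτa))
    rwa [show a + u * σ a - (a - r M + u * (σ a - σ (r M))) = r M + u * σ (r M) by ring] at h2
  · have he' : τ (τ M) ≠ τ M := by rw [hττ']; exact Ne.symm he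
    have h1 := ha M
    simp only [x, if_neg he, if_neg he', hττ'] at h1 hτa
    rcases lt_trichotomy (f M) (f (τ M)) with hlt | heq | hgt
    · rw [if_pos hlt] at h1
      rw [if_neg (not_lt.2 hlt.le), sub_zero] at hτa
      have h2 := M.asIdeal.sub_mem hmem (M.asIdeal.add_mem h1 (M.asIdeal.mul_mem_left u hτa))
      exact hne1 (by rwa [show a + u * σ a - (a - 1 + u * σ a) = 1 by ring] at h2)
    · exact he (hf heq).symm
    · rw [if_neg (not_lt.2 hgt.le), sub_zero] at h1
      rw [if_pos hgt, map_sub, map_one] at hτa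
      have h2 := M.asIdeal.sub_mem hmem (M.asIdeal.add_mem h1 (M.asIdeal.mul_mem_left u hτa))
      exact hu' (by rwa [show a + u * σ a - (a + u * (σ a - 1)) = u by ring] at h2)

/-- Every fixed unit is a norm. -/
theorem exists_norm_unit (hσ : ∀ a, σ (σ a) = a)
    (hc : ∀ M : Ideal R, M.IsMaximal → M.comap σ = M → ∃ c, c - σ c ∉ M)
    {e : R} (he : IsUnit e) (hfix : σ e = e) : ∃ z, IsUnit z ∧ z * σ z = e := by
  classical
  let s : Rˣ →* Rˣ := Units.map σ.toMonoidHom
  let N : Rˣ →* Rˣ := MonoidHom.id Rˣ * s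
  let ψ : Rˣ →* Rˣ := MonoidHom.id Rˣ / s
  have hss : ∀ z, s (s z) = z := fun z => Units.ext (hσ z)
  have hrange : N.ker ≤ ψ.range := by
    intro u hu
    have h : (u : R) * σ u = 1 := congrArg Units.val (MonoidHom.mem_ker.1 hu)
    obtain ⟨z, hz, hz'⟩ := exists_unit_twist σ hσ hc h
    obtain ⟨z, rfl⟩ := hz
    refine ⟨z, ?_⟩
    show z / s z = u
    rw [div_eq_iff_eq_mul]
    exact Units.ext hz'.symm
  have hNle : N.range ≤ ψ.ker := by
    rintro _ ⟨z, rfl⟩
    rw [MonoidHom.mem_ker]
    show (z * s z) / s (z * s z) = 1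
    rw [map_mul, hss, mul_comm z, div_self']
  have hψle : Nat.card N.ker ≤ Nat.card ψ.range := Nat.card_le_card_of_injective _ (Subgroup.inclusion_injective hrange)
  have hle : Nat.card ψ.ker ≤ Nat.card N.range := by
    have h1 := Subgroup.card_mul_index N.ker
    have h2 := Subgroup.card_mul_index ψ.ker
    rw [Subgroup.index_ker] at h1 h2
    have hp : 0 < Nat.card N.ker := Nat.card_pos
    exact Nat.le_of_mul_le_mul_left (by nlinarith) hp
  have heq := Subgroup.eq_of_le_of_card_ge hNle hle
  obtain ⟨e, rfl⟩ := he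
  obtain ⟨z, hz⟩ : e ∈ N.range := by
    rw [heq, MonoidHom.mem_ker]
    show e / s e = 1
    rw [div_eq_one]
    exact Units.ext hfix.symm
  exact ⟨z, z.isUnit, congrArg Units.val hz⟩

end CommRing

section Algebra

variable {K A : Type*} [Field K] [Finite K] [Ring A] [Finite A] [Algebra K A] (s : A → A) (κ : K → K)
  (hadd : ∀ a b, s (a + b) = s a + s b) (hmul : ∀ a b, s (a * b) = s b * s a) (hsone : s 1 = 1)
  (hscal : ∀ k, s (algebraMap K A k) = algebraMap K A (κ k))

/-- The commutative subalgebra generated by one element. -/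
noncomputable abbrev Gen (K : Type*) {A : Type*} [Field K] [Ring A] [Algebra K A] (t : A) : Subalgebra K A :=
  (Polynomial.aeval t : K[X] →ₐ[K] A).range

theorem gen_mul_comm {t : A} (a b : Gen K t) : a * b = b * a := by
  obtain ⟨_, P, rfl⟩ := a
  obtain ⟨_, Q, rfl⟩ := b
  apply Subtype.ext
  show (aeval t : K[X] →ₐ[K] A) P * aeval t Q = aeval t Q * aeval t P
  rw [← map_mul, ← map_mul, mul_comm]

theorem commute_gen {t y : A} (h : y * t = t * y) {a : A} (ha : a ∈ Gen K t) : y * a = a * y := by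
  obtain ⟨P, rfl⟩ := ha
  show y * aeval t P = aeval t P * y
  induction P using Polynomial.induction_on' with
  | add P Q hP hQ => rw [map_add, mul_add, add_mul, hP, hQ]
  | monomial n c =>
    rw [aeval_monomial, ← mul_assoc, ← Algebra.commutes c y, mul_assoc, (Commute.pow_right h n).eq, mul_assoc]

theorem self_mem_gen (t : A) : t ∈ Gen K t := ⟨X, aeval_X t⟩

include hadd hmul hsone hscal

theorem star_mem_gen {t : A} (ht : s t ∈ Gen K t) {a : A} (ha : a ∈ Gen K t) : s a ∈ Gen K t := by
  obtain ⟨P, rfl⟩ := ha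
  show s (aeval t P) ∈ Gen K t
  induction P using Polynomial.induction_on' with
  | add P Q hP hQ => rw [map_add, hadd]; exact (Gen K t).add_mem hP hQ
  | monomial n c =>
    rw [aeval_monomial, hmul, hscal]
    refine (Gen K t).mul_mem ?_ ((Gen K t).algebraMap_mem _)
    induction n with
    | zero => rw [pow_zero, hsone]; exact (Gen K t).one_mem
    | succ n ih => rw [pow_succ, hmul]; exact (Gen K t).mul_mem ht ih

omit hadd hmul hsone hscal in
theorem isUnit_gen {t : A} {a : Gen K t} (ha : IsUnit (a : A)) : IsUnit a := by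
  have hinj : Function.Injective (fun b : Gen K t => a * b) := fun b b' h =>
    Subtype.ext (ha.mul_left_cancel (congrArg Subtype.val h))
  obtain ⟨b, hb⟩ := (Finite.injective_iff_surjective.1 hinj) 1
  exact ⟨⟨a, b, hb, (gen_mul_comm b a).trans hb⟩, rfl⟩

/-- The involution on the commutative subalgebra, and the hypothesis of Hilbert's theorem 90. -/
theorem exists_ringHom_gen (k : K) (hk : κ k ≠ k) {t : A} (ht : s t ∈ Gen K t)
    (hinv : ∀ a ∈ Gen K t, s (s a) = a) :
    letI : CommRing (Gen K t) := { (inferInstance : Ring (Gen K t)) with mul_comm := gen_mul_comm }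
    ∃ σ : Gen K t →+* Gen K t, (∀ a, ((σ a : Gen K t) : A) = s a) ∧ (∀ a, σ (σ a) = a) ∧
      ∀ M : Ideal (Gen K t), M.IsMaximal → M.comap σ = M → ∃ c, c - σ c ∉ M := by
  letI : CommRing (Gen K t) := { (inferInstance : Ring (Gen K t)) with mul_comm := gen_mul_comm }
  let σ : Gen K t →+* Gen K t :=
    { toFun := fun a => ⟨s a, star_mem_gen s κ hadd hmul hsone hscal ht a.2⟩
      map_one' := Subtype.ext hsone
      map_mul' := fun a b => Subtype.ext (by
        show s ((a : A) * b) = s a * s b
        rw [hmul]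
        exact congrArg Subtype.val (gen_mul_comm (⟨s b, star_mem_gen s κ hadd hmul hsone hscal ht b.2⟩ : Gen K t)
          ⟨s a, star_mem_gen s κ hadd hmul hsone hscal ht a.2⟩))
      map_zero' := Subtype.ext (by
        have h := hadd 0 0
        rw [add_zero] at h
        exact left_eq_add.1 h)
      map_add' := fun a b => Subtype.ext (hadd _ _) }
  refine ⟨σ, fun a => rfl, fun a => Subtype.ext (hinv a a.2), fun M hM _ => ⟨algebraMap K (Gen K t) k, fun h => ?_⟩⟩
  have he : σ (algebraMap K (Gen K t) k) = algebraMap K (Gen K t) (κ k) := Subtype.ext (hscal k)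
  rw [he, ← map_sub] at h
  exact hM.ne_top (Ideal.eq_top_of_isUnit_mem _ h (((sub_ne_zero.2 (Ne.symm hk)).isUnit).map _))

/-- A self-adjoint unit is a norm from the subalgebra it generates. -/
theorem exists_norm_sqrt (k : K) (hk : κ k ≠ k) (hκ : ∀ a, s (s (algebraMap K A a)) = algebraMap K A a)
    {h : A} (hu : IsUnit h) (hh : s h = h) :
    ∃ z, IsUnit z ∧ s z * z = h ∧ ∀ y, y * h = h * y → y * z = z * y := by
  letI : CommRing (Gen K h) := { (inferInstance : Ring (Gen K h)) with mul_comm := gen_mul_comm }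
  have ht : s h ∈ Gen K h := hh.symm ▸ self_mem_gen h
  have hinv : ∀ a ∈ Gen K h, s (s a) = a := by
    rintro _ ⟨P, rfl⟩
    show s (s (aeval h P)) = aeval h P
    induction P using Polynomial.induction_on' with
    | add P Q hP hQ => rw [map_add, hadd, hadd, hP, hQ]
    | monomial n c =>
      have hp : s (s (h ^ n)) = h ^ n := by
        induction n with
        | zero => rw [pow_zero, hsone, hsone]
        | succ n ih => rw [pow_succ, hmul, hmul, hh, hh, ih]
      rw [aeval_monomial, hmul, hmul, hκ, hp]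
  obtain ⟨σ, hσs, hσσ, hc⟩ := exists_ringHom_gen s κ hadd hmul hsone hscal k hk ht hinv
  obtain ⟨z, hz, hzz⟩ := exists_norm_unit σ hσσ hc (isUnit_gen (a := ⟨h, self_mem_gen h⟩) hu) (Subtype.ext (by rw [hσs]; exact hh))
  refine ⟨z, hz.map (Gen K h).val, ?_, fun y hy => commute_gen hy z.2⟩
  have h1 := congrArg Subtype.val hzz
  rw [← hσs]
  exact ((congrArg Subtype.val (gen_mul_comm (σ z) z)).trans h1)

end Algebra

end CfsgLib.Classical.InvolNorm
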