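/-
Conjugacy in the unitary group is controlled by the general linear group.
-/
import Cfsg.Agent.Lib.Classical.InvolutionNorm
import Cfsg.Agent.Lib.Classical.HermBilin
import Cfsg.Agent.Lib.Classical22.UnitaryThree

set_option autoImplicit false

namespace CfsgLib.Classical.GUConj

open Matrix CfsgLib.Classical

variable {K : Type*} [Field K] [Fintype K] {q n : ℕ}

/-- The conjugate transpose for `x ↦ x ^ q`. -/
def starQ (q : ℕ) (M : Matrix (Fin n) (Fin n) K) : Matrix (Fin n) (Fin n) K := (M.map (· ^ q))ᵀ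

variable (hK : Fintype.card K = q ^ 2)
include hK

theorem starQ_add (a b : Matrix (Fin n) (Fin n) K) : starQ q (a + b) = starQ q a + starQ q b := by
  obtain ⟨σ, hσ, -, -⟩ := exists_qPow hK
  ext i j
  simp [starQ, ← hσ]

theorem starQ_mul (a b : Matrix (Fin n) (Fin n) K) : starQ q (a * b) = starQ q b * starQ q a := by
  obtain ⟨σ, hσ, -, -⟩ := exists_qPow hK
  simp only [starQ, show (fun x : K => x ^ q) = σ from funext fun x => (hσ x).symm, Matrix.map_mul, transpose_mul]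

theorem starQ_scal (k : K) : starQ q (algebraMap K (Matrix (Fin n) (Fin n) K) k) = algebraMap K _ (k ^ q) := by
  have := two_le_q hK
  ext i j
  rcases eq_or_ne i j with rfl | h
  · simp [starQ, Matrix.algebraMap_matrix_apply]
  · simp [starQ, Matrix.algebraMap_matrix_apply, h, h.symm, zero_pow (by omega : q ≠ 0)]

theorem starQ_one : starQ q (1 : Matrix (Fin n) (Fin n) K) = 1 := by
  rw [← map_one (algebraMap K (Matrix (Fin n) (Fin n) K)), starQ_scal hK, one_pow]

theorem starQ_starQ (M : Matrix (Fin n) (Fin n) K) : starQ q (starQ q M) = M := by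
  ext i j
  simp [starQ, pow_q_q hK]

theorem mem_gu_iff_starQ (g : GL (Fin n) K) :
    g ∈ Cfsg.GU n K q ↔ starQ q (g : Matrix (Fin n) (Fin n) K) * (g : Matrix (Fin n) (Fin n) K) = 1 := by
  have he : ∀ i j, Cfsg.hermForm n K q ((g : Matrix (Fin n) (Fin n) K) *ᵥ Pi.single i 1)
      ((g : Matrix (Fin n) (Fin n) K) *ᵥ Pi.single j 1) =
      (starQ q (g : Matrix (Fin n) (Fin n) K) * (g : Matrix (Fin n) (Fin n) K)) j i := fun i j => by
    simp [Cfsg.hermForm, Matrix.mul_apply, starQ, mul_comm]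
  constructor
  · intro h
    ext i j
    rw [← he, (CfsgLib.Classical22.UnitaryThree.mem_gu_iff g).1 h _ _,
      hermForm_single_one (le_trans (by norm_num) (two_le_q hK)), Matrix.one_apply]
    simp [eq_comm]
  · intro h
    refine CfsgLib.Classical22.UnitaryThree.mem_of_columns hK g fun i j => ?_
    rw [he, h, Matrix.one_apply]
    simp [eq_comm]

theorem exists_pow_ne : ∃ k : K, k ^ q ≠ k := by
  obtain ⟨σ, hσ, -, hne⟩ := exists_qPow hK
  by_contra hc
  push Not at hc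
  exact hne (RingHom.ext fun k => (hσ k).trans (hc k))

theorem exists_norm_sqrt_starQ {h : Matrix (Fin n) (Fin n) K} (hu : IsUnit h) (hh : starQ q h = h) :
    ∃ z, IsUnit z ∧ starQ q z * z = h ∧ ∀ y, y * h = h * y → y * z = z * y := by
  obtain ⟨k, hk⟩ := exists_pow_ne hK
  exact InvolNorm.exists_norm_sqrt (starQ q) (· ^ q) (starQ_add hK) (starQ_mul hK) (starQ_one hK) (starQ_scal hK) k hk
    (fun a => starQ_starQ hK _) hu hh

theorem isConj_iff_gl (A B : Cfsg.GU n K q) : IsConj A B ↔ IsConj (A : GL (Fin n) K) (B : GL (Fin n) K) := by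
  refine ⟨(Cfsg.GU n K q).subtype.map_isConj, fun h => ?_⟩
  obtain ⟨P, hP⟩ := isConj_iff.1 h
  obtain ⟨a, ha⟩ : ∃ a, a = ((A : GL (Fin n) K) : Matrix (Fin n) (Fin n) K) := ⟨_, rfl⟩
  obtain ⟨b, hb⟩ : ∃ b, b = ((B : GL (Fin n) K) : Matrix (Fin n) (Fin n) K) := ⟨_, rfl⟩
  obtain ⟨p, hp⟩ : ∃ p, p = (P : Matrix (Fin n) (Fin n) K) := ⟨_, rfl⟩
  have hA : starQ q a * a = 1 := ha ▸ (mem_gu_iff_starQ hK _).1 A.2
  have hB : starQ q b * b = 1 := hb ▸ (mem_gu_iff_starQ hK _).1 B.2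
  have hpa : p * a = b * p := by
    have h1 : P * (A : GL (Fin n) K) = (B : GL (Fin n) K) * P := by rw [← hP, inv_mul_cancel_right]
    rw [hp, ha, hb, ← Units.val_mul, ← Units.val_mul, h1]
  have hs : starQ q a * starQ q p = starQ q p * starQ q b := by rw [← starQ_mul hK, hpa, starQ_mul hK]
  obtain ⟨h', hh'⟩ : ∃ h', h' = starQ q p * p := ⟨_, rfl⟩
  have hcomm : a * h' = h' * a := by
    have e1 : starQ q a * h' * a = h' := by
      rw [hh', ← mul_assoc, hs, mul_assoc, mul_assoc, hpa, ← mul_assoc (starQ q b), hB, one_mul]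
    have ha' : a * starQ q a = 1 := mul_eq_one_comm.1 hA
    conv_lhs => rw [← e1]
    rw [← mul_assoc, ← mul_assoc, ha', one_mul]
  have hpu : IsUnit p := hp ▸ P.isUnit
  have hu : IsUnit h' := by
    obtain ⟨r, hr⟩ : ∃ r, p * r = 1 := ⟨_, hp ▸ P.mul_inv⟩
    have : IsUnit (starQ q p) := IsUnit.of_mul_eq_one (starQ q r) (by
      rw [← starQ_mul hK, mul_eq_one_comm.1 hr, starQ_one hK])
    exact hh' ▸ this.mul hpu
  obtain ⟨z, hzu, hzz, hzc⟩ := exists_norm_sqrt_starQ hK hu (by rw [hh', starQ_mul hK, starQ_starQ hK])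
  obtain ⟨Z, rfl⟩ := hzu
  have hU : P * Z⁻¹ ∈ Cfsg.GU n K q := by
    rw [mem_gu_iff_starQ hK, Units.val_mul, ← hp, starQ_mul hK, mul_assoc, ← mul_assoc (starQ q p), ← hh', ← hzz,
      mul_assoc (starQ q (Z : Matrix (Fin n) (Fin n) K)), Units.mul_inv, mul_one, ← starQ_mul hK, Units.mul_inv, starQ_one hK]
  refine isConj_iff.2 ⟨⟨_, hU⟩, Subtype.ext ?_⟩
  show P * Z⁻¹ * (A : GL (Fin n) K) * (P * Z⁻¹)⁻¹ = (B : GL (Fin n) K)
  have hZA : Z * (A : GL (Fin n) K) = (A : GL (Fin n) K) * Z := by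
    apply Units.ext
    rw [Units.val_mul, Units.val_mul, ← ha]
    exact (hzc a hcomm).symm
  rw [_root_.mul_inv_rev, inv_inv, mul_assoc P Z⁻¹, show Z⁻¹ * (A : GL (Fin n) K) = (A : GL (Fin n) K) * Z⁻¹ from
    (Commute.inv_left hZA).eq, ← mul_assoc P, mul_assoc (P * (A : GL (Fin n) K)), ← mul_assoc Z⁻¹, inv_mul_cancel, one_mul, hP]

theorem exists_conj_mem_gu_iff (A : GL (Fin n) K) : (∃ B : Cfsg.GU n K q, IsConj A (B : GL (Fin n) K)) ↔
    IsConj (A : Matrix (Fin n) (Fin n) K) (starQ q (A : Matrix (Fin n) (Fin n) K))⁻¹ := by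
  obtain ⟨a, ha⟩ : ∃ a, a = (A : Matrix (Fin n) (Fin n) K) := ⟨_, rfl⟩
  rw [← ha]
  obtain ⟨a', ha'⟩ : ∃ a', a * a' = 1 := ⟨_, ha ▸ A.mul_inv⟩
  have hsa : starQ q a * starQ q a' = 1 := by rw [← starQ_mul hK, mul_eq_one_comm.1 ha', starQ_one hK]
  rw [Matrix.inv_eq_right_inv hsa]
  constructor
  · rintro ⟨B, hB⟩
    obtain ⟨P, hP⟩ := isConj_iff.1 hB
    obtain ⟨b, hb⟩ : ∃ b, b = ((B : GL (Fin n) K) : Matrix (Fin n) (Fin n) K) := ⟨_, rfl⟩
    obtain ⟨p, hp⟩ : ∃ p, p = (P : Matrix (Fin n) (Fin n) K) := ⟨_, rfl⟩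
    have hBs : starQ q b * b = 1 := hb ▸ (mem_gu_iff_starQ hK _).1 B.2
    have hpa : p * a = b * p := by
      have h1 : P * A = (B : GL (Fin n) K) * P := by rw [← hP, inv_mul_cancel_right]
      rw [hp, ha, hb, ← Units.val_mul, ← Units.val_mul, h1]
    have hu : IsUnit (starQ q p * p) := by
      obtain ⟨r, hr⟩ : ∃ r, p * r = 1 := ⟨_, hp ▸ P.mul_inv⟩
      have : IsUnit (starQ q p) := IsUnit.of_mul_eq_one (starQ q r) (by
        rw [← starQ_mul hK, mul_eq_one_comm.1 hr, starQ_one hK])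
      exact this.mul (hp ▸ P.isUnit)
    obtain ⟨c, hc⟩ := hu
    refine ⟨c, ?_⟩
    have e1 : starQ q a * (starQ q p * p) * a = starQ q p * p := by
      rw [← mul_assoc (starQ q a), ← starQ_mul hK, hpa, starQ_mul hK, mul_assoc, mul_assoc, hpa,
        ← mul_assoc (starQ q b), hBs, one_mul]
    show (c : Matrix (Fin n) (Fin n) K) * a = starQ q a' * c
    rw [hc]
    conv_rhs => rw [← e1]
    rw [← mul_assoc, ← mul_assoc, mul_eq_one_comm.1 hsa, one_mul]
  · rintro ⟨c, hc⟩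
    have hc' : (c : Matrix (Fin n) (Fin n) K) * a = starQ q a' * c := hc
    obtain ⟨H, hH⟩ : ∃ H, H = (c : Matrix (Fin n) (Fin n) K) := ⟨_, rfl⟩
    obtain ⟨Hi, hHi⟩ : ∃ Hi, Hi * H = 1 := ⟨_, hH ▸ c.inv_mul⟩
    have hHi' : H * Hi = 1 := mul_eq_one_comm.1 hHi
    rw [← hH] at hc'
    have e1 : starQ q a * H * a = H := by rw [mul_assoc, hc', ← mul_assoc, hsa, one_mul]
    obtain ⟨H', hH'⟩ : ∃ H', H' = starQ q H := ⟨_, rfl⟩
    have e2 : starQ q a * H' * a = H' := by
      conv_rhs => rw [hH', ← e1, starQ_mul hK, starQ_mul hK, starQ_starQ hK, ← hH', ← mul_assoc]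
    obtain ⟨Hj, hHj⟩ : ∃ Hj, Hj * H' = 1 := ⟨starQ q Hi, by rw [hH', ← starQ_mul hK, hHi', starQ_one hK]⟩
    obtain ⟨Z, hZ⟩ : ∃ Z, Z = Hi * H' := ⟨_, rfl⟩
    have hZa : Z * a = a * Z := by
      have e3 : H' * a = starQ q a' * H' := by
        conv_rhs => rw [← e2]
        rw [← mul_assoc, ← mul_assoc, mul_eq_one_comm.1 hsa, one_mul]
      have e4 : a * Hi = Hi * starQ q a' := by
        calc a * Hi = Hi * (H * a) * Hi := by rw [← mul_assoc, hHi, one_mul]
          _ = Hi * starQ q a' := by rw [hc', mul_assoc, mul_assoc (starQ q a'), hHi', mul_one]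
      rw [hZ, mul_assoc, e3, ← mul_assoc, ← e4, mul_assoc]
    -- the twisted star
    obtain ⟨s, hsdef⟩ : ∃ s : Matrix (Fin n) (Fin n) K → Matrix (Fin n) (Fin n) K, ∀ w, s w = Hi * starQ q w * H :=
      ⟨_, fun w => rfl⟩
    have sadd : ∀ x y, s (x + y) = s x + s y := fun x y => by simp [hsdef, starQ_add hK, mul_add, add_mul]
    have smul' : ∀ x y, s (x * y) = s y * s x := fun x y => by
      simp only [hsdef]
      rw [starQ_mul hK, mul_assoc (Hi * starQ q y) H, ← mul_assoc H (Hi * starQ q x), ← mul_assoc H Hi, hHi', one_mul]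
      simp only [mul_assoc]
    have sone : s 1 = 1 := by simp [hsdef, starQ_one hK, hHi]
    have sscal : ∀ k, s (algebraMap K _ k) = algebraMap K _ (k ^ q) := fun k => by
      simp only [hsdef, starQ_scal hK]
      rw [← Algebra.commutes, mul_assoc, hHi, mul_one]
    have sZ : s Z * Z = 1 := by
      simp only [hsdef]
      rw [hZ, starQ_mul hK, hH', starQ_starQ hK, ← hH']
      calc Hi * (H * starQ q Hi) * H * (Hi * H') = (Hi * H) * starQ q Hi * (H * Hi) * H' := by simp only [mul_assoc]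
        _ = starQ q Hi * H' := by rw [hHi, hHi', one_mul, mul_one]
        _ = 1 := by rw [hH', ← starQ_mul hK, hHi', starQ_one hK]
    obtain ⟨k, hk⟩ := exists_pow_ne hK
    letI : CommRing (InvolNorm.Gen K Z) := { (inferInstance : Ring (InvolNorm.Gen K Z)) with mul_comm := InvolNorm.gen_mul_comm }
    have hZu : IsUnit Z := IsUnit.of_mul_eq_one (s Z) (mul_eq_one_comm.1 sZ)
    let Zg : InvolNorm.Gen K Z := ⟨Z, InvolNorm.self_mem_gen Z⟩
    have hsZmem : s Z ∈ InvolNorm.Gen K Z := by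
      obtain ⟨v, hv⟩ := InvolNorm.isUnit_gen (a := Zg) hZu
      have h1 : ((v⁻¹ : (InvolNorm.Gen K Z)ˣ) : InvolNorm.Gen K Z).1 * Z = 1 := by
        have h2 := congrArg Subtype.val v.inv_mul
        rw [hv] at h2
        exact h2
      rw [left_inv_eq_right_inv sZ (mul_eq_one_comm.1 h1)]
      exact ((v⁻¹ : (InvolNorm.Gen K Z)ˣ) : InvolNorm.Gen K Z).2
    have hinv : ∀ w ∈ InvolNorm.Gen K Z, s (s w) = w := by
      have sZ2 : s (s Z) = Z := by
        have h1 : s Z * s (s Z) = 1 := by rw [← smul', sZ, sone]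
        exact (left_inv_eq_right_inv (mul_eq_one_comm.1 sZ) h1).symm
      rintro _ ⟨P, rfl⟩
      show s (s (Polynomial.aeval Z P)) = Polynomial.aeval Z P
      induction P using Polynomial.induction_on' with
      | add P Q hP hQ => rw [map_add, sadd, sadd, hP, hQ]
      | monomial m c' =>
        have hp : s (s (Z ^ m)) = Z ^ m := by
          induction m with
          | zero => rw [pow_zero, sone, sone]
          | succ m ih => rw [pow_succ, smul', smul', sZ2, ih]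
        rw [Polynomial.aeval_monomial, smul', smul', sscal, sscal, pow_q_q hK, hp]
    obtain ⟨σ, hσs, hσσ, hcond⟩ :=
      InvolNorm.exists_ringHom_gen s (· ^ q) sadd smul' sone sscal k hk hsZmem hinv
    obtain ⟨w, hw, hwt⟩ := InvolNorm.exists_unit_twist σ hσσ hcond (u := Zg) (Subtype.ext (by
      show (Zg : Matrix (Fin n) (Fin n) K) * ((σ Zg : InvolNorm.Gen K Z) : Matrix (Fin n) (Fin n) K) = 1
      rw [hσs]; exact mul_eq_one_comm.1 sZ))
    have hwt' : Z * s (w : Matrix (Fin n) (Fin n) K) = w := by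
      rw [← hσs]; exact congrArg Subtype.val hwt
    have hwa : a * (w : Matrix (Fin n) (Fin n) K) = (w : Matrix (Fin n) (Fin n) K) * a :=
      InvolNorm.commute_gen hZa.symm w.2
    obtain ⟨W, hW⟩ : ∃ W, W = H * (w : Matrix (Fin n) (Fin n) K) := ⟨_, rfl⟩
    have hWsym : starQ q W = W := by
      have h1 : starQ q (w : Matrix (Fin n) (Fin n) K) = H * s w * Hi := by
        simp only [hsdef]
        rw [← mul_assoc, ← mul_assoc, hHi', one_mul, mul_assoc, hHi', mul_one]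
      have hsw : s (w : Matrix (Fin n) (Fin n) K) * Z = Z * s w := by
        rw [← hσs]
        exact congrArg Subtype.val (InvolNorm.gen_mul_comm (σ w) Zg)
      rw [hW, starQ_mul hK, h1, ← hH', mul_assoc (H * s w), ← hZ, mul_assoc H, hsw, hwt']
    have hWa : starQ q a * W * a = W := by
      rw [hW, mul_assoc (starQ q a), mul_assoc H, ← hwa, ← mul_assoc H, ← mul_assoc (starQ q a), ← mul_assoc (starQ q a), e1]
    have hWu : IsUnit W := hW ▸ hH ▸ c.isUnit.mul (hw.map (InvolNorm.Gen K Z).val)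
    obtain ⟨p, hpu, hpp, -⟩ := exists_norm_sqrt_starQ hK hWu hWsym
    obtain ⟨P, rfl⟩ := hpu
    refine ⟨⟨P * A * P⁻¹, (mem_gu_iff_starQ hK _).2 ?_⟩, isConj_iff.2 ⟨P, rfl⟩⟩
    rw [Units.val_mul, Units.val_mul, ← ha, starQ_mul hK, starQ_mul hK]
    calc starQ q (↑P⁻¹ : Matrix (Fin n) (Fin n) K) * (starQ q a * starQ q ↑P) * (↑P * a * ↑P⁻¹)
        = starQ q (↑P⁻¹ : Matrix (Fin n) (Fin n) K) * (starQ q a * (starQ q ↑P * ↑P) * a) * ↑P⁻¹ := by simp only [mul_assoc]
      _ = starQ q (↑P⁻¹ : Matrix (Fin n) (Fin n) K) * (starQ q ↑P * ↑P) * ↑P⁻¹ := by rw [hpp, hWa]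
      _ = 1 := by rw [mul_assoc, mul_assoc (starQ q (P : Matrix (Fin n) (Fin n) K)), Units.mul_inv, mul_one, ← starQ_mul hK,
                    Units.mul_inv, starQ_one hK]

end CfsgLib.Classical.GUConj
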