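/-
Nilpotent endomorphisms with a single Jordan block.
-/
import Mathlib

set_option autoImplicit false

namespace CfsgLib.Classical.RegularNilpotent

variable {F V : Type*} [Field F] [AddCommGroup V] [Module F V] [FiniteDimensional F V] {f : V →ₗ[F] V}

omit [FiniteDimensional F V] in
theorem ker_pow_mono (f : V →ₗ[F] V) {a b : ℕ} (h : a ≤ b) : LinearMap.ker (f ^ a) ≤ LinearMap.ker (f ^ b) := by
  intro v hv
  obtain ⟨c, rfl⟩ := Nat.exists_eq_add_of_le h
  rw [LinearMap.mem_ker, add_comm, pow_add, Module.End.mul_apply, LinearMap.mem_ker.1 hv, map_zero]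

theorem finrank_ker_pow_succ_le (h1 : Module.finrank F (LinearMap.ker f) ≤ 1) (k : ℕ) :
    Module.finrank F (LinearMap.ker (f ^ (k + 1))) ≤ Module.finrank F (LinearMap.ker (f ^ k)) + 1 := by
  let g : LinearMap.ker (f ^ (k + 1)) →ₗ[F] LinearMap.ker (f ^ k) :=
    f.restrict fun v hv => by
      rw [LinearMap.mem_ker, pow_succ, Module.End.mul_apply] at hv
      exact LinearMap.mem_ker.2 hv
  have h2 := LinearMap.finrank_range_add_finrank_ker g
  have h3 := Submodule.finrank_le (LinearMap.range g)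
  have h4 : Module.finrank F (LinearMap.ker g) ≤ 1 := by
    refine le_trans ?_ h1
    rw [← Submodule.finrank_map_subtype_eq]
    refine Submodule.finrank_mono ?_
    rintro _ ⟨x, hx, rfl⟩
    exact LinearMap.mem_ker.2 (congrArg Subtype.val (LinearMap.mem_ker.1 hx))
  omega

theorem finrank_ker_pow {n : ℕ} (hn : Module.finrank F V = n) (h1 : Module.finrank F (LinearMap.ker f) ≤ 1)
    (hf : f ^ n = 0) : ∀ k ≤ n, Module.finrank F (LinearMap.ker (f ^ k)) = k := by
  have hup : ∀ k j, Module.finrank F (LinearMap.ker (f ^ (k + j))) ≤ Module.finrank F (LinearMap.ker (f ^ k)) + j := by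
    intro k j
    induction j with
    | zero => simp
    | succ j ih => exact (finrank_ker_pow_succ_le h1 (k + j)).trans (by omega)
  intro k hk
  have h2 := hup 0 k
  rw [zero_add, pow_zero, Module.End.one_eq_id, LinearMap.ker_id, finrank_bot] at h2
  have h3 := hup k (n - k)
  rw [Nat.add_sub_cancel' hk, hf, LinearMap.ker_zero, finrank_top, hn] at h3
  omega

theorem eq_ker_of_invariant {n : ℕ} (hn : Module.finrank F V = n) (h1 : Module.finrank F (LinearMap.ker f) ≤ 1)
    (hf : f ^ n = 0) (W : Submodule F V) (hW : ∀ v ∈ W, f v ∈ W) :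
    W = LinearMap.ker (f ^ Module.finrank F W) := by
  have hpow : ∀ (k : ℕ) (w : W), (((f.restrict hW) ^ k) w : V) = (f ^ k) w := by
    intro k
    induction k with
    | zero => intro w; simp
    | succ k ih => intro w; rw [pow_succ', Module.End.mul_apply, pow_succ', Module.End.mul_apply]; simp [ih]
  have h := LinearMap.aeval_self_charpoly (f.restrict hW)
  rw [(LinearMap.charpoly_eq_X_pow_iff (f.restrict hW)).2 (fun w => ⟨n, Subtype.ext (by rw [hpow, hf]; simp)⟩), map_pow, Polynomial.aeval_X] at h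
  refine Submodule.eq_of_le_of_finrank_eq (fun v hv => ?_) ?_
  · have h' := congrArg Subtype.val (LinearMap.congr_fun h ⟨v, hv⟩)
    rw [hpow] at h'
    exact LinearMap.mem_ker.2 h'
  · rw [finrank_ker_pow hn h1 hf _ (hn ▸ Submodule.finrank_le W)]

omit [FiniteDimensional F V] in
theorem linearIndependent_pow {n : ℕ} (hf : f ^ n = 0) {v : V} (hv : (f ^ (n - 1)) v ≠ 0) :
    LinearIndependent F fun i : Fin n => (f ^ (i : ℕ)) v := by
  classical
  rw [Fintype.linearIndependent_iff]
  intro c hc i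
  by_contra hi
  have hne : (Finset.univ.filter fun j : Fin n => c j ≠ 0).Nonempty := ⟨i, by simp [hi]⟩
  set j₀ := (Finset.univ.filter fun j : Fin n => c j ≠ 0).min' hne
  have hj₀ : c j₀ ≠ 0 := (Finset.mem_filter.1 (Finset.min'_mem _ hne)).2
  have h := congrArg (f ^ (n - 1 - (j₀ : ℕ))) hc
  rw [map_sum, map_zero, Finset.sum_eq_single j₀] at h
  · rw [map_smul, ← Module.End.mul_apply, ← pow_add, Nat.sub_add_cancel (by omega)] at h
    exact (smul_eq_zero.1 h).elim hj₀ hv
  · intro j _ hj
    rcases lt_or_gt_of_ne hj with hlt | hgt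
    · have : c j = 0 := by
        by_contra hcj
        exact absurd (Finset.min'_le _ j (by simp [hcj])) (not_le.2 hlt)
      rw [this, zero_smul, map_zero]
    · rw [map_smul, ← Module.End.mul_apply, ← pow_add]
      have : n ≤ n - 1 - (j₀ : ℕ) + (j : ℕ) := by
        have := Fin.lt_def.1 hgt; omega
      obtain ⟨e, he⟩ := Nat.exists_eq_add_of_le this
      rw [he, pow_add, hf, zero_mul, LinearMap.zero_apply, smul_zero]
  · exact fun h => absurd (Finset.mem_univ _) h

/-- The invertible elements of the commutant. -/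
theorem card_commutant_units [Fintype F] {n : ℕ} (hn : Module.finrank F V = n) (hn1 : 1 ≤ n)
    (h1 : Module.finrank F (LinearMap.ker f) ≤ 1) (hf : f ^ n = 0) :
    Nat.card {g : V ≃ₗ[F] V // ∀ v, g (f v) = f (g v)} = (Fintype.card F - 1) * Fintype.card F ^ (n - 1) := by
  classical
  haveI : Finite V := Module.finite_of_finite F
  obtain ⟨e, he⟩ : ∃ e : V, (f ^ (n - 1)) e ≠ 0 := by
    by_contra h
    push Not at h
    have h2 := finrank_ker_pow hn h1 hf (n - 1) (by omega)
    rw [show LinearMap.ker (f ^ (n - 1)) = ⊤ from eq_top_iff.2 fun v _ => h v, finrank_top, hn] at h2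
    omega
  have hcard : Fintype.card (Fin n) = Module.finrank F V := by rw [hn, Fintype.card_fin]
  haveI : Nonempty (Fin n) := ⟨⟨0, hn1⟩⟩
  let B : ∀ v : V, (f ^ (n - 1)) v ≠ 0 → Module.Basis (Fin n) F V := fun v hv =>
    basisOfLinearIndependentOfCardEqFinrank (linearIndependent_pow hf hv) hcard
  have hB : ∀ v hv i, B v hv i = (f ^ (i : ℕ)) v := fun v hv i => by simp [B]
  have hmain : Nat.card {g : V ≃ₗ[F] V // ∀ v, g (f v) = f (g v)} =
      Nat.card {v : V // ¬ v ∈ LinearMap.ker (f ^ (n - 1))} := by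
    have hcom : ∀ (g : {g : V ≃ₗ[F] V // ∀ v, g (f v) = f (g v)}) (k : ℕ) (v : V),
        g.1 ((f ^ k) v) = (f ^ k) (g.1 v) := by
      intro g k
      induction k with
      | zero => simp
      | succ k ih => intro v; rw [pow_succ', Module.End.mul_apply, g.2, ih, Module.End.mul_apply]
    refine Nat.card_eq_of_bijective (fun g => ⟨g.1 e, fun h => he (g.1.injective ?_)⟩) ⟨fun g g' h => ?_, fun v => ?_⟩
    · rw [map_zero, hcom, LinearMap.mem_ker.1 h]
    · refine Subtype.ext (LinearEquiv.toLinearMap_injective ((B e he).ext fun i => ?_))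
      show g.1 (B e he i) = g'.1 (B e he i)
      rw [hB e he, hcom, hcom, show g.1 e = g'.1 e from congrArg Subtype.val h]
    · let g : V ≃ₗ[F] V := (B e he).equiv (B v.1 fun h => v.2 (LinearMap.mem_ker.2 h)) (Equiv.refl _)
      have hg : ∀ i : Fin n, g ((f ^ (i : ℕ)) e) = (f ^ (i : ℕ)) v.1 := fun i => by
        rw [← hB e he i, Module.Basis.equiv_apply, Equiv.refl_apply, hB v.1 (fun h => v.2 (LinearMap.mem_ker.2 h))]
      refine ⟨⟨g, fun w => LinearMap.congr_fun (((B e he).ext fun i => ?_ :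
        (g : V →ₗ[F] V).comp f = f.comp (g : V →ₗ[F] V))) w⟩, Subtype.ext ?_⟩
      · show g (f (B e he i)) = f (g (B e he i))
        rw [hB e he, hg, ← Module.End.mul_apply, ← pow_succ', ← Module.End.mul_apply, ← pow_succ']
        rcases Nat.lt_or_ge ((i : ℕ) + 1) n with hi | hi
        · exact hg ⟨_, hi⟩
        · rw [show (i : ℕ) + 1 = n by omega, hf, LinearMap.zero_apply, LinearMap.zero_apply, map_zero]
      · show g e = v.1
        simpa using hg ⟨0, hn1⟩
  haveI := Fintype.ofFinite V
  rw [hmain, Nat.card_eq_fintype_card, Fintype.card_subtype_compl, ← Nat.card_eq_fintype_card,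
    ← Nat.card_eq_fintype_card, Module.natCard_eq_pow_finrank (K := F) (V := V),
    Module.natCard_eq_pow_finrank (K := F) (V := LinearMap.ker (f ^ (n - 1))), hn,
    finrank_ker_pow hn h1 hf (n - 1) (by omega), Nat.card_eq_fintype_card]
  conv_lhs => rw [show n = n - 1 + 1 by omega, pow_succ', Nat.add_sub_cancel]
  rw [Nat.sub_one_mul]

end CfsgLib.Classical.RegularNilpotent

namespace CfsgLib.Classical.RegularNilpotent

open Matrix

variable {F : Type*} [Field F] {ι : Type} [Fintype ι] [DecidableEq ι]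

theorem mulVecLin_pow (N : Matrix ι ι F) (k : ℕ) : Matrix.mulVecLin (N ^ k) = (Matrix.mulVecLin N) ^ k :=
  map_pow Matrix.toLinAlgEquiv' N k

theorem hyps_of_matrix {N : Matrix ι ι F} {n : ℕ} (hι : Fintype.card ι = n) (hnil : N ^ n = 0)
    (hreg : N.rank = n - 1) : Module.finrank F (ι → F) = n ∧
      Module.finrank F (LinearMap.ker (Matrix.mulVecLin N)) ≤ 1 ∧ (Matrix.mulVecLin N) ^ n = 0 := by
  have hn : Module.finrank F (ι → F) = n := by rw [Module.finrank_fintype_fun_eq_card, hι]
  have h := LinearMap.finrank_range_add_finrank_ker (Matrix.mulVecLin N)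
  rw [show Module.finrank F (LinearMap.range N.mulVecLin) = n - 1 from hreg, hn] at h
  exact ⟨hn, by omega, by rw [← mulVecLin_pow, hnil, Matrix.mulVecLin_zero]⟩

theorem eq_ker_of_invariant_matrix {u : Matrix ι ι F} {n : ℕ} (hι : Fintype.card ι = n)
    (hnil : (u - 1) ^ n = 0) (hreg : (u - 1).rank = n - 1) (W : Submodule F (ι → F))
    (hW : ∀ v ∈ W, u *ᵥ v ∈ W) :
    W = LinearMap.ker (Matrix.mulVecLin ((u - 1) ^ Module.finrank F W)) := by
  obtain ⟨hn, h1, hf⟩ := hyps_of_matrix hι hnil hreg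
  rw [mulVecLin_pow]
  refine eq_ker_of_invariant hn h1 hf W fun v hv => ?_
  rw [Matrix.mulVecLin_apply, Matrix.sub_mulVec, Matrix.one_mulVec]
  exact sub_mem (hW v hv) hv

end CfsgLib.Classical.RegularNilpotent
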