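/-
Non-scalar matrices of determinant one are products of two conjugates of a regular unipotent matrix.
-/
import Cfsg.Agent.Lib.Classical.RegularNilpotent

set_option autoImplicit false

namespace CfsgLib.Classical.RegularProduct

open Matrix

variable {K : Type*} [Field K]

/-- A matrix with a distinguished first row and column. -/
def bordered {k : ℕ} (a : K) (r c : Fin k → K) (D : Matrix (Fin k) (Fin k) K) : Matrix (Fin (k + 1)) (Fin (k + 1)) K :=
  Matrix.of (Fin.cons (Fin.cons a r) (fun i => Fin.cons (c i) (D i)))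

@[simp] theorem bordered_00 {k : ℕ} (a : K) (r c : Fin k → K) (D : Matrix (Fin k) (Fin k) K) : bordered a r c D 0 0 = a := rfl

@[simp] theorem bordered_0s {k : ℕ} (a : K) (r c : Fin k → K) (D : Matrix (Fin k) (Fin k) K) (j : Fin k) :
    bordered a r c D 0 j.succ = r j := by simp [bordered]

@[simp] theorem bordered_s0 {k : ℕ} (a : K) (r c : Fin k → K) (D : Matrix (Fin k) (Fin k) K) (i : Fin k) :
    bordered a r c D i.succ 0 = c i := by simp [bordered]

@[simp] theorem bordered_ss {k : ℕ} (a : K) (r c : Fin k → K) (D : Matrix (Fin k) (Fin k) K) (i j : Fin k) :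
    bordered a r c D i.succ j.succ = D i j := by simp [bordered]

theorem bordered_ext {k : ℕ} (A : Matrix (Fin (k + 1)) (Fin (k + 1)) K) :
    A = bordered (A 0 0) (fun j => A 0 j.succ) (fun i => A i.succ 0) (fun i j => A i.succ j.succ) := by
  ext i j
  induction i using Fin.cases <;> induction j using Fin.cases <;> simp [bordered]

theorem bordered_one {k : ℕ} : (1 : Matrix (Fin (k + 1)) (Fin (k + 1)) K) = bordered 1 0 0 1 := by
  ext i j
  induction i using Fin.cases <;> induction j using Fin.cases <;> simp [Matrix.one_apply, Fin.succ_ne_zero, (Fin.succ_ne_zero _).symm]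

theorem bordered_mul {k : ℕ} (a a' : K) (r c r' c' : Fin k → K) (D D' : Matrix (Fin k) (Fin k) K) :
    bordered a r c D * bordered a' r' c' D' =
      bordered (a * a' + r ⬝ᵥ c') (a • r' + r ᵥ* D') (a' • c + D *ᵥ c') (vecMulVec c r' + D * D') := by
  ext i j
  induction i using Fin.cases <;> induction j using Fin.cases <;>
    simp [Matrix.mul_apply, Fin.sum_univ_succ, dotProduct, Matrix.mulVec, Matrix.vecMul, vecMulVec_apply, mul_comm]

theorem bordered_sub {k : ℕ} (a a' : K) (r c r' c' : Fin k → K) (D D' : Matrix (Fin k) (Fin k) K) :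
    bordered a r c D - bordered a' r' c' D' = bordered (a - a') (r - r') (c - c') (D - D') := by
  ext i j
  induction i using Fin.cases <;> induction j using Fin.cases <;> simp

theorem bordered_transpose {k : ℕ} (a : K) (r c : Fin k → K) (D : Matrix (Fin k) (Fin k) K) :
    (bordered a r c D)ᵀ = bordered a c r Dᵀ := by
  ext i j
  induction i using Fin.cases <;> induction j using Fin.cases <;> simp

theorem det_bordered_col {k : ℕ} (r : Fin k → K) (D : Matrix (Fin k) (Fin k) K) :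
    (bordered 1 r 0 D).det = D.det := by
  rw [Matrix.det_succ_column_zero, Fin.sum_univ_succ]
  simp [Fin.succAbove_zero, show (bordered 1 r 0 D).submatrix Fin.succ Fin.succ = D from by ext i j; simp]

/-- Regular unipotent with a cyclic first basis vector. -/
def LowerReg {k : ℕ} (L : Matrix (Fin (k + 1)) (Fin (k + 1)) K) : Prop :=
  (L - 1) ^ (k + 1) = 0 ∧ (∀ i, ∀ j : Fin k, ((L - 1) ^ k) i j.succ = 0) ∧ ∃ i, ((L - 1) ^ k) i 0 ≠ 0

theorem lowerReg_one : LowerReg (1 : Matrix (Fin 1) (Fin 1) K) :=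
  ⟨by simp, fun _ j => j.elim0, 0, by simp⟩

theorem bordered_nil_pow {k : ℕ} (c : Fin k → K) (N : Matrix (Fin k) (Fin k) K) (j : ℕ) :
    bordered 0 0 c N ^ (j + 1) = bordered 0 0 ((N ^ j) *ᵥ c) (N ^ (j + 1)) := by
  induction j with
  | zero => simp
  | succ j ih =>
    rw [pow_succ', ih, bordered_mul]
    congr 1
    · simp
    · simp
    · simp [mulVec_mulVec, ← pow_succ']
    · simp [← pow_succ', vecMulVec]
      ext a b
      simp

theorem lowerReg_bordered {k : ℕ} {c : Fin (k + 1) → K} {L : Matrix (Fin (k + 1)) (Fin (k + 1)) K} (hL : LowerReg L)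
    (hc : c 0 ≠ 0) : LowerReg (bordered 1 0 c L) := by
  obtain ⟨h1, h2, i, hi⟩ := hL
  have e : bordered 1 0 c L - 1 = bordered 0 0 c (L - 1) := by
    rw [bordered_one, bordered_sub]; simp
  have hv : ∀ a, (((L - 1) ^ k) *ᵥ c) a = ((L - 1) ^ k) a 0 * c 0 := fun a => by
    simp [Matrix.mulVec, dotProduct, Fin.sum_univ_succ, h2]
  refine ⟨?_, fun a b => ?_, i.succ, ?_⟩
  · rw [e, bordered_nil_pow, h1, pow_succ, h1, zero_mul, Matrix.zero_mulVec]
    ext a b
    induction a using Fin.cases <;> induction b using Fin.cases <;> simp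
  · rw [e, bordered_nil_pow, h1]
    induction a using Fin.cases <;> simp
  · rw [e, bordered_nil_pow, bordered_s0, hv]
    exact mul_ne_zero hi hc

/-- Two regular nilpotent matrices are similar. -/
theorem similar_shift {n : ℕ} {N : Matrix (Fin n) (Fin n) K} (hN : N ^ n = 0) {e : Fin n → K} (he : (N ^ (n - 1)) *ᵥ e ≠ 0) :
    ∃ Q : GL (Fin n) K, N * (Q : Matrix (Fin n) (Fin n) K) =
      (Q : Matrix (Fin n) (Fin n) K) * Matrix.of fun i j : Fin n => if (i : ℕ) = j + 1 then 1 else 0 := by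
  have hli := CfsgLib.Classical.RegularNilpotent.linearIndependent_pow (f := Matrix.mulVecLin N) (v := e)
    (n := n) (by rw [← CfsgLib.Classical.RegularNilpotent.mulVecLin_pow, hN, Matrix.mulVecLin_zero])
    (by rw [← CfsgLib.Classical.RegularNilpotent.mulVecLin_pow]; exact he)
  obtain ⟨Q, hQ⟩ : ∃ Q : Matrix (Fin n) (Fin n) K, Q = Matrix.of fun i (j : Fin n) => ((N ^ (j : ℕ)) *ᵥ e) i := ⟨_, rfl⟩
  have hcol : Q.col = fun j : Fin n => (Matrix.mulVecLin N ^ (j : ℕ)) e := funext fun j => by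
    rw [← CfsgLib.Classical.RegularNilpotent.mulVecLin_pow, hQ]; rfl
  obtain ⟨q, hq⟩ := Matrix.linearIndependent_cols_iff_isUnit.1 (by rw [hcol]; exact hli)
  refine ⟨q, ?_⟩
  rw [hq]
  ext i j
  have hL : (N * Q) i j = ((N ^ ((j : ℕ) + 1)) *ᵥ e) i := by
    rw [pow_succ', ← mulVec_mulVec, hQ]; rfl
  rw [hL, Matrix.mul_apply]
  rcases Nat.lt_or_ge ((j : ℕ) + 1) n with h | h
  · rw [Finset.sum_eq_single ⟨(j : ℕ) + 1, h⟩ (fun l _ hl => by simp [Fin.ext_iff] at hl; simp [hl]) (by simp)]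
    simp only [Matrix.of_apply, if_true, mul_one]
    rw [hQ]; rfl
  · rw [Finset.sum_eq_zero fun l _ => by simp [show ¬ (l : ℕ) = j + 1 by omega],
      show (j : ℕ) + 1 = n by omega, hN, Matrix.zero_mulVec]
    rfl

theorem isConj_of_regular {n : ℕ} {X Y : GL (Fin n) K} {e e' : Fin n → K}
    (hX : ((X : Matrix (Fin n) (Fin n) K) - 1) ^ n = 0) (hXe : (((X : Matrix (Fin n) (Fin n) K) - 1) ^ (n - 1)) *ᵥ e ≠ 0)
    (hY : ((Y : Matrix (Fin n) (Fin n) K) - 1) ^ n = 0) (hYe : (((Y : Matrix (Fin n) (Fin n) K) - 1) ^ (n - 1)) *ᵥ e' ≠ 0) :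
    ∃ x : GL (Fin n) K, x * Y * x⁻¹ = X := by
  obtain ⟨P, hP⟩ := similar_shift hX hXe
  obtain ⟨Q, hQ⟩ := similar_shift hY hYe
  refine ⟨P * Q⁻¹, mul_inv_eq_iff_eq_mul.2 (Units.ext ?_)⟩
  rw [Units.val_mul, Units.val_mul, Units.val_mul]
  generalize (Matrix.of fun i j : Fin n => if (i : ℕ) = j + 1 then (1 : K) else 0) = S at hP hQ
  have hX' : (X : Matrix (Fin n) (Fin n) K) * P = P * (1 + S) := by
    rw [mul_add, ← hP]; noncomm_ring
  have hY' : (Y : Matrix (Fin n) (Fin n) K) * Q = Q * (1 + S) := by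
    rw [mul_add, ← hQ]; noncomm_ring
  have hY'' : (Q⁻¹ : GL (Fin n) K).1 * (Y : Matrix (Fin n) (Fin n) K) = (1 + S) * (Q⁻¹ : GL (Fin n) K).1 := by
    apply Q.isUnit.mul_left_cancel
    rw [← mul_assoc, ← mul_assoc, Units.mul_inv, one_mul, ← hY', mul_assoc, Units.mul_inv, mul_one]
  rw [mul_assoc, hY'', ← mul_assoc, ← hX', mul_assoc, ← Units.val_mul]

theorem exists_basis_matrix {k : ℕ} {v w : Fin (k + 1) → K} (h : w ⬝ᵥ v = 1) :
    ∃ P : GL (Fin (k + 1)) K, (∀ i, (P : Matrix (Fin (k + 1)) (Fin (k + 1)) K) i 0 = v i) ∧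
      ∀ j : Fin k, w ⬝ᵥ (fun i => (P : Matrix (Fin (k + 1)) (Fin (k + 1)) K) i j.succ) = 0 := by
  let φ : (Fin (k + 1) → K) →ₗ[K] K :=
    { toFun := fun x => w ⬝ᵥ x, map_add' := dotProduct_add w, map_smul' := fun c x => dotProduct_smul c w x }
  have hdim : Module.finrank K (LinearMap.ker φ) = k := by
    have h1 := φ.finrank_range_add_finrank_ker
    rw [LinearMap.range_eq_top.2 (fun a => ⟨a • v, by show w ⬝ᵥ (a • v) = a; rw [dotProduct_smul, h, smul_eq_mul, mul_one]⟩),
      finrank_top, Module.finrank_self, Module.finrank_fin_fun] at h1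
    omega
  let b := Module.finBasisOfFinrankEq K (LinearMap.ker φ) hdim
  let B := Module.Basis.mkFinCons v b
    (fun a x hx e => by
      have := congrArg φ e
      rw [map_add, map_smul, show φ x = 0 from hx, map_zero, add_zero, show φ v = 1 from h, smul_eq_mul, mul_one] at this
      exact this)
    (fun z => ⟨-φ z, by
      show φ (z + (-φ z) • v) = 0
      rw [map_add, map_smul, show φ v = 1 from h, smul_eq_mul, mul_one, add_neg_cancel]⟩)
  obtain ⟨P, hP⟩ := Matrix.linearIndependent_cols_iff_isUnit.1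
    (show LinearIndependent K (Matrix.of fun i j => B j i).col from B.linearIndependent)
  refine ⟨P, fun i => ?_, fun j => ?_⟩
  · rw [hP]; simp [B, Module.Basis.coe_mkFinCons]
  · rw [hP]
    simp only [Matrix.of_apply, B, Module.Basis.coe_mkFinCons, Fin.cons_succ, Function.comp]
    exact (b j).2

theorem exists_dual {n : ℕ} {ι : Type*} {f : ι → Fin n → K} (hf : LinearIndependent K f) (g : ι → K) :
    ∃ w : Fin n → K, ∀ i, w ⬝ᵥ f i = g i := by
  obtain ⟨φ, hφ⟩ := LinearMap.exists_extend ((Module.Basis.span hf).constr K g)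
  refine ⟨fun l => φ (Pi.single l 1), fun i => ?_⟩
  have h := LinearMap.congr_fun hφ (Module.Basis.span hf i)
  rw [LinearMap.comp_apply, Module.Basis.constr_basis, Submodule.subtype_apply] at h
  rw [show ((Module.Basis.span hf i : Submodule.span K (Set.range f)) : Fin n → K) = f i from
    congrArg Subtype.val (Module.Basis.span_apply hf i)] at h
  rw [← h]
  conv_rhs => rw [pi_eq_sum_univ' (f i), map_sum]
  simp only [dotProduct, map_smul, smul_eq_mul]
  exact Finset.sum_congr rfl fun _ _ => mul_comm _ _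

theorem exists_avoid (hK : 4 ≤ Cardinal.mk K) (a b c : K) : ∃ x : K, x ≠ a ∧ x ≠ b ∧ x ≠ c := by
  classical
  by_contra h
  push Not at h
  have hu : ∀ x : K, x ∈ ({a, b, c} : Finset K) := fun x => by
    simp
    by_cases h1 : x = a
    · exact Or.inl h1
    by_cases h2 : x = b
    · exact Or.inr (Or.inl h2)
    exact Or.inr (Or.inr (h x h1 h2))
  letI : Fintype K := ⟨{a, b, c}, hu⟩
  have h1 : Fintype.card K ≤ 3 := by
    show ({a, b, c} : Finset K).card ≤ 3
    exact Finset.card_le_three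
  rw [Cardinal.mk_fintype] at hK
  have h2 : 4 ≤ Fintype.card K := by exact_mod_cast hK
  omega

variable {n : ℕ}

theorem exists_not_mem₂ {A B : Submodule K (Fin n → K)} (hA : A ≠ ⊤) (hB : B ≠ ⊤) : ∃ u, u ∉ A ∧ u ∉ B := by
  obtain ⟨a, ha⟩ := SetLike.exists_not_mem_of_ne_top A hA
  by_cases h : a ∈ B
  · obtain ⟨b, hb⟩ := SetLike.exists_not_mem_of_ne_top B hB
    by_cases h' : b ∈ A
    · exact ⟨a + b, fun h2 => ha (by simpa using A.sub_mem h2 h'), fun h2 => hb (by simpa using B.sub_mem h2 h)⟩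
    · exact ⟨b, h', hb⟩
  · exact ⟨a, ha, h⟩

theorem line_meets_once {A : Submodule K (Fin n → K)} {u x : Fin n → K} (hu : u ∉ A) :
    ∀ s t : K, u + s • x ∈ A → u + t • x ∈ A → s = t := by
  intro s t hs ht
  by_contra hne
  have h1 := A.smul_mem (s - t)⁻¹ (A.sub_mem hs ht)
  rw [show u + s • x - (u + t • x) = (s - t) • x by module, smul_smul, inv_mul_cancel₀ (sub_ne_zero.2 hne), one_smul] at h1
  exact hu (by simpa using A.sub_mem hs (A.smul_mem s h1))

theorem exists_line_avoid (hK : 4 ≤ Cardinal.mk K) (P Q : K → Prop) (hP : ∀ s t, P s → P t → s = t) (hQ : ∀ s t, Q s → Q t → s = t) :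
    ∃ t, t ≠ 0 ∧ ¬ P t ∧ ¬ Q t := by
  classical
  obtain ⟨p, hp⟩ : ∃ p, ∀ s, P s → s = p := by
    by_cases h : ∃ s, P s
    · exact ⟨h.choose, fun s hs => hP _ _ hs h.choose_spec⟩
    · exact ⟨0, fun s hs => absurd ⟨s, hs⟩ h⟩
  obtain ⟨q, hq⟩ : ∃ q, ∀ s, Q s → s = q := by
    by_cases h : ∃ s, Q s
    · exact ⟨h.choose, fun s hs => hQ _ _ hs h.choose_spec⟩
    · exact ⟨0, fun s hs => absurd ⟨s, hs⟩ h⟩
  obtain ⟨t, h1, h2, h3⟩ := exists_avoid hK 0 p q
  exact ⟨t, h1, fun h => h2 (hp t h), fun h => h3 (hq t h)⟩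

theorem exists_not_mem₃ (hK : 4 ≤ Cardinal.mk K) {A B C : Submodule K (Fin n → K)} (hA : A ≠ ⊤) (hB : B ≠ ⊤) (hC : C ≠ ⊤) :
    ∃ u, u ∉ A ∧ u ∉ B ∧ u ∉ C := by
  obtain ⟨u, huA, huB⟩ := exists_not_mem₂ hA hB
  by_cases huC : u ∈ C
  · obtain ⟨x, hx⟩ := SetLike.exists_not_mem_of_ne_top C hC
    obtain ⟨t, ht, hA', hB'⟩ := exists_line_avoid hK _ _ (line_meets_once (x := x) huA) (line_meets_once (x := x) huB)
    refine ⟨u + t • x, hA', hB', fun h => hx ?_⟩
    have := C.smul_mem t⁻¹ (C.sub_mem h huC)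
    rwa [add_sub_cancel_left, smul_smul, inv_mul_cancel₀ ht, one_smul] at this
  · exact ⟨u, huA, huB, huC⟩

/-- Not scalar and not a transvection. -/
def Generic (M : Matrix (Fin n) (Fin n) K) : Prop :=
  (¬ ∃ c : K, M = c • 1) ∧ ∀ u f : Fin n → K, M - 1 ≠ vecMulVec u f

theorem eq_vecMulVec_of_range_le (N : Matrix (Fin n) (Fin n) K) (y : Fin n → K)
    (h : ∀ x, N *ᵥ x ∈ Submodule.span K {y}) : ∃ f, N = vecMulVec y f := by
  choose a ha using fun j => Submodule.mem_span_singleton.1 (h (Pi.single j 1))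
  refine ⟨a, Matrix.ext fun i j => ?_⟩
  have := congrFun (ha j) i
  rw [Matrix.mulVec_single_one] at this
  simp [vecMulVec_apply] at this ⊢
  rw [← this, mul_comm]

theorem choose_vector (hK : 4 ≤ Cardinal.mk K) {M : Matrix (Fin n) (Fin n) K} (hM : Generic M) {c r : Fin n → K} (hr : r ≠ 0) :
    ∃ v : Fin n → K, r ⬝ᵥ v ≠ 0 ∧ (∀ a : K, M *ᵥ v ≠ a • v) ∧ (∀ a : K, M *ᵥ v - v ≠ a • c) ∧
      (3 ≤ n → ∃ y₀, M *ᵥ y₀ - y₀ ∉ Submodule.span K {v, M *ᵥ v}) := by
  classical
  let N : (Fin n → K) →ₗ[K] (Fin n → K) := Matrix.mulVecLin M - 1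
  have hN : ∀ x, N x = M *ᵥ x - x := fun x => rfl
  let H : Submodule K (Fin n → K) :=
    { carrier := {x | r ⬝ᵥ x = 0}
      add_mem' := fun {a b} ha hb => by show r ⬝ᵥ (a + b) = 0; rw [dotProduct_add, ha, hb, add_zero]
      zero_mem' := dotProduct_zero r
      smul_mem' := fun a x hx => by show r ⬝ᵥ (a • x) = 0; rw [dotProduct_smul, hx, smul_zero] }
  let L := (Submodule.span K {c}).comap N
  have hline : ∀ y, ∃ x, N x ∉ Submodule.span K {y} := fun y => by
    by_contra h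
    push Not at h
    obtain ⟨f, hf⟩ := eq_vecMulVec_of_range_le (M - 1) y fun x => by
      rw [Matrix.sub_mulVec, Matrix.one_mulVec]; exact h x
    exact hM.2 y f hf
  have hH : H ≠ ⊤ := fun h => hr (funext fun i => by
    have h1 : r ⬝ᵥ Pi.single i 1 = 0 := show Pi.single i 1 ∈ H by rw [h]; trivial
    simpa using h1)
  have hL : L ≠ ⊤ := fun h => by
    obtain ⟨x, hx⟩ := hline c
    exact hx (show x ∈ L by rw [h]; trivial)
  obtain ⟨x1, hx1⟩ := hline 0
  obtain ⟨x2, hx2⟩ := hline (N x1)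
  let I := Submodule.span K {N x1, N x2}
  have hli : LinearIndependent K ![N x1, N x2] := by
    rw [linearIndependent_fin2]
    refine ⟨fun h => hx2 ?_, fun a h => hx2 ?_⟩
    · simp at h; rw [h]; exact zero_mem _
    · simp at h
      rcases eq_or_ne a 0 with rfl | ha
      · simp at h; exact absurd (h ▸ zero_mem _) hx1
      · rw [show N x2 = a⁻¹ • N x1 by rw [← h, smul_smul, inv_mul_cancel₀ ha, one_smul]]
        exact Submodule.smul_mem _ _ (Submodule.mem_span_singleton_self _)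
  have hI2 : Module.finrank K I = 2 := by
    have := finrank_span_eq_card hli
    rw [show Set.range ![N x1, N x2] = {N x1, N x2} by ext z; simp [Fin.exists_fin_two, eq_comm]; tauto] at this
    simpa [I] using this
  have hsub : ∀ v, (∀ x, N x ∈ Submodule.span K {v, M *ᵥ v}) → v ∈ I ∧ LinearMap.range N ≤ I := by
    intro v hv
    have e : I = Submodule.span K {v, M *ᵥ v} := by
      refine Submodule.eq_of_le_of_finrank_le (Submodule.span_le.2 ?_) ?_
      · rintro _ (rfl | rfl)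
        · exact hv x1
        · exact hv x2
      · rw [hI2]
        refine (finrank_span_le_card ({v, M *ᵥ v} : Set (Fin n → K))).trans ?_
        rw [Set.toFinset_insert, Set.toFinset_singleton]
        exact Finset.card_le_two
    rw [e]
    exact ⟨Submodule.subset_span (Or.inl rfl), by rintro _ ⟨x, rfl⟩; exact hv x⟩
  have fin : ∀ v, v ∉ H → (∀ a : K, M *ᵥ v ≠ a • v) → v ∉ L →
      (3 ≤ n → ¬ (v ∈ I ∧ LinearMap.range N ≤ I)) → ∃ v : Fin n → K, r ⬝ᵥ v ≠ 0 ∧ (∀ a : K, M *ᵥ v ≠ a • v) ∧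
        (∀ a : K, M *ᵥ v - v ≠ a • c) ∧ (3 ≤ n → ∃ y₀, M *ᵥ y₀ - y₀ ∉ Submodule.span K {v, M *ᵥ v}) := by
    intro v h1 h2 h3 h4
    refine ⟨v, h1, h2, fun a ha => h3 (show N v ∈ Submodule.span K {c} by
      rw [hN, ha]; exact Submodule.smul_mem _ _ (Submodule.mem_span_singleton_self _)), fun h => ?_⟩
    by_contra hc
    push Not at hc
    exact h4 h (hsub v hc)
  by_cases hI : LinearMap.range N ≤ I ∧ 3 ≤ n
  · obtain ⟨hI, hn⟩ := hI
    have hItop : I ≠ ⊤ := fun h => by
      rw [h, finrank_top, Module.finrank_fin_fun] at hI2; omega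
    obtain ⟨v, hvH, hvL, hvI⟩ := exists_not_mem₃ hK hH hL hItop
    refine fin v hvH (fun a ha => ?_) hvL fun _ h => hvI h.1
    rcases eq_or_ne a 1 with rfl | ha1
    · exact hvL (show N v ∈ Submodule.span K {c} by rw [hN, ha, one_smul, sub_self]; exact zero_mem _)
    · refine hvI (hI ⟨(a - 1)⁻¹ • v, ?_⟩)
      rw [map_smul, hN, ha, show a • v - v = (a - 1) • v by module, smul_smul, inv_mul_cancel₀ (sub_ne_zero.2 ha1), one_smul]
  · have h4 : ∀ v, 3 ≤ n → ¬ (v ∈ I ∧ LinearMap.range N ≤ I) := fun v hn h => hI ⟨h.2, hn⟩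
    obtain ⟨u, huH, huL⟩ := exists_not_mem₂ hH hL
    by_cases hu : ∃ a : K, M *ᵥ u = a • u
    · obtain ⟨a, ha⟩ := hu
      obtain ⟨x, hxH, hxa⟩ : ∃ x ∈ H, M *ᵥ x ≠ a • x := by
        by_contra h
        push Not at h
        refine hM.1 ⟨a, Matrix.ext_of_mulVec_single fun i => ?_⟩
        obtain ⟨s, hs⟩ : ∃ s, Pi.single i 1 - s • u ∈ H :=
          ⟨(r ⬝ᵥ Pi.single i 1) / (r ⬝ᵥ u), by
            show r ⬝ᵥ _ = 0
            rw [dotProduct_sub, dotProduct_smul, smul_eq_mul, div_mul_cancel₀ _ (show r ⬝ᵥ u ≠ 0 from huH), sub_self]⟩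
        have h' := h _ hs
        rw [Matrix.mulVec_sub, Matrix.mulVec_smul, ha] at h'
        rw [Matrix.smul_mulVec, Matrix.one_mulVec]
        linear_combination (norm := module) h'
      obtain ⟨t, ht0, htL, htE⟩ := exists_line_avoid hK (fun t => u + t • x ∈ L)
        (fun t => t ≠ 0 ∧ ∃ b : K, M *ᵥ (u + t • x) = b • (u + t • x)) (line_meets_once huL) (by
          rintro s t ⟨hs, b, hb⟩ ⟨ht, b', hb'⟩
          rw [Matrix.mulVec_add, Matrix.mulVec_smul, ha] at hb hb'
          have e1 : M *ᵥ x = b • x + ((b - a) / s) • u := by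
            apply smul_right_injective (Fin n → K) hs
            dsimp only
            rw [smul_add, smul_smul, smul_smul, mul_div_cancel₀ _ hs]
            linear_combination (norm := module) hb
          have e2 : M *ᵥ x = b' • x + ((b' - a) / t) • u := by
            apply smul_right_injective (Fin n → K) ht
            dsimp only
            rw [smul_add, smul_smul, smul_smul, mul_div_cancel₀ _ ht]
            linear_combination (norm := module) hb'
          have hbb : b = b' := by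
            by_contra hne
            have hu0 : (b - b') * (r ⬝ᵥ x) + ((b - a) / s - (b' - a) / t) * (r ⬝ᵥ u) = 0 := by
              have := congrArg (fun z => r ⬝ᵥ z) (e1.symm.trans e2)
              simp only [dotProduct_add, dotProduct_smul, smul_eq_mul] at this
              linear_combination this
            rw [show r ⬝ᵥ x = 0 from hxH, mul_zero, zero_add] at hu0
            have h0 := (mul_eq_zero.1 hu0).resolve_right huH
            rw [sub_eq_zero] at h0
            have hx0 : (b - b') • x = 0 := by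
              have := e1.symm.trans e2
              rw [h0] at this
              linear_combination (norm := module) this
            rcases smul_eq_zero.1 hx0 with h | h
            · exact hne (sub_eq_zero.1 h)
            · exact hxa (by rw [h, Matrix.mulVec_zero, smul_zero])
          subst hbb
          have hba : b - a ≠ 0 := fun h => hxa (by rw [e1, h, zero_div, zero_smul, add_zero, sub_eq_zero.1 h])
          have h := e1.symm.trans e2
          have h1 : ((b - a) / s - (b - a) / t) • u = 0 := by linear_combination (norm := module) h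
          rcases smul_eq_zero.1 h1 with h | h
          · rw [sub_eq_zero, div_eq_div_iff hs ht] at h
            exact (mul_left_cancel₀ hba h).symm
          · exact absurd (show r ⬝ᵥ u = 0 by rw [h, dotProduct_zero]) huH)
      refine fin (u + t • x) ?_ (fun b hb => htE ⟨ht0, b, hb⟩) htL (h4 _)
      intro h
      exact huH (by simpa using H.sub_mem h (H.smul_mem t hxH))
    · push Not at hu
      exact fin u huH hu huL (h4 _)

theorem choose_functional (hK : 4 ≤ Cardinal.mk K) {v v' y c : Fin n → K} (hv : v ≠ 0) (hv' : ∀ a : K, v' ≠ a • v)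
    (hy : y ∉ Submodule.span K {v, v'}) (hc0 : c ≠ 0) (hc : ∀ a : K, v' - v ≠ a • c) (p q : K) :
    ∃ w, w ⬝ᵥ v = 1 ∧ w ⬝ᵥ v' = 1 ∧ w ⬝ᵥ y ≠ p ∧ w ⬝ᵥ y ≠ q ∧ w ⬝ᵥ c ≠ 0 := by
  have h2 : LinearIndependent K ![v', v] := linearIndependent_fin2.2 ⟨hv, fun a h => hv' a (by simpa using h.symm)⟩
  have h3 : LinearIndependent K ![y, v', v] := linearIndependent_fin_cons.2 ⟨h2, by
    simpa [Matrix.range_cons, Matrix.range_empty, Set.pair_comm] using hy⟩
  by_cases hcs : c ∈ Submodule.span K (Set.range ![y, v', v])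
  · obtain ⟨g, hg⟩ := (Submodule.mem_span_range_iff_exists_fun K).1 hcs
    simp [Fin.sum_univ_three] at hg
    obtain ⟨x, hx1, hx2, hx3⟩ := exists_avoid hK p q (-(g 1 + g 2) / g 0)
    obtain ⟨w, hw⟩ := exists_dual h3 ![x, 1, 1]
    have hw0 : w ⬝ᵥ y = x := hw 0
    have hw1 : w ⬝ᵥ v' = 1 := hw 1
    have hw2 : w ⬝ᵥ v = 1 := hw 2
    refine ⟨w, hw2, hw1, by rw [hw0]; exact hx1, by rw [hw0]; exact hx2, fun h => ?_⟩
    rw [← hg] at h
    simp [dotProduct_add, dotProduct_smul, hw0, hw1, hw2] at h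
    rcases eq_or_ne (g 0) 0 with h0 | h0
    · rw [h0, zero_mul, zero_add] at h
      have hcz : c = g 1 • (v' - v) := by
        rw [← hg, h0, zero_smul, zero_add, show g 2 = -g 1 by linear_combination h]
        module
      rcases eq_or_ne (g 1) 0 with h1 | h1
      · exact hc0 (by rw [hcz, h1, zero_smul])
      · exact hc (g 1)⁻¹ (by rw [hcz, smul_smul, inv_mul_cancel₀ h1, one_smul])
    · apply hx3
      field_simp
      linear_combination h
  · obtain ⟨x, hx1, hx2, -⟩ := exists_avoid hK p q q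
    obtain ⟨w, hw⟩ := exists_dual (linearIndependent_fin_cons.2 ⟨h3, hcs⟩) (Fin.cons 1 ![x, 1, 1])
    exact ⟨w, hw 3, hw 2, by rw [show w ⬝ᵥ y = x from hw 1]; exact hx1, by rw [show w ⬝ᵥ y = x from hw 1]; exact hx2,
      by rw [show w ⬝ᵥ c = 1 from hw 0]; exact one_ne_zero⟩

/-- The splitting data at one step. -/
theorem choose_step (hK : 4 ≤ Cardinal.mk K) {M : Matrix (Fin n) (Fin n) K} (hn : 3 ≤ n) (hdet : M.det = 1) (hM : Generic M)
    {c r : Fin n → K} (hc : c ≠ 0) (hr : r ≠ 0) :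
    ∃ v w : Fin n → K, w ⬝ᵥ v = 1 ∧ w ⬝ᵥ (M *ᵥ v) = 1 ∧ r ⬝ᵥ v ≠ 0 ∧ w ⬝ᵥ c ≠ 0 ∧ M *ᵥ v ≠ v ∧ w ᵥ* M ≠ w ∧
      (∀ l : K, M - vecMulVec (M *ᵥ v) (w ᵥ* M) ≠ l • (1 - vecMulVec v w)) ∧
      ∀ u f : Fin n → K, w ⬝ᵥ u = 0 → f ⬝ᵥ v = 0 → f ⬝ᵥ u = 0 →
        M - vecMulVec (M *ᵥ v) (w ᵥ* M) - (1 - vecMulVec v w) ≠ vecMulVec u f := by
  obtain ⟨v, hrv, hev, hvc, hy⟩ := choose_vector hK hM hr (c := c)
  obtain ⟨y₀, hy₀⟩ := hy hn
  have hv0 : v ≠ 0 := fun h => hrv (by rw [h, dotProduct_zero])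
  obtain ⟨v', hv'⟩ : ∃ v', v' = M *ᵥ v := ⟨_, rfl⟩
  rw [← hv'] at hy₀
  have hne : v' ≠ v := by rw [hv']; intro h; exact hev 1 (by rw [h, one_smul])
  let W := Submodule.span K {v, v'}
  have hvW : v ∈ W := Submodule.subset_span (Or.inl rfl)
  have hv'W : v' ∈ W := Submodule.subset_span (Or.inr rfl)
  have happ : ∀ w x : Fin n → K, (M - vecMulVec (M *ᵥ v) (w ᵥ* M)) *ᵥ x = M *ᵥ x - (w ⬝ᵥ (M *ᵥ x)) • v' := by
    intro w x
    rw [Matrix.sub_mulVec, vecMulVec_mulVec, ← dotProduct_mulVec, hv']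
    simp
  have hpi : ∀ w x : Fin n → K, (1 - vecMulVec v w) *ᵥ x = x - (w ⬝ᵥ x) • v := by
    intro w x
    rw [Matrix.sub_mulVec, vecMulVec_mulVec, Matrix.one_mulVec]
    simp
  have hu : ∀ u f x : Fin n → K, vecMulVec u f *ᵥ x = (f ⬝ᵥ x) • u := by
    intro u f x
    rw [vecMulVec_mulVec]; simp
  by_cases hA : M *ᵥ v' ∈ W
  · obtain ⟨α, β, hab⟩ := Submodule.mem_span_pair.1 hA
    have hMv : M *ᵥ v' = α • v + β • v' := hab.symm
    have hα : α ≠ 0 := fun h => by
      rw [h, zero_smul, zero_add] at hMv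
      have hu : IsUnit M := (Matrix.isUnit_iff_isUnit_det M).2 (by rw [hdet]; exact isUnit_one)
      refine hev β (hv' ▸ Matrix.mulVec_injective_of_isUnit hu ?_)
      rw [hMv, Matrix.mulVec_smul, ← hv']
    obtain ⟨y, hy⟩ : ∃ y, y = M *ᵥ y₀ - y₀ := ⟨_, rfl⟩
    rw [← hy] at hy₀
    obtain ⟨p, hp⟩ : ∃ p : K, ∀ s t : K, M *ᵥ y + α • y = s • v + t • v' → s / α = p := by
      by_cases h : ∃ s t : K, M *ᵥ y + α • y = s • v + t • v'
      · obtain ⟨s, t, h⟩ := h
        refine ⟨s / α, fun s' t' h' => ?_⟩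
        have h2 : (s' - s) • v + (t' - t) • v' = 0 := by linear_combination (norm := module) h - h'
        have h4 : t' - t = 0 := by
          by_contra h5
          refine hev (-(s' - s) / (t' - t)) ?_
          rw [← hv']
          apply smul_right_injective (Fin n → K) h5
          dsimp only
          rw [smul_smul, mul_div_cancel₀ _ h5]
          linear_combination (norm := module) h2
        rw [h4, zero_smul, add_zero] at h2
        rw [sub_eq_zero.1 ((smul_eq_zero.1 h2).resolve_right hv0)]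
      · exact ⟨0, fun s t h' => absurd ⟨s, t, h'⟩ h⟩
    obtain ⟨w, hw1, hw2, hw0, hwp, hwc⟩ := choose_functional hK hv0 (hv' ▸ hev) hy₀ hc (hv' ▸ hvc) 0 p
    refine ⟨v, w, hw1, hv' ▸ hw2, hrv, hwc, hv' ▸ hne, fun h => hw0 ?_, fun l hl => ?_, fun u f hwu hfv hfu hf => ?_⟩
    · rw [hy, dotProduct_sub, dotProduct_mulVec, h, sub_self]
    · have h1 := congrArg (fun A => A *ᵥ v') hl
      simp only [happ, Matrix.smul_mulVec, hpi, hw2, one_smul, hMv, dotProduct_add, dotProduct_smul, hw1, smul_eq_mul, mul_one] at h1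
      have hl' : l = -α := by
        have h2 : (α + l) • (v' - v) = 0 := by linear_combination (norm := module) -h1
        have := (smul_eq_zero.1 h2).resolve_right (sub_ne_zero.2 hne)
        linear_combination this
      have h2 := congrArg (fun A => A *ᵥ y) hl
      simp only [happ, Matrix.smul_mulVec, hpi] at h2
      refine hwp ?_
      rw [← hp (α * (w ⬝ᵥ y)) (w ⬝ᵥ (M *ᵥ y)) (by rw [hl'] at h2; linear_combination (norm := module) h2)]
      field_simp
    · have happ' : ∀ x, M *ᵥ x - (w ⬝ᵥ (M *ᵥ x)) • v' - (x - (w ⬝ᵥ x) • v) = (f ⬝ᵥ x) • u := fun x => by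
        have := congrArg (fun A => A *ᵥ x) hf
        simpa only [Matrix.sub_mulVec, happ, hpi, hu] using this
      have hz : (-(1 + α)) • (v' - v) = (f ⬝ᵥ (v' - v)) • u := by
        rw [← happ' (v' - v)]
        simp only [Matrix.mulVec_sub, hMv, ← hv', dotProduct_sub, dotProduct_add, dotProduct_smul, hw1, hw2, smul_eq_mul, mul_one, sub_self, zero_smul, sub_zero]
        module
      have hy0' : (f ⬝ᵥ y₀) • u ∉ W := by
        rw [← happ']
        intro h
        apply hy₀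
        rw [hy]
        have h' := W.sub_mem (W.add_mem h (W.smul_mem (w ⬝ᵥ (M *ᵥ y₀)) hv'W)) (W.smul_mem (w ⬝ᵥ y₀) hvW)
        convert h' using 1
        module
      have huW : u ∉ W := fun h => hy0' (W.smul_mem _ h)
      have hα1 : α = -1 := by
        by_contra hne1
        refine huW ?_
        have hz0 : f ⬝ᵥ (v' - v) ≠ 0 := fun h => by
          rw [h, zero_smul] at hz
          rcases smul_eq_zero.1 hz with h | h
          · exact hne1 (by linear_combination -h)
          · exact hne (sub_eq_zero.1 h)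
        rw [show u = (f ⬝ᵥ (v' - v))⁻¹ • ((-(1 + α)) • (v' - v)) by rw [hz, smul_smul, inv_mul_cancel₀ hz0, one_smul]]
        exact W.smul_mem _ (W.smul_mem _ (W.sub_mem hv'W hvW))
      have hNu : M *ᵥ u - u ∈ W := by
        have := happ' u
        rw [hfu, zero_smul, hwu, zero_smul, sub_zero] at this
        rw [show M *ᵥ u - u = (w ⬝ᵥ (M *ᵥ u)) • v' by linear_combination (norm := module) this]
        exact W.smul_mem _ hv'W
      have hNy : M *ᵥ y + α • y ∈ W := by
        have e : y = (f ⬝ᵥ y₀) • u + (w ⬝ᵥ (M *ᵥ y₀)) • v' - (w ⬝ᵥ y₀) • v := by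
          rw [hy]; linear_combination (norm := module) happ' y₀
        rw [hα1, e]
        simp only [Matrix.mulVec_add, Matrix.mulVec_sub, Matrix.mulVec_smul, ← hv', hMv]
        have h' := W.add_mem (W.smul_mem (f ⬝ᵥ y₀) hNu)
          (W.add_mem (W.smul_mem (w ⬝ᵥ (M *ᵥ y₀)) (W.sub_mem (W.add_mem (W.smul_mem α hvW) (W.smul_mem β hv'W)) hv'W))
            (W.smul_mem (-(w ⬝ᵥ y₀)) (W.sub_mem hv'W hvW)))
        convert h' using 1
        rw [hα1]
        module
      obtain ⟨s, t, hst⟩ := Submodule.mem_span_pair.1 hNy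
      have hps := hp s t hst.symm
      apply hwp
      rw [← hps, hα1]
      have hy' : M *ᵥ y = s • v + t • v' + y := by rw [hα1] at hst; linear_combination (norm := module) -hst
      have h1 := happ' y
      rw [hy'] at h1
      simp only [dotProduct_add, dotProduct_smul, hw1, hw2, smul_eq_mul, mul_one] at h1
      have hfy : f ⬝ᵥ y = 0 := by
        by_contra h
        refine huW ?_
        rw [show u = (f ⬝ᵥ y)⁻¹ • ((s + w ⬝ᵥ y) • (v - v')) by
          rw [show (s + w ⬝ᵥ y) • (v - v') = (f ⬝ᵥ y) • u by linear_combination (norm := module) h1,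
            smul_smul, inv_mul_cancel₀ h, one_smul]]
        exact W.smul_mem _ (W.smul_mem _ (W.sub_mem hvW hv'W))
      rw [hfy, zero_smul] at h1
      have h2 : (s + w ⬝ᵥ y) • (v - v') = 0 := by linear_combination (norm := module) h1
      have := (smul_eq_zero.1 h2).resolve_right (sub_ne_zero.2 hne.symm)
      field_simp
      linear_combination this
  · obtain ⟨w, hw1, hw2, hw3, hw4, hwc⟩ := choose_functional hK hv0 (hv' ▸ hev) hA hc (hv' ▸ hvc) 1 (M.trace - n + 1)
    refine ⟨v, w, hw1, hv' ▸ hw2, hrv, hwc, hv' ▸ hne, fun h => hw3 ?_, fun l hl => ?_, fun u f hwu hfv hfu hf => ?_⟩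
    · rw [dotProduct_mulVec, h, hw2]
    · have h1 := congrArg (fun A => A *ᵥ v') hl
      simp only [happ, Matrix.smul_mulVec, hpi, hw2, one_smul] at h1
      apply hA
      rw [show M *ᵥ v' = (w ⬝ᵥ (M *ᵥ v')) • v' + l • (v' - v) by linear_combination (norm := module) h1]
      exact W.add_mem (W.smul_mem _ hv'W) (W.smul_mem _ (W.sub_mem hv'W hvW))
    · have h1 := congrArg Matrix.trace hf
      rw [Matrix.trace_sub, Matrix.trace_sub, Matrix.trace_sub, Matrix.trace_one, Matrix.trace_vecMulVec,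
        Matrix.trace_vecMulVec, Matrix.trace_vecMulVec, dotProduct_comm (M *ᵥ v), dotProduct_comm v w, dotProduct_comm u f,
        ← dotProduct_mulVec, hfu, hw1, Fintype.card_fin, ← hv'] at h1
      apply hw4
      linear_combination -h1

/-- The factorisation into a lower and an upper regular unipotent matrix. -/
theorem exists_factor (hK : 4 ≤ Cardinal.mk K) : ∀ (k : ℕ) (M : Matrix (Fin (k + 1)) (Fin (k + 1)) K),
    M.det = 1 → (k = 0 ∨ Generic M) → ∀ c r : Fin (k + 1) → K, c ≠ 0 → r ≠ 0 →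
      ∃ (Q : GL (Fin (k + 1)) K) (L U : Matrix (Fin (k + 1)) (Fin (k + 1)) K), LowerReg L ∧ LowerReg Uᵀ ∧
        M * (Q : Matrix (Fin (k + 1)) (Fin (k + 1)) K) = (Q : Matrix (Fin (k + 1)) (Fin (k + 1)) K) * (L * U) ∧
        ((Q⁻¹ : GL (Fin (k + 1)) K).1 *ᵥ c) 0 ≠ 0 ∧ (r ᵥ* (Q : Matrix (Fin (k + 1)) (Fin (k + 1)) K)) 0 ≠ 0 := by
  intro k
  induction k with
  | zero =>
    intro M hdet _ c r hc hr
    refine ⟨1, 1, 1, lowerReg_one, by rw [Matrix.transpose_one]; exact lowerReg_one, ?_, ?_, ?_⟩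
    · ext i j
      rw [Fin.fin_one_eq_zero i, Fin.fin_one_eq_zero j]
      rw [Matrix.det_fin_one] at hdet
      simp [hdet]
    · intro h; exact hc (funext fun i => by rw [Fin.fin_one_eq_zero i]; simpa using h)
    · intro h; exact hr (funext fun i => by rw [Fin.fin_one_eq_zero i]; simpa using h)
  | succ k ih =>
    intro M hdet hM c r hc hr
    replace hM : Generic M := hM.resolve_left (Nat.succ_ne_zero k)
    obtain ⟨v, w, hwv, hwMv, hrv, hwc, hMv, hwM, hgen⟩ : ∃ v w : Fin (k + 2) → K, w ⬝ᵥ v = 1 ∧ w ⬝ᵥ (M *ᵥ v) = 1 ∧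
        r ⬝ᵥ v ≠ 0 ∧ w ⬝ᵥ c ≠ 0 ∧ M *ᵥ v ≠ v ∧ w ᵥ* M ≠ w ∧ (k = 0 ∨
          (∀ l : K, M - vecMulVec (M *ᵥ v) (w ᵥ* M) ≠ l • (1 - vecMulVec v w)) ∧
          ∀ u f : Fin (k + 2) → K, w ⬝ᵥ u = 0 → f ⬝ᵥ v = 0 → f ⬝ᵥ u = 0 →
            M - vecMulVec (M *ᵥ v) (w ᵥ* M) - (1 - vecMulVec v w) ≠ vecMulVec u f) := by
      rcases Nat.eq_zero_or_pos k with rfl | hk
      · obtain ⟨v, hrv, hev, hvc, -⟩ := choose_vector hK hM hr (c := c)
        have hv0 : v ≠ 0 := fun h => hrv (by rw [h, dotProduct_zero])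
        have hli : LinearIndependent K ![M *ᵥ v, v] :=
          linearIndependent_fin2.2 ⟨hv0, fun a h => hev a (by simpa using h.symm)⟩
        obtain ⟨w, hw⟩ := exists_dual hli ![1, 1]
        have hw0 : w ⬝ᵥ (M *ᵥ v) = 1 := hw 0
        have hw1 : w ⬝ᵥ v = 1 := hw 1
        obtain ⟨g, hg⟩ := (Submodule.mem_span_range_iff_exists_fun K).1
          (show c ∈ Submodule.span K (Set.range ![M *ᵥ v, v]) by
            rw [hli.span_eq_top_of_card_eq_finrank (by simp)]; trivial)
        rw [Fin.sum_univ_two] at hg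
        simp only [Matrix.cons_val_zero, Matrix.cons_val_one] at hg
        refine ⟨v, w, hw1, hw0, hrv, fun h => ?_, fun h => hev 1 (by rw [h, one_smul]), fun h => ?_, Or.inl rfl⟩
        · rw [← hg, dotProduct_add, dotProduct_smul, dotProduct_smul, hw0, hw1, smul_eq_mul, smul_eq_mul, mul_one, mul_one] at h
          have hcz : c = g 0 • (M *ᵥ v - v) := by
            rw [← hg, show g 1 = -g 0 by linear_combination h]; module
          rcases eq_or_ne (g 0) 0 with h0 | h0
          · exact hc (by rw [hcz, h0, zero_smul])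
          · exact hvc (g 0)⁻¹ (by rw [hcz, smul_smul, inv_mul_cancel₀ h0, one_smul])
        · -- otherwise `M - 1` has rank at most one
          have hw0' : w ≠ 0 := fun h => by rw [h, zero_dotProduct] at hw1; exact zero_ne_one hw1
          obtain ⟨f, hf⟩ := eq_vecMulVec_of_range_le (M - 1) (M *ᵥ v - v) fun x => by
            obtain ⟨g', hg'⟩ := (Submodule.mem_span_range_iff_exists_fun K).1
              (show (M - 1) *ᵥ x ∈ Submodule.span K (Set.range ![M *ᵥ v, v]) by
                rw [hli.span_eq_top_of_card_eq_finrank (by simp)]; trivial)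
            rw [Fin.sum_univ_two] at hg'
            simp only [Matrix.cons_val_zero, Matrix.cons_val_one] at hg'
            have h0 : w ⬝ᵥ ((M - 1) *ᵥ x) = 0 := by
              rw [Matrix.sub_mulVec, Matrix.one_mulVec, dotProduct_sub, dotProduct_mulVec, h, sub_self]
            rw [← hg', dotProduct_add, dotProduct_smul, dotProduct_smul, hw0, hw1, smul_eq_mul, smul_eq_mul, mul_one, mul_one] at h0
            rw [← hg', show g' 1 = -g' 0 by linear_combination h0, Submodule.mem_span_singleton]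
            exact ⟨g' 0, by module⟩
          exact hM.2 _ _ hf
      · obtain ⟨v, w, h1, h2, h3, h4, h5, h6, h7⟩ := choose_step hK (by omega) hdet hM hc hr
        exact ⟨v, w, h1, h2, h3, h4, h5, h6, Or.inr h7⟩
    obtain ⟨P, hPv, hPw⟩ := exists_basis_matrix hwv
    obtain ⟨Pm, hPm⟩ : ∃ Pm, Pm = (P : Matrix (Fin (k + 2)) (Fin (k + 2)) K) := ⟨_, rfl⟩
    obtain ⟨Pi', hPi⟩ : ∃ Pi', Pi' = (P⁻¹ : GL (Fin (k + 2)) K).1 := ⟨_, rfl⟩
    rw [← hPm] at hPv hPw
    have hPP : Pm * Pi' = 1 := by rw [hPm, hPi]; exact P.mul_inv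
    have hPP' : Pi' * Pm = 1 := by rw [hPm, hPi]; exact P.inv_mul
    let e0 : Fin (k + 2) → K := Pi.single 0 1
    have hPe : Pm *ᵥ e0 = v := funext fun i => by simp [e0, hPv]
    have heP : w ᵥ* Pm = e0 := funext fun j => by
      induction j using Fin.cases with
      | zero =>
        show w ⬝ᵥ (fun i => Pm i 0) = e0 0
        rw [funext hPv, hwv]; simp [e0]
      | succ j =>
        show w ⬝ᵥ (fun i => Pm i j.succ) = e0 j.succ
        rw [hPw]; simp [e0, Fin.succ_ne_zero]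
    have hvP : Pi' *ᵥ v = e0 := by rw [← hPe, mulVec_mulVec, hPP', one_mulVec]
    have hwP : e0 ᵥ* Pi' = w := by rw [← heP, vecMul_vecMul, hPP, vecMul_one]
    obtain ⟨A, hA⟩ : ∃ A, A = Pi' * M * Pm := ⟨_, rfl⟩
    have hMA : M = Pm * A * Pi' := by
      rw [hA, ← mul_assoc, ← mul_assoc, hPP, one_mul, mul_assoc, hPP, mul_one]
    have hA00 : A 0 0 = 1 := by
      have : e0 ⬝ᵥ (A *ᵥ e0) = 1 := by
        rw [hA, ← mulVec_mulVec, ← mulVec_mulVec, hPe, dotProduct_mulVec, hwP, hwMv]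
      simpa [e0] using this
    obtain ⟨r₁, c₁, D, hAb⟩ : ∃ r₁ c₁ D, A = bordered 1 r₁ c₁ D := ⟨_, _, _, hA00 ▸ bordered_ext A⟩
    obtain ⟨S, hS⟩ : ∃ S, S = D - vecMulVec c₁ r₁ := ⟨_, rfl⟩
    have hfac : A = bordered 1 0 c₁ 1 * bordered 1 r₁ 0 S := by
      rw [bordered_mul, hAb, hS]; simp
    have hdetS : S.det = 1 := by
      have h1 : A.det = 1 := by
        rw [hA, Matrix.det_mul, Matrix.det_mul, hdet, mul_one, ← Matrix.det_mul, hPP', Matrix.det_one]
      rw [hfac, Matrix.det_mul, det_bordered_col, ← Matrix.det_transpose, bordered_transpose, det_bordered_col,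
        Matrix.transpose_one, Matrix.det_one, one_mul] at h1
      exact h1
    have hAe : A *ᵥ e0 = Fin.cons 1 c₁ := funext fun i => by
      rw [hAb]; induction i using Fin.cases <;> simp [e0]
    have heA : e0 ᵥ* A = Fin.cons 1 r₁ := funext fun i => by
      rw [hAb]; induction i using Fin.cases <;> simp [e0]
    have hc₁ : c₁ ≠ 0 := fun h => hMv (by
      rw [hMA, ← mulVec_mulVec, ← mulVec_mulVec, hvP, hAe, h]
      rw [show (Fin.cons 1 (0 : Fin (k + 1) → K) : Fin (k + 2) → K) = e0 by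
        funext i; induction i using Fin.cases <;> simp [e0, Fin.succ_ne_zero], hPe])
    have hr₁ : r₁ ≠ 0 := fun h => hwM (by
      rw [hMA, ← vecMul_vecMul, ← vecMul_vecMul, heP, heA, h]
      rw [show (Fin.cons 1 (0 : Fin (k + 1) → K) : Fin (k + 2) → K) = e0 by
        funext i; induction i using Fin.cases <;> simp [e0, Fin.succ_ne_zero], hwP])
    have hTb : bordered 0 0 0 S = A - vecMulVec (A *ᵥ e0) (e0 ᵥ* A) := by
      rw [hAe, heA, hAb, hS]
      ext i j
      induction i using Fin.cases <;> induction j using Fin.cases <;> simp [vecMulVec_apply]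
    have hpb : (bordered 0 0 0 1 : Matrix (Fin (k + 2)) (Fin (k + 2)) K) = 1 - vecMulVec e0 e0 := by
      ext i j
      induction i using Fin.cases <;> induction j using Fin.cases <;>
        simp [vecMulVec_apply, e0, Matrix.one_apply, Fin.succ_ne_zero, (Fin.succ_ne_zero _).symm]
    have hT : Pm * bordered 0 0 0 S * Pi' = M - vecMulVec (M *ᵥ v) (w ᵥ* M) := by
      rw [hTb, mul_sub, sub_mul, ← hMA, mul_vecMulVec, vecMulVec_mul, mulVec_mulVec, vecMul_vecMul]
      congr 2
      · rw [hMA, ← mulVec_mulVec, ← mulVec_mulVec, hvP, mulVec_mulVec]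
      · conv_rhs => rw [hMA, ← vecMul_vecMul, ← vecMul_vecMul, heP]
        rw [vecMul_vecMul]

    have hπ : Pm * bordered 0 0 0 1 * Pi' = 1 - vecMulVec v w := by
      rw [hpb, mul_sub, sub_mul, mul_one, hPP, mul_vecMulVec, vecMulVec_mul, hPe, hwP]
    have hgS : k = 0 ∨ Generic S := by
      rcases hgen with h | ⟨hg1, hg2⟩
      · exact Or.inl h
      refine Or.inr ⟨fun ⟨l, hl⟩ => hg1 l ?_, fun u f hf => ?_⟩
      · rw [← hT, ← hπ, hl, show (bordered 0 0 0 (l • (1 : Matrix (Fin (k + 1)) (Fin (k + 1)) K))) = l • bordered 0 0 0 1 by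
          ext i j; induction i using Fin.cases <;> induction j using Fin.cases <;> simp,
          Matrix.mul_smul, Matrix.smul_mul]
      · have hfu : f ⬝ᵥ u = 0 := by
          have h1 : (1 + vecMulVec u f).det = 1 := by rw [← hf, add_sub_cancel, hdetS]
          rw [vecMulVec_eq Unit, Matrix.det_one_add_replicateCol_mul_replicateRow] at h1
          linear_combination h1
        refine hg2 (Pm *ᵥ Fin.cons 0 u) (Fin.cons 0 f ᵥ* Pi') ?_ ?_ ?_ ?_
        · rw [dotProduct_mulVec, heP]; simp [e0]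
        · rw [← dotProduct_mulVec, hvP]; simp [e0]
        · rw [← dotProduct_mulVec, mulVec_mulVec, hPP', one_mulVec]
          simpa [dotProduct, Fin.sum_univ_succ] using hfu
        · rw [← hT, ← hπ, ← sub_mul, ← mul_sub, bordered_sub, hf, ← vecMulVec_mul, ← mul_vecMulVec]
          congr 2
          ext i j
          induction i using Fin.cases <;> induction j using Fin.cases <;> simp [vecMulVec_apply]
    obtain ⟨Q₁, L, U, hL, hU, hSQ, hQc, hQr⟩ := ih S hdetS hgS c₁ r₁ hc₁ hr₁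
    obtain ⟨q, hq⟩ : ∃ q, q = (Q₁ : Matrix (Fin (k + 1)) (Fin (k + 1)) K) := ⟨_, rfl⟩
    obtain ⟨q', hq'⟩ : ∃ q', q' = (Q₁⁻¹ : GL (Fin (k + 1)) K).1 := ⟨_, rfl⟩
    rw [← hq] at hSQ hQr
    rw [← hq'] at hQc
    have hqq : q * q' = 1 := by rw [hq, hq']; exact Q₁.mul_inv
    have hqq' : q' * q = 1 := by rw [hq, hq']; exact Q₁.inv_mul
    let R : GL (Fin (k + 2)) K := ⟨bordered 1 0 0 q, bordered 1 0 0 q',
      by rw [bordered_mul, hqq]; simpa using bordered_one.symm, by rw [bordered_mul, hqq']; simpa using bordered_one.symm⟩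
    refine ⟨P * R, bordered 1 0 (q' *ᵥ c₁) L, bordered 1 (r₁ ᵥ* q) 0 U, lowerReg_bordered hL hQc, ?_, ?_, ?_, ?_⟩
    · rw [bordered_transpose]; exact lowerReg_bordered hU hQr
    · have h1 : A * bordered 1 0 0 q = bordered 1 0 0 q * (bordered 1 0 (q' *ᵥ c₁) L * bordered 1 (r₁ ᵥ* q) 0 U) := by
        rw [hAb, bordered_mul, bordered_mul, bordered_mul]
        congr 1
        · simp
        · simp
        · simp [mulVec_mulVec, hqq]
        · have hD : D = S + vecMulVec c₁ r₁ := by rw [hS]; abel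
          simp only [vecMulVec_zero, zero_vecMulVec, zero_add, mul_add, mul_vecMulVec, mulVec_mulVec, hqq, one_mulVec]
          rw [hD, add_mul, hSQ, vecMulVec_mul]
          exact add_comm _ _
      rw [Units.val_mul, ← hPm, show (R : Matrix (Fin (k + 2)) (Fin (k + 2)) K) = bordered 1 0 0 q from rfl, hMA,
        mul_assoc Pm (bordered 1 0 0 q), ← h1]
      simp only [mul_assoc]
      rw [← mul_assoc Pi', hPP', one_mul]
    · rw [_root_.mul_inv_rev, Units.val_mul, ← hPi, ← mulVec_mulVec]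
      rw [show (R⁻¹ : GL (Fin (k + 2)) K).1 = bordered 1 0 0 q' from rfl]
      have h1 : (Pi' *ᵥ c) 0 = w ⬝ᵥ c := by
        rw [← hwP, ← dotProduct_mulVec]; simp [e0]
      have h2 : (bordered 1 0 0 q' *ᵥ (Pi' *ᵥ c)) 0 = (Pi' *ᵥ c) 0 := by
        simp [Matrix.mulVec, dotProduct, Fin.sum_univ_succ]
      rw [h2, h1]
      exact hwc
    · rw [Units.val_mul, ← hPm, ← vecMul_vecMul, show (R : Matrix (Fin (k + 2)) (Fin (k + 2)) K) = bordered 1 0 0 q from rfl]
      have h1 : (r ᵥ* Pm) 0 = r ⬝ᵥ v := by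
        rw [← hPe, dotProduct_mulVec]; simp [e0]
      have h2 : ((r ᵥ* Pm) ᵥ* bordered 1 0 0 q) 0 = (r ᵥ* Pm) 0 := by
        simp [Matrix.vecMul, dotProduct, Fin.sum_univ_succ]
      rw [h2, h1]
      exact hrv

theorem exists_last_first {k : ℕ} {u f : Fin (k + 2) → K} (hu : u ≠ 0) (hf : f ≠ 0) (hfu : f ⬝ᵥ u = 0) :
    ∃ P : GL (Fin (k + 2)) K, (P : Matrix (Fin (k + 2)) (Fin (k + 2)) K) *ᵥ Pi.single (Fin.last (k + 1)) 1 = u ∧
      f ᵥ* (P : Matrix (Fin (k + 2)) (Fin (k + 2)) K) = Pi.single 0 1 := by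
  obtain ⟨i, hi⟩ := Function.ne_iff.1 hf
  simp only [Pi.zero_apply] at hi
  obtain ⟨v, hv⟩ : ∃ v, f ⬝ᵥ v = 1 := ⟨Pi.single i (f i)⁻¹, by simp [mul_inv_cancel₀ hi]⟩
  obtain ⟨P, hPv, hPf⟩ := exists_basis_matrix hv
  have hfP : f ᵥ* (P : Matrix (Fin (k + 2)) (Fin (k + 2)) K) = Pi.single 0 1 := funext fun j => by
    induction j using Fin.cases with
    | zero =>
      show f ⬝ᵥ (fun i => (P : Matrix (Fin (k + 2)) (Fin (k + 2)) K) i 0) = _
      rw [funext hPv, hv]; simp
    | succ j =>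
      show f ⬝ᵥ (fun i => (P : Matrix (Fin (k + 2)) (Fin (k + 2)) K) i j.succ) = _
      rw [hPf]; simp [Fin.succ_ne_zero]
  obtain ⟨u', hu'⟩ : ∃ u', u' = (P⁻¹ : GL (Fin (k + 2)) K).1 *ᵥ u := ⟨_, rfl⟩
  have huu : (P : Matrix (Fin (k + 2)) (Fin (k + 2)) K) *ᵥ u' = u := by
    rw [hu', mulVec_mulVec, P.mul_inv, one_mulVec]
  have h0 : u' 0 = 0 := by
    have : (Pi.single 0 1 : Fin (k + 2) → K) ⬝ᵥ u' = 0 := by rw [← hfP, ← dotProduct_mulVec, huu, hfu]
    simpa using this
  obtain ⟨j, hj⟩ : ∃ j : Fin (k + 1), u' j.succ ≠ 0 := by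
    by_contra h
    push Not at h
    refine hu ?_
    rw [← huu, show u' = 0 from funext fun i => by induction i using Fin.cases <;> simp [h0, h], mulVec_zero]
  obtain ⟨w₁, hw₁⟩ : ∃ w₁ : Fin (k + 1) → K, w₁ ⬝ᵥ (fun i => u' i.succ) = 1 :=
    ⟨Pi.single j (u' j.succ)⁻¹, by simp [inv_mul_cancel₀ hj]⟩
  obtain ⟨P₂, hP₂, -⟩ := exists_basis_matrix hw₁
  obtain ⟨P₃, hP₃⟩ : ∃ P₃ : GL (Fin (k + 1)) K, ∀ i, (P₃ : Matrix (Fin (k + 1)) (Fin (k + 1)) K) i (Fin.last k) = u' i.succ := by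
    have h : IsUnit ((P₂ : Matrix (Fin (k + 1)) (Fin (k + 1)) K).submatrix (Equiv.refl _) Fin.revPerm) :=
      (Matrix.isUnit_submatrix_equiv _ _).2 P₂.isUnit
    exact ⟨h.unit, fun i => by rw [IsUnit.unit_spec]; simp [hP₂]⟩
  let R : GL (Fin (k + 2)) K :=
    ⟨bordered 1 0 0 P₃.1, bordered 1 0 0 (P₃⁻¹).1, by rw [bordered_mul, P₃.mul_inv]; simpa using bordered_one.symm,
      by rw [bordered_mul, P₃.inv_mul]; simpa using bordered_one.symm⟩
  refine ⟨P * R, ?_, ?_⟩
  · rw [Units.val_mul, ← mulVec_mulVec]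
    conv_rhs => rw [← huu]
    congr 1
    funext i
    rw [Matrix.mulVec_single_one]
    show bordered 1 0 0 P₃.1 i (Fin.last (k + 1)) = u' i
    rw [← Fin.succ_last k]
    induction i using Fin.cases with
    | zero => rw [bordered_0s, h0]; rfl
    | succ i => rw [bordered_ss, hP₃]
  · rw [Units.val_mul, ← vecMul_vecMul, hfP]
    funext i
    induction i using Fin.cases with
    | zero => simp [R]
    | succ i => simp [R, Fin.succ_ne_zero]

/-- The lower shift matrix. -/
def shift (n : ℕ) : Matrix (Fin n) (Fin n) K := Matrix.of fun i j => if (i : ℕ) = j + 1 then 1 else 0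

theorem shift_pow (n j : ℕ) (a b : Fin n) : (shift (K := K) n ^ j) a b = if (a : ℕ) = b + j then 1 else 0 := by
  induction j generalizing b with
  | zero => simp [Matrix.one_apply, Fin.ext_iff]
  | succ j ih =>
    rw [pow_succ, Matrix.mul_apply]
    simp only [ih]
    simp only [shift, Matrix.of_apply, mul_ite, mul_one, mul_zero]
    rcases Nat.lt_or_ge ((b : ℕ) + 1) n with h | h
    · rw [Finset.sum_eq_single ⟨(b : ℕ) + 1, h⟩ (fun l _ hl => by simp [Fin.ext_iff] at hl; simp [hl]) (by simp)]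
      simp [add_assoc, add_comm 1 j]
    · rw [Finset.sum_eq_zero fun l _ => by simp [show ¬ (l : ℕ) = b + 1 by omega], if_neg (by omega)]

theorem main (hK : 4 ≤ Cardinal.mk K) (n : ℕ) (hn : 3 ≤ n) (J g : GL (Fin n) K)
    (hJ : ∀ i j : Fin n, (J : Matrix (Fin n) (Fin n) K) i j = if i = j then 1 else if j.val = i.val + 1 then 1 else 0)
    (hg : ¬ ∃ c : K, (g : Matrix (Fin n) (Fin n) K) = c • (1 : Matrix (Fin n) (Fin n) K))
    (hdet : (g : Matrix (Fin n) (Fin n) K).det = 1) :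
    ∃ x y : GL (Fin n) K, g = (x * J * x⁻¹) * (y * J * y⁻¹) := by
  classical
  obtain ⟨k, rfl⟩ : ∃ k, n = k + 3 := ⟨n - 3, by omega⟩
  have hJ1 : (J : Matrix (Fin (k + 3)) (Fin (k + 3)) K) - 1 = (shift (k + 3))ᵀ := by
    ext i j
    simp [hJ, shift, Matrix.one_apply]
    split_ifs with h1 h2 <;> first | (subst h1; omega) | simp
  have hJn : ((J : Matrix (Fin (k + 3)) (Fin (k + 3)) K) - 1) ^ (k + 3) = 0 := by
    rw [hJ1, ← Matrix.transpose_pow]
    ext i j
    rw [Matrix.transpose_apply, shift_pow, if_neg (by omega), Matrix.zero_apply]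
  have hJe : (((J : Matrix (Fin (k + 3)) (Fin (k + 3)) K) - 1) ^ (k + 3 - 1)) *ᵥ Pi.single (Fin.last _) 1 ≠ 0 := by
    intro h
    have := congrFun h 0
    simp [hJ1, ← Matrix.transpose_pow, shift_pow] at this
  have concl : ∀ (X Y : GL (Fin (k + 3)) K) (e e' : Fin (k + 3) → K),
      ((X : Matrix (Fin (k + 3)) (Fin (k + 3)) K) - 1) ^ (k + 3) = 0 →
      (((X : Matrix (Fin (k + 3)) (Fin (k + 3)) K) - 1) ^ (k + 3 - 1)) *ᵥ e ≠ 0 →
      ((Y : Matrix (Fin (k + 3)) (Fin (k + 3)) K) - 1) ^ (k + 3) = 0 →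
      (((Y : Matrix (Fin (k + 3)) (Fin (k + 3)) K) - 1) ^ (k + 3 - 1)) *ᵥ e' ≠ 0 →
      ∀ Q : GL (Fin (k + 3)) K, g * Q = Q * (X * Y) → ∃ x y : GL (Fin (k + 3)) K, g = (x * J * x⁻¹) * (y * J * y⁻¹) := by
    intro X Y e e' h1 h2 h3 h4 Q hQ
    obtain ⟨x, rfl⟩ := isConj_of_regular h1 h2 hJn hJe
    obtain ⟨y, rfl⟩ := isConj_of_regular h3 h4 hJn hJe
    exact ⟨Q * x, Q * y, by rw [eq_mul_inv_of_mul_eq hQ]; group⟩
  by_cases hgen : Generic (g : Matrix (Fin (k + 3)) (Fin (k + 3)) K)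
  · have hone : (Pi.single 0 1 : Fin (k + 3) → K) ≠ 0 := fun h => by simpa using congrFun h 0
    obtain ⟨Q, L, U, hL, hU, hQ, -, -⟩ := exists_factor hK (k + 2) _ hdet (Or.inr hgen) _ _ hone hone
    have hLU : ∀ L : Matrix (Fin (k + 3)) (Fin (k + 3)) K, LowerReg L → IsUnit L := fun L hL => by
      have h := IsNilpotent.isUnit_add_one ⟨_, hL.1⟩
      rwa [sub_add_cancel] at h
    obtain ⟨X, hX⟩ := hLU L hL
    obtain ⟨Y, hY⟩ : IsUnit U := by
      have := hLU _ hU
      rwa [Matrix.isUnit_transpose] at this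
    obtain ⟨i, hi⟩ := hU.2.2
    refine concl X Y (Pi.single 0 1) (Pi.single i 1) (by rw [hX]; exact hL.1) (fun h => ?_) ?_ (fun h => ?_) Q ?_
    · obtain ⟨a, ha⟩ := hL.2.2
      rw [hX] at h
      exact ha (by simpa using congrFun h a)
    · rw [hY, ← Matrix.transpose_inj, Matrix.transpose_pow, Matrix.transpose_sub, Matrix.transpose_one, hU.1, Matrix.transpose_zero]
    · rw [hY] at h
      have h' := congrFun h 0
      rw [← Matrix.transpose_one, ← Matrix.transpose_sub, ← Matrix.transpose_pow] at hi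
      simp at hi h'
      exact hi h'
    · apply Units.ext
      rw [Units.val_mul, Units.val_mul, Units.val_mul, hX, hY, hQ]
  · -- a transvection
    obtain ⟨u, f, huf⟩ : ∃ u f, (g : Matrix (Fin (k + 3)) (Fin (k + 3)) K) - 1 = vecMulVec u f := by
      by_contra h
      push Not at h
      exact hgen ⟨hg, h⟩
    have hne : u ≠ 0 ∧ f ≠ 0 := by
      constructor <;> rintro rfl <;> refine hg ⟨1, ?_⟩ <;>
        simp [sub_eq_zero] at huf <;> simp [huf]
    have hfu : f ⬝ᵥ u = 0 := by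
      have h1 : (1 + vecMulVec u f).det = 1 := by rw [← huf, add_sub_cancel, hdet]
      rw [vecMulVec_eq Unit, Matrix.det_one_add_replicateCol_mul_replicateRow] at h1
      linear_combination h1
    obtain ⟨P, hPu, hPf⟩ := exists_last_first hne.1 hne.2 hfu
    obtain ⟨S, hS⟩ : ∃ S : Matrix (Fin (k + 3)) (Fin (k + 3)) K, S = shift (k + 3) := ⟨_, rfl⟩
    have hSn : S ^ (k + 3) = 0 := by
      ext i j
      rw [hS, shift_pow, if_neg (by omega), Matrix.zero_apply]
    have hSlast : S ^ (k + 2) = vecMulVec (Pi.single (Fin.last (k + 2)) 1) (Pi.single 0 1) := by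
      ext i j
      rw [hS, shift_pow, vecMulVec_apply]
      simp only [Pi.single_apply, Fin.ext_iff, Fin.val_last, Fin.val_zero, mul_ite, mul_one, mul_zero]
      split_ifs <;> first | rfl | omega
    have hgP : (g : Matrix (Fin (k + 3)) (Fin (k + 3)) K) * P.1 = P.1 * (1 + S ^ (k + 2)) := by
      rw [hSlast, mul_add, mul_vecMulVec, hPu, mul_one, ← hPf, ← vecMulVec_mul, ← huf]
      noncomm_ring
    obtain ⟨X, hX⟩ : IsUnit (1 + S) := IsNilpotent.isUnit_one_add ⟨_, hSn⟩
    obtain ⟨G, hG⟩ : IsUnit (S ^ (k + 1) - 1) :=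
      (IsNilpotent.pow_of_pos ⟨_, hSn⟩ (Nat.succ_ne_zero k)).isUnit_sub_one
    obtain ⟨T, hT⟩ : IsUnit (1 + S ^ (k + 2)) := IsNilpotent.isUnit_one_add (IsNilpotent.pow_of_pos ⟨_, hSn⟩ (by omega))
    have hcomm : Commute S ((X⁻¹).1 * G.1) := by
      refine Commute.mul_right (Commute.units_inv_right ?_) ?_
      · rw [hX]; exact (Commute.one_right S).add_right (Commute.refl S)
      · rw [hG]; exact ((Commute.refl S).pow_right _).sub_right (Commute.one_right S)
    have hY : (X⁻¹ * T : GL (Fin (k + 3)) K).1 - 1 = S * ((X⁻¹).1 * G.1) := by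
      rw [Units.val_mul, ← mul_assoc, (show Commute S (X⁻¹).1 from Commute.units_inv_right (by
        rw [hX]; exact (Commute.one_right S).add_right (Commute.refl S))).eq, mul_assoc]
      apply X.isUnit.mul_left_cancel
      rw [mul_sub, ← mul_assoc, Units.mul_inv, one_mul, mul_one, ← mul_assoc, Units.mul_inv, one_mul, hT, hG, hX,
        mul_sub, ← pow_succ', mul_one]
      abel
    refine concl X (X⁻¹ * T) (Pi.single 0 1) (((G⁻¹ * X) ^ (k + 2) : GL (Fin (k + 3)) K).1 *ᵥ Pi.single 0 1) ?_ ?_ ?_ ?_ P ?_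
    · rw [hX, add_sub_cancel_left, hSn]
    · rw [hX, add_sub_cancel_left, show k + 3 - 1 = k + 2 by omega, hSlast]
      intro h
      simpa [vecMulVec_apply] using congrFun h (Fin.last (k + 2))
    · rw [hY, hcomm.mul_pow, hSn, zero_mul]
    · rw [hY, hcomm.mul_pow, show k + 3 - 1 = k + 2 by omega, ← Units.val_mul, ← Units.val_pow_eq_pow_val, mulVec_mulVec,
        mul_assoc, ← Units.val_mul, show (X⁻¹ * G) ^ (k + 2) * (G⁻¹ * X) ^ (k + 2) = 1 by rw [← mul_inv_cancel ((X⁻¹ * G) ^ (k + 2)), ← inv_pow, _root_.mul_inv_rev, inv_inv], Units.val_one, mul_one, hSlast]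
      intro h
      simpa [vecMulVec_apply] using congrFun h (Fin.last (k + 2))
    · apply Units.ext
      rw [Units.val_mul, Units.val_mul, mul_inv_cancel_left, hT, hgP]

end CfsgLib.Classical.RegularProduct
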