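/-
Classes of the unitary group as self-dual classes of the general linear group.
-/
import Cfsg.Agent.Lib.Classical.UnitaryConjugacy

set_option autoImplicit false

namespace CfsgLib.Classical.GUClasses

open Matrix CfsgLib.Classical

variable {K : Type*} [Field K] [Fintype K] {q n : ℕ} (hK : Fintype.card K = q ^ 2)
include hK

/-- A class of `GL_n` meets `GU_n`. -/
def SelfDual (q : ℕ) (A : GL (Fin n) K) : Prop :=
  IsConj (A : Matrix (Fin n) (Fin n) K) (GUConj.starQ q (A : Matrix (Fin n) (Fin n) K))⁻¹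

theorem selfDual_iff (A : GL (Fin n) K) : SelfDual q A ↔ ∃ B : Cfsg.GU n K q, IsConj A (B : GL (Fin n) K) :=
  (GUConj.exists_conj_mem_gu_iff hK A).symm

theorem card_classes_of_order (r : ℕ) :
    Nat.card {C : ConjClasses ↥(Cfsg.GU n K q) // ∃ g : ↥(Cfsg.GU n K q), ConjClasses.mk g = C ∧ orderOf g = r} =
      Nat.card {C : ConjClasses (GL (Fin n) K) // ∃ g : GL (Fin n) K, ConjClasses.mk g = C ∧ orderOf g = r ∧ SelfDual q g} := by
  classical
  let f : {C : ConjClasses ↥(Cfsg.GU n K q) // ∃ g : ↥(Cfsg.GU n K q), ConjClasses.mk g = C ∧ orderOf g = r} →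
      {C : ConjClasses (GL (Fin n) K) // ∃ g : GL (Fin n) K, ConjClasses.mk g = C ∧ orderOf g = r ∧ SelfDual q g} :=
    fun C => ⟨ConjClasses.map (Cfsg.GU n K q).subtype C.1, by
      obtain ⟨g, hg, hr⟩ := C.2
      refine ⟨g, by rw [← hg]; rfl, by rw [Subgroup.orderOf_coe, hr], (selfDual_iff hK _).2 ⟨g, IsConj.refl _⟩⟩⟩
  refine Nat.card_eq_of_bijective f ⟨?_, ?_⟩
  · intro x y hxy
    have hv := congrArg Subtype.val hxy
    obtain ⟨g, hg, -⟩ := x.2
    obtain ⟨h, hh, -⟩ := y.2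
    simp only [f, ← hg, ← hh] at hv
    refine Subtype.ext ?_
    rw [← hg, ← hh]
    exact ConjClasses.mk_eq_mk_iff_isConj.2 ((GUConj.isConj_iff_gl hK g h).2 (ConjClasses.mk_eq_mk_iff_isConj.1 hv))
  · rintro ⟨C, g, rfl, hr, hs⟩
    obtain ⟨B, hB⟩ := (selfDual_iff hK g).1 hs
    obtain ⟨c, hc⟩ := isConj_iff.1 hB
    refine ⟨⟨ConjClasses.mk B, B, rfl, ?_⟩, Subtype.ext (ConjClasses.mk_eq_mk_iff_isConj.2 hB.symm)⟩
    rw [← Subgroup.orderOf_coe, ← hc, ← hr]
    exact (MulEquiv.orderOf_eq (MulAut.conj c) g)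

theorem rank_starQ (M : Matrix (Fin n) (Fin n) K) : (GUConj.starQ q M).rank = M.rank := by
  obtain ⟨σ, hσ, hσ2, -⟩ := exists_qPow hK
  have hσi : ∀ a, σ (σ a) = a := fun a => by rw [hσ, hσ, pow_q_q hK]
  rw [GUConj.starQ, Matrix.rank_transpose, show (fun x : K => x ^ q) = σ from funext fun x => (hσ x).symm]
  let e : (Fin n → K) ≃ (Fin n → K) :=
    ⟨fun v => σ ∘ v, fun v => σ ∘ v, fun v => funext fun i => hσi _, fun v => funext fun i => hσi _⟩
  have hmul : ∀ v, M.map σ *ᵥ e v = e (M *ᵥ v) := fun v => funext fun i => by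
    simp [e, Matrix.mulVec, dotProduct, map_sum]
  have hset : ((LinearMap.range (M.map σ).mulVecLin : Submodule K (Fin n → K)) : Set (Fin n → K)) =
      e '' ((LinearMap.range M.mulVecLin : Submodule K (Fin n → K)) : Set (Fin n → K)) := by
    ext y
    constructor
    · rintro ⟨x, rfl⟩
      refine ⟨M *ᵥ e.symm x, ⟨e.symm x, rfl⟩, ?_⟩
      rw [← hmul, e.apply_symm_apply]; rfl
    · rintro ⟨_, ⟨x, rfl⟩, rfl⟩
      exact ⟨e x, hmul x⟩
  have hc : Nat.card (LinearMap.range (M.map σ).mulVecLin) = Nat.card (LinearMap.range M.mulVecLin) := by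
    rw [← SetLike.coe_sort_coe, ← SetLike.coe_sort_coe, Nat.card_coe_set_eq, Nat.card_coe_set_eq, hset,
      Set.ncard_image_of_injective _ e.injective]
  rw [Module.natCard_eq_pow_finrank (K := K), Module.natCard_eq_pow_finrank (K := K) (V := LinearMap.range M.mulVecLin)] at hc
  exact Nat.pow_right_injective Finite.one_lt_card hc

end CfsgLib.Classical.GUClasses
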