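/-
Conjugacy classes of elements of prime order `r ∣ q - 1` in `PGL_n(q)`.
-/
import Cfsg.Agent.Lib.Classical.PrimaryDecomp

set_option autoImplicit false

namespace CfsgLib.Classical.PGLPrime

open Polynomial Matrix CfsgLib.Classical.Primary

variable {F : Type*} [Field F] {n : ℕ}

/-- The endomorphism of an invertible matrix. -/
noncomputable def glEnd (g : GL (Fin n) F) : Module.End F (Fin n → F) :=
  Matrix.toLinAlgEquiv' (g : Matrix (Fin n) (Fin n) F)

theorem glEnd_inj : Function.Injective (glEnd (F := F) (n := n)) := fun g h e =>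
  Units.ext (AlgEquiv.injective _ e)

theorem glEnd_mul (g h : GL (Fin n) F) : glEnd (g * h) = glEnd g * glEnd h := map_mul _ _ _

theorem glEnd_one : glEnd (1 : GL (Fin n) F) = 1 := map_one _

theorem glEnd_pow (g : GL (Fin n) F) (k : ℕ) : glEnd (g ^ k) = glEnd g ^ k := by
  rw [glEnd, Units.val_pow_eq_pow_val, map_pow]; rfl

theorem glEnd_scalar (c : Fˣ) : glEnd (GeneralLinearGroup.scalar (Fin n) c) = algebraMap F _ (c : F) := by
  show Matrix.toLinAlgEquiv' (Matrix.scalar (Fin n) (c : F)) = _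
  exact AlgEquiv.commutes _ _

theorem exists_gl_of_pow {f : Module.End F (Fin n → F)} {k : ℕ} (hk : 1 ≤ k) {c : F} (hc : c ≠ 0) (h : f ^ k = algebraMap F _ c) :
    ∃ g : GL (Fin n) F, glEnd g = f := by
  obtain ⟨M, hM⟩ := (Matrix.toLinAlgEquiv' : Matrix (Fin n) (Fin n) F ≃ₐ[F] _).surjective f
  have h1 : M ^ k = algebraMap F _ c := (Matrix.toLinAlgEquiv' (R := F) (n := Fin n)).injective (by rw [map_pow, hM, h, AlgEquiv.commutes])
  obtain ⟨g, hg⟩ : IsUnit M := IsUnit.of_mul_eq_one (M ^ (k - 1) * algebraMap F _ c⁻¹) (by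
    rw [← mul_assoc, ← pow_succ', Nat.sub_add_cancel hk, h1, ← map_mul, mul_inv_cancel₀ hc, map_one])
  exact ⟨g, by rw [← hM, ← hg]; rfl⟩

theorem isConj_iff_intertwine (g h : GL (Fin n) F) :
    IsConj g h ↔ ∃ e : (Fin n → F) ≃ₗ[F] (Fin n → F), ∀ v, e (glEnd g v) = glEnd h (e v) := by
  constructor
  · intro hc
    obtain ⟨c, rfl⟩ := isConj_iff.1 hc
    refine ⟨LinearEquiv.ofLinear (glEnd c) (glEnd c⁻¹) (by rw [← Module.End.mul_eq_comp, ← glEnd_mul, mul_inv_cancel, glEnd_one]; rfl)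
      (by rw [← Module.End.mul_eq_comp, ← glEnd_mul, inv_mul_cancel, glEnd_one]; rfl), fun v => ?_⟩
    show (glEnd c * glEnd g) v = (glEnd (c * g * c⁻¹) * glEnd c) v
    rw [← glEnd_mul, ← glEnd_mul, inv_mul_cancel_right]
  · rintro ⟨e, he⟩
    obtain ⟨E, hE⟩ := (Matrix.toLinAlgEquiv' : Matrix (Fin n) (Fin n) F ≃ₐ[F] _).surjective e.toLinearMap
    obtain ⟨E', hE'⟩ := (Matrix.toLinAlgEquiv' : Matrix (Fin n) (Fin n) F ≃ₐ[F] _).surjective e.symm.toLinearMap
    have h1 : E * E' = 1 := (Matrix.toLinAlgEquiv' (R := F) (n := Fin n)).injective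
      (by rw [map_mul, hE, hE', map_one]; exact LinearMap.ext fun v => e.apply_symm_apply v)
    refine isConj_iff.2 ⟨⟨E, E', h1, mul_eq_one_comm.1 h1⟩, mul_inv_eq_iff_eq_mul.2 (glEnd_inj ?_)⟩
    rw [glEnd_mul, glEnd_mul, show glEnd (⟨E, E', h1, mul_eq_one_comm.1 h1⟩ : GL (Fin n) F) = e.toLinearMap from hE]
    exact LinearMap.ext he

theorem aeval_intertwine {f f' : Module.End F (Fin n → F)} {e : (Fin n → F) ≃ₗ[F] (Fin n → F)} (he : ∀ v, e (f v) = f' (e v)) :
    ∀ (Q : F[X]) v, e (aeval f Q v) = aeval f' Q (e v) := by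
  intro Q
  induction Q using Polynomial.induction_on with
  | C a => intro v; simp [Module.algebraMap_end_apply]
  | add a b ha hb => intro v; simp [ha, hb]
  | monomial k a ih =>
    intro v
    rw [show C a * X ^ (k + 1) = C a * X ^ k * X by ring, map_mul (aeval f) _ X, map_mul (aeval f') _ X, aeval_X, aeval_X,
      Module.End.mul_apply, Module.End.mul_apply, ih, he]

theorem finrank_ker_of_isConj {g h : GL (Fin n) F} (hc : IsConj g h) (Q : F[X]) :
    Module.finrank F (LinearMap.ker (aeval (glEnd g) Q)) = Module.finrank F (LinearMap.ker (aeval (glEnd h) Q)) := by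
  obtain ⟨e, he⟩ := (isConj_iff_intertwine g h).1 hc
  have hk : (LinearMap.ker (aeval (glEnd g) Q)).map e.toLinearMap = LinearMap.ker (aeval (glEnd h) Q) := by
    ext y
    constructor
    · rintro ⟨x, hx, rfl⟩
      show aeval (glEnd h) Q (e x) = 0
      rw [← aeval_intertwine he, show aeval (glEnd g) Q x = 0 from hx, map_zero]
    · intro hy
      refine ⟨e.symm y, e.injective ?_, e.apply_symm_apply y⟩
      rw [aeval_intertwine he, e.apply_symm_apply, map_zero]
      exact hy
  rw [← hk, LinearEquiv.finrank_map_eq]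

local notation "PG" => GL (Fin n) F ⧸ Subgroup.center (GL (Fin n) F)
local notation "pj" => (QuotientGroup.mk' (Subgroup.center (GL (Fin n) F)))

theorem pj_eq_iff (g h : GL (Fin n) F) : pj g = pj h ↔ ∃ c : Fˣ, h = GeneralLinearGroup.scalar (Fin n) c * g := by
  rw [QuotientGroup.mk'_eq_mk']
  constructor
  · rintro ⟨z, hz, rfl⟩
    rw [GeneralLinearGroup.center_eq_range_scalar] at hz
    obtain ⟨c, rfl⟩ := hz
    refine ⟨c, ?_⟩
    exact (Subgroup.mem_center_iff.1 (by rw [GeneralLinearGroup.center_eq_range_scalar]; exact ⟨c, rfl⟩) g)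
  · rintro ⟨c, rfl⟩
    have hz : GeneralLinearGroup.scalar (Fin n) c ∈ Subgroup.center (GL (Fin n) F) := by
      rw [GeneralLinearGroup.center_eq_range_scalar]; exact ⟨c, rfl⟩
    exact ⟨_, hz, Subgroup.mem_center_iff.1 hz g⟩

theorem pj_eq_one_iff (g : GL (Fin n) F) : pj g = 1 ↔ ∃ c : Fˣ, g = GeneralLinearGroup.scalar (Fin n) c := by
  rw [← map_one pj, eq_comm, pj_eq_iff]
  simp

theorem isConj_pj_iff (g h : GL (Fin n) F) :
    IsConj (pj g) (pj h) ↔ ∃ c : Fˣ, IsConj (GeneralLinearGroup.scalar (Fin n) c * g) h := by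
  constructor
  · intro hc
    obtain ⟨x, hx⟩ := isConj_iff.1 hc
    obtain ⟨x, rfl⟩ := QuotientGroup.mk'_surjective _ x
    rw [← map_inv, ← map_mul, ← map_mul, pj_eq_iff] at hx
    obtain ⟨c, rfl⟩ := hx
    refine ⟨c, isConj_iff.2 ⟨x, ?_⟩⟩
    have hz : ∀ y, y * GeneralLinearGroup.scalar (Fin n) c = GeneralLinearGroup.scalar (Fin n) c * y :=
      Subgroup.mem_center_iff.1 (by rw [GeneralLinearGroup.center_eq_range_scalar]; exact ⟨c, rfl⟩)
    rw [← mul_assoc, hz x]
    group
  · rintro ⟨c, hc⟩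
    have h1 := MonoidHom.map_isConj pj hc
    rwa [← (pj_eq_iff g _).2 ⟨c, rfl⟩] at h1

theorem scalar_inj (hn : 0 < n) : Function.Injective (GeneralLinearGroup.scalar (R := F) (Fin n)) := fun a b h =>
  Units.ext (by
    have := congrArg (fun g : GL (Fin n) F => (g : Matrix (Fin n) (Fin n) F) ⟨0, hn⟩ ⟨0, hn⟩) h
    simpa using this)

variable [Fintype F] {r : ℕ}

theorem card_classes (hn : 2 ≤ n) (hr : r.Prime) (hrq : r ∣ Fintype.card F - 1) :
    Nat.card {C : ConjClasses PG // ∃ g : PG, ConjClasses.mk g = C ∧ orderOf g = r} =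
      (Nat.choose (n + r - 1) (r - 1) - r - (if r ∣ n then 1 else 0)) / r + r * (if r ∣ n then 1 else 0) := by
  classical
  haveI := Fact.mk hr
  obtain ⟨sc, hsc⟩ : ∃ sc : Fˣ →* GL (Fin n) F, sc = GeneralLinearGroup.scalar (Fin n) := ⟨_, rfl⟩
  have hcen : ∀ c g, g * sc c = sc c * g := fun c =>
    Subgroup.mem_center_iff.1 (by rw [hsc, GeneralLinearGroup.center_eq_range_scalar]; exact ⟨c, rfl⟩)
  have scinj : Function.Injective sc := hsc ▸ scalar_inj (by omega)
  have scEnd : ∀ c, glEnd (sc c) = algebraMap F _ (c : F) := fun c => by rw [hsc]; exact glEnd_scalar c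
  have hV : Module.finrank F (Fin n → F) = n := Module.finrank_fin_fun F
  -- roots of unity
  let Rt : Subgroup Fˣ := (powMonoidHom r : Fˣ →* Fˣ).ker
  let K : Subgroup Fˣ := (powMonoidHom r : Fˣ →* Fˣ).range
  have hU : Nat.card Fˣ = Fintype.card F - 1 := by rw [Nat.card_units, Nat.card_eq_fintype_card]
  have hRt : Fintype.card Rt = r := by
    rw [← Nat.card_eq_fintype_card]
    show Nat.card (powMonoidHom r : Fˣ →* Fˣ).ker = r
    rw [IsCyclic.card_powMonoidHom_ker, hU, Nat.gcd_eq_right hrq]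
  have hK : K.index = r := by
    show (powMonoidHom r : Fˣ →* Fˣ).range.index = r
    rw [IsCyclic.index_powMonoidHom_range, hU, Nat.gcd_eq_right hrq]
  have hRmem : ∀ z : Rt, (z : Fˣ) ^ r = 1 := fun z => z.2
  -- eigenspace dimensions
  let P : Rt → F[X] := fun z => X - C ((z : Fˣ) : F)
  haveI hPirr : ∀ z, Fact (Irreducible (P z)) := fun z => ⟨irreducible_X_sub_C _⟩
  have hPco : Pairwise (Function.onFun IsCoprime P) := fun z w hzw =>
    isCoprime_X_sub_C_of_isUnit_sub (IsUnit.mk0 _ (sub_ne_zero.2 fun h => hzw (Subtype.ext (Units.ext h))))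
  have hPprod : ∏ z, P z = X ^ r - 1 := by
    refine (eq_of_monic_of_dvd_of_natDegree_le (monic_prod_of_monic _ _ fun z _ => monic_X_sub_C _)
      (by simpa using monic_X_pow_sub_C (1 : F) hr.ne_zero)
      (Fintype.prod_dvd_of_coprime hPco fun z => ?_) ?_).symm
    · rw [dvd_iff_isRoot, IsRoot, eval_sub, eval_pow, eval_X, eval_one, ← Units.val_pow_eq_pow_val, hRmem, Units.val_one, sub_self]
    · rw [natDegree_prod_of_monic _ _ fun z _ => monic_X_sub_C _, Finset.sum_congr rfl fun z _ => natDegree_X_sub_C _,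
        Finset.sum_const, Finset.card_univ, hRt, smul_eq_mul, mul_one, ← map_one (C (R := F)), natDegree_X_pow_sub_C]
  have hann : ∀ g : GL (Fin n) F, g ^ r = 1 → aeval (glEnd g) (∏ z, P z) = 0 := fun g hg => by
    rw [hPprod, map_sub, map_pow, aeval_X, map_one, ← glEnd_pow, hg, glEnd_one, sub_self]
  let D : GL (Fin n) F → Rt → ℕ := fun g z => Module.finrank F (LinearMap.ker (aeval (glEnd g) (P z)))
  have hDconj : ∀ g h, IsConj g h → D g = D h := fun g h hc => funext fun z => finrank_ker_of_isConj hc _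
  have hDscal : ∀ (c : Rt) g w, D (sc c * g) w = D g (c⁻¹ * w) := by
    intro c g w
    show Module.finrank F (LinearMap.ker (aeval (glEnd (sc c * g)) (P w))) = Module.finrank F (LinearMap.ker (aeval (glEnd g) (P (c⁻¹ * w))))
    have e : aeval (glEnd (sc c * g)) (P w) = ((c : Fˣ) : F) • aeval (glEnd g) (P (c⁻¹ * w)) := by
      simp only [P, map_sub, aeval_X, aeval_C, glEnd_mul, scEnd, smul_sub, ← Algebra.smul_def]
      congr 1
      rw [Algebra.smul_def, ← map_mul, ← Units.val_mul, Subgroup.coe_mul, Subgroup.coe_inv, mul_inv_cancel_left]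
    rw [e, LinearMap.ker_smul _ _ (Units.ne_zero _)]
  have hsimilar : ∀ g h : GL (Fin n) F, g ^ r = 1 → h ^ r = 1 → D g = D h → IsConj g h := fun g h hg hh hD =>
    (isConj_iff_intertwine g h).2 (similar_of_finrank P hPco _ _ (hann g hg) (hann h hh) fun z => congrFun hD z)
  have hfull : ∀ g (z : Rt), D g z = n → g = sc (z : Fˣ) := fun g z hz => glEnd_inj (by
    have h1 := LinearMap.ker_eq_top.1 (Submodule.eq_top_of_finrank_eq (show Module.finrank F (LinearMap.ker (aeval (glEnd g) (P z))) = _ by rw [hV]; exact hz))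
    rw [map_sub, aeval_X, aeval_C, sub_eq_zero] at h1
    rw [scEnd, h1])
  have hDone : ∀ z : Rt, D (sc (z : Fˣ)) z = n := fun z => by
    show Module.finrank F (LinearMap.ker (aeval (glEnd (sc (z : Fˣ))) (P z))) = n
    rw [scEnd, map_sub, aeval_X, aeval_C, sub_self, LinearMap.ker_zero, finrank_top, hV]
  -- classes and cosets
  let S := {C : ConjClasses PG // ∃ g : PG, ConjClasses.mk g = C ∧ orderOf g = r}
  let Rep : S → (Fˣ ⧸ K) → Prop := fun C q => ∃ g l, ConjClasses.mk (pj g) = C.1 ∧ g ^ r = sc l ∧ (l : Fˣ ⧸ K) = q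
  have hRepU : ∀ C q q', Rep C q → Rep C q' → q = q' := by
    rintro C q q' ⟨g, l, hg, hl, rfl⟩ ⟨h, l', hh, hl', rfl⟩
    obtain ⟨c, hc⟩ := (isConj_pj_iff g h).1 (ConjClasses.mk_eq_mk_iff_isConj.1 (hg.trans hh.symm))
    rw [← hsc] at hc
    obtain ⟨x, hx⟩ := isConj_iff.1 hc
    have h1 : sc l' = sc (c ^ r * l) := by
      rw [← hl', ← hx, conj_pow, Commute.mul_pow (show Commute (sc c) g from (hcen c g).symm), hl, ← map_pow, ← map_mul,
        hcen, mul_inv_cancel_right]
    rw [scinj h1, QuotientGroup.eq]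
    exact ⟨c, by rw [powMonoidHom_apply, mul_comm (c ^ r), inv_mul_cancel_left]⟩
  have hRepE : ∀ C, ∃ q, Rep C q := by
    rintro ⟨C, g, rfl, hg⟩
    obtain ⟨g, rfl⟩ := QuotientGroup.mk'_surjective _ g
    have h1 := pow_orderOf_eq_one (pj g)
    rw [hg, ← map_pow, pj_eq_one_iff, ← hsc] at h1
    obtain ⟨l, hl⟩ := h1
    exact ⟨_, g, l, rfl, hl, rfl⟩
  choose Φ hΦ using hRepE
  have hΦ' : ∀ C q, Rep C q → Φ C = q := fun C q h => hRepU C _ q (hΦ C) h
  have hord : ∀ (g : GL (Fin n) F) (l : Fˣ), g ^ r = sc l → (∀ c, g ≠ sc c) → orderOf (pj g) = r := fun g l hl hg => by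
    refine orderOf_eq_prime ?_ fun h => ?_
    · rw [← map_pow, pj_eq_one_iff, hl, ← hsc]; exact ⟨l, rfl⟩
    · obtain ⟨c, hc⟩ := (pj_eq_one_iff g).1 h
      exact hg c (by rw [hc, hsc])
  -- fibres away from the trivial coset
  have hfib : ∀ q : Fˣ ⧸ K, q ≠ 1 → Nat.card {C : S // Φ C = q} = if r ∣ n then 1 else 0 := by
    intro q hq
    obtain ⟨l, rfl⟩ := QuotientGroup.mk_surjective q
    have hl : ∀ b : F, b ^ r ≠ (l : F) := fun b hb => by
      have hb0 : b ≠ 0 := fun h => l.ne_zero (by rw [← hb, h, zero_pow hr.ne_zero])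
      exact hq ((QuotientGroup.eq_one_iff l).2 ⟨Units.mk0 b hb0, Units.ext (by simpa using hb)⟩)
    haveI : Fact (Irreducible (X ^ r - C (l : F))) := ⟨X_pow_sub_C_irreducible_of_prime hr hl⟩
    have hdeg : (X ^ r - C (l : F)).natDegree = r := natDegree_X_pow_sub_C
    have hann' : ∀ g : GL (Fin n) F, g ^ r = sc l → aeval (glEnd g) (X ^ r - C (l : F)) = 0 := fun g hg => by
      rw [map_sub, map_pow, aeval_X, aeval_C, ← glEnd_pow, hg, scEnd, sub_self]
    -- representatives over a given scalar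
    have hrep : ∀ C : S, Φ C = (l : Fˣ ⧸ K) → ∃ g, ConjClasses.mk (pj g) = C.1 ∧ g ^ r = sc l := by
      intro C hC
      obtain ⟨g, m, hg, hm, hmq⟩ := hΦ C
      rw [hC, QuotientGroup.eq] at hmq
      obtain ⟨c, hc⟩ := hmq
      refine ⟨sc c * g, ?_, ?_⟩
      · rw [← hg]; exact congrArg ConjClasses.mk ((pj_eq_iff g _).2 ⟨c, by rw [hsc]⟩).symm
      · rw [Commute.mul_pow (show Commute (sc c) g from (hcen c g).symm), hm, ← map_pow, ← map_mul,
          show c ^ r = m⁻¹ * l from hc, inv_mul_eq_div, div_mul_cancel]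
    split_ifs with hrn
    · obtain ⟨k, hk⟩ := hrn
      obtain ⟨f, hf, -⟩ := exists_of_mult (V := Fin n → F) (fun _ : Unit => X ^ r - C (l : F))
        (fun a b h => absurd (Subsingleton.elim a b) h) (fun _ => k) (by simp [hdeg, hk, mul_comm])
      rw [Fintype.prod_unique, map_sub, map_pow, aeval_X, aeval_C, sub_eq_zero] at hf
      obtain ⟨g, rfl⟩ := exists_gl_of_pow hr.one_le l.ne_zero hf
      have hgl : g ^ r = sc l := glEnd_inj (by rw [glEnd_pow, hf, scEnd])
      have hns : ∀ c, g ≠ sc c := fun c h => hl (c : F) (by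
        have := scinj (show sc (c ^ r) = sc l by rw [map_pow, ← h, hgl])
        simpa using congrArg Units.val this)
      let C0 : S := ⟨ConjClasses.mk (pj g), pj g, rfl, hord g l hgl hns⟩
      rw [Nat.card_eq_one_iff_exists]
      refine ⟨⟨C0, hΦ' _ _ ⟨g, l, rfl, hgl, rfl⟩⟩, fun C => Subtype.ext (Subtype.ext ?_)⟩
      obtain ⟨h, hh, hhl⟩ := hrep C.1 C.2
      rw [← hh]
      refine ConjClasses.mk_eq_mk_iff_isConj.2 (MonoidHom.map_isConj pj ((isConj_iff_intertwine h g).2 ?_))
      exact exists_intertwine (X ^ r - Polynomial.C (l : F)) _ (hann' h hhl) _ (hann' g hgl) rfl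
    · haveI : IsEmpty {C : S // Φ C = (l : Fˣ ⧸ K)} := ⟨fun C => by
        obtain ⟨h, -, hhl⟩ := hrep C.1 C.2
        have := natDegree_dvd_finrank (X ^ r - Polynomial.C (l : F)) _ (hann' h hhl)
        rw [hdeg, hV] at this
        exact hrn this⟩
      exact Nat.card_of_isEmpty
  -- the trivial coset
  let A := {a : Rt → ℕ // ∑ z, a z = n}
  let T := {a : A // ∀ z, a.1 z < n}
  letI act : MulAction Rt T :=
    { smul := fun c a => ⟨⟨fun w => a.1.1 (c⁻¹ * w), by
        show ∑ z, a.1.1 (c⁻¹ * z) = n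
        exact (Equiv.sum_comp (Equiv.mulLeft c⁻¹) a.1.1).trans a.1.2⟩, fun w => a.2 _⟩
      one_smul := fun a => Subtype.ext (Subtype.ext (funext fun w => by
        show a.1.1 ((1 : Rt)⁻¹ * w) = a.1.1 w
        rw [inv_one, one_mul]))
      mul_smul := fun c d a => Subtype.ext (Subtype.ext (funext fun w => by
        show a.1.1 ((c * d)⁻¹ * w) = a.1.1 (d⁻¹ * (c⁻¹ * w))
        rw [_root_.mul_inv_rev, mul_assoc])) }
  have hact : ∀ (c : Rt) (a : T) w, (c • a).1.1 w = a.1.1 (c⁻¹ * w) := fun c a w => rfl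
  haveI : Finite A := Finite.of_injective (fun a : A => fun z => (⟨a.1 z, Nat.lt_succ_of_le ((Finset.single_le_sum (fun _ _ => Nat.zero_le _) (Finset.mem_univ z)).trans a.2.le)⟩ : Fin (n + 1)))
    fun a b h => Subtype.ext (funext fun z => congrArg Fin.val (congrFun h z))
  haveI : Finite T := Subtype.finite
  letI : Fintype T := Fintype.ofFinite T
  have hmodel : ∀ a : T, ∃ g : GL (Fin n) F, g ^ r = 1 ∧ D g = a.1.1 ∧ orderOf (pj g) = r := fun a => by
    obtain ⟨f, hf, hf'⟩ := exists_of_mult (V := Fin n → F) P hPco a.1.1 (by simp [P, a.1.2])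
    have hfr : f ^ r = algebraMap F _ 1 := by
      rw [hPprod, map_sub, map_pow, aeval_X, map_one, sub_eq_zero] at hf
      rw [hf, map_one]
    obtain ⟨g, rfl⟩ := exists_gl_of_pow hr.one_le one_ne_zero hfr
    have hg : g ^ r = 1 := glEnd_inj (by rw [glEnd_pow, hfr, glEnd_one, map_one])
    have hD : D g = a.1.1 := funext fun z => by
      show Module.finrank F (LinearMap.ker (aeval (glEnd g) (P z))) = _
      rw [hf', natDegree_X_sub_C, mul_one]
    refine ⟨g, hg, hD, hord g 1 (by rw [hg, map_one]) fun c h => ?_⟩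
    have hc : c ∈ Rt := scinj (show sc (c ^ r) = sc 1 by rw [map_pow, ← h, hg, map_one])
    have := a.2 ⟨c, hc⟩
    rw [← hD, h, hDone ⟨c, hc⟩] at this
    exact lt_irrefl _ this
  choose G hG1 hG2 hG3 using hmodel
  let mkC : T → {C : S // Φ C = 1} := fun a => ⟨⟨ConjClasses.mk (pj (G a)), pj (G a), rfl, hG3 a⟩,
    hΦ' _ _ ⟨G a, 1, rfl, by rw [hG1, map_one], rfl⟩⟩
  have hmk : ∀ a b : T, mkC a = mkC b ↔ a ∈ MulAction.orbit Rt b := by
    intro a b
    rw [Subtype.ext_iff, Subtype.ext_iff]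
    show ConjClasses.mk (pj (G a)) = ConjClasses.mk (pj (G b)) ↔ _
    rw [ConjClasses.mk_eq_mk_iff_isConj, isConj_comm, isConj_pj_iff, ← hsc]
    constructor
    · rintro ⟨c, hc⟩
      obtain ⟨x, hx⟩ := isConj_iff.1 hc
      have hc' : c ∈ Rt := scinj (show sc (c ^ r) = sc 1 by
        have h1 := hG1 a
        rw [← hx, conj_pow, Commute.mul_pow (show Commute (sc c) (G b) from (hcen c _).symm), hG1, mul_one, ← map_pow, hcen,
          mul_inv_cancel_right] at h1
        rw [h1, map_one])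
      refine ⟨⟨c, hc'⟩, Subtype.ext (Subtype.ext (funext fun w => ?_))⟩
      rw [hact, ← hG2 b, ← hG2 a, ← hDconj _ _ hc]
      exact (hDscal ⟨c, hc'⟩ (G b) w).symm
    · rintro ⟨c, rfl⟩
      refine ⟨(c : Fˣ), hsimilar _ _ ?_ (hG1 _) (funext fun w => ?_)⟩
      · rw [Commute.mul_pow (show Commute (sc c) (G b) from (hcen _ _).symm), hG1, mul_one, ← map_pow, hRmem, map_one]
      · rw [hDscal, hG2, hG2, hact]
  have hsurj : Function.Surjective mkC := by
    rintro ⟨C, hC⟩
    obtain ⟨g, l, hg, hl, hlq⟩ := hΦ C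
    rw [hC, QuotientGroup.eq_one_iff] at hlq
    obtain ⟨c, hc⟩ := hlq
    obtain ⟨h, hh⟩ : ∃ h, h = sc c⁻¹ * g := ⟨_, rfl⟩
    have hh1 : h ^ r = 1 := by
      rw [hh, Commute.mul_pow (show Commute (sc c⁻¹) g from (hcen _ _).symm), hl, ← map_pow, ← map_mul, inv_pow,
        show c ^ r = l from hc, inv_mul_cancel, map_one]
    have hhg : pj h = pj g := ((pj_eq_iff g h).2 ⟨c⁻¹, by rw [hh, hsc]⟩).symm
    have hsum : ∑ z, D h z = n := (finrank_sum P hPco _ (hann h hh1)).trans hV
    have hlt : ∀ z, D h z < n := fun z => lt_of_le_of_ne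
      ((Finset.single_le_sum (fun _ _ => Nat.zero_le _) (Finset.mem_univ z)).trans hsum.le) fun e => by
        obtain ⟨g0, hg0, hg0o⟩ := C.2
        have h2 : pj h = 1 := (pj_eq_one_iff h).2 ⟨(z : Fˣ), by rw [hfull h z e, hsc]⟩
        rw [← hg, ← hhg, h2, ConjClasses.mk_eq_mk_iff_isConj, isConj_one_left] at hg0
        rw [hg0, orderOf_one] at hg0o
        exact hr.ne_one hg0o.symm
    refine ⟨⟨⟨D h, hsum⟩, hlt⟩, Subtype.ext (Subtype.ext ?_)⟩
    show ConjClasses.mk (pj (G _)) = C.1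
    rw [← hg, ← hhg]
    exact ConjClasses.mk_eq_mk_iff_isConj.2 (MonoidHom.map_isConj pj (hsimilar _ _ (hG1 _) hh1 (hG2 _)))
  letI : Fintype (Quotient (MulAction.orbitRel Rt T)) := Fintype.ofFinite _
  have hone : Nat.card {C : S // Φ C = 1} = Fintype.card (Quotient (MulAction.orbitRel Rt T)) := by
    rw [← Nat.card_eq_fintype_card]
    symm
    refine Nat.card_congr (Equiv.ofBijective (Quotient.lift mkC fun a b h => (hmk a b).2 h) ⟨?_, ?_⟩)
    · intro x y
      induction x using Quotient.inductionOn with | h a =>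
      induction y using Quotient.inductionOn with | h b =>
      exact fun h => Quotient.sound ((hmk a b).1 h)
    · exact fun C => let ⟨a, ha⟩ := hsurj C; ⟨Quotient.mk _ a, ha⟩
  -- counting orbits
  have hT : Fintype.card T + r = Nat.choose (n + r - 1) (r - 1) := by
    have hAc : Nat.card A = Nat.choose (n + r - 1) (r - 1) := by
      rw [Nat.card_congr (Sym.equivNatSumOfFintype Rt n).symm, Nat.card_eq_fintype_card, Sym.card_sym_eq_choose, hRt]
      rw [show r + n - 1 = n + r - 1 by omega]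
      exact Nat.choose_symm_of_eq_add (show n + r - 1 = n + (r - 1) by have := hr.one_le; omega)
    have hcompl : {a : A | ¬ ∀ z, a.1 z < n} = Set.range fun z : Rt => (⟨Pi.single z n, by simp⟩ : A) := by
      ext a
      simp only [Set.mem_setOf_eq, Set.mem_range, not_forall, not_lt]
      constructor
      · rintro ⟨z, hz⟩
        refine ⟨z, Subtype.ext (funext fun w => ?_)⟩
        have hle : ∑ x, a.1 x = n := a.2
        rw [← Finset.add_sum_erase _ _ (Finset.mem_univ z)] at hle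
        rcases eq_or_ne w z with rfl | hw
        · show (Pi.single w n : Rt → ℕ) w = _; rw [Pi.single_eq_same]; omega
        · have h2 := Finset.single_le_sum (f := a.1) (fun _ _ => Nat.zero_le _) (Finset.mem_erase.2 ⟨hw, Finset.mem_univ w⟩)
          show (Pi.single z n : Rt → ℕ) w = _; rw [Pi.single_eq_of_ne hw]; omega
      · rintro ⟨z, rfl⟩
        exact ⟨z, by simp⟩
    have h1 := Set.ncard_add_ncard_compl {a : A | ∀ z, a.1 z < n}
    rw [Set.compl_setOf, hcompl, Set.ncard_range_of_injective (fun z w h => by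
        by_contra hne
        have h' := congrFun (congrArg Subtype.val h) z
        simp [Pi.single_eq_of_ne hne] at h'
        omega), hAc, Nat.card_eq_fintype_card, hRt, ← Nat.card_coe_set_eq] at h1
    rw [← Nat.card_eq_fintype_card]
    exact h1
  let ind : ℕ := if r ∣ n then 1 else 0
  have hfix : ∀ c : Rt, c ≠ 1 → Fintype.card (MulAction.fixedBy T c) = ind := by
    intro c hc
    have hgen : ∀ w : Rt, w ∈ Subgroup.zpowers c := fun w =>
      mem_zpowers_of_prime_card (p := r) (by rw [Nat.card_eq_fintype_card, hRt]) hc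
    have hconst : ∀ a : MulAction.fixedBy T c, ∀ w, a.1.1.1 w = a.1.1.1 1 := by
      intro a w
      have hw : w⁻¹ ∈ MulAction.stabilizer Rt a.1 :=
        (Subgroup.zpowers_le.2 (MulAction.mem_stabilizer_iff.2 a.2)) (hgen w⁻¹)
      conv_rhs => rw [← MulAction.mem_stabilizer_iff.1 hw]
      rw [hact, inv_inv, mul_one]
    have hrn : ∀ a : MulAction.fixedBy T c, r * a.1.1.1 1 = n := fun a => by
      have h := a.1.1.2
      rw [Finset.sum_congr rfl (fun w _ => hconst a w), Finset.sum_const, Finset.card_univ, hRt, smul_eq_mul] at h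
      exact h
    simp only [ind]
    split_ifs with hd
    · obtain ⟨k, hk⟩ := hd
      have hk2 : k < n := by
        have := hr.two_le
        rcases Nat.eq_zero_or_pos k with rfl | hk0
        · omega
        · nlinarith
      refine Fintype.card_eq_one_iff.2 ⟨⟨⟨⟨fun _ => k, by rw [Finset.sum_const, Finset.card_univ, hRt, smul_eq_mul, hk]⟩, fun _ => hk2⟩, rfl⟩,
        fun a => Subtype.ext (Subtype.ext (Subtype.ext (funext fun w => ?_)))⟩
      rw [hconst a w]
      exact Nat.eq_of_mul_eq_mul_left hr.pos ((hrn a).trans hk)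
    · haveI : IsEmpty (MulAction.fixedBy T c) := ⟨fun a => hd ⟨_, (hrn a).symm⟩⟩
      exact Fintype.card_eq_zero
  have hburn := MulAction.sum_card_fixedBy_eq_card_orbits_mul_card_group Rt T
  rw [← Finset.add_sum_erase _ _ (Finset.mem_univ (1 : Rt)),
    Finset.sum_congr rfl (fun c hc => hfix c (Finset.ne_of_mem_erase hc)), Finset.sum_const,
    Finset.card_erase_of_mem (Finset.mem_univ _), Finset.card_univ, hRt, smul_eq_mul] at hburn
  have h1fix : Fintype.card (MulAction.fixedBy T (1 : Rt)) = Fintype.card T :=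
    Fintype.card_congr (Equiv.subtypeUnivEquiv fun a => one_smul _ a)
  rw [h1fix] at hburn
  -- assemble
  letI : Fintype (Fˣ ⧸ K) := Fintype.ofFinite _
  have hQ : Fintype.card (Fˣ ⧸ K) = r := by rw [← Nat.card_eq_fintype_card]; exact hK
  change Nat.card S = _
  rw [← Nat.card_congr (Equiv.sigmaFiberEquiv Φ), Nat.card_sigma, ← Finset.add_sum_erase _ _ (Finset.mem_univ (1 : Fˣ ⧸ K)),
    Finset.sum_congr rfl (fun q hq => hfib q (Finset.ne_of_mem_erase hq)), Finset.sum_const,
    Finset.card_erase_of_mem (Finset.mem_univ _), Finset.card_univ, hQ, smul_eq_mul, hone]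
  show Fintype.card (Quotient (MulAction.orbitRel Rt T)) + (r - 1) * ind = _ / r + r * ind
  obtain ⟨o, ho⟩ : ∃ o, o = Fintype.card (Quotient (MulAction.orbitRel Rt T)) := ⟨_, rfl⟩
  rw [← ho] at hburn ⊢
  have hind : ind = 0 ∨ ind = 1 := by by_cases h : r ∣ n <;> simp [ind, h]
  rw [← hT, Nat.add_sub_cancel]
  show o + (r - 1) * ind = (Fintype.card T - ind) / r + r * ind
  have hr1 := hr.one_le
  rcases hind with h | h <;> rw [h] at hburn ⊢
  · simp only [mul_zero, add_zero, Nat.sub_zero] at hburn ⊢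
    rw [hburn, Nat.mul_div_cancel _ hr.pos]
  · simp only [mul_one] at hburn ⊢
    have ho1 : 1 ≤ o := by
      rcases Nat.eq_zero_or_pos o with rfl | ho
      · have := hr.two_le; omega
      · exact ho
    have : Fintype.card T - 1 = (o - 1) * r := by rw [Nat.sub_one_mul]; omega
    rw [this, Nat.mul_div_cancel _ hr.pos]
    omega

end CfsgLib.Classical.PGLPrime
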