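/-
Classes of elements of odd prime order, coprime to the characteristic, in the general unitary group.
-/
import Cfsg.Agent.Lib.Classical.GLPrimeClassData
import Cfsg.Agent.Lib.Classical.GUClassCount
import Cfsg.Agent.Lib.Classical.PGLPrimeClasses

set_option autoImplicit false

namespace CfsgLib.Classical.GUPrime

open Polynomial Matrix CfsgLib.Classical CfsgLib.Classical.Primary CfsgLib.Classical.GLPrimeData

/-- Tuples invariant under a fixed-point-free involution. -/
theorem card_invariant_tuples {s : ℕ} (δ : Fin s → Fin s) (hδ : ∀ j, δ (δ j) = j) (hfree : ∀ j, δ j ≠ j) (N : ℕ) :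
    Nat.card {b : Fin s → ℕ // ∑ j, b j ≤ N ∧ b ≠ 0 ∧ ∀ j, b (δ j) = b j} =
      (N / 2 + s / 2).choose (s / 2) - 1 := by
  classical
  let H := {j : Fin s // j < δ j}
  have hlt : ∀ j, ¬ j < δ j → δ j < δ (δ j) := fun j h => by
    rw [hδ]; exact lt_of_le_of_ne (not_lt.1 h) (hfree j)
  let rep : Fin s → H := fun j => if h : j < δ j then ⟨j, h⟩ else ⟨δ j, hlt j h⟩
  have hrep : ∀ j, rep (δ j) = rep j := fun j => by
    apply Subtype.ext
    by_cases h : j < δ j
    · simp only [rep, dif_pos h, dif_neg (show ¬ δ j < δ (δ j) by rw [hδ]; exact not_lt.2 h.le), hδ]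
    · simp only [rep, dif_neg h, dif_pos (hlt j h)]
  have hrepH : ∀ x : H, rep x.1 = x := fun x => (dif_pos x.2).trans rfl
  have hsplit : ∀ b : H → ℕ, ∑ j, b (rep j) = 2 * ∑ x, b x := by
    intro b
    rw [← Finset.sum_filter_add_sum_filter_not Finset.univ (fun j => j < δ j), two_mul]
    congr 1
    · refine Finset.sum_bij (fun j hj => (⟨j, (Finset.mem_filter.1 hj).2⟩ : H)) (fun _ _ => Finset.mem_univ _)
        (fun a _ c _ h => congrArg Subtype.val h) (fun x _ => ⟨x.1, Finset.mem_filter.2 ⟨Finset.mem_univ _, x.2⟩, rfl⟩)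
        (fun j hj => by rw [show rep j = ⟨j, (Finset.mem_filter.1 hj).2⟩ from hrepH ⟨j, (Finset.mem_filter.1 hj).2⟩])
    · refine Finset.sum_bij (fun j hj => (⟨δ j, hlt j (Finset.mem_filter.1 hj).2⟩ : H)) (fun _ _ => Finset.mem_univ _)
        (fun a _ c _ h => by have := congrArg δ (congrArg Subtype.val h); rwa [hδ, hδ] at this)
        (fun x _ => ⟨δ x.1, Finset.mem_filter.2 ⟨Finset.mem_univ _, by rw [hδ]; exact not_lt.2 x.2.le⟩, Subtype.ext (hδ x.1)⟩)
        (fun j hj => congrArg b ((hrep j).symm.trans (hrepH ⟨δ j, hlt j (Finset.mem_filter.1 hj).2⟩)))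
  have hcardH : Fintype.card H = s / 2 := by
    have h := hsplit (fun _ => 1)
    simp only [Finset.sum_const, Finset.card_univ, Fintype.card_fin, smul_eq_mul, mul_one] at h
    omega
  obtain ⟨m, hm⟩ : ∃ m, m = s / 2 := ⟨_, rfl⟩
  let e : H ≃ Fin m := Fintype.equivFinOfCardEq (hm ▸ hcardH)
  let A := {c : Fin m → ℕ // ∑ j, c j ≤ N / 2}
  haveI : Finite A := Nat.finite_of_card_ne_zero (by rw [card_tuples]; exact (Nat.choose_pos (Nat.le_add_left _ _)).ne')
  let z : A := ⟨0, by simp⟩
  have hval : ∀ b : {b : Fin s → ℕ // ∑ j, b j ≤ N ∧ b ≠ 0 ∧ ∀ j, b (δ j) = b j}, ∀ j, b.1 (rep j).1 = b.1 j := fun b j => by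
    by_cases h : j < δ j
    · simp only [rep, dif_pos h]
    · simp only [rep, dif_neg h, b.2.2.2 j]
  have hsum : ∀ c : Fin m → ℕ, ∑ j, c (e (rep j)) = 2 * ∑ j, c j := fun c => by
    rw [hsplit (fun x => c (e x)), Equiv.sum_comp e c]
  let F' : {b : Fin s → ℕ // ∑ j, b j ≤ N ∧ b ≠ 0 ∧ ∀ j, b (δ j) = b j} ≃ ↥(({z} : Set A)ᶜ) :=
    { toFun := fun b => ⟨⟨fun j => b.1 (e.symm j).1, by
          have h := hsum fun j => b.1 (e.symm j).1
          simp only [Equiv.symm_apply_apply, hval b] at h
          have := b.2.1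
          show ∑ j, b.1 (e.symm j).1 ≤ N / 2
          omega⟩, fun h => b.2.2.1 (funext fun j => by
          have h1 := congrFun (congrArg Subtype.val h) (e (rep j))
          simp only [Equiv.symm_apply_apply, hval b] at h1
          exact h1)⟩
      invFun := fun c => ⟨fun j => c.1.1 (e (rep j)), by
          have := c.1.2
          rw [hsum]; omega, fun h => c.2 (Subtype.ext (funext fun j => by
          have h1 := congrFun h (e.symm j).1
          simp only [hrepH, Equiv.apply_symm_apply] at h1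
          exact h1)), fun j => by simp only [hrep]⟩
      left_inv := fun b => Subtype.ext (funext fun j => by simp only [Equiv.symm_apply_apply, hval b])
      right_inv := fun c => Subtype.ext (Subtype.ext (funext fun j => by simp only [hrepH, Equiv.apply_symm_apply])) }
  rw [Nat.card_congr F', Nat.card_coe_set_eq, Set.ncard_compl, Set.ncard_singleton, card_tuples, hm]

variable {K : Type*} [Field K] [Fintype K] {p q n : ℕ} [Fact p.Prime] [CharP K p] (hK : Fintype.card K = q ^ 2)
include hK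

theorem starQ_aeval {σ : K →+* K} (hσ : ∀ a, σ a = a ^ q) (a : Matrix (Fin n) (Fin n) K) (Q : K[X]) :
    GUConj.starQ q (aeval a Q) = aeval (GUConj.starQ q a) (Q.map σ) := by
  induction Q using Polynomial.induction_on' with
  | add A B hA hB => rw [map_add, GUConj.starQ_add hK, hA, hB, Polynomial.map_add, map_add]
  | monomial k c =>
    have hp : GUConj.starQ q (a ^ k) = GUConj.starQ q a ^ k := by
      induction k with
      | zero => rw [pow_zero, pow_zero, GUConj.starQ_one hK]
      | succ k ih => rw [pow_succ, GUConj.starQ_mul hK, ih, ← pow_succ']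
    rw [Polynomial.map_monomial, aeval_monomial, aeval_monomial, GUConj.starQ_mul hK, hp, GUConj.starQ_scal hK, hσ,
      ← Algebra.commutes]

theorem card_classes_order_r {r i b s : ℕ} (hr : r.Prime) (hr2 : r ≠ 2) (hrp : r ≠ p)
    (hi : i = orderOf (q : ZMod r)) (hb : b = if Odd i then i else i / 2) (hs : s * b = r - 1) :
    Nat.card {C : ConjClasses ↥(Cfsg.GU n K q) // ∃ g : ↥(Cfsg.GU n K q), ConjClasses.mk g = C ∧ orderOf g = r} =
      if i % 4 = 2 then Nat.choose (2 * n / i + s) s - 1 else Nat.choose (n / (2 * b) + s / 2) (s / 2) - 1 := by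
  classical
  haveI := Fact.mk hr
  have hpr : p.Prime := Fact.out
  obtain ⟨σ, hσ, -, -⟩ := exists_qPow hK
  have hσσ : ∀ a, σ (σ a) = a := fun a => by rw [hσ, hσ, pow_q_q hK]
  -- the order of `q²`
  obtain ⟨⟨N, hN0⟩, -, hN⟩ := FiniteField.card K p
  simp only [PNat.mk_coe] at hN
  obtain ⟨f, -, hf⟩ : ∃ f, f ≤ N ∧ q = p ^ f := (Nat.dvd_prime_pow hpr).1 (by rw [← hN, hK]; exact dvd_pow_self q two_ne_zero)
  have hqr : (q : ZMod r) ≠ 0 := by
    rw [hf, Nat.cast_pow]
    refine pow_ne_zero _ fun h => hrp ?_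
    rw [ZMod.natCast_eq_zero_iff] at h
    exact ((Nat.prime_dvd_prime_iff_eq hr hpr).1 h)
  have hi0 : 0 < i := by
    rw [hi]
    exact IsOfFinOrder.orderOf_pos (isOfFinOrder_iff_pow_eq_one.2 ⟨r - 1, by have := hr.two_le; omega, ZMod.pow_card_sub_one_eq_one hqr⟩)
  have hord : orderOf ((q ^ 2 : ℕ) : ZMod r) = b := by
    rw [Nat.cast_pow, orderOf_pow' _ two_ne_zero, ← hi, hb]
    split_ifs with h
    · rw [Nat.coprime_two_right.2 h, Nat.div_one]
    · rw [Nat.gcd_eq_right (even_iff_two_dvd.1 (Nat.not_odd_iff_even.1 h))]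
  obtain ⟨hb0, P, hP0, hirr, hdeg, hco, hprod⟩ := exists_factors (F := K) hK r b s hr hrp hord.symm hs
  haveI : ∀ o, Fact (Irreducible (P o)) := fun o => ⟨hirr o⟩
  -- roots in an algebraic closure
  let L := AlgebraicClosure K
  haveI : CharP L p := charP_of_injective_algebraMap (algebraMap K L).injective p
  let φ : L →+* L := iterateFrobenius L p f
  have hφ : ∀ x : L, φ x = x ^ q := fun x => by rw [hf]; exact iterateFrobenius_def p f x
  have hφK : ∀ c : K, φ (algebraMap K L c) = algebraMap K L (σ c) := fun c => by rw [hφ, hσ, map_pow]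
  have hφQ : ∀ (Q : K[X]) (z : L), φ (aeval z Q) = aeval (φ z) (Q.map σ) := fun Q z => by
    induction Q using Polynomial.induction_on' with
    | add A B hA hB => rw [map_add, map_add, hA, hB, Polynomial.map_add, map_add]
    | monomial k c => rw [Polynomial.map_monomial, aeval_monomial, aeval_monomial, map_mul, map_pow, hφK]
  have hclosed : ∀ o (y : L) (k : ℕ), aeval y (P o) = 0 → aeval (y ^ (q ^ 2) ^ k) (P o) = 0 := by
    intro o y k hy
    induction k with
    | zero => simpa using hy
    | succ k ih =>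
      have h := hφQ ((P o).map σ) (φ (y ^ (q ^ 2) ^ k))
      rw [← hφQ, ih, map_zero, map_zero, Polynomial.map_map, show σ.comp σ = RingHom.id K from RingHom.ext hσσ,
        Polynomial.map_id, hφ, hφ, ← pow_mul, ← pow_mul] at h
      rw [pow_succ]
      convert h.symm using 3
      ring
  have hroot : ∀ o, ∃ y : L, aeval y (P o) = 0 := fun o => by
    obtain ⟨y, hy⟩ := IsAlgClosed.exists_aeval_eq_zero (k := L) (P o) (by
      have : 0 < (P o).natDegree := (hirr o).natDegree_pos
      exact (natDegree_pos_iff_degree_pos.1 this).ne')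
    exact ⟨y, hy⟩
  choose ρ hρ using hroot
  have hρr : ∀ o, ρ o ^ r = 1 := fun o => by
    have h : aeval (ρ o) (X ^ r - 1 : K[X]) = 0 := by
      rw [← hprod, map_prod, Finset.prod_eq_zero (Finset.mem_univ o) (hρ o)]
    simpa [sub_eq_zero] using h
  have huniq : ∀ o o' (y : L), aeval y (P o) = 0 → aeval y (P o') = 0 → o = o' := fun o o' y h h' => by
    by_contra hne
    obtain ⟨u, v, huv⟩ := hco hne
    have := congrArg (aeval y) huv
    simp [h, h'] at this
  have hidx : ∀ y : L, y ^ r = 1 → ∃ o, aeval y (P o) = 0 := fun y hy => by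
    have h : aeval y (∏ o, P o) = 0 := by rw [hprod]; simp [hy]
    rw [map_prod, Finset.prod_eq_zero_iff] at h
    obtain ⟨o, -, ho⟩ := h
    exact ⟨o, ho⟩
  obtain ⟨e, he⟩ : ∃ e, e = (r - 1) * q := ⟨_, rfl⟩
  have hρe : ∀ o, (ρ o ^ e) ^ r = 1 := fun o => by rw [← pow_mul, mul_comm, pow_mul, hρr, one_pow]
  choose δ hδ using fun o => hidx _ (hρe o)
  have hρ0 : ρ none = 1 := by
    have h := hρ none
    rwa [hP0, map_sub, aeval_X, map_one, map_one, sub_eq_zero] at h
  have hρne : ∀ j, orderOf (ρ (some j)) = r := fun j => by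
    refine orderOf_eq_prime (hρr _) fun h => ?_
    exact absurd (huniq (some j) none 1 (h ▸ hρ _) (hρ0 ▸ hρ none)) (by simp)
  have hpe : ∀ j (a c : ℕ), ρ (some j) ^ a = ρ (some j) ^ c ↔ (a : ZMod r) = (c : ZMod r) := fun j a c => by
    rw [IsOfFinOrder.pow_eq_pow_iff_modEq (isOfFinOrder_iff_pow_eq_one.2 ⟨r, hr.pos, hρr _⟩), hρne, ZMod.natCast_eq_natCast_iff]
  have hroots : ∀ j (y : L), aeval y (P (some j)) = 0 → ∃ k, y = ρ (some j) ^ (q ^ 2) ^ k := by
    intro j y hy
    let T := ((P (some j)).aroots L).toFinset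
    have hmem : ∀ z : L, z ∈ T ↔ aeval z (P (some j)) = 0 := fun z => by
      simp [T, mem_aroots, (hirr (some j)).ne_zero]
    let T' := (Finset.range b).image fun k => ρ (some j) ^ (q ^ 2) ^ k
    have hsub : T' ⊆ T := fun z hz => by
      obtain ⟨k, -, rfl⟩ := Finset.mem_image.1 hz
      exact (hmem _).2 (hclosed _ _ _ (hρ _))
    have hcard : T.card ≤ T'.card := by
      rw [Finset.card_image_of_injOn, Finset.card_range]
      · refine (Multiset.toFinset_card_le _).trans ((Polynomial.card_roots' _).trans ?_)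
        rw [natDegree_map, hdeg]
      · intro a ha c hc hac
        rw [Finset.coe_range, Set.mem_Iio] at ha hc
        simp only at hac
        rw [hpe] at hac
        push_cast at hac
        have h1 : ((q ^ 2 : ℕ) : ZMod r) ^ a = ((q ^ 2 : ℕ) : ZMod r) ^ c := by push_cast; exact hac
        exact pow_injOn_Iio_orderOf (by rw [hord]; exact ha) (by rw [hord]; exact hc) h1
    have := Finset.eq_of_subset_of_card_le hsub hcard
    obtain ⟨k, -, hk⟩ := Finset.mem_image.1 (this ▸ (hmem y).2 hy : y ∈ T')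
    exact ⟨k, hk.symm⟩
  have hδ0 : δ none = none := huniq _ _ 1 (by simpa [hρ0] using hδ none) (hρ0 ▸ hρ none)
  have hδδ : ∀ o, δ (δ o) = o := by
    rintro (_ | j)
    · rw [hδ0, hδ0]
    have hne : ρ (some j) ^ (q ^ 2) ^ 1 = (ρ (some j) ^ e) ^ e := by
      rw [← pow_mul (ρ (some j)), hpe, he]
      push_cast [Nat.cast_sub hr.one_le]
      simp
      ring
    rcases hδj : δ (some j) with _ | j'
    · have h1 : ρ (some j) ^ e = 1 := by
        have h := hδ (some j)
        rwa [hδj, hP0, map_sub, aeval_X, map_one, map_one, sub_eq_zero] at h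
      exact absurd (huniq none (some j) 1 (hρ0 ▸ hρ none) (by
        have h := hclosed (some j) _ 1 (hρ (some j))
        rwa [hne, h1, one_pow] at h)) (by simp)
    · obtain ⟨k, hk⟩ := hroots j' _ (hδj ▸ hδ (some j))
      refine huniq _ _ (ρ (some j) ^ (q ^ 2) ^ 1) ?_ (hclosed _ _ _ (hρ _))
      rw [hne, hk, ← pow_mul, mul_comm, pow_mul]
      exact hclosed _ _ _ (hδ (some j'))
  -- the dual multiplicities
  have hdual : ∀ (g Y : GL (Fin n) K), g ^ r = 1 →
      (Y : Matrix (Fin n) (Fin n) K) = GUConj.starQ q ((g : Matrix (Fin n) (Fin n) K) ^ (r - 1)) →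
      ∀ o, kerDim P Y o = kerDim P g (δ o) := by
    intro g Y hg hY o
    obtain ⟨R, hR⟩ : ∃ R, R = ((P o).map σ).comp (X ^ (r - 1)) := ⟨_, rfl⟩
    have hrank : ∀ (M : Matrix (Fin n) (Fin n) K) (Q : K[X]),
        Module.finrank K (LinearMap.ker (aeval (Matrix.toLinAlgEquiv' M) Q)) = n - (aeval M Q).rank := by
      intro M Q
      rw [show aeval (Matrix.toLinAlgEquiv' M) Q = Matrix.toLinAlgEquiv' (aeval M Q) from
        Polynomial.aeval_algHom_apply (Matrix.toLinAlgEquiv' : Matrix (Fin n) (Fin n) K ≃ₐ[K] _).toAlgHom M Q]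
      have h := LinearMap.finrank_range_add_finrank_ker (Matrix.mulVecLin (aeval M Q))
      rw [Module.finrank_fin_fun] at h
      show Module.finrank K (LinearMap.ker (Matrix.mulVecLin (aeval M Q))) = _
      rw [Matrix.rank]
      omega
    have h1 : kerDim P Y o = Module.finrank K (LinearMap.ker (aeval (Matrix.toLinAlgEquiv' (g : Matrix (Fin n) (Fin n) K)) R)) := by
      rw [kerDim, hrank, hrank, hR, Polynomial.aeval_comp, map_pow, aeval_X]
      congr 1
      conv_rhs => rw [← GUClasses.rank_starQ hK, starQ_aeval hK hσ]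
      rw [← hY, Polynomial.map_map, show σ.comp σ = RingHom.id K from RingHom.ext hσσ, Polynomial.map_id]
    rw [h1, kerDim]
    obtain ⟨T, hT⟩ : ∃ T, T = Matrix.toLinAlgEquiv' (g : Matrix (Fin n) (Fin n) K) := ⟨_, rfl⟩
    rw [← hT]
    have hTr : aeval T (∏ l, P l) = 0 := by
      rw [hprod, map_sub, map_pow, aeval_X, map_one, hT, ← map_pow, ← Units.val_pow_eq_pow_val, hg, Units.val_one, map_one, sub_self]
    have hdvd : ∀ l, P l ∣ R ↔ δ l = o := fun l => by
      have hiff : aeval (ρ l) R = 0 ↔ δ l = o := by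
        rw [hR, Polynomial.aeval_comp, map_pow, aeval_X, ← φ.injective.eq_iff, hφQ, map_zero, Polynomial.map_map,
          show σ.comp σ = RingHom.id K from RingHom.ext hσσ, Polynomial.map_id, hφ, ← pow_mul, ← he]
        exact ⟨fun h => huniq _ _ _ (hδ l) h, fun h => h ▸ hδ l⟩
      rw [← hiff]
      constructor
      · rintro ⟨c, hc⟩; rw [hc, map_mul, hρ, zero_mul]
      · intro h
        by_contra hnd
        obtain ⟨u, v, huv⟩ := (hirr l).coprime_iff_not_dvd.2 hnd
        have := congrArg (aeval (ρ l)) huv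
        simp [h, hρ] at this
    suffices LinearMap.ker (aeval T R) = LinearMap.ker (aeval T (P (δ o))) by rw [this]
    refine le_antisymm (fun v hv => ?_) (fun v hv => ?_)
    · obtain ⟨u, w, huw⟩ : IsCoprime (∏ l ∈ Finset.univ.erase (δ o), P l) R :=
        IsCoprime.prod_left fun l hl => (hirr l).coprime_iff_not_dvd.2 fun h =>
          Finset.ne_of_mem_erase hl (by rw [← (hdvd l).1 h, hδδ])
      rw [LinearMap.mem_ker] at hv ⊢
      have h : aeval T (P (δ o)) v = aeval T (P (δ o) * (u * (∏ l ∈ Finset.univ.erase (δ o), P l) + w * R)) v := by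
        rw [huw, mul_one]
      rw [h, show P (δ o) * (u * (∏ l ∈ Finset.univ.erase (δ o), P l) + w * R) =
        u * (P (δ o) * ∏ l ∈ Finset.univ.erase (δ o), P l) + P (δ o) * w * R by ring,
        Finset.mul_prod_erase _ _ (Finset.mem_univ _), map_add, map_mul, map_mul _ (P (δ o) * w) R, hTr, mul_zero,
        LinearMap.add_apply, LinearMap.zero_apply, Module.End.mul_apply, hv, map_zero, add_zero]
    · obtain ⟨c, hc⟩ := (hdvd (δ o)).2 (hδδ o)
      rw [LinearMap.mem_ker] at hv ⊢
      rw [hc, mul_comm, map_mul, Module.End.mul_apply, hv, map_zero]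
  have hδsome : ∀ j, ∃ j', δ (some j) = some j' := fun j => by
    rcases h : δ (some j) with _ | j'
    · have := congrArg δ h; rw [hδδ, hδ0] at this; cases this
    · exact ⟨j', rfl⟩
  choose δ' hδ' using hδsome
  have hδ'δ' : ∀ j, δ' (δ' j) = j := fun j => Option.some_injective _ (by rw [← hδ', ← hδ', hδδ])
  have hsel : ∀ g : GL (Fin n) K, g ^ r = 1 → (GUClasses.SelfDual q g ↔
      ∀ j, kerDim P g (some (δ' j)) / b = kerDim P g (some j) / b) := by
    intro g hg
    obtain ⟨a, ha⟩ : ∃ a, a = (g : Matrix (Fin n) (Fin n) K) := ⟨_, rfl⟩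
    have har : a * a ^ (r - 1) = 1 := by
      rw [← pow_succ', Nat.sub_add_cancel hr.one_le, ha, ← Units.val_pow_eq_pow_val, hg, Units.val_one]
    have hsa : GUConj.starQ q a * GUConj.starQ q (a ^ (r - 1)) = 1 := by
      rw [← GUConj.starQ_mul hK, mul_eq_one_comm.1 har, GUConj.starQ_one hK]
    let Y : GL (Fin n) K := ⟨GUConj.starQ q (a ^ (r - 1)), GUConj.starQ q a, mul_eq_one_comm.1 hsa, hsa⟩
    have hY := hdual g Y hg (by rw [← ha])
    have hYr : Y ^ r = 1 := Units.ext (by
      rw [Units.val_pow_eq_pow_val, Units.val_one]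
      show GUConj.starQ q (a ^ (r - 1)) ^ r = 1
      have hp : ∀ k, GUConj.starQ q (a ^ (r - 1)) ^ k = GUConj.starQ q ((a ^ (r - 1)) ^ k) := by
        intro k
        induction k with
        | zero => rw [pow_zero, pow_zero, GUConj.starQ_one hK]
        | succ k ih => rw [pow_succ', ih, pow_succ, GUConj.starQ_mul hK]
      rw [hp, ← pow_mul, mul_comm, pow_mul, ha, ← Units.val_pow_eq_pow_val, hg, Units.val_one, one_pow, GUConj.starQ_one hK])
    have hann : ∀ h : GL (Fin n) K, h ^ r = 1 → aeval (PGLPrime.glEnd h) (∏ l, P l) = 0 := fun h hh => by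
      rw [hprod, map_sub, map_pow, aeval_X, map_one, ← PGLPrime.glEnd_pow, hh, PGLPrime.glEnd_one, sub_self]
    have hdiv : ∀ (h : GL (Fin n) K) j, b ∣ kerDim P h (some j) := fun h j => by
      have h' := natDegree_dvd_finrank (P (some j)) ((PGLPrime.glEnd h).restrict (ker_invariant _ (P (some j)))) (aeval_restrict_ker _ _)
      rwa [hdeg] at h'
    have hiff : GUClasses.SelfDual q g ↔ IsConj g Y := by
      rw [GUClasses.SelfDual, ← ha, Matrix.inv_eq_right_inv hsa]
      constructor
      · rintro ⟨c, hc⟩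
        exact isConj_iff.2 ⟨c, mul_inv_eq_iff_eq_mul.2 (Units.ext (by rw [Units.val_mul, Units.val_mul, ← ha]; exact hc))⟩
      · intro hc
        obtain ⟨c, hc⟩ := isConj_iff.1 hc
        refine ⟨c, ?_⟩
        have h2 := congrArg Units.val (mul_inv_eq_iff_eq_mul.1 hc)
        rw [Units.val_mul, Units.val_mul, ← ha] at h2
        exact h2
    rw [hiff]
    constructor
    · intro h j
      have h' : kerDim P g (some j) = kerDim P Y (some j) := PGLPrime.finrank_ker_of_isConj h _
      rw [h', hY, hδ']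
    · intro h
      refine (PGLPrime.isConj_iff_intertwine g Y).2 (similar_of_finrank P hco _ _ (hann g hg) (hann Y hYr) fun o => ?_)
      show kerDim P g o = kerDim P Y o
      rw [hY]
      rcases o with _ | j
      · rw [hδ0]
      · rw [hδ']
        exact ((Nat.div_left_inj (hdiv g _) (hdiv g _)).1 (h j)).symm
  rw [GUClasses.card_classes_of_order hK r,
    card_classes_sel n r b s hr hb0 P hP0 hirr hdeg hco hprod (fun g => GUClasses.SelfDual q g)
      (fun c => ∀ j, c (δ' j) = c j) hsel]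
  have hfix : ∀ j, δ' j = j ↔ ∃ k : ℕ, -(q : ZMod r) = (q : ZMod r) ^ (2 * k) := by
    intro j
    have hval : ∀ k, ρ (some j) ^ e = ρ (some j) ^ (q ^ 2) ^ k ↔ -(q : ZMod r) = (q : ZMod r) ^ (2 * k) := fun k => by
      rw [hpe, he]
      push_cast [Nat.cast_sub hr.one_le]
      simp [pow_mul]
    constructor
    · intro h
      obtain ⟨k, hk⟩ := hroots j _ (show aeval (ρ (some j) ^ e) (P (some j)) = 0 by
        have h' := hδ (some j); rwa [hδ', h] at h')
      exact ⟨k, (hval k).1 hk⟩
    · rintro ⟨k, hk⟩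
      refine Option.some_injective _ ((hδ' j).symm.trans (huniq _ _ _ (hδ (some j)) ?_))
      rw [(hval k).2 hk]
      exact hclosed _ _ _ (hρ _)
  have hqi : (q : ZMod r) ^ i = 1 := hi ▸ pow_orderOf_eq_one _
  split_ifs with h4
  · have hodd : ¬ Odd i := by rw [Nat.odd_iff]; omega
    rw [if_neg hodd] at hb
    have hqb : (q : ZMod r) ^ b = -1 := by
      have h2 : ((q : ZMod r) ^ b) ^ 2 = 1 := by rw [← pow_mul, show b * 2 = i by omega, hqi]
      rcases sq_eq_one_iff.1 h2 with h | h
      · have := Nat.le_of_dvd hb0 (hi ▸ orderOf_dvd_of_pow_eq_one h)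
        omega
      · exact h
    have hall : ∀ j, δ' j = j := fun j => (hfix j).2 ⟨(b + 1) / 2, by
      rw [show 2 * ((b + 1) / 2) = b + 1 by omega, pow_succ, hqb, neg_one_mul]⟩
    have hbn : n / b = 2 * n / i := by rw [show i = 2 * b by omega, Nat.mul_div_mul_left _ _ two_pos]
    let A := {c : Fin s → ℕ // ∑ j, c j ≤ n / b}
    haveI : Finite A := Nat.finite_of_card_ne_zero (by rw [card_tuples]; exact (Nat.choose_pos (Nat.le_add_left _ _)).ne')
    let z : A := ⟨0, by simp⟩
    let F' : {c : Fin s → ℕ // ∑ j, c j ≤ n / b ∧ c ≠ 0 ∧ ∀ j, c (δ' j) = c j} ≃ ↥(({z} : Set A)ᶜ) :=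
      { toFun := fun c => ⟨⟨c.1, c.2.1⟩, fun h => c.2.2.1 (congrArg Subtype.val h)⟩
        invFun := fun c => ⟨c.1.1, c.1.2, fun h => c.2 (Subtype.ext h), fun j => by rw [hall j]⟩
        left_inv := fun c => rfl
        right_inv := fun c => rfl }
    rw [Nat.card_congr F', Nat.card_coe_set_eq, Set.ncard_compl, Set.ncard_singleton, card_tuples, hbn]
  · have hfree : ∀ j, δ' j ≠ j := fun j h => by
      obtain ⟨k, hk⟩ := (hfix j).1 h
      rcases Nat.eq_zero_or_pos k with rfl | hk0
      · rw [mul_zero, pow_zero] at hk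
        have h2 : (q : ZMod r) ^ 2 = 1 := by rw [← neg_sq, hk, one_pow]
        have h3 : i ∣ 2 := hi ▸ orderOf_dvd_of_pow_eq_one h2
        rcases (Nat.dvd_prime Nat.prime_two).1 h3 with h3 | h3
        · rw [h3, pow_one] at hqi
          rw [hqi] at hk
          have h5 : ((2 : ℕ) : ZMod r) = 0 := by push_cast; linear_combination -hk
          rw [ZMod.natCast_eq_zero_iff] at h5
          exact hr2 ((Nat.prime_dvd_prime_iff_eq hr Nat.prime_two).1 h5)
        · omega
      · have h1 : (q : ZMod r) ^ (2 * k - 1) = -1 := by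
          apply mul_right_cancel₀ hqr
          rw [← pow_succ, show 2 * k - 1 + 1 = 2 * k by omega, ← hk, neg_one_mul]
        rcases Nat.even_or_odd i with he' | ho
        · have h2 : i ∣ (2 * k - 1) * 2 := by
            rw [hi]; exact orderOf_dvd_of_pow_eq_one (by rw [pow_mul, h1, neg_one_sq])
          obtain ⟨c, hc⟩ := he'
          have h4' : 4 ∣ (2 * k - 1) * 2 := (show 4 ∣ i by omega).trans h2
          omega
        · have h2 : (-1 : ZMod r) ^ i = 1 := by rw [← h1, ← pow_mul, mul_comm, pow_mul, hqi, one_pow]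
          rw [ho.neg_one_pow] at h2
          have h5 : ((2 : ℕ) : ZMod r) = 0 := by push_cast; linear_combination -h2
          rw [ZMod.natCast_eq_zero_iff] at h5
          exact hr2 ((Nat.prime_dvd_prime_iff_eq hr Nat.prime_two).1 h5)
    rw [card_invariant_tuples δ' hδ'δ' hfree (n / b), Nat.div_div_eq_div_mul, mul_comm b 2]

end CfsgLib.Classical.GUPrime
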