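/-
Parabolic subgroups of the unitary groups.
-/
import Cfsg.Agent.Lib.Classical.FrameCount
import Cfsg.Agent.Lib.Classical.HermOrder
import Cfsg.Agent.Lib.Classical.HermSplit
import Cfsg.Agent.Lib.Classical.HermLines

set_option autoImplicit false

namespace CfsgLib.Classical

open Matrix Cfsg

variable {F : Type*} [Field F] [Fintype F] {q : ℕ}

theorem herm_flip (hF : Fintype.card F = q ^ 2) {n : ℕ} {x y : Fin n → F} (h : hermForm n F q x y = 0) :
    hermForm n F q y x = 0 := by
  rw [← hermForm_conj hF, h, zero_pow (by have := two_le_q hF; omega)]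

theorem exists_herm_perp (hF : Fintype.card F = q ^ 2) (n : ℕ) {v : Fin (n + 2) → F} (hv0 : v ≠ 0)
    (hv : hermForm (n + 2) F q v v = 0) :
    ∃ E : (F × (Fin n → F)) →ₗ[F] (Fin (n + 2) → F), Function.Injective E ∧ E (1, 0) = v ∧
      (∀ x, hermForm (n + 2) F q x v = 0 ↔ x ∈ LinearMap.range E) ∧
      ∀ a b, hermForm (n + 2) F q (E a) (E b) = hermForm n F q a.2 b.2 := by
  classical
  obtain ⟨σ, hσ, hσ2, hne⟩ := exists_qPow hF
  have hq := two_le_q hF
  set B := hermB (n + 2) q hσ with hB
  obtain ⟨z₀, hz₀⟩ : ∃ z, hermForm (n + 2) F q z v ≠ 0 := by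
    by_contra hc
    push Not at hc
    exact hv0 (hermForm_nondeg hσ (by omega) fun w => (hermB_apply hσ v w).trans (hc w))
  obtain ⟨z, hzv⟩ : ∃ z, hermForm (n + 2) F q z v = 1 :=
    ⟨(hermForm (n + 2) F q z₀ v)⁻¹ • z₀, by rw [hermForm_smul_left, inv_mul_cancel₀ hz₀]⟩
  have hvz : hermForm (n + 2) F q v z = 1 := by rw [← hermForm_conj hF, hzv, one_pow]
  let ψ : (Fin (n + 2) → F) →ₗ[F] F × F := (B v).prod (B z)
  have hψ : ∀ x, ψ x = (hermForm (n + 2) F q x v, hermForm (n + 2) F q x z) := fun x => rfl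
  have hlin : ∀ (α β : F), ψ (α • v + β • z) = (β, α + β * hermForm (n + 2) F q z z) := fun α β => by
    rw [hψ, hermForm_add_left, hermForm_add_left, hermForm_smul_left, hermForm_smul_left, hermForm_smul_left,
      hermForm_smul_left, hv, hzv, hvz, mul_zero, zero_add, mul_one, mul_one]
  have hsurj : Function.Surjective ψ := fun p =>
    ⟨(p.2 - p.1 * hermForm (n + 2) F q z z) • v + p.1 • z, by rw [hlin]; simp⟩
  have hdim : Module.finrank F (LinearMap.ker ψ) = n := by
    have h := LinearMap.finrank_range_add_finrank_ker ψ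
    rw [LinearMap.range_eq_top.2 hsurj, finrank_top, Module.finrank_prod, Module.finrank_self,
      Module.finrank_fin_fun] at h
    omega
  have hmemC : ∀ y, y ∈ LinearMap.ker ψ ↔ hermForm (n + 2) F q y v = 0 ∧ hermForm (n + 2) F q y z = 0 := fun y => by
    rw [LinearMap.mem_ker, hψ, Prod.mk_eq_zero]
  have hC : ∀ u ∈ LinearMap.ker ψ, (∀ w ∈ LinearMap.ker ψ, hermForm (n + 2) F q u w = 0) → u = 0 := by
    intro u hu hperp
    refine hermForm_nondeg hσ (by omega) fun x => ?_
    rw [hermB_apply]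
    set y := x - ((hermForm (n + 2) F q x z - hermForm (n + 2) F q x v * hermForm (n + 2) F q z z) • v +
      hermForm (n + 2) F q x v • z) with hy
    have hyC : y ∈ LinearMap.ker ψ := by
      rw [LinearMap.mem_ker, hy, map_sub, hlin, hψ]
      simp
    have hx : x = y + ((hermForm (n + 2) F q x z - hermForm (n + 2) F q x v * hermForm (n + 2) F q z z) • v +
      hermForm (n + 2) F q x v • z) := by rw [hy]; abel
    rw [hx, hermForm_add_left, hermForm_add_left, hermForm_smul_left, hermForm_smul_left,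
      herm_flip hF (hperp y hyC), herm_flip hF ((hmemC u).1 hu).1, herm_flip hF ((hmemC u).1 hu).2]
    ring
  obtain ⟨b₀, hb₀, hspan⟩ := exists_orthonormal_span hF _ hC
  let b : Fin n → (Fin (n + 2) → F) := fun i => b₀ (Fin.cast hdim.symm i)
  have hb : ∀ i j, hermForm (n + 2) F q (b i) (b j) = if i = j then 1 else 0 := fun i j => by
    simp [b, hb₀, Fin.ext_iff]
  have hbspan : Submodule.span F (Set.range b) = LinearMap.ker ψ := by
    rw [← hspan]
    congr 1
    exact (finCongr hdim.symm).surjective.range_comp b₀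
  have hbmem : ∀ i, hermForm (n + 2) F q (b i) v = 0 ∧ hermForm (n + 2) F q (b i) z = 0 := fun i =>
    (hmemC _).1 (hbspan ▸ Submodule.subset_span ⟨i, rfl⟩)
  let E : (F × (Fin n → F)) →ₗ[F] (Fin (n + 2) → F) :=
    ((LinearMap.id : F →ₗ[F] F).smulRight v).coprod (Fintype.linearCombination F b)
  have hE : ∀ p, E p = p.1 • v + ∑ i, p.2 i • b i := fun p => by simp [E, Fintype.linearCombination_apply]
  have hEv : ∀ p, hermForm (n + 2) F q (E p) v = 0 := fun p => by
    rw [hE, hermForm_add_left, hermForm_smul_left, hv, hermForm_sum_left]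
    simp [fun i => (hbmem i).1]
  have hEb : ∀ p j, hermForm (n + 2) F q (E p) (b j) = p.2 j := fun p j => by
    rw [hE, hermForm_add_left, hermForm_smul_left, herm_flip hF (hbmem j).1, hermForm_sum_left]
    simp [hb]
  have hEz : ∀ p, hermForm (n + 2) F q (E p) z = p.1 := fun p => by
    rw [hE, hermForm_add_left, hermForm_smul_left, hvz, hermForm_sum_left]
    simp [fun i => (hbmem i).2]
  refine ⟨E, fun p r h => Prod.ext (by rw [← hEz p, h, hEz]) (funext fun j => by rw [← hEb p, h, hEb]),
    by simp [hE], fun x => ⟨fun hx => ?_, fun ⟨p, hp⟩ => hp ▸ hEv p⟩, fun a c => ?_⟩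
  · have hxC : x - hermForm (n + 2) F q x z • v ∈ Submodule.span F (Set.range b) := by
      rw [hbspan, LinearMap.mem_ker, map_sub, map_smul, hψ, hψ, hx, hv, hvz]
      simp
    obtain ⟨c, hc⟩ := (Submodule.mem_span_range_iff_exists_fun F).1 hxC
    exact ⟨(hermForm (n + 2) F q x z, c), by rw [hE]; simp only; rw [hc]; abel⟩
  · have hstep : hermForm (n + 2) F q (E c) (E a) = hermForm n F q c.2 a.2 := by
      rw [hE c, hermForm_add_left, hermForm_smul_left, herm_flip hF (hEv a), hermForm_sum_left, mul_zero, zero_add,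
        hermForm]
      refine Finset.sum_congr rfl fun i _ => ?_
      rw [← hermForm_conj hF, hEb]
    rw [← hermForm_conj hF, hstep, hermForm_conj hF]

theorem card_hermFrame_succ (hF : Fintype.card F = q ^ 2) (n k : ℕ) :
    Nat.card (IsoFrame F (hermForm (n + 2) F q) (k + 1)) =
      (hermCount (n + 2) F q 0 - 1) * ((q ^ 2) ^ k * Nat.card (IsoFrame F (hermForm n F q) k)) := by
  classical
  rw [card_isoFrame_succ (hermForm (n + 2) F q) (hermForm n F q) (fun x y h => herm_flip hF h)
    (fun v hv0 hv => exists_herm_perp hF n hv0 hv) k, Nat.card_eq_fintype_card (α := F), hF]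
  congr 1
  have h0 : hermForm (n + 2) F q (0 : Fin (n + 2) → F) 0 = 0 := by simp [hermForm]
  rw [hermCount, Nat.card_eq_fintype_card, Nat.card_eq_fintype_card, Fintype.card_subtype, Fintype.card_subtype,
    show (Finset.univ.filter fun v : Fin (n + 2) → F => v ≠ 0 ∧ hermForm (n + 2) F q v v = 0) =
      (Finset.univ.filter fun v : Fin (n + 2) → F => hermForm (n + 2) F q v v = 0).erase 0 by
      ext v; simp, Finset.card_erase_of_mem (by simpa using h0)]

theorem unitaryOrder_succ_succ (hF : Fintype.card F = q ^ 2) (N : ℕ) :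
    unitaryOrder q (N + 2) = q ^ (2 * N + 1) * (hermCount (N + 2) F q 0 - 1) * unitaryOrder q N := by
  have hq := two_le_q hF
  have h1 : ∀ k, 1 ≤ q ^ k := fun k => Nat.one_le_pow _ _ (by omega)
  have hc : hermCount (N + 2) F q 0 - 1 = (if Even N then q ^ (N + 1) + 1 else q ^ (N + 1) - 1) *
      (if Even (N + 1) then q ^ (N + 2) + 1 else q ^ (N + 2) - 1) := by
    have hpos : 1 ≤ hermCount (N + 1 + 1) F q 0 := by
      haveI : Nonempty {v : Fin (N + 1 + 1) → F // hermForm (N + 1 + 1) F q v v = 0} := ⟨⟨0, by simp [hermForm]⟩⟩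
      exact Nat.card_pos
    have h := (hermCount_formula hF (N + 1)).2
    rcases Nat.even_or_odd N with he | ho
    · rw [if_pos he, if_neg (Nat.not_even_iff_odd.2 he.add_one)]
      rw [show (-1 : ℤ) ^ (N + 1 + 1) = 1 from he.add_one.add_one.neg_one_pow] at h
      zify [h1] at h ⊢
      rw [Nat.cast_sub hpos, Nat.cast_one, h]
      ring
    · rw [if_neg (Nat.not_even_iff_odd.2 ho), if_pos ho.add_one]
      rw [show (-1 : ℤ) ^ (N + 1 + 1) = -1 from ho.add_one.add_one.neg_one_pow] at h
      zify [h1] at h ⊢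
      rw [Nat.cast_sub hpos, Nat.cast_one, h]
      ring
  have he : (N + 2) * (N + 2 - 1) / 2 = N * (N - 1) / 2 + (2 * N + 1) := by
    rw [← Finset.sum_range_id, ← Finset.sum_range_id, Finset.sum_range_succ, Finset.sum_range_succ]
    ring
  rw [hc, unitaryOrder, unitaryOrder, Finset.prod_range_succ, Finset.prod_range_succ, he, pow_add]
  ring

theorem unitaryOrder_frame (hF : Fintype.card F = q ^ 2) : ∀ (k n : ℕ),
    unitaryOrder q (n + 2 * k) =
      q ^ (k * (2 * n + k)) * unitaryOrder q n * Nat.card (IsoFrame F (hermForm (n + 2 * k) F q) k)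
  | 0, n => by
    rw [show n + 2 * 0 = n from rfl, card_isoFrame_zero, Nat.zero_mul, pow_zero, one_mul, mul_one]
  | k + 1, n => by
    show unitaryOrder q (n + 2 * k + 2) = _ * _ * Nat.card (IsoFrame F (hermForm (n + 2 * k + 2) F q) (k + 1))
    rw [unitaryOrder_succ_succ hF, unitaryOrder_frame hF k n, card_hermFrame_succ hF,
      show (k + 1) * (2 * n + (k + 1)) = k * (2 * n + k) + (2 * n + 2 * k + 1) by ring,
      show 2 * (n + 2 * k) + 1 = (2 * n + 2 * k + 1) + 2 * k by ring, pow_add, pow_add, ← pow_mul]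
    ring

theorem exists_hermFrame_map (hF : Fintype.card F = q ^ 2) {n k : ℕ}
    (f₀ f : IsoFrame F (hermForm n F q) k) : ∃ g : GU n F q, ∀ i, guApply g (f₀.1 i) = f.1 i := by
  obtain ⟨σ, hσ, hσ2, hne⟩ := exists_qPow hF
  have hq := two_le_q hF
  let bb := Module.Basis.span f₀.2.1
  let φ : Submodule.span F (Set.range f₀.1) →ₗ[F] (Fin n → F) := bb.constr F f.1
  have hφb : ∀ i, φ (bb i) = f.1 i := fun i => bb.constr_basis F f.1 i
  have hbb : ∀ i, ((bb i : Submodule.span F (Set.range f₀.1)) : Fin n → F) = f₀.1 i := fun i => by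
    simp [bb, Module.Basis.span_apply]
  have hinj : Function.Injective φ := (injective_iff_map_eq_zero φ).2 fun x hx => by
    rw [← bb.sum_repr x] at hx ⊢
    simp only [map_sum, map_smul, hφb] at hx
    have h := Fintype.linearIndependent_iff.1 f.2.1 _ hx
    simp [h]
  have hzero : ∀ (c d : Fin k → F) (e : IsoFrame F (hermForm n F q) k),
      hermForm n F q (∑ i, c i • e.1 i) (∑ j, d j • e.1 j) = 0 := fun c d e => by
    rw [hermForm_sum_left]
    refine Finset.sum_eq_zero fun i _ => ?_
    have h : hermForm n F q (∑ j, d j • e.1 j) (e.1 i) = 0 := by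
      rw [hermForm_sum_left]
      simp [e.2.2]
    rw [herm_flip hF h, mul_zero]
  obtain ⟨g, hg, hga⟩ := witt_herm σ hne hσ2 (hermB n q hσ)
    (fun u v => by rw [hermB_apply, hermB_apply, hσ, hermForm_conj hF])
    (fun v h => hermForm_nondeg hσ (by omega) h) _ φ hinj fun x y => by
      rw [← bb.sum_repr x, ← bb.sum_repr y, hermB_apply, hermB_apply]
      simp only [map_sum, map_smul, hφb, Submodule.coe_sum, Submodule.coe_smul, hbb, hzero]
  obtain ⟨g', hg'⟩ := guMk_exists g fun u v => by
    have := hg v u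
    rwa [hermB_apply, hermB_apply] at this
  exact ⟨g', fun i => by rw [hg', ← hbb, hga, hφb]⟩

theorem card_gu_parabolic (hF : Fintype.card F = q ^ 2) (n k : ℕ) (W : Submodule F (Fin (n + 2 * k) → F))
    (hWk : Module.finrank F W = k) (hW : ∀ u ∈ W, ∀ v ∈ W, hermForm (n + 2 * k) F q u v = 0) :
    Nat.card ↥((stabilizing (glToMat (Fin (n + 2 * k)) F) (W : Set (Fin (n + 2 * k) → F))).subgroupOf
      (GU (n + 2 * k) F q)) =
      q ^ (k * (2 * n + k)) * unitaryOrder q n * ∏ i : Fin k, ((q ^ 2) ^ k - (q ^ 2) ^ (i : ℕ)) := by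
  classical
  set S := (stabilizing (glToMat (Fin (n + 2 * k)) F) (W : Set (Fin (n + 2 * k) → F))).subgroupOf (GU (n + 2 * k) F q)
  let b := Module.finBasisOfFinrankEq F W hWk
  let f₀ : IsoFrame F (hermForm (n + 2 * k) F q) k :=
    ⟨fun i => (b i : Fin (n + 2 * k) → F), b.linearIndependent.map' W.subtype W.ker_subtype,
      fun i j => hW _ (b i).2 _ (b j).2⟩
  have hgi : ∀ g : GU (n + 2 * k) F q, Function.Injective (guApply g) := fun g x y e => by
    rw [← guApply_inv_apply g x, e, guApply_inv_apply]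
  let a : GU (n + 2 * k) F q → IsoFrame F (hermForm (n + 2 * k) F q) k := fun g =>
    ⟨fun i => guApply g (f₀.1 i), f₀.2.1.map' (guLin g).toLinearMap (guLin g).ker,
      fun i j => (guApply_form g _ _).trans (f₀.2.2 i j)⟩
  let P : Subgroup (GU (n + 2 * k) F q) :=
    { carrier := {g | ∀ i, guApply g (f₀.1 i) = f₀.1 i}
      one_mem' := fun i => guApply_one _
      mul_mem' := fun {x y} hx hy i => by rw [guApply_mul, hy i, hx i]
      inv_mem' := fun {x} hx i => by conv_lhs => rw [← hx i, guApply_inv_apply] }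
  have hP : ∀ g h, a g = a h ↔ g⁻¹ * h ∈ P := fun g h => by
    constructor
    · intro e i
      have he' : guApply g (f₀.1 i) = guApply h (f₀.1 i) := congrFun (congrArg Subtype.val e) i
      rw [guApply_mul, ← he', guApply_inv_apply]
    · intro e
      refine Subtype.ext (funext fun i => ?_)
      show guApply g (f₀.1 i) = guApply h (f₀.1 i)
      conv_lhs => rw [← e i, guApply_mul, guApply_apply_inv]
  have hsurj : Function.Surjective a := fun f => by
    obtain ⟨g, hg⟩ := exists_hermFrame_map hF f₀ f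
    exact ⟨g, Subtype.ext (funext hg)⟩
  have h := card_mul_card_of_orbit a P hP hsurj S {f | ∀ i, f.1 i ∈ W} fun g => by
    refine ⟨fun hg i => (hg _).1 (b i).2, fun hg => ?_⟩
    have h1 : ∀ i, guApply g (b i : Fin (n + 2 * k) → F) ∈ W := hg
    let L : W →ₗ[F] W := b.constr F fun i => ⟨_, h1 i⟩
    have hL : ∀ x : W, (L x : Fin (n + 2 * k) → F) = guApply g x.1 := fun x =>
      LinearMap.congr_fun (b.ext (f₁ := W.subtype ∘ₗ L) (f₂ := (guLin g).toLinearMap ∘ₗ W.subtype) fun i => by
        simp [L, guLin]) x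
    have hLs : Function.Surjective L := LinearMap.surjective_of_injective fun x y e =>
      Subtype.ext (hgi g (by rw [← hL, ← hL, e]))
    intro v
    refine ⟨fun hv => ?_, fun hv => ?_⟩
    · show guApply g v ∈ W
      rw [← hL ⟨v, hv⟩]
      exact (L ⟨v, hv⟩).2
    obtain ⟨x, hx⟩ := hLs ⟨_, hv⟩
    exact hgi g ((hL x).symm.trans (congrArg Subtype.val hx)) ▸ x.2
  haveI : Nonempty (IsoFrame F (hermForm (n + 2 * k) F q) k) := ⟨f₀⟩
  refine Nat.eq_of_mul_eq_mul_right (Nat.card_pos (α := IsoFrame F (hermForm (n + 2 * k) F q) k)) ?_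
  rw [h, card_frames_in _ hW hWk, card_gu hF, unitaryOrder_frame hF, hF]
  ring

theorem exists_gu_hyperbolic (hF : Fintype.card F = q ^ 2) {n : ℕ} {e f : Fin n → F}
    (he : hermForm n F q e e = 0) (hf : hermForm n F q f f = 0) (hef : hermForm n F q e f = 1)
    {μ : F} (hμ : μ ≠ 0) :
    ∃ g : GU n F q, ((g : GL (Fin n) F) : Matrix (Fin n) (Fin n) F).det = μ / μ ^ q ∧
      ∀ x, guApply g x = x + ((μ - 1) * hermForm n F q x f) • e + ((1 / μ ^ q - 1) * hermForm n F q x e) • f := by
  classical
  obtain ⟨σ, hσ, hσ2, -⟩ := exists_qPow hF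
  have hfe : hermForm n F q f e = 1 := by rw [← hermForm_conj hF, hef, one_pow]
  have hμq : μ ^ q ≠ 0 := pow_ne_zero _ hμ
  set ν := 1 / μ ^ q with hν
  let U : Matrix (Fin n) (Fin 2) F := Matrix.of fun l i => ![e, f] i l
  let V : Matrix (Fin 2) (Fin n) F := Matrix.of fun i l => ![fun l => (μ - 1) * f l ^ q, fun l => (ν - 1) * e l ^ q] i l
  have hM : ∀ x, (1 + U * V) *ᵥ x =
      x + ((μ - 1) * hermForm n F q x f) • e + ((ν - 1) * hermForm n F q x e) • f := fun x => by
    rw [Matrix.add_mulVec, Matrix.one_mulVec, ← Matrix.mulVec_mulVec, add_assoc]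
    congr 1
    funext l
    simp [U, V, Matrix.mulVec, dotProduct, Fin.sum_univ_two, hermForm, Finset.mul_sum, Finset.sum_mul]
    congr 1 <;> exact Finset.sum_congr rfl fun i _ => by ring
  have hdet : (1 + U * V).det = μ * ν := by
    rw [Matrix.det_one_add_mul_comm, Matrix.det_fin_two]
    have hVU : ∀ i j, (V * U) i j = (![μ - 1, ν - 1] i) * hermForm n F q (![e, f] j) (![f, e] i) := fun i j => by
      rw [Matrix.mul_apply, hermForm, Finset.mul_sum]
      refine Finset.sum_congr rfl fun l _ => ?_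
      fin_cases i <;> simp [U, V] <;> ring
    simp [Matrix.add_apply, hVU, he, hf, hef, hfe]
  have hiso : ∀ x y, hermForm n F q ((1 + U * V) *ᵥ x) ((1 + U * V) *ᵥ y) = hermForm n F q x y := fun x y => by
    have ex : hermForm n F q e y = σ (hermForm n F q y e) := by rw [hσ, hermForm_conj hF]
    have fx : hermForm n F q f y = σ (hermForm n F q y f) := by rw [hσ, hermForm_conj hF]
    have hsν : σ ν = 1 / μ := by rw [hν, map_div₀, map_one, ← hσ, hσ2]
    have hr : ∀ (u : Fin n → F) (s t : F), hermForm n F q u (y + s • e + t • f) =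
        hermForm n F q u y + σ s * hermForm n F q u e + σ t * hermForm n F q u f := fun u s t => by
      simp only [hermForm_apply n hσ, Pi.add_apply, Pi.smul_apply, smul_eq_mul, map_add, map_mul, Finset.mul_sum,
        ← Finset.sum_add_distrib]
      exact Finset.sum_congr rfl fun i _ => by ring
    rw [hM, hM, hr, hermForm_add_left, hermForm_add_left, hermForm_add_left, hermForm_add_left, hermForm_add_left,
      hermForm_add_left, hermForm_smul_left, hermForm_smul_left, hermForm_smul_left, hermForm_smul_left,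
      hermForm_smul_left, hermForm_smul_left, he, hf, hef, hfe, ex, fx, map_mul, map_mul, map_sub, map_sub, map_one, hsν,
      hν, ← hσ]
    have hσμ : σ μ ≠ 0 := by rw [hσ]; exact hμq
    field_simp
    ring
  have hdet0 : (1 + U * V).det ≠ 0 := by rw [hdet]; exact mul_ne_zero hμ (by rw [hν]; simp [hμ])
  refine ⟨⟨GeneralLinearGroup.mkOfDetNeZero (1 + U * V) hdet0, hiso⟩,
    ?_, hM⟩
  show (1 + U * V).det = _
  rw [hdet, hν, mul_one_div]

theorem card_su_parabolic (hF : Fintype.card F = q ^ 2) (n k : ℕ) (hn : 1 ≤ n) (hk : 2 * k ≤ n)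
    (W : Submodule F (Fin n → F)) (hWk : Module.finrank F W = k)
    (hW : ∀ u ∈ W, ∀ v ∈ W, hermForm n F q u v = 0) :
    (q + 1) * Nat.card ↥((stabilizing (slToMat n F) (W : Set (Fin n → F))).subgroupOf (SU n F q)) =
      q ^ (k * (2 * n - 3 * k)) * (∏ i : Fin k, ((q ^ 2) ^ k - (q ^ 2) ^ (i : ℕ))) * unitaryOrder q (n - 2 * k) := by
  classical
  obtain ⟨σ, hσ, hσ2, hne⟩ := exists_qPow hF
  have hq := two_le_q hF
  set S := (stabilizing (glToMat (Fin n) F) (W : Set (Fin n → F))).subgroupOf (GU n F q) with hS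
  set φ := (guDet n F q).comp S.subtype with hφ
  have hrange : φ.range = (guDet n F q).range := by
    refine le_antisymm (by rintro _ ⟨g, rfl⟩; exact ⟨g.1, rfl⟩) ?_
    rcases eq_or_ne W ⊥ with hW0 | hW0
    · rintro _ ⟨g, rfl⟩
      refine ⟨⟨g, fun v => ?_⟩, rfl⟩
      rw [hW0, SetLike.mem_coe, SetLike.mem_coe, Submodule.mem_bot, Submodule.mem_bot]
      exact ⟨fun hv => by rw [hv]; exact mulVec_zero _,
        fun hv => by rw [← guApply_inv_apply g v]; show guApply g⁻¹ (guApply g v) = 0; rw [show guApply g v = 0 from hv]; exact mulVec_zero _⟩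
    · rw [guDet_range hF hn]
      intro u hu
      obtain ⟨e, heW, he0⟩ := Submodule.exists_mem_ne_zero_of_ne_bot hW0
      have he := hW e heW e heW
      obtain ⟨z₀, hz₀⟩ : ∃ z, hermForm n F q z e ≠ 0 := by
        by_contra hc
        push Not at hc
        exact he0 (hermForm_nondeg hσ (by omega) fun w => (hermB_apply hσ e w).trans (hc w))
      obtain ⟨z, hze⟩ : ∃ z, hermForm n F q z e = 1 :=
        ⟨(hermForm n F q z₀ e)⁻¹ • z₀, by rw [hermForm_smul_left, inv_mul_cancel₀ hz₀]⟩
      have hez : hermForm n F q e z = 1 := by rw [← hermForm_conj hF, hze, one_pow]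
      obtain ⟨θ, hθ⟩ := exists_trace_one σ hne hσ2
      set t := θ * hermForm n F q z z with ht
      have hzz : σ (hermForm n F q z z) = hermForm n F q z z := by rw [hσ, hermForm_conj hF]
      have hr : ∀ u : Fin n → F, hermForm n F q u (z - t • e) = hermForm n F q u z - σ t * hermForm n F q u e := fun u => by
        simp only [hermForm_apply n hσ, Pi.sub_apply, Pi.smul_apply, smul_eq_mul, map_sub, map_mul, Finset.mul_sum,
          ← Finset.sum_sub_distrib]
        exact Finset.sum_congr rfl fun i _ => by ring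
      have hef : hermForm n F q e (z - t • e) = 1 := by rw [hr, hez, he]; ring
      have hff : hermForm n F q (z - t • e) (z - t • e) = 0 := by
        rw [hr, sub_eq_add_neg z, ← neg_smul, hermForm_add_left, hermForm_add_left, hermForm_smul_left,
          hermForm_smul_left, hez, hze, he, ht, map_mul, hzz]
        linear_combination -(hermForm n F q z z) * hθ
      have hu1 : (u : F) ^ (q + 1) = 1 := by simpa using congrArg Units.val (MonoidHom.mem_ker.1 hu)
      obtain ⟨μ, hμ0, hμ⟩ : ∃ μ : F, μ ≠ 0 ∧ μ / μ ^ q = u := by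
        obtain ⟨x, hx⟩ : ∃ x, x + (u : F) * σ x ≠ 0 := by
          by_contra hc
          push Not at hc
          apply hne
          ext y
          have h1 := hc 1
          rw [map_one, mul_one] at h1
          rw [RingHom.id_apply]
          linear_combination (σ y) * h1 - hc y
        refine ⟨_, hx, ?_⟩
        rw [← hσ, div_eq_iff (by rwa [map_ne_zero]), map_add, map_mul, hσ2]
        have hu2 : (u : F) * σ u = 1 := by rw [hσ, ← pow_succ', hu1]
        linear_combination -x * hu2
      obtain ⟨g, hgdet, hg⟩ := exists_gu_hyperbolic hF he hff hef hμ0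
      have hmem : ∀ v ∈ W, guApply g v ∈ W := fun v hv => by
        rw [hg, hW v hv e heW, mul_zero, zero_smul, add_zero]
        exact add_mem hv (Submodule.smul_mem _ _ heW)
      let L : W →ₗ[F] W := LinearMap.codRestrict W ((guLin g).toLinearMap ∘ₗ W.subtype) fun x => hmem x.1 x.2
      have hLs : Function.Surjective L := LinearMap.surjective_of_injective fun x y e =>
        Subtype.ext ((guLin g).injective (congrArg Subtype.val e))
      refine ⟨⟨g, fun v => ⟨hmem v, fun hv => ?_⟩⟩, Units.ext ?_⟩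
      · obtain ⟨x, hx⟩ := hLs ⟨_, hv⟩
        exact (guLin g).injective (congrArg Subtype.val hx) ▸ x.2
      · show ((g : GL (Fin n) F) : Matrix (Fin n) (Fin n) F).det = u
        rw [hgdet, hμ]
  have hcard : Nat.card φ.range = q + 1 := by
    rw [hrange, guDet_range hF hn, IsCyclic.card_powMonoidHom_ker, Nat.card_units, Nat.card_eq_fintype_card,
      hF, show q ^ 2 - 1 = (q + 1) * (q - 1) by rw [← Nat.sq_sub_sq, one_pow],
      Nat.gcd_eq_right (Dvd.intro _ rfl)]
  have hker : Nat.card φ.ker = Nat.card ↥((stabilizing (slToMat n F) (W : Set (Fin n → F))).subgroupOf (SU n F q)) := by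
    refine Nat.card_congr
      { toFun := fun g => ⟨⟨⟨((g.1.1 : GL (Fin n) F) : Matrix (Fin n) (Fin n) F), by
          simpa [φ, guDet] using congrArg Units.val (MonoidHom.mem_ker.1 g.2)⟩, g.1.1.2⟩, g.1.2⟩
        invFun := fun s => ⟨⟨⟨SpecialLinearGroup.toGL s.1.1, s.1.2⟩, s.2⟩, by
          refine MonoidHom.mem_ker.2 (Units.ext ?_)
          simp [φ, guDet]⟩
        left_inv := fun g => Subtype.ext (Subtype.ext (Subtype.ext (Units.ext rfl)))
        right_inv := fun s => Subtype.ext (Subtype.ext (Subtype.ext rfl)) }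
  obtain ⟨d, rfl⟩ : ∃ d, n = d + 2 * k := ⟨n - 2 * k, by omega⟩
  rw [← hker, ← hcard, ← Subgroup.index_ker, Subgroup.index_mul_card, hS, card_gu_parabolic hF d k W hWk hW,
    Nat.add_sub_cancel, show 2 * (d + 2 * k) - 3 * k = 2 * d + k by omega]
  ring

end CfsgLib.Classical
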