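/-
Bijective Frobenius-semilinear maps over an algebraically closed field have spanning fixed vectors (Lang).
-/
import Mathlib

set_option autoImplicit false

namespace CfsgLib.Classical.LangGL

open Polynomial

variable {K : Type*} [Field K] [IsAlgClosed K] (p f : ℕ) [Fact p.Prime] [CharP K p]

theorem one_lt_q (hf : 1 ≤ f) : 1 < p ^ f :=
  Nat.one_lt_pow (by omega) (Fact.out : p.Prime).one_lt

/-- The polynomials occurring in the search of a fixed vector. -/
noncomputable def chain (q : ℕ) (a : ℕ → K) : ℕ → K[X]
  | 0 => C (a 0) * X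
  | i + 1 => chain q a i ^ q + C (a (i + 1)) * X

theorem natDegree_chain {q : ℕ} (hq : 1 < q) (a : ℕ → K) (ha : a 0 ≠ 0) :
    ∀ i, (chain q a i).natDegree = q ^ i := by
  intro i
  induction i with
  | zero => simp [chain, natDegree_C_mul_X _ ha]
  | succ i ih =>
    have h1 : (chain q a i ^ q).natDegree = q ^ (i + 1) := by rw [natDegree_pow, ih, pow_succ']
    have h2 : (C (a (i + 1)) * X : K[X]).natDegree < (chain q a i ^ q).natDegree := by
      refine lt_of_le_of_lt ((natDegree_C_mul_le _ _).trans natDegree_X_le) ?_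
      rw [h1]
      exact Nat.one_lt_pow (by omega) hq
    rw [chain, natDegree_add_eq_left_of_natDegree_lt h2, h1]

theorem exists_root_chain (hf : 1 ≤ f) (a : ℕ → K) (ha : a 0 ≠ 0) (m : ℕ) :
    ∃ y : K, y ≠ 0 ∧ ((chain (p ^ f) a m).eval y) ^ (p ^ f) = y := by
  classical
  set q := p ^ f with hq
  have hq1 : 1 < q := one_lt_q p f hf
  set P : K[X] := chain q a m ^ q - X with hP
  have hdeg : 2 ≤ P.natDegree := by
    have h1 : (chain q a m ^ q).natDegree = q ^ (m + 1) := by
      rw [natDegree_pow, natDegree_chain hq1 a ha, pow_succ']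
    have h2 : 1 < q ^ (m + 1) := Nat.one_lt_pow (by omega) hq1
    rw [hP, natDegree_sub_eq_left_of_natDegree_lt (by rw [h1, natDegree_X]; exact h2), h1]
    omega
  have hzero : ((q : ℕ) : K[X]) = 0 := by
    rw [hq, Nat.cast_pow, CharP.cast_eq_zero, zero_pow (by omega)]
  have hder : derivative P = -1 := by
    rw [hP, derivative_sub, derivative_X, derivative_pow, map_natCast, hzero]
    simp
  have hsep : P.Separable := ⟨0, -1, by rw [hder]; ring⟩
  have hcard : P.roots.card = P.natDegree :=
    ((IsAlgClosed.splits P).natDegree_eq_card_roots).symm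
  by_contra hcon
  push Not at hcon
  have hsub : P.roots.toFinset ⊆ {0} := by
    intro y hy
    rw [Multiset.mem_toFinset, mem_roots hsep.ne_zero] at hy
    rw [Finset.mem_singleton]
    by_contra hy0
    apply hcon y hy0
    simpa [hP, IsRoot, sub_eq_zero] using hy
  have := Finset.card_le_card hsub
  rw [Multiset.toFinset_card_of_nodup (nodup_roots hsep), hcard, Finset.card_singleton] at this
  omega

/-- A fixed vector exists. -/
theorem exists_fixed (hf : 1 ≤ f) {V : Type*} [AddCommGroup V] [Module K V] [FiniteDimensional K V]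
    [Nontrivial V] (φ : V →ₛₗ[iterateFrobenius K p f] V) (hφ : Function.Injective φ) :
    ∃ v : V, v ≠ 0 ∧ φ v = v := by
  classical
  obtain ⟨v, hv⟩ := exists_ne (0 : V)
  set e : ℕ → V := fun i => φ^[i] v with he
  have hes : ∀ i, e (i + 1) = φ (e i) := fun i => Function.iterate_succ_apply' φ i v
  let P : ℕ → Prop := fun m => ∃ a : ℕ → K, e m = ∑ i ∈ Finset.range m, a i • e i
  have hPex : ∃ m, P m := by
    by_contra hcon
    push Not at hcon
    have hli : ∀ m, LinearIndependent K (fun i : Fin m => e i) := by
      intro m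
      induction m with
      | zero => exact linearIndependent_empty_type
      | succ m ih =>
        rw [linearIndependent_finSucc']
        refine ⟨ih, fun hmem => ?_⟩
        rw [Submodule.mem_span_range_iff_exists_fun] at hmem
        obtain ⟨c, hc⟩ := hmem
        refine hcon m ⟨fun i => if h : i < m then c ⟨i, h⟩ else 0, ?_⟩
        rw [Finset.sum_range]
        simp only [Fin.is_lt, dite_true, Fin.eta]
        exact hc.symm
    have := (hli (Module.finrank K V + 1)).fintype_card_le_finrank
    simp at this
  set m := Nat.find hPex with hm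
  obtain ⟨a, ha⟩ := Nat.find_spec hPex
  rw [← hm] at ha
  obtain ⟨k, hk⟩ : ∃ k, m = k + 1 := by
    refine ⟨m - 1, ?_⟩
    by_contra h
    have h0 : m = 0 := by omega
    rw [h0] at ha
    exact hv (by simpa [he] using ha)
  rw [hk] at ha
  have hmin : ∀ j, j < k + 1 → ¬ P j := fun j hj => Nat.find_min hPex (by rw [← hm, hk]; exact hj)
  set q := p ^ f with hq
  have hq1 : 1 < q := one_lt_q p f hf
  have hroot : ∀ x : K, ∃ y : K, y ^ q = x := fun x => IsAlgClosed.exists_pow_nat_eq x (by omega)
  choose r hr using hroot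
  have hsemi : ∀ (n : ℕ) (c : ℕ → K), φ (∑ i ∈ Finset.range n, c i • e i) =
      ∑ i ∈ Finset.range n, (c i) ^ q • e (i + 1) := by
    intro n c
    rw [map_sum]
    refine Finset.sum_congr rfl fun i _ => ?_
    rw [LinearMap.map_smulₛₗ, iterateFrobenius_def, hes]
  have ha0 : a 0 ≠ 0 := by
    intro h0
    refine hmin k (by omega) ⟨fun i => r (a (i + 1)), hφ ?_⟩
    rw [← hes, hsemi, ha, Finset.sum_range_succ', h0, zero_smul, add_zero]
    simp only [hr]
  obtain ⟨y, hy0, hy⟩ := exists_root_chain p f hf a ha0 k
  set c : ℕ → K := fun i => (chain q a i).eval y with hc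
  refine ⟨∑ i ∈ Finset.range (k + 1), c i • e i, ?_, ?_⟩
  · intro hzero
    -- the vectors below the minimal relation are independent
    have hind : ∀ n ≤ k + 1, ∀ b : ℕ → K, ∑ i ∈ Finset.range n, b i • e i = 0 → ∀ i < n, b i = 0 := by
      intro n
      induction n with
      | zero => intro _ b _ i hi; omega
      | succ n ih =>
        intro hn b hb
        rw [Finset.sum_range_succ] at hb
        have hbn : b n = 0 := by
          by_contra hbn
          refine hmin n (by omega) ⟨fun i => -(b n)⁻¹ * b i, ?_⟩
          calc e n = (b n)⁻¹ • (b n • e n) := by rw [smul_smul, inv_mul_cancel₀ hbn, one_smul]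
            _ = -(b n)⁻¹ • ∑ i ∈ Finset.range n, b i • e i := by
              rw [eq_neg_of_add_eq_zero_right hb, smul_neg, neg_smul]
            _ = _ := by
              rw [Finset.smul_sum]
              exact Finset.sum_congr rfl fun i _ => smul_smul _ _ _
        intro i hi
        rcases Nat.lt_succ_iff_lt_or_eq.1 hi with h | rfl
        · rw [hbn, zero_smul, add_zero] at hb
          exact ih (by omega) b hb i h
        · exact hbn
    have := hind (k + 1) le_rfl c hzero 0 (by omega)
    simp [hc, chain, ha0, hy0] at this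
  · have hlast : c k ^ q = y := hy
    rw [hsemi, Finset.sum_range_succ, hlast, ha, Finset.smul_sum,
      Finset.sum_range_succ' (fun i => y • a i • e i), Finset.sum_range_succ' (fun i => c i • e i),
      ← add_assoc, ← Finset.sum_add_distrib]
    congr 1
    · refine Finset.sum_congr rfl fun i _ => ?_
      simp only [hc, chain, eval_add, eval_pow, eval_mul, eval_C, eval_X, smul_smul, add_smul]
      rw [mul_comm y]
    · simp [hc, chain, smul_smul, mul_comm y]

/-- The fixed vectors span. -/
theorem span_fixed_eq_top (hf : 1 ≤ f) {V : Type*} [AddCommGroup V] [Module K V] [FiniteDimensional K V]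
    (φ : V →ₛₗ[iterateFrobenius K p f] V) (hφ : Function.Injective φ) :
    Submodule.span K {v : V | φ v = v} = ⊤ := by
  classical
  set W := Submodule.span K {v : V | φ v = v} with hW
  by_contra hne
  have hq1 : 1 < p ^ f := one_lt_q p f hf
  have hcomap : W ≤ W.comap φ := by
    rw [hW, Submodule.span_le]
    intro x hx
    rw [SetLike.mem_coe, Submodule.mem_comap, show φ x = x from hx]
    exact Submodule.subset_span hx
  have key : ∀ b ∈ W, ∀ c : K, (∃ u ∈ W, φ u = c • b) ∧ ∃ u ∈ W, φ u + c • b = u := by
    intro b hb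
    rw [hW] at hb
    induction hb using Submodule.span_induction with
    | mem x hx =>
      intro c
      obtain ⟨s, hs⟩ := IsAlgClosed.exists_pow_nat_eq c (show 0 < p ^ f by omega)
      have hdeg : (X ^ (p ^ f) - X + C c : K[X]).natDegree = p ^ f := by
        rw [natDegree_add_C, natDegree_sub_eq_left_of_natDegree_lt (by rw [natDegree_X_pow, natDegree_X]; exact hq1),
          natDegree_X_pow]
      obtain ⟨t, ht⟩ := IsAlgClosed.exists_root (X ^ (p ^ f) - X + C c : K[X])
        (fun h => by have := natDegree_eq_of_degree_eq_some (n := 0) h; omega)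
      simp [IsRoot] at ht
      have hxW : x ∈ W := Submodule.subset_span hx
      refine ⟨⟨s • x, W.smul_mem _ hxW, ?_⟩, t • x, W.smul_mem _ hxW, ?_⟩
      · rw [LinearMap.map_smulₛₗ, iterateFrobenius_def, hs, show φ x = x from hx]
      · rw [LinearMap.map_smulₛₗ, iterateFrobenius_def, show φ x = x from hx, ← add_smul]
        congr 1
        linear_combination ht
    | zero => exact fun c => ⟨⟨0, W.zero_mem, by simp⟩, 0, W.zero_mem, by simp⟩
    | add x y _ _ ihx ihy =>
      intro c
      obtain ⟨⟨u, hu, hu'⟩, w, hw, hw'⟩ := ihx c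
      obtain ⟨⟨u2, hu2, hu2'⟩, w2, hw2, hw2'⟩ := ihy c
      exact ⟨⟨u + u2, add_mem hu hu2, by rw [map_add, hu', hu2', smul_add]⟩,
        w + w2, add_mem hw hw2, by rw [map_add, smul_add]; nth_rw 2 [← hw', ← hw2']; abel⟩
    | smul a x _ ih =>
      intro c
      simpa only [smul_smul] using ih (c * a)
  have : Nontrivial (V ⧸ W) := Submodule.Quotient.nontrivial_iff.2 hne
  obtain ⟨v, hv0, hv⟩ := exists_fixed p f hf (W.mapQ W φ hcomap) (by
    intro x y hxy
    obtain ⟨x, rfl⟩ := Submodule.Quotient.mk_surjective _ x
    obtain ⟨y, rfl⟩ := Submodule.Quotient.mk_surjective _ y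
    rw [Submodule.mapQ_apply, Submodule.mapQ_apply, Submodule.Quotient.eq, ← map_sub] at hxy
    obtain ⟨⟨u, hu, hu'⟩, -⟩ := key _ hxy 1
    rw [one_smul] at hu'
    rw [Submodule.Quotient.eq, ← hφ hu']
    exact hu)
  obtain ⟨v, rfl⟩ := Submodule.Quotient.mk_surjective _ v
  rw [Submodule.mapQ_apply, Submodule.Quotient.eq] at hv
  obtain ⟨-, u, hu, hu'⟩ := key _ hv 1
  rw [one_smul] at hu'
  apply hv0
  rw [Submodule.Quotient.mk_eq_zero]
  have hfix : φ (v + u) = v + u := by
    rw [map_add]
    nth_rw 2 [← hu']
    abel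
  have := W.sub_mem (Submodule.subset_span hfix : v + u ∈ W) hu
  simpa using this

/-- Lang's theorem for `GL_n`. -/
theorem exists_mul_frob_inv (hf : 1 ≤ f) {n : ℕ} (g : GL (Fin n) K) :
    ∃ x : GL (Fin n) K, g = x * (Matrix.GeneralLinearGroup.map (iterateFrobenius K p f) x)⁻¹ := by
  classical
  let φ : (Fin n → K) →ₛₗ[iterateFrobenius K p f] (Fin n → K) :=
    { toFun := fun v => (g : Matrix (Fin n) (Fin n) K).mulVec fun i => iterateFrobenius K p f (v i)
      map_add' := fun v w => by
        rw [← Matrix.mulVec_add]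
        congr 1
        funext i
        exact map_add _ _ _
      map_smul' := fun a v => by
        rw [← Matrix.mulVec_smul]
        congr 1
        funext i
        exact map_mul _ _ _ }
  have hφ : Function.Injective φ := by
    intro v w h
    funext i
    exact (iterateFrobenius K p f).injective
      (congrFun (Matrix.mulVec_injective_iff_isUnit.2 (Units.isUnit g) h) i)
  have hspan := span_fixed_eq_top p f hf φ hφ
  let b := Module.Basis.ofSpan hspan.ge
  have hfin : Fintype ((linearIndepOn_empty K id).extend (Set.empty_subset {v : Fin n → K | φ v = v})) :=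
    FiniteDimensional.fintypeBasisIndex b
  let b' : Module.Basis (Fin n) K (Fin n → K) :=
    b.reindex (Fintype.equivFinOfCardEq (by rw [← Module.finrank_eq_card_basis b]; simp))
  have hmem : ∀ j, φ (b' j) = b' j := by
    intro j
    simp only [b', b, Module.Basis.reindex_apply]
    exact Module.Basis.ofSpan_subset hspan.ge ⟨_, rfl⟩
  set X : Matrix (Fin n) (Fin n) K := (Pi.basisFun K (Fin n)).toMatrix b' with hX
  have hu : IsUnit X.det := by
    have := (Pi.basisFun K (Fin n)).isUnit_det b'
    rwa [Module.Basis.det_apply] at this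
  refine ⟨Matrix.GeneralLinearGroup.mkOfDetNeZero X hu.ne_zero, ?_⟩
  rw [eq_mul_inv_iff_mul_eq]
  apply Units.ext
  ext i j
  have := congrFun (hmem j) i
  simp only [φ, LinearMap.coe_mk, AddHom.coe_mk] at this
  simpa [Matrix.mul_apply, Matrix.mulVec, dotProduct, hX, Module.Basis.toMatrix_apply] using this

end CfsgLib.Classical.LangGL
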