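import Cfsg.Agent.Lib.Classical.QuadBridge
import Cfsg.Agent.Lib.Classical.QuadBinary
import Cfsg.Prelude.Def_SporadicB

/-!
Over the field with two elements the orthogonal transvections of a non-degenerate quadratic space
of dimension at least five form a generating class of 3-transpositions.
-/

set_option autoImplicit false

namespace CfsgLib.Classical.OrthTT

open Matrix Cfsg

theorem two_cases : ∀ a : ZMod 2, a = 0 ∨ a = 1 := by decide

/-- The class property transfers along an isomorphism. -/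
theorem isClass_preimage {G H : Type*} [Group G] [Group H] (e : G ≃* H) {D : Set H}
    (hD : IsThreeTranspositionClass D) : IsThreeTranspositionClass (e ⁻¹' D) := by
  obtain ⟨⟨h1, h2⟩, ⟨d, hd, hconj⟩, hgen⟩ := hD
  refine ⟨⟨fun x hx => ?_, fun x hx y hy => ?_⟩, ⟨e.symm d, ?_, ?_⟩, ?_⟩
  · rw [← MulEquiv.orderOf_eq e, h1 _ hx]
  · rcases h2 _ hx _ hy with h | h
    · exact Or.inl (e.injective (by rw [map_pow, map_mul, h, map_one]))
    · exact Or.inr (e.injective (by rw [map_pow, map_mul, h, map_one]))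
  · show e (e.symm d) ∈ D
    rwa [e.apply_symm_apply]
  · refine Set.ext fun x => ?_
    show e x ∈ D ↔ IsConj (e.symm d) x
    rw [hconj]
    show IsConj d (e x) ↔ _
    constructor
    · intro h
      simpa using e.symm.toMonoidHom.map_isConj h
    · intro h
      simpa using e.toMonoidHom.map_isConj h
  · refine Subgroup.map_injective (f := e.toMonoidHom) e.injective ?_
    rw [MonoidHom.map_closure, Subgroup.map_top_of_surjective _ e.surjective, ← hgen]
    congr 1
    exact Set.image_preimage_eq D e.surjective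

variable {ι : Type} [Fintype ι] [DecidableEq ι] (Q : QuadraticForm (ZMod 2) (ι → ZMod 2))

local notation "V" => ι → ZMod 2

theorem qRefl_eq {v : V} (hv : Q v ≠ 0) (x : V) :
    (qRefl Q hv).1 x = x + QuadraticMap.polar Q x v • v := by
  rw [qRefl_apply, (two_cases _).resolve_left hv, inv_one, one_mul, sub_eq_add_neg, ← neg_smul,
    ZMod.neg_eq_self_mod_two]

variable (hQ : PolarNondeg Q)
include hQ

theorem exists_polar_one {v : V} (hv : v ≠ 0) : ∃ x, QuadraticMap.polar Q x v = 1 := by
  by_contra! hne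
  refine hv (hQ v fun w => ?_)
  rw [QuadraticMap.polar_comm]
  exact (two_cases _).resolve_right (hne w)

theorem qRefl_ne_one {v : V} (hv : Q v ≠ 0) : qRefl Q hv ≠ 1 := by
  have hv0 : v ≠ 0 := fun e => hv (by rw [e]; exact map_zero Q)
  obtain ⟨x, hx⟩ := exists_polar_one Q hQ hv0
  intro h
  have h' := qRefl_eq Q hv x
  rw [h, hx, one_smul] at h'
  exact hv0 (add_eq_left.1 h'.symm)

omit hQ in
theorem qRefl_congr {v w : V} (hv : Q v ≠ 0) (hw : Q w ≠ 0) (h : v = w) :
    qRefl Q hv = qRefl Q hw := by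
  subst h; rfl

omit hQ in
theorem two_or_three {v w : V} (hv : Q v ≠ 0) (hw : Q w ≠ 0) :
    (qRefl Q hv * qRefl Q hw) ^ 2 = 1 ∨ (qRefl Q hv * qRefl Q hw) ^ 3 = 1 := by
  have hconj : ∀ {v w : V} (hv : Q v ≠ 0) (hw : Q w ≠ 0),
      qRefl Q hv * qRefl Q hw * qRefl Q hv =
        qRefl Q (show Q ((qRefl Q hv).1 w) ≠ 0 by rwa [qAut_map]) := by
    intro v w hv hw
    have := qRefl_conj Q (qRefl Q hv) hw (by rwa [qAut_map])
    rwa [qRefl_inv] at this
  rcases two_cases (QuadraticMap.polar Q w v) with h | h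
  · left
    rw [pow_two, show qRefl Q hv * qRefl Q hw * (qRefl Q hv * qRefl Q hw) =
      (qRefl Q hv * qRefl Q hw * qRefl Q hv) * qRefl Q hw by simp only [mul_assoc], hconj hv hw,
      qRefl_congr Q _ hw (qRefl_fix Q hv h), qRefl_mul_self]
  · right
    have h' : QuadraticMap.polar Q v w = 1 := by rw [QuadraticMap.polar_comm, h]
    have e1 : (qRefl Q hv).1 w = w + v := by rw [qRefl_eq, h, one_smul]
    have e2 : (qRefl Q hw).1 v = v + w := by rw [qRefl_eq, h', one_smul]
    rw [pow_succ, pow_two, show qRefl Q hv * qRefl Q hw * (qRefl Q hv * qRefl Q hw) *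
      (qRefl Q hv * qRefl Q hw) = (qRefl Q hv * qRefl Q hw * qRefl Q hv) *
        (qRefl Q hw * qRefl Q hv * qRefl Q hw) by simp only [mul_assoc], hconj hv hw, hconj hw hv,
      qRefl_congr Q _ (show Q ((qRefl Q hw).1 v) ≠ 0 by rwa [qAut_map])
        (e1.trans ((add_comm w v).trans e2.symm)), qRefl_mul_self]

/-- Two distinct nonzero vectors have independent polar functionals. -/
theorem exists_dual_pair {v w : V} (hv : v ≠ 0) (hw : w ≠ 0) (hvw : v ≠ w) :
    ∃ x₁ x₂ : V, (QuadraticMap.polar Q x₁ v = 1 ∧ QuadraticMap.polar Q x₁ w = 0) ∧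
      (QuadraticMap.polar Q x₂ v = 0 ∧ QuadraticMap.polar Q x₂ w = 1) := by
  obtain ⟨p, hp⟩ := exists_polar_one Q hQ hv
  obtain ⟨q, hq⟩ := exists_polar_one Q hQ hw
  obtain ⟨r, hr⟩ := exists_polar_one Q hQ (v := v + w) fun e => hvw (by
    rw [eq_neg_of_add_eq_zero_left e]
    funext i
    exact ZMod.neg_eq_self_mod_two (w i))
  rw [QuadraticMap.polar_add_right] at hr
  rcases two_cases (QuadraticMap.polar Q r v) with h | h
  · have hrw : QuadraticMap.polar Q r w = 1 := by rwa [h, zero_add] at hr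
    rcases two_cases (QuadraticMap.polar Q p w) with hpw | hpw
    · exact ⟨p, r, ⟨hp, hpw⟩, h, hrw⟩
    · refine ⟨p + r, r, ⟨?_, ?_⟩, h, hrw⟩
      · rw [QuadraticMap.polar_add_left, hp, h]; rfl
      · rw [QuadraticMap.polar_add_left, hpw, hrw]; rfl
  · have hrw : QuadraticMap.polar Q r w = 0 := by
      rw [h] at hr
      exact add_eq_left.1 hr
    rcases two_cases (QuadraticMap.polar Q q v) with hqv | hqv
    · exact ⟨r, q, ⟨h, hrw⟩, hqv, hq⟩
    · refine ⟨r, q + r, ⟨h, hrw⟩, ?_, ?_⟩
      · rw [QuadraticMap.polar_add_left, hqv, h]; rfl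
      · rw [QuadraticMap.polar_add_left, hq, hrw]; rfl

/-- A nonsingular vector polar to two given ones. -/
theorem exists_common {v w : V} (h5 : 5 ≤ Fintype.card ι) (hv : v ≠ 0) (hw : w ≠ 0) (hvw : v ≠ w) :
    ∃ u : V, Q u ≠ 0 ∧ QuadraticMap.polar Q u v = 1 ∧ QuadraticMap.polar Q u w = 1 := by
  obtain ⟨x₁, x₂, ⟨h1v, h1w⟩, h2v, h2w⟩ := exists_dual_pair Q hQ hv hw hvw
  set x := x₁ + x₂ with hx
  have hxv : QuadraticMap.polar Q x v = 1 := by rw [hx, QuadraticMap.polar_add_left, h1v, h2v, add_zero]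
  have hxw : QuadraticMap.polar Q x w = 1 := by rw [hx, QuadraticMap.polar_add_left, h1w, h2w, zero_add]
  by_contra! hne
  have hzero : ∀ u, QuadraticMap.polar Q u v = 1 → QuadraticMap.polar Q u w = 1 → Q u = 0 :=
    fun u h1 h2 => by
      by_contra h
      exact hne u h h1 h2
  -- on the common perpendicular the form is linear, hence totally polar-singular
  have hperp : ∀ y y' : V, QuadraticMap.polar Q y v = 0 → QuadraticMap.polar Q y w = 0 →
      QuadraticMap.polar Q y' v = 0 → QuadraticMap.polar Q y' w = 0 → QuadraticMap.polar Q y y' = 0 := by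
    intro y y' hyv hyw hyv' hyw'
    have hq : ∀ z, QuadraticMap.polar Q z v = 0 → QuadraticMap.polar Q z w = 0 →
        Q z + QuadraticMap.polar Q x z = 0 := fun z hzv hzw => by
      have h0 := hzero (x + z) (by rw [QuadraticMap.polar_add_left, hxv, hzv, add_zero])
        (by rw [QuadraticMap.polar_add_left, hxw, hzw, add_zero])
      rw [quad_add, hzero x hxv hxw, zero_add] at h0
      exact h0
    have e := hq (y + y') (by rw [QuadraticMap.polar_add_left, hyv, hyv', add_zero])
      (by rw [QuadraticMap.polar_add_left, hyw, hyw', add_zero])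
    rw [quad_add, QuadraticMap.polar_add_right] at e
    linear_combination e - hq y hyv hyw - hq y' hyv' hyw'
  -- hence the space has at most sixteen vectors
  let proj : V → V := fun z =>
    z - QuadraticMap.polar Q z v • x₁ - QuadraticMap.polar Q z w • x₂
  let F : V → (ZMod 2 × ZMod 2) × (ZMod 2 × ZMod 2) := fun z =>
    ((QuadraticMap.polar Q z v, QuadraticMap.polar Q z w),
      (QuadraticMap.polar Q (proj z) x₁, QuadraticMap.polar Q (proj z) x₂))
  have hproj : ∀ z, QuadraticMap.polar Q (proj z) v = 0 ∧ QuadraticMap.polar Q (proj z) w = 0 := fun z => by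
    constructor <;>
      simp only [proj, QuadraticMap.polar_sub_left, QuadraticMap.polar_smul_left, smul_eq_mul, h1v, h1w,
        h2v, h2w] <;> ring
  have hF : Function.Injective F := by
    intro a b hab
    simp only [F, Prod.mk.injEq] at hab
    obtain ⟨⟨e1, e2⟩, e3, e4⟩ := hab
    set d := proj a - proj b with hd
    have hdv : QuadraticMap.polar Q d v = 0 := by
      rw [hd, QuadraticMap.polar_sub_left, (hproj a).1, (hproj b).1, sub_zero]
    have hdw : QuadraticMap.polar Q d w = 0 := by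
      rw [hd, QuadraticMap.polar_sub_left, (hproj a).2, (hproj b).2, sub_zero]
    have hd1 : QuadraticMap.polar Q d x₁ = 0 := by rw [hd, QuadraticMap.polar_sub_left, e3, sub_self]
    have hd2 : QuadraticMap.polar Q d x₂ = 0 := by rw [hd, QuadraticMap.polar_sub_left, e4, sub_self]
    have hd0 : d = 0 := hQ d fun z => by
      have hz : z = proj z + QuadraticMap.polar Q z v • x₁ + QuadraticMap.polar Q z w • x₂ := by
        simp only [proj]; abel
      rw [hz, QuadraticMap.polar_add_right, QuadraticMap.polar_add_right, QuadraticMap.polar_smul_right,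
        QuadraticMap.polar_smul_right, hd1, hd2, hperp d (proj z) hdv hdw (hproj z).1 (hproj z).2]
      simp
    have := sub_eq_zero.1 (hd.symm.trans hd0)
    simp only [proj, e1, e2] at this
    exact sub_left_injective (sub_left_injective this)
  have hc := Fintype.card_le_of_injective F hF
  simp only [Fintype.card_fun, Fintype.card_prod, ZMod.card] at hc
  have : 2 ^ 5 ≤ 2 ^ Fintype.card ι := Nat.pow_le_pow_right (by norm_num) h5
  omega

/-- All reflections are conjugate. -/
theorem isConj_refl (h5 : 5 ≤ Fintype.card ι) {v w : V} (hv : Q v ≠ 0) (hw : Q w ≠ 0) :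
    IsConj (qRefl Q hv) (qRefl Q hw) := by
  have step : ∀ {v w : V} (hv : Q v ≠ 0) (hw : Q w ≠ 0), QuadraticMap.polar Q v w = 1 →
      IsConj (qRefl Q hv) (qRefl Q hw) := by
    intro v w hv hw h
    have hd : Q (v - w) ≠ 0 := by
      rw [quad_sub, (two_cases _).resolve_left hv, (two_cases _).resolve_left hw, h]
      decide
    refine isConj_iff.2 ⟨qRefl Q hd, ?_⟩
    have e := qRefl_exchange Q ((two_cases _).resolve_left hv |>.trans ((two_cases _).resolve_left hw).symm) hd
    rw [qRefl_conj Q (qRefl Q hd) hv (by rwa [qAut_map])]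
    exact qRefl_congr Q _ hw e
  by_cases hvw : v = w
  · subst hvw; exact IsConj.refl _
  have ne0 : ∀ {v : V}, Q v ≠ 0 → v ≠ 0 := fun {v} hv e => hv (by rw [e]; exact map_zero Q)
  obtain ⟨u, hu, huv, huw⟩ := exists_common Q hQ h5 (ne0 hv) (ne0 hw) hvw
  exact (step hv hu (by rw [QuadraticMap.polar_comm, huv])).trans (step hu hw huw)

theorem refl_isClass (h5 : 5 ≤ Fintype.card ι) :
    IsThreeTranspositionClass {g : qAut Q | ∃ (v : V) (hv : Q v ≠ 0), g = qRefl Q hv} := by
  have hgen := reflGroup_eq_top Q hQ (Or.inr (by rw [Module.finrank_pi]; omega))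
  obtain ⟨v₀, hv₀⟩ : ∃ v : V, Q v ≠ 0 := by
    by_contra! hall
    obtain ⟨i⟩ : Nonempty ι := Fintype.card_pos_iff.1 (by omega)
    have : (Pi.single i 1 : V) = 0 := hQ _ fun w => by simp [QuadraticMap.polar, hall]
    exact one_ne_zero (α := ZMod 2) (by simpa using congrFun this i)
  refine ⟨⟨?_, ?_⟩, ⟨_, ⟨v₀, hv₀, rfl⟩, ?_⟩, hgen⟩
  · rintro _ ⟨v, hv, rfl⟩
    exact orderOf_eq_prime (by rw [pow_two, qRefl_mul_self]) (qRefl_ne_one Q hQ hv)
  · rintro _ ⟨v, hv, rfl⟩ _ ⟨w, hw, rfl⟩
    exact two_or_three Q hv hw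
  · refine Set.ext fun g => ⟨?_, fun hg => ?_⟩
    · rintro ⟨v, hv, rfl⟩
      exact isConj_refl Q hQ h5 hv₀ hv
    · obtain ⟨c, hc⟩ := isConj_iff.1 (show IsConj (qRefl Q hv₀) g from hg)
      exact ⟨_, show Q (c.1 v₀) ≠ 0 by rwa [qAut_map], hc.symm.trans (qRefl_conj Q c hv₀ _)⟩

theorem rank_one_iff (g : isometryGroup (ZMod 2) ⇑Q) :
    (((g : GL ι (ZMod 2)) : Matrix ι ι (ZMod 2)) - 1).rank = 1 ↔
      ∃ (v : V) (hv : Q v ≠ 0), isoEquiv Q g = qRefl Q hv := by
  set M : Matrix ι ι (ZMod 2) := ((g : GL ι (ZMod 2)) : Matrix ι ι (ZMod 2)) - 1 with hM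
  have hMx : ∀ x, M *ᵥ x = (isoEquiv Q g).1 x - x := fun x => by
    rw [hM, sub_mulVec, one_mulVec]
    rfl
  constructor
  · intro h
    rw [Matrix.rank] at h
    obtain ⟨⟨u, hu⟩, hu0, hspan⟩ := finrank_eq_one_iff'.1 h
    have hu0' : u ≠ 0 := fun h' => hu0 (Subtype.ext h')
    have hf : ∀ x, ∃ c : ZMod 2, (isoEquiv Q g).1 x = x + c • u := fun x => by
      obtain ⟨c, hc⟩ := hspan ⟨M *ᵥ x, x, rfl⟩
      exact ⟨c, by rw [show c • u = M *ᵥ x from congrArg Subtype.val hc, hMx, add_sub_cancel]⟩
    choose f hf using hf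
    have huniq : ∀ {a b : ZMod 2}, a • u = b • u → a = b := fun {a b} h => by
      rcases two_cases a with rfl | rfl <;> rcases two_cases b with rfl | rfl <;> simp_all
    have hadd : ∀ x y, f (x + y) = f x + f y := fun x y => by
      apply huniq
      have := hf (x + y)
      rw [map_add, hf x, hf y] at this
      rw [add_smul]
      exact add_left_cancel (this.symm.trans (by abel))
    have hrel : ∀ x, f x = 1 → QuadraticMap.polar Q x u = Q u := fun x hx => by
      have h' := qAut_map (isoEquiv Q g) x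
      rw [hf, hx, one_smul, quad_add, add_assoc, add_eq_left] at h'
      rw [eq_neg_of_add_eq_zero_left h', ZMod.neg_eq_self_mod_two]
    obtain ⟨a, ha⟩ : ∃ a, f a = 1 := by
      by_contra! hall
      obtain ⟨z, hz⟩ := hu
      refine hu0' (hz.symm.trans ?_)
      show M *ᵥ z = 0
      rw [hMx, hf, (two_cases _).resolve_right (hall z), zero_smul, add_zero, sub_self]
    obtain ⟨b, hb⟩ := exists_polar_one Q hQ hu0'
    have hQu : Q u = 1 := by
      refine (two_cases _).resolve_left fun h0 => ?_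
      have hab : QuadraticMap.polar Q a u = 0 := (hrel a ha).trans h0
      have hfb : f b = 0 := (two_cases _).resolve_right fun h1 => by
        rw [hrel b h1, h0] at hb; exact zero_ne_one hb
      have := hrel (a + b) (by rw [hadd, ha, hfb, add_zero])
      rw [QuadraticMap.polar_add_left, hab, hb, h0, zero_add] at this
      exact one_ne_zero this
    have hu1 : Q u ≠ 0 := by rw [hQu]; exact one_ne_zero
    refine ⟨u, hu1, qAut_ext fun x => ?_⟩
    rw [hf, qRefl_eq Q hu1]
    congr 2
    rcases two_cases (f x) with h | h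
    · rw [h]
      refine ((two_cases _).resolve_right fun h1 => ?_).symm
      have := hrel (a + x) (by rw [hadd, ha, h, add_zero])
      rw [QuadraticMap.polar_add_left, hrel a ha, h1, hQu] at this
      exact absurd this (by decide)
    · rw [h, hrel x h, hQu]
  · rintro ⟨v, hv, he⟩
    have hv0 : v ≠ 0 := fun e => hv (by rw [e]; exact map_zero Q)
    have hM' : M = vecMulVec v (polarVec Q v) := Matrix.ext_of_mulVec_single fun i => by
      rw [hMx, he, qRefl_eq Q hv, add_sub_cancel_left, vecMulVec_mulVec, op_smul_eq_smul,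
        polarVec_dotProduct, QuadraticMap.polar_comm]
    refine le_antisymm (hM' ▸ Matrix.rank_vecMulVec_le _ _) ?_
    rw [Nat.one_le_iff_ne_zero]
    intro h0
    rw [Matrix.rank, Submodule.finrank_eq_zero, LinearMap.range_eq_bot] at h0
    obtain ⟨y, hy⟩ := exists_polar_one Q hQ hv0
    have : M *ᵥ y = 0 := LinearMap.congr_fun h0 y
    rw [hMx, he, qRefl_eq Q hv, hy, one_smul, add_sub_cancel_left] at this
    exact hv0 this

theorem isometry_isClass (h5 : 5 ≤ Fintype.card ι) :
    IsThreeTranspositionClass {g : isometryGroup (ZMod 2) ⇑Q |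
      (((g : GL ι (ZMod 2)) : Matrix ι ι (ZMod 2)) - 1).rank = 1} := by
  have := isClass_preimage (isoEquiv Q) (refl_isClass Q hQ h5)
  rwa [show {g : isometryGroup (ZMod 2) ⇑Q | (((g : GL ι (ZMod 2)) : Matrix ι ι (ZMod 2)) - 1).rank = 1} =
    (isoEquiv Q) ⁻¹' {g | ∃ (v : V) (hv : Q v ≠ 0), g = qRefl Q hv} from
      Set.ext fun g => rank_one_iff Q hQ g]

end CfsgLib.Classical.OrthTT
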