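/-
Elliptic involutions of `PGL(2,q)` and their centralisers, `q ≡ 3 (mod 4)`.
-/
import Cfsg.Agent.Lib.Classical.GLOrder

set_option autoImplicit false

namespace CfsgLib.Classical.PGL2Elliptic

open Matrix

variable {F : Type*} [Field F]

/-- Anticommutation of traceless `2 × 2` matrices. -/
theorem anticomm_of_traceless (A B : Matrix (Fin 2) (Fin 2) F) (hA : A 1 1 = -A 0 0) (hB : B 1 1 = -B 0 0)
    (h : 2 * (A 0 0 * B 0 0) + A 0 1 * B 1 0 + A 1 0 * B 0 1 = 0) : A * B = -(B * A) := by
  ext i j
  fin_cases i <;> fin_cases j <;>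
    simp [Matrix.mul_apply, Fin.sum_univ_two, hA, hB] <;>
    first | linear_combination h | linear_combination (0 : F) * h | ring

/-- There is an invertible traceless matrix anticommuting with two given elliptic traceless ones. -/
theorem exists_common_anticomm (h2 : (2 : F) ≠ 0) (hneg : ∀ a : F, a * a ≠ -1)
    (C D : Matrix (Fin 2) (Fin 2) F) (hC : C 1 1 = -C 0 0) (hD : D 1 1 = -D 0 0)
    (hCd : C.det = 1) :
    ∃ J : Matrix (Fin 2) (Fin 2) F, J 1 1 = -J 0 0 ∧ J.det ≠ 0 ∧ C * J = -(J * C) ∧ D * J = -(J * D) := by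
  let L : (Fin 3 → F) →ₗ[F] (Fin 2 → F) :=
    { toFun := fun v => ![2 * (C 0 0 * v 0) + C 0 1 * v 2 + C 1 0 * v 1,
        2 * (D 0 0 * v 0) + D 0 1 * v 2 + D 1 0 * v 1]
      map_add' := fun v w => by ext i; fin_cases i <;> simp <;> ring
      map_smul' := fun a v => by ext i; fin_cases i <;> simp <;> ring }
  obtain ⟨v, hv, hv0⟩ : ∃ v, L v = 0 ∧ v ≠ 0 := by
    by_contra hcon
    push Not at hcon
    have hinj : Function.Injective L := by
      rw [← LinearMap.ker_eq_bot, LinearMap.ker_eq_bot']
      exact hcon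
    have := LinearMap.finrank_le_finrank_of_injective hinj
    simp at this
  have e1 := congrFun hv 0
  have e2 := congrFun hv 1
  simp [L] at e1 e2
  refine ⟨!![v 0, v 1; v 2, -v 0], by simp, ?_, ?_, ?_⟩
  · intro hdet
    have hdet' : v 0 * v 0 + v 1 * v 2 = 0 := by
      rw [Matrix.det_fin_two_of] at hdet
      linear_combination -hdet
    have hCd' : -(C 0 0 * C 0 0) - C 0 1 * C 1 0 = 1 := by
      rw [Matrix.det_fin_two, hC] at hCd
      linear_combination hCd
    by_cases h1 : v 1 = 0
    · have h0 : v 0 = 0 := by simpa [h1] using hdet'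
      by_cases h22 : v 2 = 0
      · apply hv0
        funext i
        fin_cases i <;> simp [h0, h1, h22]
      · have hc : C 0 1 = 0 := by
          have : C 0 1 * v 2 = 0 := by simpa [h0, h1] using e1
          exact (mul_eq_zero.1 this).resolve_right h22
        exact hneg (C 0 0) (by rw [hc] at hCd'; linear_combination -hCd')
    · -- the matrix is nilpotent: scale to `v 2 = -(v 0)² / v 1`
      have hv2 : v 2 = -(v 0 * v 0) / v 1 := by
        field_simp
        linear_combination hdet'
      set t := v 0 / v 1 with ht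
      have hv0t : v 0 = t * v 1 := by rw [ht]; field_simp
      have hv2t : v 2 = -(t * t * v 1) := by rw [hv2, hv0t]; field_simp
      have hline : 2 * C 0 0 * t - C 0 1 * (t * t) + C 1 0 = 0 := by
        have : (2 * C 0 0 * t - C 0 1 * (t * t) + C 1 0) * v 1 = 0 := by
          rw [hv0t, hv2t] at e1
          linear_combination e1
        exact (mul_eq_zero.1 this).resolve_right h1
      exact hneg (C 0 0 - C 0 1 * t) (by linear_combination -hCd' - C 0 1 * hline)
  · exact anticomm_of_traceless C _ hC (by simp) (by simp; linear_combination e1)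
  · exact anticomm_of_traceless D _ hD (by simp) (by simp; linear_combination e2)

/-- The standard elliptic matrix. -/
noncomputable def rot : GL (Fin 2) F :=
  GeneralLinearGroup.mk'' !![0, -1; 1, 0] (by simp [Matrix.det_fin_two_of])

theorem rot_conj_traceless (h : GL (Fin 2) F) :
    ((h * rot * h⁻¹ : GL (Fin 2) F) : Matrix (Fin 2) (Fin 2) F) 1 1 =
      -((h * rot * h⁻¹ : GL (Fin 2) F) : Matrix (Fin 2) (Fin 2) F) 0 0 := by
  have htr := Matrix.trace_units_conj h (rot : GL (Fin 2) F).1
  have h0 : (rot : GL (Fin 2) F).1.trace = 0 := by simp [rot, Matrix.trace_fin_two]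
  rw [h0] at htr
  simp only [Units.val_mul]
  rw [Matrix.trace_fin_two] at htr
  linear_combination htr

theorem rot_conj_det (h : GL (Fin 2) F) :
    ((h * rot * h⁻¹ : GL (Fin 2) F) : Matrix (Fin 2) (Fin 2) F).det = 1 := by
  rw [← Matrix.GeneralLinearGroup.val_det_apply, map_mul, map_mul, map_inv, mul_comm, inv_mul_cancel_left]
  simp [rot]

/-- The matrices of the centraliser of the elliptic involution. -/
noncomputable def normForm (p : {v : F × F // v.1 * v.1 + v.2 * v.2 ≠ 0} × Bool) : GL (Fin 2) F :=
  bif p.2 then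
    GeneralLinearGroup.mkOfDetNeZero !![p.1.1.1, -p.1.1.2; p.1.1.2, p.1.1.1]
      (by rw [Matrix.det_fin_two_of]; intro h; exact p.1.2 (by linear_combination h))
  else
    GeneralLinearGroup.mkOfDetNeZero !![p.1.1.1, p.1.1.2; p.1.1.2, -p.1.1.1]
      (by rw [Matrix.det_fin_two_of]; intro h; exact p.1.2 (by linear_combination -h))

theorem normForm_injective (h2 : (2 : F) ≠ 0) : Function.Injective (normForm (F := F)) := by
  rintro ⟨⟨⟨a, b⟩, hab⟩, s⟩ ⟨⟨⟨a', b'⟩, hab'⟩, s'⟩ h
  have h00 := congrArg (fun g : GL (Fin 2) F => g.1 0 0) h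
  have h01 := congrArg (fun g : GL (Fin 2) F => g.1 0 1) h
  have h10 := congrArg (fun g : GL (Fin 2) F => g.1 1 0) h
  have h11 := congrArg (fun g : GL (Fin 2) F => g.1 1 1) h
  cases s <;> cases s' <;> simp [normForm] at h00 h01 h10 h11 <;> subst h00 h10
  · rfl
  · exfalso
    have hb : b = 0 := (mul_eq_zero.1 (show (2 : F) * b = 0 by linear_combination h01)).resolve_left h2
    have ha : a = 0 := (mul_eq_zero.1 (show (2 : F) * a = 0 by linear_combination -h11)).resolve_left h2
    exact hab (by simp [ha, hb])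
  · exfalso
    have hb : b = 0 := (mul_eq_zero.1 (show (2 : F) * b = 0 by linear_combination -h01)).resolve_left h2
    have ha : a = 0 := (mul_eq_zero.1 (show (2 : F) * a = 0 by linear_combination h11)).resolve_left h2
    exact hab (by simp [ha, hb])
  · rfl

/-- The centraliser of the elliptic involution has order `2 (q + 1)`. -/
theorem card_centralizer_rot [Fintype F] (h2 : (2 : F) ≠ 0) (hneg : ∀ a : F, a * a ≠ -1) {q : ℕ}
    (hF : Fintype.card F = q) :
    Nat.card (Subgroup.centralizer
      ({QuotientGroup.mk (rot : GL (Fin 2) F)} : Set (GL (Fin 2) F ⧸ Subgroup.center (GL (Fin 2) F)))) =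
      2 * (q + 1) := by
  classical
  set π := QuotientGroup.mk' (Subgroup.center (GL (Fin 2) F))
  set C := Subgroup.centralizer
      ({QuotientGroup.mk (rot : GL (Fin 2) F)} : Set (GL (Fin 2) F ⧸ Subgroup.center (GL (Fin 2) F)))
  have hrange : ((C.comap π : Subgroup (GL (Fin 2) F)) : Set (GL (Fin 2) F)) = Set.range (normForm (F := F)) := by
    ext M
    simp only [SetLike.mem_coe, Subgroup.mem_comap, C, Subgroup.mem_centralizer_singleton_iff, π,
      QuotientGroup.mk'_apply, ← QuotientGroup.mk_mul, QuotientGroup.eq, Set.mem_range]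
    constructor
    · intro h
      rw [GeneralLinearGroup.center_eq_range_scalar] at h
      obtain ⟨u, hu⟩ := h
      have hM : (M * rot : GL (Fin 2) F) * GeneralLinearGroup.scalar (Fin 2) u = rot * M := by
        rw [hu, mul_inv_cancel_left]
      have hm : M.1 * (rot : GL (Fin 2) F).1 * Matrix.scalar (Fin 2) (u : F) = (rot : GL (Fin 2) F).1 * M.1 :=
        congrArg Units.val hM
      have hu2 : (u : F) * u = 1 := by
        have hd := congrArg Matrix.det hm
        have hr : (rot : GL (Fin 2) F).1.det = 1 := by simp [rot, Matrix.det_fin_two_of]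
        rw [Matrix.det_mul, Matrix.det_mul, Matrix.det_mul, hr] at hd
        simp at hd
        have hMd : M.1.det ≠ 0 := M.det_ne_zero
        rw [← pow_two]
        exact (mul_right_eq_self₀.1 hd).resolve_right hMd
      have e00 := congrFun (congrFun hm 0) 0
      have e01 := congrFun (congrFun hm 0) 1
      have e10 := congrFun (congrFun hm 1) 0
      have e11 := congrFun (congrFun hm 1) 1
      simp [rot, Matrix.mul_apply, Fin.sum_univ_two] at e00 e01 e10 e11
      have hu' : (u : F) = 1 ∨ (u : F) = -1 := mul_self_eq_one_iff.1 hu2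
      have hne : ∀ a b : F, a * a + b * b = 0 → a = 0 ∧ b = 0 := by
        intro a b hab
        by_contra hc
        by_cases hb : b = 0
        · exact hc ⟨by simpa [hb] using hab, hb⟩
        · exact hneg (a / b) (by field_simp; linear_combination hab)
      have hne' : M.1 0 0 * M.1 0 0 + M.1 1 0 * M.1 1 0 ≠ 0 := by
        intro h0
        obtain ⟨ha, hb⟩ := hne _ _ h0
        exact M.det_ne_zero (by rw [Matrix.det_fin_two, ha, hb]; ring)
      rcases hu' with hu1 | hu1 <;> rw [hu1] at e00 e01 e10 e11 <;> simp at e00 e01 e10 e11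
      · refine ⟨(⟨(M.1 0 0, M.1 1 0), hne'⟩, true), Units.ext ?_⟩
        ext i j
        fin_cases i <;> fin_cases j <;> simp [normForm]
        · first | linear_combination e00 | linear_combination -e00
        · first | linear_combination e01 | linear_combination -e01 | linear_combination e10 | linear_combination -e10
      · refine ⟨(⟨(M.1 0 0, M.1 1 0), hne'⟩, false), Units.ext ?_⟩
        ext i j
        fin_cases i <;> fin_cases j <;> simp [normForm]
        · first | linear_combination e00 | linear_combination -e00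
        · first | linear_combination e01 | linear_combination -e01 | linear_combination e10 | linear_combination -e10
    · rintro ⟨⟨⟨⟨a, b⟩, hab⟩, s⟩, rfl⟩
      rw [GeneralLinearGroup.center_eq_range_scalar]
      refine ⟨bif s then 1 else -1, ?_⟩
      rw [eq_inv_mul_iff_mul_eq]
      apply Units.ext
      cases s <;> ext i j <;> fin_cases i <;> fin_cases j <;>
        simp [normForm, rot, Matrix.mul_apply, Fin.sum_univ_two]
  have hcomap : Nat.card (C.comap π) = 2 * (q * q - 1) := by
    have e : Nat.card (C.comap π) = Nat.card (Set.range (normForm (F := F))) :=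
      Nat.card_congr (Equiv.setCongr hrange)
    rw [e, Nat.card_range_of_injective (normForm_injective h2), Nat.card_prod,
      Nat.card_eq_fintype_card (α := Bool), Fintype.card_bool]
    have hset : ({v : F × F | v.1 * v.1 + v.2 * v.2 ≠ 0}) = ({0} : Set (F × F))ᶜ := by
      ext ⟨a, b⟩
      simp only [Set.mem_setOf_eq, Set.mem_compl_iff, Set.mem_singleton_iff, Prod.mk_eq_zero]
      refine ⟨fun h ⟨ha, hb⟩ => h (by simp [ha, hb]), fun h h0 => ?_⟩
      by_cases hb : b = 0
      · exact h ⟨by simpa [hb] using h0, hb⟩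
      · exact hneg (a / b) (by field_simp; linear_combination h0)
    have : Nat.card {v : F × F // v.1 * v.1 + v.2 * v.2 ≠ 0} = q * q - 1 := by
      rw [show Nat.card {v : F × F // v.1 * v.1 + v.2 * v.2 ≠ 0} = ({v : F × F | v.1 * v.1 + v.2 * v.2 ≠ 0}).ncard
        from rfl, hset, Set.ncard_compl, Set.ncard_singleton, Nat.card_prod, Nat.card_eq_fintype_card, hF]
    rw [this]
    ring
  have hker : Nat.card (C.comap π) = Nat.card C * (q - 1) := by
    rw [← CfsgLib.Classical.card_units_eq hF, ← CfsgLib.Classical.card_center_GL (ι := Fin 2)]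
    have hle : Subgroup.center (GL (Fin 2) F) ≤ C.comap π := by
      intro z hz
      rw [Subgroup.mem_comap, QuotientGroup.mk'_apply, (QuotientGroup.eq_one_iff z).2 hz]
      exact one_mem _
    rw [← Subgroup.card_mul_index ((Subgroup.center (GL (Fin 2) F)).subgroupOf (C.comap π)),
      Nat.card_congr (Subgroup.subgroupOfEquivOfLe hle).toEquiv, mul_comm (Nat.card C)]
    congr 1
    have := Subgroup.relIndex_comap (H := (⊥ : Subgroup (GL (Fin 2) F ⧸ Subgroup.center (GL (Fin 2) F)))) π (C.comap π)
    rw [show (⊥ : Subgroup (GL (Fin 2) F ⧸ Subgroup.center (GL (Fin 2) F))).comap π = Subgroup.center (GL (Fin 2) F)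
      from QuotientGroup.ker_mk' _, Subgroup.map_comap_eq_self_of_surjective (QuotientGroup.mk'_surjective _),
      Subgroup.relIndex_bot_left] at this
    exact this
  have hq2 : 2 ≤ q := hF ▸ Fintype.one_lt_card
  have key : Nat.card C * (q - 1) = 2 * (q + 1) * (q - 1) := by
    rw [← hker, hcomap]
    have : (q + 1) * (q - 1) = q * q - 1 := by rw [← Nat.sq_sub_sq q 1, pow_two]
    rw [mul_assoc, this]
  exact Nat.eq_of_mul_eq_mul_right (by omega) key

/-- Two elliptic involutions are centralised by a common non-trivial element. -/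
theorem exists_common_centralizing (h2 : (2 : F) ≠ 0) (hneg : ∀ a : F, a * a ≠ -1) (h h' : GL (Fin 2) F) :
    ∃ j : GL (Fin 2) F ⧸ Subgroup.center (GL (Fin 2) F), j ≠ 1 ∧
      j * QuotientGroup.mk (h * rot * h⁻¹) = QuotientGroup.mk (h * rot * h⁻¹) * j ∧
      j * QuotientGroup.mk (h' * rot * h'⁻¹) = QuotientGroup.mk (h' * rot * h'⁻¹) * j := by
  obtain ⟨J, hJt, hJd, hCJ, hDJ⟩ := exists_common_anticomm h2 hneg _ _ (rot_conj_traceless h)
    (rot_conj_traceless h') (rot_conj_det h)
  let j : GL (Fin 2) F := GeneralLinearGroup.mkOfDetNeZero J hJd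
  have hc : ∀ X : GL (Fin 2) F, X.1 * J = -(J * X.1) →
      (QuotientGroup.mk j : GL (Fin 2) F ⧸ Subgroup.center (GL (Fin 2) F)) * QuotientGroup.mk X =
        QuotientGroup.mk X * QuotientGroup.mk j := by
    intro X hX
    rw [← QuotientGroup.mk_mul, ← QuotientGroup.mk_mul, QuotientGroup.eq,
      GeneralLinearGroup.center_eq_range_scalar]
    refine ⟨-1, ?_⟩
    rw [eq_inv_mul_iff_mul_eq]
    apply Units.ext
    show (j.1 * X.1) * Matrix.scalar (Fin 2) ((-1 : Fˣ) : F) = X.1 * j.1
    rw [Matrix.scalar_apply, ← Matrix.smul_one_eq_diagonal]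
    simp [j, hX]
  refine ⟨QuotientGroup.mk j, ?_, hc _ hCJ, hc _ hDJ⟩
  intro h1
  rw [QuotientGroup.eq_one_iff, GeneralLinearGroup.center_eq_range_scalar] at h1
  obtain ⟨u, hu⟩ := h1
  have h00 := congrArg (fun g : GL (Fin 2) F => g.1 0 0) hu
  have h11 := congrArg (fun g : GL (Fin 2) F => g.1 1 1) hu
  simp [j] at h00 h11
  rw [← h00, ← h11] at hJt
  have : (2 : F) * (u : F) = 0 := by linear_combination hJt
  exact u.ne_zero ((mul_eq_zero.1 this).resolve_left h2)

end CfsgLib.Classical.PGL2Elliptic
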