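/-
Classes of elements of odd prime order `r ∣ q + 1` in the projective unitary group.
-/
import Cfsg.Agent.Lib.Classical.GUClassCount
import Cfsg.Agent.Lib.Classical.PGLPrimeClasses
import Cfsg.Agent.Lib.Classical.HermOrder

set_option autoImplicit false

namespace CfsgLib.Classical.PGUPrime

open Polynomial Matrix CfsgLib.Classical CfsgLib.Classical.Primary

variable {K : Type*} [Field K] [Fintype K] {q n : ℕ} (hK : Fintype.card K = q ^ 2)
include hK

theorem center_gu_iff (hn : 2 ≤ n) (z : Cfsg.GU n K q) :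
    z ∈ Subgroup.center ↥(Cfsg.GU n K q) ↔ (z : GL (Fin n) K) ∈ Subgroup.center (GL (Fin n) K) := by
  constructor
  · intro hz
    have hM := eq_scalar_of_commute hK hn ((z : GL (Fin n) K) : Matrix (Fin n) (Fin n) K) fun s => by
      have hs := Subgroup.mem_center_iff.1 hz ⟨Matrix.SpecialLinearGroup.toGL s.1, s.2⟩
      exact congrArg (fun y : Cfsg.GU n K q => ((y : GL (Fin n) K) : Matrix (Fin n) (Fin n) K)) hs
    refine Subgroup.mem_center_iff.2 fun y => Units.ext ?_
    rw [Units.val_mul, Units.val_mul, hM]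
    exact (Matrix.scalar_commute _ (Commute.all _) _).symm
  · exact fun hz => Subgroup.mem_center_iff.2 fun y => Subtype.ext (Subgroup.mem_center_iff.1 hz y)

theorem card_classes {r : ℕ} (hn : 2 ≤ n) (hr : r.Prime) (hr2 : r ≠ 2) (hrq : r ∣ q + 1) :
    Nat.card {C : ConjClasses (↥(Cfsg.GU n K q) ⧸ Subgroup.center ↥(Cfsg.GU n K q)) //
        ∃ g : ↥(Cfsg.GU n K q) ⧸ Subgroup.center ↥(Cfsg.GU n K q), ConjClasses.mk g = C ∧ orderOf g = r} =
      (Nat.choose (n + r - 1) (r - 1) - r - (if r ∣ n then 1 else 0)) / r + r * (if r ∣ n then 1 else 0) := by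
  classical
  haveI := Fact.mk hr
  have hq2 := two_le_q hK
  have hsq : q ^ 2 - 1 = (q - 1) * (q + 1) := by
    rw [mul_comm, ← Nat.sq_sub_sq, one_pow]
  rw [← PGLPrime.card_classes (F := K) hn hr (by rw [hK, hsq]; exact hrq.mul_left _)]
  have hcop : Nat.Coprime r (q - 1) := (hr.coprime_iff_not_dvd).2 fun h => hr2 ((Nat.prime_dvd_prime_iff_eq hr Nat.prime_two).1 (by
    have h2 := Nat.dvd_sub hrq h
    rwa [show q + 1 - (q - 1) = 2 by omega] at h2))
  -- units
  have hμ1 : ∀ c : Kˣ, (c ^ r) ^ (q + 1) = 1 → c ^ (q + 1) = 1 := fun c hc => by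
    refine orderOf_eq_one_iff.1 (Nat.eq_one_of_dvd_coprimes hcop
      (orderOf_dvd_of_pow_eq_one (by rw [← pow_mul, mul_comm, pow_mul, hc])) (orderOf_dvd_of_pow_eq_one ?_))
    rw [← pow_mul, mul_comm (q + 1), ← hsq, ← hK, ← Fintype.card_units, pow_card_eq_one]
  have hscGU : ∀ c : Kˣ, GeneralLinearGroup.scalar (Fin n) c ∈ Cfsg.GU n K q ↔ c ^ (q + 1) = 1 := fun c => by
    rw [GUConj.mem_gu_iff_starQ hK]
    show GUConj.starQ q (algebraMap K _ (c : K)) * algebraMap K (Matrix (Fin n) (Fin n) K) (c : K) = 1 ↔ _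
    haveI : Nonempty (Fin n) := ⟨⟨0, by omega⟩⟩
    rw [GUConj.starQ_scal hK, ← map_mul, ← pow_succ, map_eq_one_iff _ (FaithfulSMul.algebraMap_injective K _),
      ← Units.val_pow_eq_pow_val, Units.val_eq_one]
  let ι : ↥(Cfsg.GU n K q) ⧸ Subgroup.center ↥(Cfsg.GU n K q) →* GL (Fin n) K ⧸ Subgroup.center (GL (Fin n) K) :=
    QuotientGroup.map _ _ (Cfsg.GU n K q).subtype fun z hz => (center_gu_iff hK hn z).1 hz
  have hι : Function.Injective ι := by
    rw [injective_iff_map_eq_one]
    intro x hx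
    obtain ⟨g, rfl⟩ := QuotientGroup.mk'_surjective _ x
    exact (QuotientGroup.eq_one_iff g).2 ((center_gu_iff hK hn g).2 ((QuotientGroup.eq_one_iff _).1 hx))
  let f : {C : ConjClasses (↥(Cfsg.GU n K q) ⧸ Subgroup.center ↥(Cfsg.GU n K q)) //
        ∃ g : ↥(Cfsg.GU n K q) ⧸ Subgroup.center ↥(Cfsg.GU n K q), ConjClasses.mk g = C ∧ orderOf g = r} →
      {C : ConjClasses (GL (Fin n) K ⧸ Subgroup.center (GL (Fin n) K)) //
        ∃ g : GL (Fin n) K ⧸ Subgroup.center (GL (Fin n) K), ConjClasses.mk g = C ∧ orderOf g = r} :=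
    fun C => ⟨ConjClasses.map ι C.1, by
      obtain ⟨g, hg, hgr⟩ := C.2
      exact ⟨ι g, by rw [← hg]; rfl, by rw [orderOf_injective ι hι, hgr]⟩⟩
  have hpjr : ∀ g : GL (Fin n) K, orderOf (QuotientGroup.mk' (Subgroup.center (GL (Fin n) K)) g) = r →
      ∃ l : Kˣ, g ^ r = GeneralLinearGroup.scalar (Fin n) l := fun g hg => by
    have h1 := pow_orderOf_eq_one (QuotientGroup.mk' (Subgroup.center (GL (Fin n) K)) g)
    rw [hg, ← map_pow, PGLPrime.pj_eq_one_iff] at h1
    exact h1
  have hcen : ∀ c g, Commute (GeneralLinearGroup.scalar (Fin n) c : GL (Fin n) K) g := fun c g => by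
    have : GeneralLinearGroup.scalar (Fin n) c ∈ Subgroup.center (GL (Fin n) K) := by
      rw [GeneralLinearGroup.center_eq_range_scalar]; exact ⟨c, rfl⟩
    exact (Subgroup.mem_center_iff.1 this g).symm
  refine Nat.card_eq_of_bijective f ⟨?_, ?_⟩
  · intro x y hxy
    obtain ⟨gx, hgx, hox⟩ := x.2
    obtain ⟨gy, hgy, -⟩ := y.2
    obtain ⟨g, rfl⟩ := QuotientGroup.mk'_surjective _ gx
    obtain ⟨h, rfl⟩ := QuotientGroup.mk'_surjective _ gy
    have hv := congrArg Subtype.val hxy
    simp only [f, ← hgx, ← hgy] at hv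
    have hv' : IsConj (QuotientGroup.mk' (Subgroup.center (GL (Fin n) K)) (g : GL (Fin n) K))
        (QuotientGroup.mk' (Subgroup.center (GL (Fin n) K)) (h : GL (Fin n) K)) := ConjClasses.mk_eq_mk_iff_isConj.1 hv
    obtain ⟨c, hc⟩ := (PGLPrime.isConj_pj_iff _ _).1 hv'
    have hox' : orderOf (QuotientGroup.mk' (Subgroup.center (GL (Fin n) K)) (g : GL (Fin n) K)) = r := by
      rw [← hox, ← orderOf_injective ι hι]; rfl
    obtain ⟨l, hl⟩ := hpjr _ hox'
    have hlμ : l ^ (q + 1) = 1 := (hscGU l).1 (hl ▸ (Cfsg.GU n K q).pow_mem g.2 r)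
    obtain ⟨w, hw⟩ := isConj_iff.1 hc
    have hcl : GeneralLinearGroup.scalar (Fin n) (c ^ r * l) ∈ Cfsg.GU n K q := by
      have h1 : (h : GL (Fin n) K) ^ r = GeneralLinearGroup.scalar (Fin n) (c ^ r * l) := by
        rw [← hw, conj_pow, (hcen c _).mul_pow, hl, ← map_pow, ← map_mul]
        rw [← (hcen (c ^ r * l) w).eq, mul_inv_cancel_right]
      exact h1 ▸ (Cfsg.GU n K q).pow_mem h.2 r
    have hcμ : c ^ (q + 1) = 1 := hμ1 c (by
      have := (hscGU _).1 hcl
      rwa [mul_pow, hlμ, mul_one] at this)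
    let cc : Cfsg.GU n K q := ⟨_, (hscGU c).2 hcμ⟩
    have hcc : cc ∈ Subgroup.center ↥(Cfsg.GU n K q) := (center_gu_iff hK hn cc).2 (by
      rw [GeneralLinearGroup.center_eq_range_scalar]; exact ⟨c, rfl⟩)
    refine Subtype.ext ?_
    rw [← hgx, ← hgy, ConjClasses.mk_eq_mk_iff_isConj]
    have hgh : IsConj (cc * g) h := (GUConj.isConj_iff_gl hK _ _).2 hc
    have := MonoidHom.map_isConj (QuotientGroup.mk' (Subgroup.center ↥(Cfsg.GU n K q))) hgh
    rwa [map_mul, show QuotientGroup.mk' (Subgroup.center ↥(Cfsg.GU n K q)) cc = 1 from (QuotientGroup.eq_one_iff cc).2 hcc, one_mul] at this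
  · rintro ⟨C, x, rfl, hx⟩
    obtain ⟨g, rfl⟩ := QuotientGroup.mk'_surjective _ x
    obtain ⟨l, hl⟩ := hpjr g hx
    obtain ⟨a, b, hab⟩ : ∃ a b : ℤ, a * (q - 1 : ℕ) + b * r = 1 := by
      refine ⟨Nat.gcdB r (q - 1), Nat.gcdA r (q - 1), ?_⟩
      have h := Nat.gcd_eq_gcd_ab r (q - 1)
      rw [hcop] at h
      linear_combination -h
    -- normalise the scalar
    obtain ⟨g', hg'⟩ : ∃ g', g' = GeneralLinearGroup.scalar (Fin n) (l ^ b)⁻¹ * g := ⟨_, rfl⟩
    obtain ⟨l', hl'⟩ : ∃ l', l' = (l ^ (q - 1)) ^ a := ⟨_, rfl⟩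
    have hgl' : g' ^ r = GeneralLinearGroup.scalar (Fin n) l' := by
      rw [hg', (hcen _ g).mul_pow, hl, ← map_pow, ← map_mul]
      congr 1
      rw [hl', inv_pow, ← zpow_natCast, ← _root_.zpow_mul, ← _root_.zpow_natCast l (q - 1), ← _root_.zpow_mul,
        inv_mul_eq_iff_eq_mul, ← _root_.zpow_add, show b * (r : ℤ) + ((q - 1 : ℕ) : ℤ) * a = 1 by linear_combination hab, zpow_one]
    have hl'μ : l' ^ (q + 1) = 1 := by
      rw [hl', ← zpow_natCast, ← _root_.zpow_mul, mul_comm, _root_.zpow_mul, zpow_natCast, ← pow_mul, ← hsq, ← hK,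
        ← Fintype.card_units, pow_card_eq_one, _root_.one_zpow]
    have hpjg : QuotientGroup.mk' (Subgroup.center (GL (Fin n) K)) g = QuotientGroup.mk' (Subgroup.center (GL (Fin n) K)) g' :=
      (PGLPrime.pj_eq_iff _ _).2 ⟨_, hg'⟩
    suffices hd : ∀ (g0 : GL (Fin n) K), QuotientGroup.mk' (Subgroup.center (GL (Fin n) K)) g = QuotientGroup.mk' (Subgroup.center (GL (Fin n) K)) g0 →
        GUClasses.SelfDual q g0 → ∃ y, f y = ⟨ConjClasses.mk (QuotientGroup.mk' (Subgroup.center (GL (Fin n) K)) g), _, rfl, hx⟩ by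
      -- self-duality after normalisation
      by_cases hroot : ∃ c0 : Kˣ, c0 ^ r = l'
      · obtain ⟨c0, hc0⟩ := hroot
        have hc0μ : c0 ^ (q + 1) = 1 := hμ1 c0 (by rw [hc0, hl'μ])
        obtain ⟨g0, hg0⟩ : ∃ g0, g0 = GeneralLinearGroup.scalar (Fin n) c0⁻¹ * g' := ⟨_, rfl⟩
        have hg0r : g0 ^ r = 1 := by
          rw [hg0, (hcen _ g').mul_pow, hgl', ← map_pow, ← map_mul, inv_pow, hc0, inv_mul_cancel, map_one]
        refine hd g0 (hpjg.trans ((PGLPrime.pj_eq_iff _ _).2 ⟨_, hg0⟩)) ?_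
        obtain ⟨A, hA⟩ : ∃ A, A = (g0 : Matrix (Fin n) (Fin n) K) := ⟨_, rfl⟩
        have hAr : A * A ^ (r - 1) = 1 := by
          rw [← pow_succ', Nat.sub_add_cancel hr.one_le, hA, ← Units.val_pow_eq_pow_val, hg0r, Units.val_one]
        have hsA : GUConj.starQ q A * GUConj.starQ q (A ^ (r - 1)) = 1 := by
          rw [← GUConj.starQ_mul hK, mul_eq_one_comm.1 hAr, GUConj.starQ_one hK]
        let Y : GL (Fin n) K := ⟨GUConj.starQ q (A ^ (r - 1)), GUConj.starQ q A, mul_eq_one_comm.1 hsA, hsA⟩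
        have hYr : Y ^ r = 1 := Units.ext (by
          rw [Units.val_pow_eq_pow_val, Units.val_one]
          show GUConj.starQ q (A ^ (r - 1)) ^ r = 1
          have hp : ∀ k, GUConj.starQ q (A ^ (r - 1)) ^ k = GUConj.starQ q ((A ^ (r - 1)) ^ k) := by
            intro k
            induction k with
            | zero => rw [pow_zero, pow_zero, GUConj.starQ_one hK]
            | succ k ih => rw [pow_succ', ih, pow_succ, GUConj.starQ_mul hK]
          rw [hp, ← pow_mul, mul_comm, pow_mul, hA, ← Units.val_pow_eq_pow_val, hg0r, Units.val_one, one_pow, GUConj.starQ_one hK])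
        let Rt : Subgroup Kˣ := (powMonoidHom r : Kˣ →* Kˣ).ker
        have hRt : Fintype.card Rt = r := by
          rw [← Nat.card_eq_fintype_card]
          show Nat.card (powMonoidHom r : Kˣ →* Kˣ).ker = r
          rw [IsCyclic.card_powMonoidHom_ker, Nat.card_units, Nat.card_eq_fintype_card, hK, hsq, Nat.gcd_eq_right (hrq.mul_left _)]
        let P : Rt → K[X] := fun z => X - Polynomial.C ((z : Kˣ) : K)
        haveI hPirr : ∀ z, Fact (Irreducible (P z)) := fun z => ⟨irreducible_X_sub_C _⟩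
        have hPco : Pairwise (Function.onFun IsCoprime P) := fun z w hzw =>
          isCoprime_X_sub_C_of_isUnit_sub (IsUnit.mk0 _ (sub_ne_zero.2 fun h => hzw (Subtype.ext (Units.ext h))))
        have hPprod : ∏ z, P z = X ^ r - 1 := by
          refine (eq_of_monic_of_dvd_of_natDegree_le (monic_prod_of_monic _ _ fun z _ => monic_X_sub_C _)
            (by simpa using monic_X_pow_sub_C (1 : K) hr.ne_zero)
            (Fintype.prod_dvd_of_coprime hPco fun z => ?_) ?_).symm
          · rw [dvd_iff_isRoot, IsRoot, eval_sub, eval_pow, eval_X, eval_one, ← Units.val_pow_eq_pow_val,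
              show (z : Kˣ) ^ r = 1 from z.2, Units.val_one, sub_self]
          · rw [natDegree_prod_of_monic _ _ fun z _ => monic_X_sub_C _, Finset.sum_congr rfl fun z _ => natDegree_X_sub_C _,
              Finset.sum_const, Finset.card_univ, hRt, smul_eq_mul, mul_one, ← map_one (Polynomial.C (R := K)), natDegree_X_pow_sub_C]
        have hann : ∀ h : GL (Fin n) K, h ^ r = 1 → aeval (PGLPrime.glEnd h) (∏ z, P z) = 0 := fun h hh => by
          rw [hPprod, map_sub, map_pow, aeval_X, map_one, ← PGLPrime.glEnd_pow, hh, PGLPrime.glEnd_one, sub_self]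
        have hsim : IsConj g0 Y := by
          refine (PGLPrime.isConj_iff_intertwine g0 Y).2 (similar_of_finrank P hPco _ _ (hann _ hg0r) (hann _ hYr) fun z => ?_)
          obtain ⟨ω, hω⟩ : ∃ ω, ω = ((z : Kˣ) : K) := ⟨_, rfl⟩
          have hωr : ω ^ r = 1 := by rw [hω, ← Units.val_pow_eq_pow_val, show (z : Kˣ) ^ r = 1 from z.2, Units.val_one]
          have hωq : ω ^ (r - 1) = ω ^ q := by
            obtain ⟨t, ht⟩ := hrq
            have h1 : ω ^ (q + 1) = 1 := by rw [ht, pow_mul, hωr, one_pow]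
            have hω0 : ω ≠ 0 := hω ▸ Units.ne_zero _
            apply mul_right_cancel₀ hω0
            rw [← pow_succ, Nat.sub_add_cancel hr.one_le, hωr, ← pow_succ, h1]
          have hker : ∀ M : Matrix (Fin n) (Fin n) K,
              Module.finrank K (LinearMap.ker (aeval (Matrix.toLinAlgEquiv' M) (P z))) = n - (M - algebraMap K _ ω).rank := by
            intro M
            have h := LinearMap.finrank_range_add_finrank_ker (Matrix.mulVecLin (M - algebraMap K _ ω))
            rw [Module.finrank_fin_fun] at h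
            rw [show aeval (Matrix.toLinAlgEquiv' M) (P z) = Matrix.mulVecLin (M - algebraMap K _ ω) by
              show aeval (Matrix.toLinAlgEquiv' M) (X - Polynomial.C ((z : Kˣ) : K)) = Matrix.toLinAlgEquiv' (M - algebraMap K _ ω)
              rw [map_sub, map_sub, aeval_X, aeval_C, AlgEquiv.commutes, hω]]
            rw [Matrix.rank]
            omega
          show Module.finrank K (LinearMap.ker (aeval (Matrix.toLinAlgEquiv' (g0 : Matrix (Fin n) (Fin n) K)) (P z))) =
            Module.finrank K (LinearMap.ker (aeval (Matrix.toLinAlgEquiv' (GUConj.starQ q (A ^ (r - 1)))) (P z)))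
          rw [hker, hker, ← hA]
          congr 1
          have e1 : GUConj.starQ q (A ^ (r - 1)) - algebraMap K _ ω = GUConj.starQ q (A ^ (r - 1) - algebraMap K _ (ω ^ q)) := by
            rw [sub_eq_iff_eq_add, show algebraMap K (Matrix (Fin n) (Fin n) K) ω = GUConj.starQ q (algebraMap K _ (ω ^ q)) by
              rw [GUConj.starQ_scal hK, pow_q_q hK], ← GUConj.starQ_add hK, sub_add_cancel]
          have e2 : A ^ (r - 1) - algebraMap K _ (ω ^ q) =
              algebraMap K _ (-(ω ^ q)) * A ^ (r - 1) * (A - algebraMap K _ ω) := by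
            rw [mul_sub, mul_assoc, mul_eq_one_comm.1 hAr, mul_one, map_neg, neg_mul, neg_mul, sub_neg_eq_add, mul_assoc,
              ← Algebra.commutes ω (A ^ (r - 1)), ← mul_assoc, ← map_mul, ← hωq, ← pow_succ, Nat.sub_add_cancel hr.one_le, hωr,
              map_one, one_mul]
            abel
          have hu : IsUnit (algebraMap K (Matrix (Fin n) (Fin n) K) (-(ω ^ q)) * A ^ (r - 1)) :=
            ((IsUnit.mk0 _ (neg_ne_zero.2 (pow_ne_zero _ (hω ▸ Units.ne_zero _)))).map _).mul ((hA ▸ g0.isUnit).pow _)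
          rw [e1, GUClasses.rank_starQ hK, e2,
            Matrix.rank_mul_eq_right_of_isUnit_det _ _ ((Matrix.isUnit_iff_isUnit_det _).1 hu)]
        show IsConj (g0 : Matrix (Fin n) (Fin n) K) _
        rw [← hA, Matrix.inv_eq_right_inv hsA]
        obtain ⟨w, hw⟩ := isConj_iff.1 hsim
        refine ⟨w, ?_⟩
        have h2 := congrArg Units.val (mul_inv_eq_iff_eq_mul.1 hw)
        rw [Units.val_mul, Units.val_mul, ← hA] at h2
        exact h2
      · refine hd g' hpjg ?_
        have hl0 : ∀ b0 : K, b0 ^ r ≠ (l' : K) := fun b0 hb0 => by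
          have hb00 : b0 ≠ 0 := fun h => l'.ne_zero (by rw [← hb0, h, zero_pow hr.ne_zero])
          exact hroot ⟨Units.mk0 b0 hb00, Units.ext (by simpa using hb0)⟩
        haveI : Fact (Irreducible (X ^ r - Polynomial.C (l' : K))) := ⟨X_pow_sub_C_irreducible_of_prime hr hl0⟩
        obtain ⟨A, hA⟩ : ∃ A, A = (g' : Matrix (Fin n) (Fin n) K) := ⟨_, rfl⟩
        obtain ⟨A', hA'⟩ : ∃ A', A * A' = 1 := ⟨_, hA ▸ g'.mul_inv⟩
        have hsA : GUConj.starQ q A * GUConj.starQ q A' = 1 := by
          rw [← GUConj.starQ_mul hK, mul_eq_one_comm.1 hA', GUConj.starQ_one hK]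
        let Y : GL (Fin n) K := ⟨GUConj.starQ q A', GUConj.starQ q A, mul_eq_one_comm.1 hsA, hsA⟩
        have hAl : A ^ r = algebraMap K _ (l' : K) := by
          rw [hA, ← Units.val_pow_eq_pow_val, hgl']; rfl
        have hYl : (GUConj.starQ q A') ^ r = algebraMap K _ (l' : K) := by
          have hp : ∀ (M : Matrix (Fin n) (Fin n) K) (k : ℕ), GUConj.starQ q M ^ k = GUConj.starQ q (M ^ k) := by
            intro M k
            induction k with
            | zero => rw [pow_zero, pow_zero, GUConj.starQ_one hK]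
            | succ k ih => rw [pow_succ', ih, pow_succ, GUConj.starQ_mul hK]
          have hA'r : A' ^ r = algebraMap K _ ((l' : K)⁻¹) := by
            have h1 : A' ^ r * A ^ r = 1 := by
              rw [← Commute.mul_pow (show Commute A' A from (mul_eq_one_comm.1 hA').trans hA'.symm), mul_eq_one_comm.1 hA', one_pow]
            rw [hAl] at h1
            calc A' ^ r = A' ^ r * (algebraMap K _ (l' : K) * algebraMap K _ ((l' : K)⁻¹)) := by
                  rw [← map_mul, mul_inv_cancel₀ l'.ne_zero, map_one, mul_one]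
              _ = algebraMap K _ ((l' : K)⁻¹) := by rw [← mul_assoc, h1, one_mul]
          rw [hp, hA'r, GUConj.starQ_scal hK]
          congr 1
          have h1 : (l' : K) ^ q * (l' : K) = 1 := by
            rw [← pow_succ, ← Units.val_pow_eq_pow_val, hl'μ, Units.val_one]
          rw [inv_pow]
          exact (eq_inv_of_mul_eq_one_right h1).symm
        have hannM : ∀ M : Matrix (Fin n) (Fin n) K, M ^ r = algebraMap K _ (l' : K) →
            aeval (Matrix.toLinAlgEquiv' M) (X ^ r - Polynomial.C (l' : K)) = 0 := fun M hM => by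
          rw [map_sub, map_pow, aeval_X, aeval_C, ← map_pow, hM, AlgEquiv.commutes, sub_self]
        have hsim : IsConj g' Y := (PGLPrime.isConj_iff_intertwine g' Y).2
          (exists_intertwine (X ^ r - Polynomial.C (l' : K)) _ (hannM _ (hA ▸ hAl)) _ (hannM _ hYl) rfl)
        show IsConj (g' : Matrix (Fin n) (Fin n) K) _
        rw [← hA, Matrix.inv_eq_right_inv hsA]
        obtain ⟨w, hw⟩ := isConj_iff.1 hsim
        refine ⟨w, ?_⟩
        have h2 := congrArg Units.val (mul_inv_eq_iff_eq_mul.1 hw)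
        rw [Units.val_mul, Units.val_mul, ← hA] at h2
        exact h2
    intro g0 hg0 hsd
    obtain ⟨B, hB⟩ := (GUClasses.selfDual_iff hK g0).1 hsd
    have hBg : IsConj (QuotientGroup.mk' (Subgroup.center (GL (Fin n) K)) g) (QuotientGroup.mk' (Subgroup.center (GL (Fin n) K)) (B : GL (Fin n) K)) :=
      hg0 ▸ MonoidHom.map_isConj _ hB
    have hord : orderOf (QuotientGroup.mk' (Subgroup.center ↥(Cfsg.GU n K q)) B) = r := by
      rw [← orderOf_injective ι hι]
      show orderOf (QuotientGroup.mk' (Subgroup.center (GL (Fin n) K)) (B : GL (Fin n) K)) = r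
      obtain ⟨w, hw⟩ := isConj_iff.1 hBg
      rw [← hw, ← hx]
      exact MulEquiv.orderOf_eq (MulAut.conj w) _
    exact ⟨⟨ConjClasses.mk _, _, rfl, hord⟩, Subtype.ext (ConjClasses.mk_eq_mk_iff_isConj.2 hBg.symm)⟩

end CfsgLib.Classical.PGUPrime
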