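import Cfsg.Agent.Lib.Spectrum.G2Three.PSL13
import Cfsg.Agent.Lib.SmallGroups.Basic
import Cfsg.Agent.Lib.Classical.Dickson.PSLList
import Cfsg.Agent.Lib.Classical.Dickson.MinimalSimple

/-!
In `PSL_2(13)` the normalizer of every subgroup that is not normal is maximal.
-/

set_option autoImplicit false

namespace CfsgLib.Classical.PSL13

open CfsgLib.SmallGroups

/-- The facts about `PSL_2(13)` that are used. -/
structure Data (G : Type*) [Group G] : Prop where
  card : Nat.card G = 1092
  nc : ¬ IsMulCommutative G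
  orders : ∀ x : G, orderOf x ∣ 6 ∨ orderOf x ∣ 7 ∨ orderOf x ∣ 13
  six : ∃ x : G, orderOf x = 6

variable {G : Type*} [Group G] [Finite G] [IsSimpleGroup G]

theorem Data.fac (h : Data G) : (Nat.card G).factorization 2 = 2 ∧ (Nat.card G).factorization 3 = 1 ∧
    (Nat.card G).factorization 7 = 1 ∧ (Nat.card G).factorization 13 = 1 := by
  have e : Nat.card G = 2 ^ 2 * (3 ^ 1 * (7 ^ 1 * 13 ^ 1)) := by rw [h.card]; rfl
  rw [e, Nat.factorization_mul (by norm_num) (by norm_num),
    Nat.factorization_mul (by norm_num) (by norm_num),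
    Nat.factorization_mul (by norm_num) (by norm_num),
    Nat.Prime.factorization_pow (by norm_num : Nat.Prime 2),
    Nat.Prime.factorization_pow (by norm_num : Nat.Prime 3),
    Nat.Prime.factorization_pow (by norm_num : Nat.Prime 7),
    Nat.Prime.factorization_pow (by norm_num : Nat.Prime 13)]
  simp

/-- The normalizer of a Sylow `13`-subgroup has order 78. -/
theorem Data.card_normalizer_thirteen (h : Data G) [Fact (Nat.Prime 13)] (P : Sylow 13 G) :
    Nat.card (Subgroup.normalizer ((P : Subgroup G) : Set G)) = 78 := by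
  have hP : Nat.card (P : Subgroup G) = 13 := by
    rw [Sylow.card_eq_multiplicity, h.fac.2.2.2, pow_one]
  set N := Subgroup.normalizer ((P : Subgroup G) : Set G) with hN
  have hmul := Subgroup.index_mul_card N
  obtain ⟨k, hk⟩ := hP ▸ Subgroup.card_dvd_of_le (Subgroup.le_normalizer : (P : Subgroup G) ≤ N)
  rw [← hN] at hk
  rw [h.card, hk, mul_left_comm] at hmul
  have hne : N.index ≠ 1 := fun e =>
    normalizer_sylow_ne_top h.nc (h.card ▸ by norm_num) P (Subgroup.index_eq_one.1 e)
  have hmod : N.index % 13 = 1 := by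
    have := card_sylow_modEq_one 13 G
    rwa [Sylow.card_eq_index_normalizer P] at this
  have h84 : N.index * k = 84 := by linarith
  have hle : N.index ≤ 84 := Nat.le_of_dvd (by norm_num) ⟨k, h84.symm⟩
  have : N.index = 14 ∨ N.index = 27 ∨ N.index = 40 ∨ N.index = 53 ∨ N.index = 66 ∨ N.index = 79 := by
    omega
  rw [hk]
  rcases this with e | e | e | e | e | e <;> rw [e] at h84 <;> omega

/-- Nothing outside a Sylow 13-subgroup centralizes it. -/
theorem Data.centralizer_thirteen (h : Data G) [Fact (Nat.Prime 13)] (P : Sylow 13 G) {c : G}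
    (hc : c ∈ Subgroup.centralizer ((P : Subgroup G) : Set G)) : c ∈ P := by
  have hP : Nat.card (P : Subgroup G) = 13 := by
    rw [Sylow.card_eq_multiplicity, h.fac.2.2.2, pow_one]
  obtain ⟨u, hu⟩ := exists_prime_orderOf_dvd_card' (G := (P : Subgroup G)) 13 (by rw [hP])
  have hcu : Commute c u.1 := (Subgroup.mem_centralizer_iff.1 hc u.1 u.2).symm
  have h13 : orderOf c ∣ 13 := by
    rcases h.orders c with h' | h' | h'
    case inr.inr => exact h'
    all_goals
      have hco : (orderOf c).Coprime (orderOf u.1) := by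
        rw [Subgroup.orderOf_coe, hu]
        exact Nat.Coprime.coprime_dvd_left h' (by norm_num)
      have h2 := hcu.orderOf_mul_eq_mul_orderOf_of_coprime hco
      rw [Subgroup.orderOf_coe, hu] at h2
      rcases h.orders (c * u.1) with h'' | h'' | h'' <;> rw [h2] at h''
      · exact absurd ((dvd_mul_left 13 _).trans h'') (by norm_num)
      · exact absurd ((dvd_mul_left 13 _).trans h'') (by norm_num)
      · exact (dvd_mul_right _ 13).trans h''
  have hpg : IsPGroup 13 (Subgroup.zpowers c) := by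
    obtain ⟨i, -, hi⟩ := (Nat.dvd_prime_pow (by norm_num : Nat.Prime 13) (m := 1)).1 (by simpa using h13)
    exact IsPGroup.of_card (n := i) (by rw [Nat.card_zpowers, hi])
  have hn : Subgroup.zpowers c ≤ Subgroup.normalizer ((P : Subgroup G) : Set G) :=
    Subgroup.zpowers_le.2 (Subgroup.centralizer_le_normalizer _ hc)
  have e := P.3 (IsPGroup.to_sup_of_normal_right' hpg P.2 hn) le_sup_right
  exact (SetLike.ext_iff.1 e c).1 (Subgroup.mem_sup_left (Subgroup.mem_zpowers c))

variable (h : Data G)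
  (hsub : ∀ M : Subgroup G, M ≠ ⊤ → Nat.card M ∣ 12 ∨ Nat.card M ∣ 14 ∨ Nat.card M ∣ 78)

include hsub in
theorem coatom_of_dvd {M : Subgroup G} (hM : M ≠ ⊤) {d : ℕ} (hd : d = 12 ∨ d = 14 ∨ d = 78)
    (hdM : d ∣ Nat.card M) : IsCoatom M := by
  refine ⟨hM, fun M' hlt => by_contra fun hM' => ?_⟩
  have key : ∀ m : ℕ, d ∣ m → (m ∣ 12 ∨ m ∣ 14 ∨ m ∣ 78) → m = d := by
    intro m hdm hm
    obtain ⟨k, rfl⟩ := hdm
    have hle : d * k ≤ 78 := by
      rcases hm with h' | h' | h' <;> have := Nat.le_of_dvd (by norm_num) h' <;> omega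
    rcases hd with rfl | rfl | rfl
    · have : k ≤ 6 := by omega
      interval_cases k <;> omega
    · have : k ≤ 5 := by omega
      interval_cases k <;> omega
    · have : k ≤ 1 := by omega
      interval_cases k <;> omega
  have e1 := key _ hdM (hsub M hM)
  have e2 := key _ (hdM.trans (Subgroup.card_dvd_of_le hlt.le)) (hsub M' hM')
  exact hlt.ne (Subgroup.eq_of_le_of_card_ge hlt.le (by rw [e1, e2]))

include h hsub in
/-- The order of the normalizer of a Sylow subgroup. -/
theorem not_card_normalizer_sylow_eq {p : ℕ} [Fact p.Prime] (hp : p ∣ Nat.card G) (P : Sylow p G)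
    (hab : IsMulCommutative (P : Subgroup G)) :
    Nat.card (Subgroup.normalizer ((P : Subgroup G) : Set G)) ≠ Nat.card (P : Subgroup G) ∧
      (Nat.card (Subgroup.normalizer ((P : Subgroup G) : Set G)) ∣ 12 ∨
        Nat.card (Subgroup.normalizer ((P : Subgroup G) : Set G)) ∣ 14 ∨
        Nat.card (Subgroup.normalizer ((P : Subgroup G) : Set G)) ∣ 78) := by
  refine ⟨fun e => not_normalizer_le_centralizer h.nc hp P ?_, hsub _ (normalizer_sylow_ne_top h.nc hp P)⟩
  have eq := Subgroup.eq_of_le_of_card_ge (Subgroup.le_normalizer (H := (P : Subgroup G))) e.le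
  rw [← eq]
  intro g hg
  rw [Subgroup.mem_centralizer_iff]
  exact fun y hy => congrArg Subtype.val (hab.is_comm.comm (⟨y, hy⟩ : (P : Subgroup G)) ⟨g, hg⟩)

include h hsub in
theorem normalizer_three (T : Subgroup G) (hT : Nat.card T = 3) :
    Nat.card (Subgroup.normalizer (T : Set G)) = 12 := by
  haveI : Fact (Nat.Prime 3) := ⟨Nat.prime_three⟩
  obtain ⟨x, hx⟩ := h.six
  let P : Sylow 3 G := Sylow.ofCard T (by rw [hT, h.fac.2.1, pow_one])
  have hcyc : IsCyclic T := isCyclic_of_prime_card hT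
  obtain ⟨hne, hdiv⟩ := not_card_normalizer_sylow_eq h hsub (h.card ▸ by norm_num) P hcyc.isMulCommutative
  change Nat.card (Subgroup.normalizer (T : Set G)) ≠ Nat.card T at hne
  change Nat.card (Subgroup.normalizer (T : Set G)) ∣ 12 ∨ Nat.card (Subgroup.normalizer (T : Set G)) ∣ 14 ∨
    Nat.card (Subgroup.normalizer (T : Set G)) ∣ 78 at hdiv
  -- a conjugate of an element of order six centralizes `T`
  have hx2 : orderOf (x ^ 2) = 3 := by rw [orderOf_pow, hx]; rfl
  obtain ⟨R, hR⟩ := (IsPGroup.of_card (p := 3) (n := 1) (G := Subgroup.zpowers (x ^ 2))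
    (by rw [Nat.card_zpowers, hx2, pow_one])).exists_le_sylow
  obtain ⟨g, hg⟩ := MulAction.exists_smul_eq G R P
  have hgT : g * x ^ 2 * g⁻¹ ∈ T := by
    have : g * x ^ 2 * g⁻¹ ∈ ((g • R : Sylow 3 G) : Subgroup G) := by
      rw [Sylow.coe_subgroup_smul]
      refine Subgroup.mem_pointwise_smul_iff_inv_smul_mem.2 ?_
      rw [← map_inv, MulAut.smul_def, MulAut.conj_apply, inv_inv,
        show g⁻¹ * (g * x ^ 2 * g⁻¹) * g = x ^ 2 by group]
      exact hR (Subgroup.mem_zpowers _)
    rw [hg] at this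
    exact this
  have hzT : Subgroup.zpowers (g * x ^ 2 * g⁻¹) = T := by
    refine Subgroup.eq_of_le_of_card_ge (Subgroup.zpowers_le.2 hgT) ?_
    rw [hT, Nat.card_zpowers, ← MulAut.conj_apply, MulEquiv.orderOf_eq, hx2]
  have hyC : g * x * g⁻¹ ∈ Subgroup.centralizer (T : Set G) := by
    rw [← hzT, Subgroup.mem_centralizer_iff]
    intro y hy
    obtain ⟨k, rfl⟩ := Subgroup.mem_zpowers_iff.1 hy
    rw [← conj_pow]
    exact (((Commute.refl _).pow_left 2).zpow_left k).eq
  have h6 : 6 ∣ Nat.card (Subgroup.normalizer (T : Set G)) := by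
    refine dvd_trans (dvd_of_eq ?_) (Subgroup.orderOf_dvd_natCard _ (Subgroup.centralizer_le_normalizer _ hyC))
    rw [← MulAut.conj_apply, MulEquiv.orderOf_eq, hx]
  have hne6 : Nat.card (Subgroup.normalizer (T : Set G)) ≠ 6 := by
    intro e
    refine not_normalizer_le_centralizer h.nc (h.card ▸ by norm_num) P ?_
    change Subgroup.normalizer (T : Set G) ≤ Subgroup.centralizer (T : Set G)
    have eq := Subgroup.eq_of_le_of_card_ge
      (Subgroup.zpowers_le.2 (Subgroup.centralizer_le_normalizer _ hyC))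
      (by rw [e, Nat.card_zpowers, ← MulAut.conj_apply, MulEquiv.orderOf_eq, hx])
    rw [← eq]
    exact Subgroup.zpowers_le.2 hyC
  have hne78 : Nat.card (Subgroup.normalizer (T : Set G)) ≠ 78 := by
    intro e
    haveI : Fact (Nat.Prime 13) := ⟨by norm_num⟩
    obtain ⟨u, hu⟩ := exists_prime_orderOf_dvd_card' (G := Subgroup.normalizer (T : Set G)) 13
      (by rw [e]; norm_num)
    obtain ⟨t, ht⟩ := exists_prime_orderOf_dvd_card' (G := T) 3 (by rw [hT])
    have hu' : orderOf u.1 = 13 := by rw [Subgroup.orderOf_coe, hu]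
    have hmem : u.1 * t.1 * u.1⁻¹ ∈ T := (Subgroup.mem_normalizer_iff.1 u.2 _).1 t.2
    obtain ⟨Q, hQ⟩ := (IsPGroup.of_card (p := 13) (n := 1) (G := Subgroup.zpowers u.1)
      (by rw [Nat.card_zpowers, hu', pow_one])).exists_le_sylow
    -- the automorphism group of `T` has order 2
    have hTt : Subgroup.zpowers t = ⊤ := Subgroup.eq_top_of_card_eq _ (by rw [Nat.card_zpowers, ht, hT])
    have htw : u.1 * t.1 * u.1⁻¹ = t.1 ∨ u.1 * t.1 * u.1⁻¹ = t.1⁻¹ := by
      obtain ⟨k, hk⟩ := Subgroup.mem_zpowers_iff.1 (hTt ▸ Subgroup.mem_top (⟨_, hmem⟩ : T))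
      have hk' : u.1 * t.1 * u.1⁻¹ = t.1 ^ k := by
        rw [← SubgroupClass.coe_zpow, hk]
      have h3 : t.1 ^ (3 : ℤ) = 1 := by
        rw [show (3 : ℤ) = ((3 : ℕ) : ℤ) from rfl, zpow_natCast, ← ht, ← Subgroup.orderOf_coe, pow_orderOf_eq_one]
      have hk3 : t.1 ^ k = t.1 ^ (k % 3) := by
        conv_lhs => rw [← Int.ediv_mul_add_emod k 3, zpow_add, mul_comm, zpow_mul, h3, one_zpow, one_mul]
      have ht1 : u.1 * t.1 * u.1⁻¹ ≠ 1 := fun e1 => by
        rw [conj_eq_one_iff] at e1
        rw [← Subgroup.orderOf_coe, e1, orderOf_one] at ht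
        omega
      rcases (show k % 3 = 0 ∨ k % 3 = 1 ∨ k % 3 = 2 by omega) with e0 | e0 | e0 <;>
        rw [hk3, e0] at hk'
      · exact absurd (hk'.trans (zpow_zero _)) ht1
      · exact Or.inl (hk'.trans (zpow_one _))
      · refine Or.inr (hk'.trans ?_)
        rw [show (2 : ℤ) = 3 + -1 from rfl, zpow_add, h3, one_mul, zpow_neg_one]
    have hcomm : Commute u.1 t.1 := by
      rcases htw with e1 | e1
      · exact mul_inv_eq_iff_eq_mul.1 e1
      · -- `u ^ 13` inverts `t`, but it is trivial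
        exfalso
        have hf : ∀ n : ℕ, u.1 ^ n * t.1 * (u.1 ^ n)⁻¹ = if Even n then t.1 else t.1⁻¹ := by
          intro n
          induction n with
          | zero => simp
          | succ n ih =>
            rw [pow_succ', mul_inv_rev,
              show u.1 * u.1 ^ n * t.1 * ((u.1 ^ n)⁻¹ * u.1⁻¹) = u.1 * (u.1 ^ n * t.1 * (u.1 ^ n)⁻¹) * u.1⁻¹ by group,
              ih]
            by_cases he : Even n
            · rw [if_pos he, if_neg (by simpa [Nat.even_add_one] using he), e1]
            · rw [if_neg he, if_pos (by simpa [Nat.even_add_one] using he), ← conj_inv, e1, inv_inv]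
        have h13 := hf 13
        rw [show u.1 ^ 13 = 1 by rw [← hu', pow_orderOf_eq_one], if_neg (by decide)] at h13
        simp only [one_mul, inv_one, mul_one] at h13
        have h2 : t.1 ^ 2 = 1 := by rw [sq]; nth_rewrite 2 [h13]; exact mul_inv_cancel _
        have := orderOf_dvd_of_pow_eq_one h2
        rw [Subgroup.orderOf_coe, ht] at this
        omega
    have h39 := hcomm.orderOf_mul_eq_mul_orderOf_of_coprime (by
      rw [hu', Subgroup.orderOf_coe, ht]; norm_num)
    rw [hu', Subgroup.orderOf_coe, ht] at h39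
    rcases h.orders (u.1 * t.1) with h' | h' | h' <;> rw [h39] at h' <;> norm_num at h'
  have hle : Nat.card (Subgroup.normalizer (T : Set G)) ≤ 78 := by
    rcases hdiv with h' | h' | h' <;> have := Nat.le_of_dvd (by norm_num) h' <;> omega
  obtain ⟨k, hk⟩ := h6
  rw [hk] at hdiv hne6 hne78 hle ⊢
  have : k ≤ 13 := by omega
  interval_cases k <;> omega

include h hsub in
theorem normalizer_four (V : Subgroup G) (hV : Nat.card V = 4) :
    Nat.card (Subgroup.normalizer (V : Set G)) = 12 := by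
  haveI : Fact (Nat.Prime 2) := ⟨Nat.prime_two⟩
  let P : Sylow 2 G := Sylow.ofCard V (by rw [hV, h.fac.1]; rfl)
  have hab : IsMulCommutative V := IsPGroup.isMulCommutative_of_card_eq_prime_sq (p := 2) hV
  obtain ⟨hne, hdiv⟩ := not_card_normalizer_sylow_eq h hsub (h.card ▸ by norm_num) P hab
  change Nat.card (Subgroup.normalizer (V : Set G)) ≠ Nat.card V at hne
  change Nat.card (Subgroup.normalizer (V : Set G)) ∣ 12 ∨ Nat.card (Subgroup.normalizer (V : Set G)) ∣ 14 ∨
    Nat.card (Subgroup.normalizer (V : Set G)) ∣ 78 at hdiv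
  rw [hV] at hne
  obtain ⟨k, hk⟩ := hV ▸ Subgroup.card_dvd_of_le (Subgroup.le_normalizer : V ≤ _)
  rw [hk] at hdiv hne ⊢
  have : k ≤ 19 := by
    rcases hdiv with h' | h' | h' <;> have := Nat.le_of_dvd (by norm_num) h' <;> omega
  interval_cases k <;> omega

include h hsub in
theorem twelve_dvd_centralizer (t : G) (ht : orderOf t = 2) :
    12 ∣ Nat.card (Subgroup.centralizer ({t} : Set G)) := by
  haveI : Fact (Nat.Prime 2) := ⟨Nat.prime_two⟩
  haveI : Fact (Nat.Prime 3) := ⟨Nat.prime_three⟩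
  obtain ⟨P, hP⟩ := (IsPGroup.of_card (p := 2) (n := 1) (G := Subgroup.zpowers t)
    (by rw [Nat.card_zpowers, ht, pow_one])).exists_le_sylow
  have htP : t ∈ P := hP (Subgroup.mem_zpowers t)
  have hPcard : Nat.card (P : Subgroup G) = 4 := by
    rw [Sylow.card_eq_multiplicity, h.fac.1]; rfl
  have hab : IsMulCommutative (P : Subgroup G) := IsPGroup.isMulCommutative_of_card_eq_prime_sq (p := 2) hPcard
  have hPC : (P : Subgroup G) ≤ Subgroup.centralizer ({t} : Set G) := fun y hy => by
    rw [Subgroup.mem_centralizer_singleton_iff]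
    exact congrArg Subtype.val (hab.is_comm.comm (⟨y, hy⟩ : (P : Subgroup G)) ⟨t, htP⟩)
  have h4 : 4 ∣ Nat.card (Subgroup.centralizer ({t} : Set G)) := hPcard ▸ Subgroup.card_dvd_of_le hPC
  suffices h3 : 3 ∣ Nat.card (Subgroup.centralizer ({t} : Set G)) from
    Nat.Coprime.mul_dvd_of_dvd_of_dvd (by norm_num : Nat.Coprime 3 4) h3 h4
  have of_elem : ∀ {g s w : G}, orderOf w = 3 → Commute w s → g * s * g⁻¹ = t →
      3 ∣ Nat.card (Subgroup.centralizer ({t} : Set G)) := by
    intro g s w hw hws hgs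
    refine (dvd_of_eq ?_).trans (Subgroup.orderOf_dvd_natCard _ (x := g * w * g⁻¹) ?_)
    · rw [← MulAut.conj_apply, MulEquiv.orderOf_eq, hw]
    · rw [Subgroup.mem_centralizer_singleton_iff, ← hgs]
      simp only [mul_assoc, inv_mul_cancel_left]
      rw [← mul_assoc w, hws.eq, mul_assoc]
  obtain ⟨w, hw⟩ := exists_prime_orderOf_dvd_card'
    (G := Subgroup.normalizer ((P : Subgroup G) : Set G)) 3
    (by rw [normalizer_four h hsub _ hPcard]; norm_num)
  have hw' : orderOf w.1 = 3 := by rw [Subgroup.orderOf_coe, hw]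
  by_cases hwt : Commute w.1 t
  · exact of_elem hw' hwt (g := 1) (by simp)
  -- otherwise the three involutions of `P` are conjugate to `t`
  obtain ⟨x, hx⟩ := h.six
  set y := x ^ 3 with hy
  have hy2 : orderOf y = 2 := by rw [hy, orderOf_pow, hx]; rfl
  obtain ⟨Q, hQ⟩ := (IsPGroup.of_card (p := 2) (n := 1) (G := Subgroup.zpowers y)
    (by rw [Nat.card_zpowers, hy2, pow_one])).exists_le_sylow
  obtain ⟨g, hg⟩ := MulAction.exists_smul_eq G Q P
  have hgP : g * y * g⁻¹ ∈ P := by
    have : g * y * g⁻¹ ∈ ((g • Q : Sylow 2 G) : Subgroup G) := by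
      rw [Sylow.coe_subgroup_smul]
      refine Subgroup.mem_pointwise_smul_iff_inv_smul_mem.2 ?_
      rw [← map_inv, MulAut.smul_def, MulAut.conj_apply, inv_inv,
        show g⁻¹ * (g * y * g⁻¹) * g = y by group]
      exact hQ (Subgroup.mem_zpowers _)
    rwa [hg] at this
  have hmemN : ∀ z, z ∈ (P : Subgroup G) → w.1 * z * w.1⁻¹ ∈ (P : Subgroup G) := fun z hz =>
    (Subgroup.mem_normalizer_iff.1 w.2 z).1 hz
  set a := w.1 * t * w.1⁻¹ with ha
  set b := w.1 * a * w.1⁻¹ with hb
  have hat : a ≠ t := fun e => hwt (mul_inv_eq_iff_eq_mul.1 e)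
  have hba : b ≠ a := fun e => hat (mul_left_cancel (mul_right_cancel e))
  have hw3 : w.1 * w.1 * w.1 = 1 := by
    have := pow_orderOf_eq_one w.1
    rwa [hw', pow_succ, pow_two] at this
  have hbt : b ≠ t := by
    intro e
    apply hat
    calc a = w.1 * t * w.1⁻¹ := rfl
      _ = w.1 * b * w.1⁻¹ := by rw [e]
      _ = (w.1 * w.1 * w.1) * t * (w.1 * w.1 * w.1)⁻¹ := by rw [hb, ha]; group
      _ = t := by rw [hw3]; group
  have ht1 : t ≠ 1 := fun e => by rw [e, orderOf_one] at ht; omega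
  have hy1 : g * y * g⁻¹ ≠ 1 := fun e => by
    rw [conj_eq_one_iff] at e; rw [e, orderOf_one] at hy2; omega
  have ha1 : a ≠ 1 := fun e => ht1 (conj_eq_one_iff.1 e)
  have hb1 : b ≠ 1 := fun e => ha1 (conj_eq_one_iff.1 e)
  have hcases : g * y * g⁻¹ = t ∨ g * y * g⁻¹ = a ∨ g * y * g⁻¹ = b := by
    classical
    by_contra hne
    rw [not_or, not_or] at hne
    have hsubset : ({1, t, a, b, g * y * g⁻¹} : Finset G) ⊆ ((P : Subgroup G) : Set G).toFinite.toFinset := by
      intro z hz
      rw [Set.Finite.mem_toFinset]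
      simp only [Finset.mem_insert, Finset.mem_singleton] at hz
      rcases hz with rfl | rfl | rfl | rfl | rfl
      · exact one_mem _
      · exact htP
      · exact hmemN _ htP
      · exact hmemN _ (hmemN _ htP)
      · exact hgP
    have hc := Finset.card_le_card hsubset
    rw [← Set.ncard_eq_toFinset_card, ← Nat.card_coe_set_eq] at hc
    simp only [SetLike.coe_sort_coe, hPcard] at hc
    rw [Finset.card_insert_of_notMem (by simp [Ne.symm ht1, Ne.symm ha1, Ne.symm hb1, Ne.symm hy1]),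
      Finset.card_insert_of_notMem (by simp [Ne.symm hat, Ne.symm hbt, Ne.symm hne.1]),
      Finset.card_insert_of_notMem (by simp [Ne.symm hba, Ne.symm hne.2.1]),
      Finset.card_insert_of_notMem (by simp [Ne.symm hne.2.2]), Finset.card_singleton] at hc
    omega
  have hxy : Commute (x ^ 2) y := by rw [hy]; exact Commute.pow_pow_self x 2 3
  have hx2 : orderOf (x ^ 2) = 3 := by rw [orderOf_pow, hx]; rfl
  rcases hcases with e | e | e
  · exact of_elem hx2 hxy e
  · refine of_elem hx2 hxy (g := w.1⁻¹ * g) ?_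
    rw [show w.1⁻¹ * g * y * (w.1⁻¹ * g)⁻¹ = w.1⁻¹ * (g * y * g⁻¹) * w.1 by group, e, ha]
    group
  · refine of_elem hx2 hxy (g := w.1⁻¹ * w.1⁻¹ * g) ?_
    rw [show w.1⁻¹ * w.1⁻¹ * g * y * (w.1⁻¹ * w.1⁻¹ * g)⁻¹ = w.1⁻¹ * w.1⁻¹ * (g * y * g⁻¹) * w.1 * w.1 by
        simp only [mul_inv_rev, inv_inv, mul_assoc],
      e, hb, ha]
    group

include h hsub in
theorem good (H : Subgroup G) (hH : ¬ H.Normal) :
    IsCoatom (Subgroup.normalizer (H : Set G)) := by
  have hN : Subgroup.normalizer (H : Set G) ≠ ⊤ := fun e => hH (Subgroup.normalizer_eq_top_iff.1 e)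
  have hHtop : H ≠ ⊤ := fun e => hH (e ▸ inferInstance)
  have hH1 : Nat.card H ≠ 1 := fun e => hH (by
    rw [(Subgroup.card_eq_one).1 e]; infer_instance)
  have self : ∀ d, (d = 12 ∨ d = 14 ∨ d = 78) → d ∣ Nat.card H →
      IsCoatom (Subgroup.normalizer (H : Set G)) := fun d hd hdH =>
    coatom_of_dvd hsub hN hd (hdH.trans (Subgroup.card_dvd_of_le Subgroup.le_normalizer))
  have thirteen : 13 ∣ Nat.card H → IsCoatom (Subgroup.normalizer (H : Set G)) := by
    intro h13
    haveI : Fact (Nat.Prime 13) := ⟨by norm_num⟩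
    obtain ⟨u, hu⟩ := exists_prime_orderOf_dvd_card' (G := H) 13 h13
    have hu' : orderOf u.1 = 13 := by rw [Subgroup.orderOf_coe, hu]
    let P : Sylow 13 G := Sylow.ofCard (Subgroup.zpowers u.1)
      (by rw [Nat.card_zpowers, hu', h.fac.2.2.2, pow_one])
    have hPH : (P : Subgroup G) ≤ H := Subgroup.zpowers_le.2 u.2
    have hB := h.card_normalizer_thirteen P
    -- the Sylow subgroup is normal in `H`
    have hHP : H ≤ Subgroup.normalizer ((P : Subgroup G) : Set G) := by
      obtain ⟨k, hk⟩ := h13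
      have hidx : ((P : Subgroup G).subgroupOf H).index = k := by
        have h1 := Subgroup.index_mul_card ((P : Subgroup G).subgroupOf H)
        rw [Nat.card_congr (Subgroup.subgroupOfEquivOfLe hPH).toEquiv] at h1
        have hP13 : Nat.card (P : Subgroup G) = 13 := by
          rw [Sylow.card_eq_multiplicity, h.fac.2.2.2, pow_one]
        rw [hP13, hk, mul_comm 13 k] at h1
        exact Nat.eq_of_mul_eq_mul_right (by norm_num) h1
      have hk6 : k ≤ 6 := by
        rcases hsub H hHtop with h' | h' | h' <;> have := Nat.le_of_dvd (by norm_num) h' <;> omega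
      have hk0 : 0 < k := by
        rcases Nat.eq_zero_or_pos k with rfl | hp
        · rw [mul_zero] at hk; exact absurd hk Nat.card_pos.ne'
        · exact hp
      let Q : Sylow 13 H := P.subtype hPH
      have hQn : ((Q : Sylow 13 H) : Subgroup H).Normal := by
        have hdvd := Sylow.card_dvd_index Q
        rw [show ((Q : Sylow 13 H) : Subgroup H) = (P : Subgroup G).subgroupOf H from rfl, hidx] at hdvd
        have hmod := card_sylow_modEq_one 13 H
        have hle := Nat.le_of_dvd hk0 hdvd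
        have h1 : Nat.card (Sylow 13 H) = 1 := by
          unfold Nat.ModEq at hmod
          omega
        haveI : Subsingleton (Sylow 13 H) := (Nat.card_eq_one_iff_unique.1 h1).1
        exact Sylow.normal_of_subsingleton Q
      exact (Subgroup.normal_subgroupOf_iff_le_normalizer hPH).1 hQn
    refine coatom_of_dvd hsub hN (Or.inr (Or.inr rfl)) (hB ▸ Subgroup.card_dvd_of_le ?_)
    intro b hb
    rw [Subgroup.mem_normalizer_iff]
    -- commutators of the normalizer centralize `P`
    have hcomm : ∀ a ∈ Subgroup.normalizer ((P : Subgroup G) : Set G),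
        ∀ c ∈ Subgroup.normalizer ((P : Subgroup G) : Set G), a * c * a⁻¹ * c⁻¹ ∈ (P : Subgroup G) := by
      intro a ha c hc
      apply h.centralizer_thirteen P
      have hact : ∀ a ∈ Subgroup.normalizer ((P : Subgroup G) : Set G),
          ∃ i : ℤ, a * u.1 * a⁻¹ = u.1 ^ i := fun a ha => by
        obtain ⟨i, hi⟩ := Subgroup.mem_zpowers_iff.1
          ((Subgroup.mem_normalizer_iff.1 ha u.1).1 (Subgroup.mem_zpowers u.1))
        exact ⟨i, hi.symm⟩
      obtain ⟨i, hi⟩ := hact a ha
      obtain ⟨j, hj⟩ := hact c hc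
      obtain ⟨i', hi'⟩ := hact a⁻¹ (inv_mem ha)
      obtain ⟨j', hj'⟩ := hact c⁻¹ (inv_mem hc)
      rw [Subgroup.mem_centralizer_iff]
      intro z hz
      obtain ⟨k, rfl⟩ := Subgroup.mem_zpowers_iff.1 hz
      have e : ∀ {a : G} {i : ℤ}, a * u.1 * a⁻¹ = u.1 ^ i → ∀ k : ℤ, a * u.1 ^ k * a⁻¹ = u.1 ^ (i * k) :=
        fun {a i} hi k => by rw [← conj_zpow, hi, zpow_mul]
      have e2 : (a * c * a⁻¹ * c⁻¹) * u.1 ^ k * (a * c * a⁻¹ * c⁻¹)⁻¹ = u.1 ^ k := by
        rw [show (a * c * a⁻¹ * c⁻¹) * u.1 ^ k * (a * c * a⁻¹ * c⁻¹)⁻¹ =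
          a * (c * (a⁻¹ * (c⁻¹ * u.1 ^ k * c⁻¹⁻¹) * a⁻¹⁻¹) * c⁻¹) * a⁻¹ by group,
          e hj', e hi', e hj, e hi,
          show i * (j * (i' * (j' * k))) = (i * i') * ((j * j') * k) by ring]
        have ei : ∀ k : ℤ, u.1 ^ (i * i' * k) = u.1 ^ k := fun k => by
          rw [mul_assoc, ← e hi, ← e hi']; group
        have ej : ∀ k : ℤ, u.1 ^ (j * j' * k) = u.1 ^ k := fun k => by
          rw [mul_assoc, ← e hj, ← e hj']; group
        rw [ei, ej]
      exact (mul_inv_eq_iff_eq_mul.1 e2).symm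
    intro z
    constructor
    · intro hz
      have := hPH (hcomm b hb z (hHP hz))
      simpa using mul_mem this hz
    · intro hz
      have := hPH (hcomm b⁻¹ (inv_mem hb) _ (hHP hz))
      have h2 := mul_mem this hz
      simpa [mul_assoc] using h2
  have hle : Nat.card H ≤ 78 := by
    rcases hsub H hHtop with h' | h' | h' <;> have := Nat.le_of_dvd (by norm_num) h' <;> omega
  have hpos : 0 < Nat.card H := Nat.card_pos
  rcases (show 13 ∣ Nat.card H ∨ Nat.card H = 2 ∨ Nat.card H = 3 ∨ Nat.card H = 4 ∨ Nat.card H = 6 ∨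
      Nat.card H = 7 ∨ Nat.card H = 12 ∨ Nat.card H = 14 by
    have hs := hsub H hHtop
    generalize Nat.card H = c at hs hle hpos hH1 ⊢
    interval_cases c <;> omega) with h13 | e | e | e | e | e | e | e
  · exact thirteen h13
  · haveI : Fact (Nat.Prime 2) := ⟨Nat.prime_two⟩
    obtain ⟨t, ht⟩ := exists_prime_orderOf_dvd_card' (G := H) 2 (by rw [e])
    have hHt : H = Subgroup.zpowers t.1 := (Subgroup.eq_of_le_of_card_ge (Subgroup.zpowers_le.2 t.2)
      (by rw [e, Nat.card_zpowers, Subgroup.orderOf_coe, ht])).symm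
    refine coatom_of_dvd hsub hN (Or.inl rfl)
      ((twelve_dvd_centralizer h hsub t.1 (by rw [Subgroup.orderOf_coe, ht])).trans
        (Subgroup.card_dvd_of_le fun z hz => Subgroup.centralizer_le_normalizer _ ?_))
    rw [hHt, Subgroup.mem_centralizer_iff]
    intro y hy
    obtain ⟨k, rfl⟩ := Subgroup.mem_zpowers_iff.1 hy
    exact ((show Commute t.1 z from (Subgroup.mem_centralizer_singleton_iff.1 hz).symm).zpow_left k).eq
  · exact coatom_of_dvd hsub hN (Or.inl rfl) (by rw [normalizer_three h hsub H e])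
  · exact coatom_of_dvd hsub hN (Or.inl rfl) (by rw [normalizer_four h hsub H e])
  · haveI : Fact (Nat.Prime 3) := ⟨Nat.prime_three⟩
    obtain ⟨t, ht⟩ := exists_prime_orderOf_dvd_card' (G := H) 3 (by rw [e]; norm_num)
    set T := Subgroup.zpowers t.1 with hTdef
    have hT : Nat.card T = 3 := by rw [hTdef, Nat.card_zpowers, Subgroup.orderOf_coe, ht]
    have hTH : T ≤ H := Subgroup.zpowers_le.2 t.2
    have hidx : (T.subgroupOf H).index = 2 := by
      have h1 := Subgroup.index_mul_card (T.subgroupOf H)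
      rw [Nat.card_congr (Subgroup.subgroupOfEquivOfLe hTH).toEquiv, hT, e] at h1
      omega
    have hHN := (Subgroup.normal_subgroupOf_iff_le_normalizer hTH).1 (Subgroup.normal_of_index_eq_two hidx)
    have h12 := normalizer_three h hsub T hT
    have hidx2 : (H.subgroupOf (Subgroup.normalizer (T : Set G))).index = 2 := by
      have h1 := Subgroup.index_mul_card (H.subgroupOf (Subgroup.normalizer (T : Set G)))
      rw [Nat.card_congr (Subgroup.subgroupOfEquivOfLe hHN).toEquiv, h12, e] at h1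
      omega
    exact coatom_of_dvd hsub hN (Or.inl rfl) (h12 ▸ Subgroup.card_dvd_of_le
      ((Subgroup.normal_subgroupOf_iff_le_normalizer hHN).1 (Subgroup.normal_of_index_eq_two hidx2)))
  · haveI : Fact (Nat.Prime 7) := ⟨by norm_num⟩
    let P : Sylow 7 G := Sylow.ofCard H (by rw [e, h.fac.2.2.1, pow_one])
    obtain ⟨hne, hdiv⟩ := not_card_normalizer_sylow_eq h hsub (h.card ▸ by norm_num) P
      (isCyclic_of_prime_card e).isMulCommutative
    change Nat.card (Subgroup.normalizer (H : Set G)) ≠ Nat.card H at hne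
    change Nat.card (Subgroup.normalizer (H : Set G)) ∣ 12 ∨ Nat.card (Subgroup.normalizer (H : Set G)) ∣ 14 ∨
      Nat.card (Subgroup.normalizer (H : Set G)) ∣ 78 at hdiv
    rw [e] at hne
    obtain ⟨k, hk⟩ := e ▸ Subgroup.card_dvd_of_le (Subgroup.le_normalizer : H ≤ _)
    refine coatom_of_dvd hsub hN (Or.inr (Or.inl rfl)) ?_
    rw [hk] at hne hdiv ⊢
    have : k ≤ 11 := by
      rcases hdiv with h' | h' | h' <;> have := Nat.le_of_dvd (by norm_num) h' <;> omega
    interval_cases k <;> omega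
  · exact self 12 (Or.inl rfl) (by rw [e])
  · exact self 14 (Or.inr (Or.inl rfl)) (by rw [e])

open scoped MatrixGroups

/-- The subgroups of `PSL_2(13)`. -/
theorem card_subgroup_cases {F : Type*} [Field F] [Fintype F] (hF : Fintype.card F = 13)
    (M : Subgroup (Matrix.ProjectiveSpecialLinearGroup (Fin 2) F)) (hM : M ≠ ⊤) :
    Nat.card M ∣ 12 ∨ Nat.card M ∣ 14 ∨ Nat.card M ∣ 78 := by
  haveI : Fact (Nat.Prime 13) := ⟨by norm_num⟩
  haveI : CharP F 13 := charP_of_card_eq_prime_pow (f := 1) (by rw [hF, pow_one])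
  have hG := CfsgLib.Spectrum.G2Three.card_psl_thirteen hF
  obtain ⟨hs, hnc, -⟩ := CfsgLib.Classical.Dickson.noncomm_of_four_le (F := F) hF (by norm_num)
  have hdvd := Subgroup.card_subgroup_dvd_card M
  rcases CfsgLib.Classical.Dickson.dickson_list 13 hF M with ⟨k, hk, hc⟩ | ⟨P, K, hK, ⟨e⟩⟩ | ⟨⟨e⟩⟩ |
    ⟨⟨e⟩⟩ | ⟨⟨e⟩⟩ | ⟨K, _, _, m, hm, hc⟩
  · have hk' : k ∣ 7 ∨ k ∣ 6 := by simpa using hk
    rcases hc with ⟨-, hc⟩ | ⟨⟨e⟩⟩
    · rw [hc]
      rcases hk' with h' | h'
      · exact Or.inr (Or.inl (h'.trans (by norm_num)))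
      · exact Or.inl (h'.trans (by norm_num))
    · rw [Nat.card_congr e.toEquiv, DihedralGroup.nat_card]
      rcases hk' with h' | h'
      · exact Or.inr (Or.inl (Nat.mul_dvd_mul_left 2 h'))
      · exact Or.inl (Nat.mul_dvd_mul_left 2 h')
  · have hdata : Data (Matrix.ProjectiveSpecialLinearGroup (Fin 2) F) :=
      ⟨hG, hnc, CfsgLib.Spectrum.G2Three.orderOf_dvd_of_trace hF,
        CfsgLib.Spectrum.G2Three.exists_order_six hF⟩
    haveI := hs
    right; right
    rw [Nat.card_congr e.toEquiv, ← hdata.card_normalizer_thirteen P]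
    exact Subgroup.card_dvd_of_le hK
  · left
    rw [Nat.card_congr e.toEquiv, nat_card_alternatingGroup]
    simp [Nat.factorial]
  · exfalso
    rw [Nat.card_congr e.toEquiv, Nat.card_perm, Nat.card_eq_fintype_card, hG] at hdvd
    simp [Nat.factorial] at hdvd
  · exfalso
    rw [Nat.card_congr e.toEquiv, nat_card_alternatingGroup, hG] at hdvd
    simp [Nat.factorial] at hdvd
  · have hK2 : 2 ≤ Fintype.card K := Fintype.one_lt_card
    have hK : Fintype.card K = 13 := by
      have hd : Fintype.card K ∣ 13 := hm ▸ dvd_pow_self _ (by rintro rfl; simp at hm)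
      exact ((Nat.dvd_prime (by norm_num : Nat.Prime 13)).1 hd).resolve_left (by omega)
    exfalso
    rcases hc with ⟨⟨e⟩⟩ | ⟨⟨e⟩⟩
    · refine hM (Subgroup.eq_top_of_card_eq M ?_)
      rw [Nat.card_congr e.toEquiv, CfsgLib.Spectrum.G2Three.card_psl_thirteen hK, hG]
    · rw [Nat.card_congr e.toEquiv, CfsgLib.Classical.Dickson.card_pgl hK, hG] at hdvd
      norm_num at hdvd

theorem psl_good {F : Type*} [Field F] [Fintype F] (hF : Fintype.card F = 13)
    (H : Subgroup (Matrix.ProjectiveSpecialLinearGroup (Fin 2) F)) (hH : ¬ H.Normal) :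
    IsCoatom (Subgroup.normalizer (H : Set (Matrix.ProjectiveSpecialLinearGroup (Fin 2) F))) := by
  haveI : Fact (Nat.Prime 13) := ⟨by norm_num⟩
  haveI : CharP F 13 := charP_of_card_eq_prime_pow (f := 1) (by rw [hF, pow_one])
  obtain ⟨hs, hnc, -⟩ := CfsgLib.Classical.Dickson.noncomm_of_four_le (F := F) hF (by norm_num)
  haveI := hs
  exact good ⟨CfsgLib.Spectrum.G2Three.card_psl_thirteen hF, hnc,
    CfsgLib.Spectrum.G2Three.orderOf_dvd_of_trace hF, CfsgLib.Spectrum.G2Three.exists_order_six hF⟩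
    (card_subgroup_cases hF) H hH

end CfsgLib.Classical.PSL13
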