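import Cfsg.Agent.Lib.Classical.PSL13Normalizers
import Cfsg.Agent.Lib.Classical.SL2Quat

/-!
Maximal normalizers in `PSL_2(13)`, `SL_2(13)` and their products with coprime abelian groups.
-/

set_option autoImplicit false

namespace CfsgLib.Classical.PSL13

/-- Every subgroup that is not normal has a maximal normalizer. -/
def MaxNorm (K : Type*) [Group K] : Prop :=
  ∀ H : Subgroup K, ¬ H.Normal → IsCoatom (Subgroup.normalizer (H : Set K))

theorem isCoatom_comap {A B : Type*} [Group A] [Group B] (f : A →* B) (hf : Function.Surjective f)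
    {M : Subgroup B} (hM : IsCoatom M) : IsCoatom (M.comap f) := by
  refine ⟨fun e => hM.1 ?_, fun N hlt => ?_⟩
  · rw [← Subgroup.map_comap_eq_self_of_surjective hf M, e, Subgroup.map_top_of_surjective f hf]
  · have hker : f.ker ≤ N := le_trans (fun a ha => by
      rw [Subgroup.mem_comap, MonoidHom.mem_ker.1 ha]; exact one_mem M) hlt.le
    have hN : (N.map f).comap f = N := Subgroup.comap_map_eq_self hker
    have h1 : M < N.map f := by
      refine lt_of_le_of_ne ?_ fun e => hlt.ne (by rw [e, hN])
      rw [← Subgroup.map_comap_eq_self_of_surjective hf M]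
      exact Subgroup.map_mono hlt.le
    rw [← hN, hM.2 _ h1, Subgroup.comap_top]

theorem MaxNorm.of_equiv {K L : Type*} [Group K] [Group L] (e : K ≃* L) (h : MaxNorm L) : MaxNorm K := by
  intro H hH
  have hn : ¬ (H.map e.toMonoidHom).Normal := fun hn => hH (by
    have := hn.comap e.toMonoidHom
    rwa [Subgroup.comap_map_eq_self_of_injective e.injective] at this)
  have := isCoatom_comap e.toMonoidHom e.surjective (h _ hn)
  rwa [← Subgroup.map_equiv_normalizer_eq,
    Subgroup.comap_map_eq_self_of_injective e.injective] at this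

/-- Passing to a central extension of order at most two with a unique involution. -/
theorem MaxNorm.of_central {K L : Type*} [Group K] [Finite K] [Group L] (f : K →* L)
    (hf : Function.Surjective f) (hker : f.ker ≤ Subgroup.center K)
    (hsq : ∀ z ∈ f.ker, z * z = 1) (huniq : ∀ g : K, g * g = 1 → g ∈ f.ker)
    (hcard : ∀ z ∈ f.ker, ∀ w ∈ f.ker, z ≠ 1 → w ≠ 1 → z = w)
    (h : MaxNorm L) : MaxNorm K := by
  intro H hH
  have key : ((Subgroup.normalizer ((H.map f : Subgroup L) : Set L)).comap f) =
      Subgroup.normalizer (H : Set K) := by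
    refine le_antisymm ?_ fun g hg => ?_
    · have fwd : ∀ g : K, f g ∈ Subgroup.normalizer ((H.map f : Subgroup L) : Set L) →
          ∀ a ∈ H, g * a * g⁻¹ ∈ H := by
        intro g hg a ha
        obtain ⟨b, hb, hbe⟩ : f (g * a * g⁻¹) ∈ H.map f := by
          rw [map_mul, map_mul, map_inv]
          exact (Subgroup.mem_normalizer_iff.1 hg (f a)).1 ⟨a, ha, rfl⟩
        have hz : b⁻¹ * (g * a * g⁻¹) ∈ f.ker := by
          rw [MonoidHom.mem_ker, map_mul, map_inv, hbe, inv_mul_cancel]
        set z := b⁻¹ * (g * a * g⁻¹) with hzdef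
        have hg' : g * a * g⁻¹ = b * z := by rw [hzdef]; group
        by_cases hz1 : z = 1
        · rw [hg', hz1, mul_one]; exact hb
        by_cases hzH : z ∈ H
        · rw [hg']; exact mul_mem hb hzH
        exfalso
        -- otherwise `H` has odd order
        have hodd : Odd (Nat.card H) := by
          by_contra he
          rw [Nat.not_odd_iff_even] at he
          haveI : Fact (Nat.Prime 2) := ⟨Nat.prime_two⟩
          obtain ⟨i, hi⟩ := exists_prime_orderOf_dvd_card' (G := H) 2 he.two_dvd
          have hi2 : i.1 * i.1 = 1 := by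
            have := congrArg Subtype.val (pow_orderOf_eq_one i)
            rwa [hi, SubgroupClass.coe_pow, sq, OneMemClass.coe_one] at this
          have hi1 : i.1 ≠ 1 := fun e => by
            rw [show i = 1 from Subtype.ext e, orderOf_one] at hi; omega
          exact hzH (hcard z hz i.1 (huniq _ hi2) hz1 hi1 ▸ i.2)
        obtain ⟨m, hm⟩ := hodd
        have pow_one' : ∀ x ∈ H, x ^ Nat.card H = 1 := fun x hx =>
          orderOf_dvd_iff_pow_eq_one.1
            (by rw [← Subgroup.orderOf_mk x hx]; exact orderOf_dvd_natCard _)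
        have h1 : (g * a * g⁻¹) ^ Nat.card H = 1 := by
          rw [conj_pow, pow_one' a ha, mul_one, mul_inv_cancel]
        have hcomm : Commute b z := Subgroup.mem_center_iff.1 (hker hz) b
        rw [hg', hcomm.mul_pow, pow_one' b hb, one_mul, hm, pow_succ, pow_mul, sq, hsq z hz, one_pow,
          one_mul] at h1
        exact hz1 h1
      intro g hg
      rw [Subgroup.mem_normalizer_iff]
      intro a
      refine ⟨fwd g hg a, fun ha => ?_⟩
      have := fwd g⁻¹ (by rw [map_inv]; exact inv_mem hg) _ ha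
      simpa [mul_assoc] using this
    · exact Subgroup.le_normalizer_map f ⟨g, hg, rfl⟩
  have hn : ¬ (H.map f).Normal := fun hn => hH (by
    rw [← Subgroup.normalizer_eq_top_iff, ← key, Subgroup.normalizer_eq_top_iff.2 hn,
      Subgroup.comap_top])
  exact key ▸ isCoatom_comap f hf (h _ hn)

theorem MaxNorm.prod {K S : Type*} [Group K] [CommGroup S] [Finite K] [Finite S]
    (hKS : (Nat.card K).Coprime (Nat.card S)) (h : MaxNorm K) : MaxNorm (K × S) := by
  intro H hH
  have hsplit : ∀ a : K × S, a ∈ H → (a.1, (1 : S)) ∈ H := by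
    intro a ha
    obtain ⟨m, hmK, hmS⟩ := Nat.chineseRemainder hKS 1 0
    have : a ^ m ∈ H := pow_mem ha m
    have e1 : a.1 ^ m = a.1 := by
      have := pow_eq_pow_iff_modEq.2 (Nat.ModEq.of_dvd (orderOf_dvd_natCard a.1) hmK)
      rwa [pow_one] at this
    have e2 : a.2 ^ m = 1 := by
      have := pow_eq_pow_iff_modEq.2 (Nat.ModEq.of_dvd (orderOf_dvd_natCard a.2) hmS)
      rwa [pow_zero] at this
    rwa [show a ^ m = (a.1, 1) from Prod.ext e1 e2] at this
  have key : (Subgroup.normalizer ((H.map (MonoidHom.fst K S) : Subgroup K) : Set K)).comap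
      (MonoidHom.fst K S) = Subgroup.normalizer (H : Set (K × S)) := by
    refine le_antisymm (fun g hg => ?_) fun g hg => Subgroup.le_normalizer_map _ ⟨g, hg, rfl⟩
    have fwd : ∀ g : K × S, g.1 ∈ Subgroup.normalizer ((H.map (MonoidHom.fst K S) : Subgroup K) : Set K) →
        ∀ a ∈ H, g * a * g⁻¹ ∈ H := by
      intro g hg a ha
      obtain ⟨b, hb, hbe⟩ := (Subgroup.mem_normalizer_iff.1 hg a.1).1 ⟨a, ha, rfl⟩
      have e : g * a * g⁻¹ = (b.1, 1) * ((a.1, 1)⁻¹ * a) := by
        refine Prod.ext ?_ ?_
        · simp only [Prod.fst_mul, Prod.fst_inv, inv_mul_cancel, mul_one]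
          exact hbe.symm
        · simp only [Prod.snd_mul, Prod.snd_inv, inv_one, one_mul]
          rw [mul_comm g.2, mul_inv_cancel_right]
      rw [e]
      exact mul_mem (hsplit b hb) (mul_mem (inv_mem (hsplit a ha)) ha)
    rw [Subgroup.mem_normalizer_iff]
    intro a
    refine ⟨fwd g hg a, fun ha => ?_⟩
    have := fwd g⁻¹ (by rw [Prod.fst_inv]; exact inv_mem hg) _ ha
    simpa [mul_assoc] using this
  have hn : ¬ (H.map (MonoidHom.fst K S)).Normal := fun hn => hH (by
    rw [← Subgroup.normalizer_eq_top_iff, ← key, Subgroup.normalizer_eq_top_iff.2 hn,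
      Subgroup.comap_top])
  exact key ▸ isCoatom_comap _ (fun k => ⟨(k, 1), rfl⟩) (h _ hn)

theorem maxNorm_psl {F : Type*} [Field F] [Fintype F] (hF : Fintype.card F = 13) :
    MaxNorm (Matrix.ProjectiveSpecialLinearGroup (Fin 2) F) :=
  fun H hH => psl_good hF H hH

theorem maxNorm_sl {F : Type*} [Field F] [Fintype F] (hF : Fintype.card F = 13) :
    MaxNorm (Matrix.SpecialLinearGroup (Fin 2) F) := by
  haveI : Fact (Nat.Prime 13) := ⟨by norm_num⟩
  haveI : CharP F 13 := charP_of_card_eq_prime_pow (f := 1) (by rw [hF, pow_one])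
  have h2 : (2 : F) ≠ 0 := by
    intro h
    have := (CharP.cast_eq_zero_iff F 13 2).1 (by exact_mod_cast h)
    omega
  refine MaxNorm.of_central (QuotientGroup.mk' _) (QuotientGroup.mk'_surjective _)
    (QuotientGroup.ker_mk' _).le ?_ ?_ ?_ (maxNorm_psl hF)
  · intro z hz
    rw [QuotientGroup.ker_mk'] at hz
    rcases CfsgLib.Fusion.PSL2.mem_center_iff'.1 hz with rfl | rfl
    · exact one_mul 1
    · exact SL2Q.negOne_sq
  · intro g hg
    rw [QuotientGroup.ker_mk']
    exact CfsgLib.Fusion.PSL2.mem_center_iff'.2 (SL2Q.eq_of_mul_self h2 hg)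
  · intro z hz w hw hz1 hw1
    rw [QuotientGroup.ker_mk'] at hz hw
    rcases CfsgLib.Fusion.PSL2.mem_center_iff'.1 hz with rfl | rfl
    · exact absurd rfl hz1
    rcases CfsgLib.Fusion.PSL2.mem_center_iff'.1 hw with rfl | rfl
    · exact absurd rfl hw1
    rfl

end CfsgLib.Classical.PSL13
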