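/-
The alternating subgroups of degree five in `PSL_2(11)`.
-/
import Mathlib
import Cfsg.Agent.Lib.Classical.Dickson.MinimalSimple
import Cfsg.Agent.Lib.Classical.Dickson.SmallSub
import Cfsg.Agent.S0675
import Cfsg.Agent.S3377

set_option autoImplicit false

namespace CfsgLib.Classical.PSL2Eleven

open Matrix CfsgLib.Classical.SL2Q CfsgLib.Fusion.PSL2
open scoped MatrixGroups Pointwise

/-! ### Computations with matrices over `ℤ/11` -/

/-- A two-by-two matrix modulo eleven. -/
abbrev Tup : Type := ℕ × ℕ × ℕ × ℕ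

/-- Product of two matrices modulo eleven. -/
def tupMul (x y : Tup) : Tup :=
  ((x.1 * y.1 + x.2.1 * y.2.2.1) % 11, (x.1 * y.2.1 + x.2.1 * y.2.2.2) % 11,
    (x.2.2.1 * y.1 + x.2.2.2 * y.2.2.1) % 11, (x.2.2.1 * y.2.1 + x.2.2.2 * y.2.2.2) % 11)

/-- A fixed element whose image has order three. -/
def tupB : Tup := (0, 10, 1, 1)

/-- Plus or minus the identity. -/
def tupPM (x : Tup) : Bool := x == (1, 0, 0, 1) || x == (10, 0, 0, 10)

def fiveA (x : Tup) : Bool :=
  let z := tupMul x tupB
  tupPM (tupMul x x) && !tupPM x && tupPM (tupMul z (tupMul z (tupMul z (tupMul z z)))) && !tupPM z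

def threeB (x : Tup) : Bool := tupPM (tupMul x (tupMul x x)) && !tupPM x

def centB (x : Tup) : Bool :=
  tupMul x tupB == tupMul tupB x || tupMul x tupB == tupMul (tupMul (10, 0, 0, 10) tupB) x

/-- The determinant one matrices modulo eleven. -/
def detOneList : List Tup :=
  (List.range 11 ×ˢ (List.range 11 ×ˢ (List.range 11 ×ˢ List.range 11))).filter
    fun x => (x.1 * x.2.2.2 + 10 * (x.2.1 * x.2.2.1)) % 11 == 1

theorem length_fiveA : (detOneList.filter fiveA).length = 48 := by decide +kernel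
theorem length_threeB : (detOneList.filter threeB).length = 220 := by decide +kernel
theorem length_centB : (detOneList.filter centB).length = 12 := by decide +kernel

section Bridge

variable {F : Type*} [Field F] (e : F ≃+* ZMod 11)

/-- The entries of a matrix as numbers below eleven. -/
def tupOf (X : SL(2, F)) : Tup :=
  ((e (X.1 0 0)).val, (e (X.1 0 1)).val, (e (X.1 1 0)).val, (e (X.1 1 1)).val)

theorem tupOf_inj : Function.Injective (tupOf e) := fun X Y h => by
  simp only [tupOf, Prod.mk.injEq] at h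
  obtain ⟨h00, h01, h10, h11⟩ := h
  exact ext2 (e.injective (ZMod.val_injective 11 h00)) (e.injective (ZMod.val_injective 11 h01))
    (e.injective (ZMod.val_injective 11 h10)) (e.injective (ZMod.val_injective 11 h11))

theorem tupOf_mul (X Y : SL(2, F)) : tupOf e (X * Y) = tupMul (tupOf e X) (tupOf e Y) := by
  simp only [tupOf, tupMul, Prod.mk.injEq, mul_entry]
  refine ⟨?_, ?_, ?_, ?_⟩ <;>
    (rw [← ZMod.val_natCast]; congr 1; push_cast [map_add, map_mul, ZMod.natCast_val, ZMod.cast_id]; rfl)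

theorem tupOf_one : tupOf e 1 = (1, 0, 0, 1) := by
  simp only [tupOf, Matrix.SpecialLinearGroup.coe_one]
  simp
  decide

theorem tupOf_negOne : tupOf e negOne = (10, 0, 0, 10) := by
  simp only [tupOf, negOne]
  simp [map_neg]

theorem tupPM_iff (X : SL(2, F)) : tupPM (tupOf e X) = true ↔ proj X = 1 := by
  rw [← map_one (proj (F := F)), proj_eq_iff, mul_one, tupPM, Bool.or_eq_true, beq_iff_eq, beq_iff_eq,
    ← tupOf_one e, ← tupOf_negOne e, (tupOf_inj e).eq_iff, (tupOf_inj e).eq_iff]

theorem mem_detOneList (X : SL(2, F)) : tupOf e X ∈ detOneList := by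
  refine List.mem_filter.2 ⟨?_, ?_⟩
  · exact List.pair_mem_product.2 ⟨List.mem_range.2 (ZMod.val_lt _), List.pair_mem_product.2
      ⟨List.mem_range.2 (ZMod.val_lt _), List.pair_mem_product.2
        ⟨List.mem_range.2 (ZMod.val_lt _), List.mem_range.2 (ZMod.val_lt _)⟩⟩⟩
  · have h : X.1 0 0 * X.1 1 1 - X.1 0 1 * X.1 1 0 = 1 := by rw [← Matrix.det_fin_two]; exact X.2
    have h' := congrArg e h
    rw [map_sub, map_mul, map_mul, map_one] at h'
    rw [beq_iff_eq]
    apply (ZMod.natCast_eq_natCast_iff' _ 1 11).1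
    simp only [tupOf, Nat.cast_add, Nat.cast_mul, Nat.cast_one, ZMod.natCast_zmod_val]
    rw [show ((10 : ℕ) : ZMod 11) = -1 from rfl]
    linear_combination h'

theorem exists_tupOf {t : Tup} (ht : t ∈ detOneList) : ∃ X : SL(2, F), tupOf e X = t := by
  obtain ⟨a, b, c, d⟩ := t
  obtain ⟨h1, h2⟩ := List.mem_filter.1 ht
  obtain ⟨ha, h1'⟩ := List.pair_mem_product.1 h1
  obtain ⟨hb, h1''⟩ := List.pair_mem_product.1 h1'
  obtain ⟨hc, hd⟩ := List.pair_mem_product.1 h1''
  rw [List.mem_range] at ha hb hc hd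
  rw [beq_iff_eq] at h2
  have h3 : (a : ZMod 11) * d - b * c = 1 := by
    have := congrArg (fun n : ℕ => (n : ZMod 11)) h2
    simp only [ZMod.natCast_mod] at this
    push_cast at this
    rw [show (10 : ZMod 11) = -1 by decide] at this
    linear_combination this
  refine ⟨⟨!![e.symm a, e.symm b; e.symm c, e.symm d], ?_⟩, ?_⟩
  · rw [Matrix.det_fin_two_of, ← map_mul, ← map_mul, ← map_sub, h3, map_one]
  · simp only [tupOf]
    simp [ZMod.val_natCast, Nat.mod_eq_of_lt, ha, hb, hc, hd]

theorem natCard_tup (f : Tup → Bool) :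
    Nat.card {X : SL(2, F) // f (tupOf e X) = true} = (detOneList.filter f).length := by
  have hn : (detOneList.filter f).Nodup :=
    ((List.nodup_range.product (List.nodup_range.product (List.nodup_range.product List.nodup_range))).filter _).filter _
  rw [← List.toFinset_card_of_nodup hn, ← Nat.card_eq_finsetCard]
  refine Nat.card_congr (Equiv.ofBijective
    (fun X => ⟨tupOf e X.1, List.mem_toFinset.2 (List.mem_filter.2 ⟨mem_detOneList e X.1, X.2⟩)⟩) ⟨?_, ?_⟩)
  · intro X Y h
    exact Subtype.ext (tupOf_inj e (congrArg Subtype.val h))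
  · rintro ⟨t, ht⟩
    obtain ⟨h1, h2⟩ := List.mem_filter.1 (List.mem_toFinset.1 ht)
    obtain ⟨X, rfl⟩ := exists_tupOf e h1
    exact ⟨⟨X, h2⟩, rfl⟩

end Bridge

/-! ### Generating pairs -/

section Pairs

variable {G : Type*} [Group G]

/-- An involution and an element of order three whose product has order five. -/
def FivePair (p : G × G) : Prop :=
  p.1 * p.1 = 1 ∧ p.1 ≠ 1 ∧ p.2 ^ 3 = 1 ∧ p.2 ≠ 1 ∧ (p.1 * p.2) ^ 5 = 1 ∧ p.1 * p.2 ≠ 1

theorem fivePair_map {H : Type*} [Group H] (f : G →* H) (hf : Function.Injective f) (p : G × G) :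
    FivePair (f p.1, f p.2) ↔ FivePair p := by
  simp only [FivePair, ← map_mul, ← map_pow, map_eq_one_iff f hf, ne_eq]

theorem natCard_fivePair_congr {H : Type*} [Group H] (f : G ≃* H) :
    Nat.card {p : G × G // FivePair p} = Nat.card {p : H × H // FivePair p} :=
  Nat.card_congr ((f.toEquiv.prodCongr f.toEquiv).subtypeEquiv fun p =>
    (fivePair_map f.toMonoidHom f.injective p).symm)

end Pairs

theorem natCard_fivePair_alt : Nat.card {p : alternatingGroup (Fin 5) × alternatingGroup (Fin 5) // FivePair p} = 120 := by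
  rw [Nat.card_congr (Equiv.subtypeEquivRight fun p => Iff.rfl :
    {p : alternatingGroup (Fin 5) × alternatingGroup (Fin 5) // FivePair p} ≃
      {p : alternatingGroup (Fin 5) × alternatingGroup (Fin 5) // p.1 * p.1 = 1 ∧ p.1 ≠ 1 ∧ p.2 ^ 3 = 1 ∧
        p.2 ≠ 1 ∧ (p.1 * p.2) ^ 5 = 1 ∧ p.1 * p.2 ≠ 1}), Nat.card_eq_fintype_card]
  decide +kernel

theorem closure_fivePair_alt {a b : alternatingGroup (Fin 5)} (h : FivePair (a, b)) :
    Subgroup.closure {a, b} = ⊤ := by
  obtain ⟨ha, ha1, hb, hb1, hab, hab1⟩ := h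
  set H := Subgroup.closure {a, b}
  have haH : a ∈ H := Subgroup.subset_closure (Or.inl rfl)
  have hbH : b ∈ H := Subgroup.subset_closure (Or.inr rfl)
  have hord : ∀ (g : alternatingGroup (Fin 5)) (p : ℕ), p.Prime → g ∈ H → g ^ p = 1 → g ≠ 1 → p ∣ Nat.card H := by
    intro g p hp hg h h'
    haveI := Fact.mk hp
    rw [← orderOf_eq_prime h h', ← Subgroup.orderOf_mk g hg]
    exact orderOf_dvd_natCard _
  have h30 : 30 ∣ Nat.card H :=
    Nat.Coprime.mul_dvd_of_dvd_of_dvd (by norm_num : Nat.Coprime 6 5)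
      (Nat.Coprime.mul_dvd_of_dvd_of_dvd (by norm_num : Nat.Coprime 2 3)
        (hord a 2 Nat.prime_two haH (by rw [sq]; exact ha) ha1) (hord b 3 Nat.prime_three hbH hb hb1))
      (hord _ 5 (by norm_num) (mul_mem haH hbH) hab hab1)
  have hmul := H.card_mul_index
  have h60 : Nat.card (alternatingGroup (Fin 5)) = 60 := by
    rw [nat_card_alternatingGroup, Nat.card_eq_fintype_card, Fintype.card_fin]; rfl
  rw [h60] at hmul
  obtain ⟨k, hk⟩ := h30
  have hi : H.index = 1 ∨ H.index = 2 := by
    rw [hk, mul_assoc] at hmul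
    exact (Nat.dvd_prime Nat.prime_two).1 ⟨k, by rw [mul_comm]; omega⟩
  rcases hi with hi | hi
  · exact Subgroup.index_eq_one.1 hi
  · haveI : IsSimpleGroup (alternatingGroup (Fin 5)) := alternatingGroup.isSimpleGroup_five
    rcases IsSimpleGroup.eq_bot_or_eq_top_of_normal H (Subgroup.normal_of_index_eq_two hi) with e | e
    · rw [e, Subgroup.index_bot, h60] at hi; omega
    · exact e

section Pairs

variable {G : Type*} [Group G]

/-- The subgroups isomorphic to the alternating group of degree five. -/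
abbrev AltFiveSub (G : Type*) [Group G] : Type _ := {L : Subgroup G // Nonempty (L ≃* alternatingGroup (Fin 5))}

theorem closure_fivePair_sub {L : Subgroup G} (hL : Nonempty (L ≃* alternatingGroup (Fin 5))) {a b : G}
    (ha : a ∈ L) (hb : b ∈ L) (h : FivePair (a, b)) : Subgroup.closure {a, b} = L := by
  obtain ⟨f⟩ := hL
  have h' : FivePair (f ⟨a, ha⟩, f ⟨b, hb⟩) :=
    (fivePair_map f.toMonoidHom f.injective (⟨a, ha⟩, ⟨b, hb⟩)).2
      ((fivePair_map L.subtype L.subtype_injective (⟨a, ha⟩, ⟨b, hb⟩)).1 h)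
  have ht := congrArg (Subgroup.map (L.subtype.comp f.symm.toMonoidHom)) (closure_fivePair_alt h')
  rw [MonoidHom.map_closure, ← Subgroup.map_map, Subgroup.map_top_of_surjective _ f.symm.surjective] at ht
  simpa [Set.image_pair, ← MonoidHom.range_eq_map] using ht

theorem closure_fivePair {a b : G} (h : FivePair (a, b)) :
    Nonempty (Subgroup.closure {a, b} ≃* alternatingGroup (Fin 5)) := by
  obtain ⟨ha, ha1, hb, hb1, hab, hab1⟩ := h
  simp only at ha ha1 hb hb1 hab hab1
  have hainv : a⁻¹ = a := inv_eq_of_mul_eq_one_right ha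
  have hy : (b⁻¹ * a) ^ 5 = 1 := by
    rw [show b⁻¹ * a = (a * b)⁻¹ by rw [_root_.mul_inv_rev, hainv], inv_pow, hab, inv_one]
  have hxy : (b * (b⁻¹ * a)) ^ 2 = 1 := by rw [mul_inv_cancel_left, sq, ha]
  let φ := PresentedGroup.toGroup (f := ![b, b⁻¹ * a])
    (rels := ({FreeGroup.of (0 : Fin 2) ^ 3, FreeGroup.of (1 : Fin 2) ^ 5,
      (FreeGroup.of (0 : Fin 2) * FreeGroup.of 1) ^ 2} : Set (FreeGroup (Fin 2)))) (by
      rintro r (rfl | rfl | rfl) <;>
        simp only [map_pow, map_mul, FreeGroup.lift_apply_of, Matrix.cons_val_zero, Matrix.cons_val_one] <;>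
        assumption)
  obtain ⟨e⟩ := Cfsg.Agent.S3377.result
  let f := φ.comp e.symm.toMonoidHom
  have hfb : f (e (PresentedGroup.of 0)) = b := by simp [f, φ]
  have hfa : f (e (PresentedGroup.of 0) * e (PresentedGroup.of 1)) = a := by simp [f, φ]
  haveI : IsSimpleGroup (alternatingGroup (Fin 5)) := alternatingGroup.isSimpleGroup_five
  have hinj : Function.Injective f :=
    (MonoidHom.ker_eq_bot_iff f).1 ((IsSimpleGroup.eq_bot_or_eq_top_of_normal f.ker inferInstance).resolve_right
      fun htop => hb1 (by rw [← hfb]; exact MonoidHom.mem_ker.1 (htop ▸ Subgroup.mem_top _)))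
  have hR : Nonempty (f.range ≃* alternatingGroup (Fin 5)) := ⟨(MonoidHom.ofInjective hinj).symm⟩
  rw [closure_fivePair_sub hR ⟨_, hfa⟩ ⟨_, hfb⟩ ⟨ha, ha1, hb, hb1, hab, hab1⟩]
  exact hR

theorem natCard_fivePair_eq [Finite G] :
    Nat.card {p : G × G // FivePair p} = Nat.card (AltFiveSub G) * 120 := by
  classical
  letI : Fintype (AltFiveSub G) := Fintype.ofFinite _
  have e : {p : G × G // FivePair p} ≃ Σ L : AltFiveSub G, {p : L.1 × L.1 // FivePair p} :=
    { toFun := fun p => ⟨⟨Subgroup.closure {p.1.1, p.1.2}, closure_fivePair p.2⟩,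
        (⟨p.1.1, Subgroup.subset_closure (Or.inl rfl)⟩, ⟨p.1.2, Subgroup.subset_closure (Or.inr rfl)⟩),
        (fivePair_map (Subgroup.closure {p.1.1, p.1.2}).subtype (Subgroup.subtype_injective _) _).1 p.2⟩
      invFun := fun s => ⟨((s.2.1.1 : G), (s.2.1.2 : G)),
        (fivePair_map s.1.1.subtype (Subgroup.subtype_injective _) s.2.1).2 s.2.2⟩
      left_inv := fun p => rfl
      right_inv := fun s => by
        obtain ⟨⟨L, hL⟩, ⟨⟨a, ha⟩, ⟨b, hb⟩⟩, h⟩ := s
        have hc := closure_fivePair_sub hL ha hb ((fivePair_map L.subtype L.subtype_injective (⟨a, ha⟩, ⟨b, hb⟩)).2 h)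
        subst hc
        rfl }
  rw [Nat.card_congr e, Nat.card_sigma,
    Finset.sum_congr rfl fun L _ => (natCard_fivePair_congr (Classical.choice L.2)).trans natCard_fivePair_alt,
    Finset.sum_const, Finset.card_univ, smul_eq_mul, Nat.card_eq_fintype_card]

end Pairs

/-! ### `PSL_2(11)` -/

variable {F : Type*} [Field F] [Fintype F]

theorem two_ne_zero_of_eleven (hF : Fintype.card F = 11) : (2 : F) ≠ 0 := Ring.two_ne_zero fun h => by
  have := FiniteField.even_card_iff_char_two.1 h
  omega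

theorem natCard_psl_eleven (hF : Fintype.card F = 11) :
    Nat.card (ProjectiveSpecialLinearGroup (Fin 2) F) = 660 := by
  have h := two_mul_card_PSL (two_ne_zero_of_eleven hF)
  rw [CfsgLib.Classical.card_SL_two hF] at h
  omega

theorem natCard_proj_preimage (hF : Fintype.card F = 11) (P : Set (ProjectiveSpecialLinearGroup (Fin 2) F)) :
    Nat.card {X : SL(2, F) // proj X ∈ P} = 2 * Nat.card P := by
  have hc : Nat.card (Subgroup.center SL(2, F)) = 2 := by
    rw [CfsgLib.Classical.card_center_SL, Fintype.card_fin, CfsgLib.Classical.card_units_eq hF]; rfl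
  have h := Nat.card_congr (QuotientGroup.preimageMkEquivSubgroupProdSet (Subgroup.center SL(2, F)) P)
  rw [Nat.card_prod, hc] at h
  exact h

/-- The chosen element of order three. -/
def threeElt : SL(2, F) := ⟨!![0, -1; 1, 1], by simp [Matrix.det_fin_two]⟩

theorem tupOf_threeElt (e : F ≃+* ZMod 11) : tupOf e threeElt = tupB := by
  simp [tupOf, threeElt, tupB, ZMod.val_one]
  decide

theorem natCard_fivePair_psl (hF : Fintype.card F = 11) :
    Nat.card {p : ProjectiveSpecialLinearGroup (Fin 2) F × ProjectiveSpecialLinearGroup (Fin 2) F // FivePair p}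
      = 2640 := by
  classical
  set G := ProjectiveSpecialLinearGroup (Fin 2) F
  letI : Fintype G := Fintype.ofFinite _
  let e : F ≃+* ZMod 11 := (ZMod.ringEquivOfPrime F (by norm_num) hF).symm
  set b0 : G := proj threeElt with hb0
  let E : Set G := {b | b ^ 3 = 1 ∧ b ≠ 1}
  have hE : Nat.card E = 110 := by
    have h := natCard_proj_preimage hF E
    have h' : Nat.card {X : SL(2, F) // proj X ∈ E} = 220 := by
      rw [← length_threeB, ← natCard_tup e]
      refine Nat.card_congr (Equiv.subtypeEquivRight fun X => ?_)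
      simp only [threeB, Bool.and_eq_true, Bool.not_eq_true', ← Bool.not_eq_true, ← tupOf_mul, tupPM_iff, map_mul]
      simp only [E, pow_succ', pow_zero, mul_one]
      exact Iff.rfl
    omega
  have hA : Nat.card {a : G | FivePair (a, b0)} = 24 := by
    have h := natCard_proj_preimage hF {a : G | FivePair (a, b0)}
    have hb : b0 ^ 3 = 1 ∧ b0 ≠ 1 := by
      have h1 : threeB (tupOf e threeElt) = true := by rw [tupOf_threeElt]; decide
      simp only [threeB, Bool.and_eq_true, Bool.not_eq_true', ← Bool.not_eq_true, ← tupOf_mul, tupPM_iff, map_mul] at h1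
      simpa only [pow_succ', pow_zero, mul_one] using h1
    have h' : Nat.card {X : SL(2, F) // proj X ∈ {a : G | FivePair (a, b0)}} = 48 := by
      rw [← length_fiveA, ← natCard_tup e]
      refine Nat.card_congr (Equiv.subtypeEquivRight fun X => ?_)
      simp only [fiveA, ← tupOf_threeElt e, Bool.and_eq_true, Bool.not_eq_true', ← Bool.not_eq_true, ← tupOf_mul,
        tupPM_iff, map_mul, ← hb0]
      simp only [Set.mem_setOf_eq, FivePair, pow_succ', pow_zero, mul_one]
      constructor
      · rintro ⟨h1, h2, -, -, h5, h6⟩; exact ⟨⟨⟨h1, h2⟩, h5⟩, h6⟩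
      · rintro ⟨⟨⟨h1, h2⟩, h5⟩, h6⟩
        exact ⟨h1, h2, by simpa only [pow_succ', pow_zero, mul_one] using hb.1, hb.2, h5, h6⟩
    omega
  have hC : Nat.card (Subgroup.centralizer ({b0} : Set G)) = 6 := by
    have h := natCard_proj_preimage hF (Subgroup.centralizer ({b0} : Set G) : Set G)
    have h' : Nat.card {X : SL(2, F) // proj X ∈ (Subgroup.centralizer ({b0} : Set G) : Set G)} = 12 := by
      rw [← length_centB, ← natCard_tup e]
      refine Nat.card_congr (Equiv.subtypeEquivRight fun X => ?_)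
      simp only [centB, ← tupOf_threeElt e, ← tupOf_negOne e, ← tupOf_mul, Bool.or_eq_true, beq_iff_eq,
        (tupOf_inj e).eq_iff, SetLike.mem_coe, Subgroup.mem_centralizer_singleton_iff, hb0, ← map_mul, proj_eq_iff,
        mul_assoc]
    change Nat.card (Subgroup.centralizer ({b0} : Set G) : Set G) = 6
    omega
  let K : Set G := Set.range fun g : G => g * b0 * g⁻¹
  have hK : Nat.card K = 110 := by
    have he : K = MulAction.orbit (ConjAct G) b0 := by
      ext x
      simp only [K, Set.mem_range, MulAction.mem_orbit_iff]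
      exact ⟨fun ⟨g, hg⟩ => ⟨ConjAct.toConjAct g, hg⟩, fun ⟨g, hg⟩ => ⟨ConjAct.ofConjAct g, hg⟩⟩
    have h := Subgroup.card_mul_index (MulAction.stabilizer (ConjAct G) b0)
    rw [MulAction.index_stabilizer, ← Nat.card_coe_set_eq, ← he] at h
    have hs : Nat.card (MulAction.stabilizer (ConjAct G) b0) = 6 := by
      rw [← hC]
      exact Nat.card_congr ((ConjAct.ofConjAct (G := G)).toEquiv.subtypeEquiv fun g => by
        rw [MulAction.mem_stabilizer_iff, Subgroup.mem_centralizer_singleton_iff, ConjAct.smul_def, mul_inv_eq_iff_eq_mul]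
        rfl)
    rw [hs, show Nat.card (ConjAct G) = Nat.card G from rfl, natCard_psl_eleven hF] at h
    omega
  have hKE : K = E := by
    refine Set.eq_of_subset_of_ncard_le ?_ (by rw [← Nat.card_coe_set_eq, ← Nat.card_coe_set_eq, hE, hK]) (Set.toFinite _)
    rintro _ ⟨g, rfl⟩
    have hb : b0 ^ 3 = 1 ∧ b0 ≠ 1 := by
      have h1 : threeB (tupOf e threeElt) = true := by rw [tupOf_threeElt]; decide
      simp only [threeB, Bool.and_eq_true, Bool.not_eq_true', ← Bool.not_eq_true, ← tupOf_mul, tupPM_iff, map_mul] at h1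
      simpa only [pow_succ', pow_zero, mul_one] using h1
    refine ⟨by rw [conj_pow, hb.1, mul_one, mul_inv_cancel], fun h => hb.2 ?_⟩
    exact conj_eq_one_iff.1 h
  have hsig : {p : G × G // FivePair p} ≃ Σ b : E, {a : G // FivePair (a, b.1)} :=
    { toFun := fun p => ⟨⟨p.1.2, p.2.2.2.1, p.2.2.2.2.1⟩, p.1.1, p.2⟩
      invFun := fun s => ⟨(s.2.1, s.1.1), s.2.2⟩
      left_inv := fun p => rfl
      right_inv := fun s => rfl }
  letI : Fintype E := Fintype.ofFinite _
  have hfib : ∀ b : E, Nat.card {a : G // FivePair (a, b.1)} = 24 := by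
    intro b
    obtain ⟨g, hg⟩ : b.1 ∈ K := by rw [hKE]; exact b.2
    rw [← hA]
    refine (Nat.card_congr ((MulAut.conj g).toEquiv.subtypeEquiv fun a => ?_)).symm
    rw [← hg]
    exact (fivePair_map (MulAut.conj g).toMonoidHom (MulAut.conj g).injective (a, b0)).symm
  rw [Nat.card_congr hsig, Nat.card_sigma, Finset.sum_congr rfl fun b _ => hfib b, Finset.sum_const, Finset.card_univ,
    ← Nat.card_eq_fintype_card, hE, smul_eq_mul]

theorem natCard_altFiveSub (hF : Fintype.card F = 11) :
    Nat.card (AltFiveSub (ProjectiveSpecialLinearGroup (Fin 2) F)) = 22 := by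
  have h := natCard_fivePair_eq (G := ProjectiveSpecialLinearGroup (Fin 2) F)
  rw [natCard_fivePair_psl hF] at h
  omega

theorem index_altFive (hF : Fintype.card F = 11) {L : Subgroup (ProjectiveSpecialLinearGroup (Fin 2) F)}
    (hL : Nonempty (L ≃* alternatingGroup (Fin 5))) : L.index = 11 := by
  obtain ⟨f⟩ := hL
  have h := L.card_mul_index
  rw [Nat.card_congr f.toEquiv, nat_card_alternatingGroup, natCard_psl_eleven hF, Nat.card_fin,
    show Nat.factorial 5 = 120 from rfl] at h
  omega

theorem normalizer_altFive (hF : Fintype.card F = 11) {L : Subgroup (ProjectiveSpecialLinearGroup (Fin 2) F)}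
    (hL : Nonempty (L ≃* alternatingGroup (Fin 5))) :
    Subgroup.normalizer (L : Set (ProjectiveSpecialLinearGroup (Fin 2) F)) = L := by
  haveI := (CfsgLib.Classical.Dickson.noncomm_of_four_le hF (by norm_num)).1
  have hi := index_altFive hF hL
  have hle : L ≤ Subgroup.normalizer (L : Set _) := Subgroup.le_normalizer
  rcases (Nat.dvd_prime (by norm_num : Nat.Prime 11)).1 (hi ▸ Subgroup.index_dvd_of_le hle) with h | h
  · exfalso
    haveI : L.Normal := Subgroup.normalizer_eq_top_iff.1 (Subgroup.index_eq_one.1 h)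
    rcases IsSimpleGroup.eq_bot_or_eq_top_of_normal L inferInstance with h' | h'
    · rw [h', Subgroup.index_bot, natCard_psl_eleven hF] at hi; omega
    · rw [h', Subgroup.index_top] at hi; omega
  · exact le_antisymm (Subgroup.relIndex_eq_one.1 (by
      have := Subgroup.relIndex_mul_index hle
      rw [h, hi] at this
      omega)) hle

theorem ncard_conj_altFive (hF : Fintype.card F = 11) {L : Subgroup (ProjectiveSpecialLinearGroup (Fin 2) F)}
    (hL : Nonempty (L ≃* alternatingGroup (Fin 5))) :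
    (Set.range fun g : ProjectiveSpecialLinearGroup (Fin 2) F => MulAut.conj g • L).ncard = 11 := by
  letI : MulAction (ProjectiveSpecialLinearGroup (Fin 2) F) (Subgroup (ProjectiveSpecialLinearGroup (Fin 2) F)) :=
    MulAction.compHom _ (MulAut.conj (G := ProjectiveSpecialLinearGroup (Fin 2) F))
  change (MulAction.orbit (ProjectiveSpecialLinearGroup (Fin 2) F) L).ncard = 11
  rw [← MulAction.index_stabilizer, ← index_altFive hF hL]
  congr 1
  ext g
  rw [MulAction.mem_stabilizer_iff]
  conv_rhs => rw [← normalizer_altFive hF hL, Subgroup.mem_normalizer_iff]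
  change MulAut.conj g • L = L ↔ _
  constructor
  · intro h x
    conv_rhs => rw [← h]
    rw [Subgroup.mem_pointwise_smul_iff_inv_smul_mem]
    simp [MulAut.smul_def, mul_assoc]
  · intro h
    ext x
    rw [Subgroup.mem_pointwise_smul_iff_inv_smul_mem, h]
    simp [MulAut.smul_def, mul_assoc]

theorem altFive_two_classes (hF : Fintype.card F = 11) :
    ∃ H K : Subgroup (ProjectiveSpecialLinearGroup (Fin 2) F), Nonempty (H ≃* alternatingGroup (Fin 5)) ∧
      Nonempty (K ≃* alternatingGroup (Fin 5)) ∧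
      (∀ g : ProjectiveSpecialLinearGroup (Fin 2) F, MulAut.conj g • H ≠ K) ∧
      ∀ L : Subgroup (ProjectiveSpecialLinearGroup (Fin 2) F), Nonempty (L ≃* alternatingGroup (Fin 5)) →
        ∃ g : ProjectiveSpecialLinearGroup (Fin 2) F, MulAut.conj g • L = H ∨ MulAut.conj g • L = K := by
  set G := ProjectiveSpecialLinearGroup (Fin 2) F
  let A : Set (Subgroup G) := {L | Nonempty (L ≃* alternatingGroup (Fin 5))}
  let orb : Subgroup G → Set (Subgroup G) := fun L => Set.range fun g : G => MulAut.conj g • L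
  have hA : A.ncard = 22 := by rw [← Nat.card_coe_set_eq]; exact natCard_altFiveSub hF
  have hsub : ∀ L ∈ A, orb L ⊆ A := by
    rintro L ⟨f⟩ _ ⟨g, rfl⟩
    exact ⟨((Subgroup.equivSMul (MulAut.conj g) L).symm).trans f⟩
  have hmem : ∀ L, L ∈ orb L := fun L => ⟨1, by simp⟩
  have hsymm : ∀ L M, L ∈ orb M → M ∈ orb L := by
    rintro _ M ⟨g, rfl⟩
    exact ⟨g⁻¹, by simp⟩
  have htrans : ∀ L M N, L ∈ orb M → M ∈ orb N → L ∈ orb N := by
    rintro _ _ N ⟨g, rfl⟩ ⟨h, rfl⟩
    exact ⟨g * h, by simp [map_mul, mul_smul]⟩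
  obtain ⟨H, hH⟩ : A.Nonempty := Set.nonempty_of_ncard_ne_zero (by rw [hA]; omega)
  obtain ⟨K, hK, hKH⟩ : ∃ K ∈ A, K ∉ orb H := by
    by_contra hc
    push Not at hc
    have := Set.ncard_le_ncard hc (Set.toFinite _)
    rw [hA, show (orb H).ncard = 11 from ncard_conj_altFive hF hH] at this
    omega
  refine ⟨H, K, hH, hK, fun g hg => hKH ⟨g, hg⟩, fun L hL => ?_⟩
  have hd : Disjoint (orb H) (orb K) := Set.disjoint_left.2 fun M h1 h2 => hKH (htrans K M H (hsymm M K h2) h1)
  have hU : orb H ∪ orb K = A := by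
    refine Set.eq_of_subset_of_ncard_le (Set.union_subset (hsub H hH) (hsub K hK)) ?_ (Set.toFinite _)
    rw [Set.ncard_union_eq hd (Set.toFinite _) (Set.toFinite _), hA, show (orb H).ncard = 11 from ncard_conj_altFive hF hH,
      show (orb K).ncard = 11 from ncard_conj_altFive hF hK]
  rcases (hU.symm ▸ hL : L ∈ orb H ∪ orb K) with h | h
  · obtain ⟨g, hg⟩ := hsymm _ _ h
    exact ⟨g, Or.inl hg⟩
  · obtain ⟨g, hg⟩ := hsymm _ _ h
    exact ⟨g, Or.inr hg⟩

theorem exists_two_transitive_altFive (hF : Fintype.card F = 11) :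
    ∃ H : Subgroup (ProjectiveSpecialLinearGroup (Fin 2) F), H.index = 11 ∧
      Nonempty (H ≃* alternatingGroup (Fin 5)) ∧
      MulAction.IsMultiplyPretransitive (ProjectiveSpecialLinearGroup (Fin 2) F)
        ((ProjectiveSpecialLinearGroup (Fin 2) F) ⧸ H) 2 := by
  classical
  obtain ⟨H, -, hH, -⟩ := altFive_two_classes hF
  set G := ProjectiveSpecialLinearGroup (Fin 2) F
  have hi := index_altFive hF hH
  refine ⟨H, hi, hH, ?_⟩
  letI : Fintype (G ⧸ H) := Fintype.ofFinite _
  have hc : Fintype.card (G ⧸ H) = 11 := by rw [← Nat.card_eq_fintype_card]; exact hi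
  let φ := MulAction.toPermHom G (G ⧸ H)
  haveI : MulAction.IsPretransitive φ.range (G ⧸ H) := ⟨fun x y => by
    obtain ⟨g, hg⟩ := MulAction.exists_smul_eq G x y
    exact ⟨⟨φ g, g, rfl⟩, hg⟩⟩
  have hns := (CfsgLib.Classical.Dickson.noncomm_of_four_le hF (by norm_num)).2.2
  haveI := (CfsgLib.Classical.Dickson.noncomm_of_four_le hF (by norm_num)).1
  have hinj : Function.Injective φ :=
    (MonoidHom.ker_eq_bot_iff φ).1 ((IsSimpleGroup.eq_bot_or_eq_top_of_normal φ.ker inferInstance).resolve_right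
      fun htop => by
        have h1 : H = ⊤ := (Subgroup.eq_top_iff' H).2 fun g => by
          have h : φ g = 1 := MonoidHom.mem_ker.1 (htop ▸ Subgroup.mem_top _)
          have h2 : g • ((1 : G) : G ⧸ H) = ((1 : G) : G ⧸ H) :=
            congrArg (fun s : Equiv.Perm (G ⧸ H) => s ((1 : G) : G ⧸ H)) h
          rw [MulAction.Quotient.smul_coe, smul_eq_mul, mul_one, QuotientGroup.eq, mul_one] at h2
          exact H.inv_mem_iff.1 h2
        rw [h1, Subgroup.index_top] at hi
        omega)
  rcases Cfsg.Agent.S0675.result (hc ▸ (by norm_num : Nat.Prime 11)) φ.range with h | h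
  · haveI := h
    exact absurd (Group.isSolvable_of_isSolvable_injective (f := φ.rangeRestrict)
      fun x y hxy => hinj (congrArg Subtype.val hxy)) hns
  · rw [MulAction.is_two_pretransitive_iff] at h ⊢
    intro a b c d hab hcd
    obtain ⟨⟨_, g, rfl⟩, h1, h2⟩ := h hab hcd
    exact ⟨g, h1, h2⟩

end CfsgLib.Classical.PSL2Eleven
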