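/-
`PSL_3(4)`: involutions are conjugate; no element of order 15.
-/
import Mathlib

set_option autoImplicit false

namespace CfsgLib.Classical.PSL34

open Matrix Polynomial
open scoped MatrixGroups

variable {F : Type*} [Field F] [Fintype F]

theorem two_eq_zero (hF : Fintype.card F = 4) : (2 : F) = 0 := by
  have h := FiniteField.cast_card_eq_zero F
  rw [hF] at h
  have : (2 : F) * 2 = 0 := by exact_mod_cast h
  exact mul_self_eq_zero.1 this

theorem exists_conj_elation (hF : Fintype.card F = 4) (g : SpecialLinearGroup (Fin 3) F) (hg : g ≠ 1)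
    (h2 : g * g = 1) : IsConj (SpecialLinearGroup.transvection (show (0 : Fin 3) ≠ 2 by decide) (1 : F)) g := by
  set N := g.1 - 1 with hN
  have hN0 : N ≠ 0 := fun h => hg (Subtype.ext (sub_eq_zero.1 h))
  have hNN : N * N = 0 := by
    have hgg : g.1 * g.1 = 1 := congrArg Subtype.val h2
    have h1 : N * N = (2 : F) • (1 - g.1) := by
      simp only [hN, sub_mul, mul_sub, one_mul, mul_one, hgg]
      module
    rw [h1, two_eq_zero hF, zero_smul]
  obtain ⟨x, hx⟩ : ∃ x, N *ᵥ x ≠ 0 := by
    by_contra h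
    push Not at h
    exact hN0 (Matrix.ext_iff_mulVec.2 fun x => (h x).trans (Matrix.zero_mulVec x).symm)
  set v := N *ᵥ x with hv
  have hNv : N *ᵥ v = 0 := by rw [hv, Matrix.mulVec_mulVec, hNN, Matrix.zero_mulVec]
  obtain ⟨y, hy, hyv⟩ : ∃ y, N *ᵥ y = 0 ∧ y ∉ Submodule.span F {v} := by
    by_contra h
    push Not at h
    have hle : LinearMap.ker N.mulVecLin ≤ Submodule.span F {v} := fun y hy => h y hy
    have hrk : LinearMap.range N.mulVecLin ≤ LinearMap.ker N.mulVecLin := by
      rintro _ ⟨y, rfl⟩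
      simp [Matrix.mulVec_mulVec, hNN]
    have e := LinearMap.finrank_range_add_finrank_ker N.mulVecLin
    have e1 := Submodule.finrank_mono hle
    have e2 := Submodule.finrank_mono hrk
    rw [finrank_span_singleton hx] at e1
    simp at e
    omega
  have hli : LinearIndependent F ![v, y, x] := by
    rw [Fintype.linearIndependent_iff]
    intro c hc
    simp [Fin.sum_univ_three] at hc
    have hc' := congrArg (N *ᵥ ·) hc
    simp [Matrix.mulVec_add, Matrix.mulVec_smul, hNv, hy, ← hv, hx] at hc'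
    rw [hc', zero_smul, add_zero] at hc
    have hc1 : c 1 = 0 := by
      by_contra h1
      refine hyv (Submodule.mem_span_singleton.2 ⟨-(c 0 / c 1), ?_⟩)
      have h := eq_neg_of_add_eq_zero_left hc
      refine smul_right_injective _ h1 ?_
      show c 1 • _ = c 1 • y
      rw [smul_smul, show c 1 * -(c 0 / c 1) = -c 0 by field_simp, neg_smul, h, neg_neg]
    rw [hc1, zero_smul, add_zero] at hc
    intro i
    fin_cases i
    · exact (smul_eq_zero.1 hc).resolve_right hx
    · exact hc1
    · exact hc'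
  set P : Matrix (Fin 3) (Fin 3) F := (Matrix.of ![v, y, x])ᵀ with hP
  have hd : P.det ≠ 0 := by
    rw [hP, Matrix.det_transpose]
    refine ((Matrix.isUnit_iff_isUnit_det _).1 ?_).ne_zero
    exact Matrix.linearIndependent_rows_iff_isUnit.1 hli
  set D : Matrix (Fin 3) (Fin 3) F := Matrix.diagonal ![1, P.det⁻¹, 1] with hD
  let Q : SpecialLinearGroup (Fin 3) F := ⟨P * D, by
    rw [Matrix.det_mul, hD, Matrix.det_diagonal, Fin.prod_univ_three]
    simp [hd]⟩
  refine isConj_iff.2 ⟨Q, mul_inv_eq_iff_eq_mul.2 (Subtype.ext ?_)⟩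
  show P * D * (SpecialLinearGroup.transvection _ (1 : F)).1 = g.1 * (P * D)
  rw [SpecialLinearGroup.transvection_coe]
  have key : ∀ i, (g.1 * P) i 0 = P i 0 ∧ (g.1 * P) i 1 = P i 1 ∧ (g.1 * P) i 2 = P i 0 + P i 2 := by
    intro i
    have hgN : g.1 = N + 1 := by rw [hN, sub_add_cancel]
    have hcol : ∀ k, (g.1 * P) i k = (g.1 *ᵥ (![v, y, x] k)) i := fun k => rfl
    refine ⟨?_, ?_, ?_⟩ <;> rw [hcol, hgN] <;>
      simp [Matrix.add_mulVec, hNv, hy, ← hv, hP]
  ext i j
  obtain ⟨k0, k1, k2⟩ := key i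
  rw [← Matrix.mul_assoc g.1, hD, Matrix.mul_add, Matrix.mul_one, Matrix.add_apply, Matrix.mul_diagonal,
    Matrix.mul_diagonal]
  fin_cases j
  · simp [k0]
  · simp [k1]
  · simp [k2, Matrix.mul_diagonal]
    ring

theorem involutions_conjugate (hF : Fintype.card F = 4) (x y : ProjectiveSpecialLinearGroup (Fin 3) F)
    (hx : orderOf x = 2) (hy : orderOf y = 2) : IsConj x y := by
  have key : ∀ x : ProjectiveSpecialLinearGroup (Fin 3) F, orderOf x = 2 →
      IsConj (QuotientGroup.mk' (Subgroup.center (SpecialLinearGroup (Fin 3) F))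
        (SpecialLinearGroup.transvection (show (0 : Fin 3) ≠ 2 by decide) (1 : F))) x := by
    intro x hx
    obtain ⟨hsq, hne⟩ := orderOf_eq_prime_iff.1 hx
    obtain ⟨g, rfl⟩ := QuotientGroup.mk'_surjective (Subgroup.center (SpecialLinearGroup (Fin 3) F)) x
    have hc : g ^ 2 ∈ Subgroup.center (SpecialLinearGroup (Fin 3) F) :=
      (QuotientGroup.eq_one_iff _).1 ((map_pow _ g 2).trans hsq)
    obtain ⟨r, hr, hrg⟩ := Matrix.SpecialLinearGroup.mem_center_iff.1 hc
    have h6 : (g ^ 3) * (g ^ 3) = 1 := by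
      rw [← pow_add, show 3 + 3 = 2 * 3 from rfl, pow_mul]
      refine Subtype.ext ?_
      rw [Matrix.SpecialLinearGroup.coe_pow, ← hrg, Matrix.SpecialLinearGroup.coe_one, ← map_pow]
      rw [show r ^ 3 = 1 from by simpa using hr, map_one]
    have himg : QuotientGroup.mk' (Subgroup.center (SpecialLinearGroup (Fin 3) F)) (g ^ 3) =
        QuotientGroup.mk' (Subgroup.center (SpecialLinearGroup (Fin 3) F)) g := by
      rw [map_pow, pow_succ, hsq, one_mul]
    rw [← himg]
    refine MonoidHom.map_isConj _ (exists_conj_elation hF (g ^ 3) (fun h => hne ?_) h6)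
    rw [← himg, h, map_one]
  exact (key x hx).symm.trans (key y hy)

theorem order_ne_fifteen (hF : Fintype.card F = 4) (x : ProjectiveSpecialLinearGroup (Fin 3) F) :
    orderOf x ≠ 15 := by
  intro hx
  obtain ⟨g, rfl⟩ := QuotientGroup.mk'_surjective (Subgroup.center (SpecialLinearGroup (Fin 3) F)) x
  have hnc : ∀ n : ℕ, ¬ 15 ∣ n → g ^ n ∉ Subgroup.center (SpecialLinearGroup (Fin 3) F) := fun n hn hc =>
    hn (hx ▸ orderOf_dvd_of_pow_eq_one ((map_pow _ g n).symm.trans ((QuotientGroup.eq_one_iff _).2 hc)))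
  have hc15 : g ^ 15 ∈ Subgroup.center (SpecialLinearGroup (Fin 3) F) :=
    (QuotientGroup.eq_one_iff _).1 ((map_pow _ g 15).trans (hx ▸ pow_orderOf_eq_one _))
  obtain ⟨z, hz, hzg⟩ := Matrix.SpecialLinearGroup.mem_center_iff.1 hc15
  let φ : F →+* AlgebraicClosure F := algebraMap F (AlgebraicClosure F)
  set A := g.1.map φ with hA
  have hpow : ∀ n : ℕ, A ^ n = (g ^ n).1.map φ := fun n => by
    rw [Matrix.SpecialLinearGroup.coe_pow, ← RingHom.mapMatrix_apply, map_pow, RingHom.mapMatrix_apply, hA]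
  have h45 : A ^ 45 = 1 := by
    rw [hpow, show (45 : ℕ) = 15 * 3 from rfl, pow_mul, Matrix.SpecialLinearGroup.coe_pow, ← hzg, ← map_pow,
      show z ^ 3 = 1 from by simpa using hz, map_one, Matrix.map_one _ (map_zero φ) (map_one φ)]
  set P := A.charpoly with hP
  have hP0 : P ≠ 0 := A.charpoly_monic.ne_zero
  classical
  set d := EuclideanDomain.gcd P (X ^ 45 - 1 : (AlgebraicClosure F)[X]) with hd
  have hdA : aeval A d = 0 := by
    rw [hd, EuclideanDomain.gcd_eq_gcd_ab, map_add, map_mul, map_mul, hP, Matrix.aeval_self_charpoly, map_sub, map_pow, aeval_X, h45,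
      map_one, sub_self]
    simp
  have h45ne : ((45 : ℕ) : AlgebraicClosure F) ≠ 0 := by
    have h2 : (2 : AlgebraicClosure F) = 0 := by
      rw [← map_ofNat φ 2, two_eq_zero hF, map_zero]
    rw [show ((45 : ℕ) : AlgebraicClosure F) = 2 * 22 + 1 by norm_num, h2, zero_mul, zero_add]
    exact one_ne_zero
  have hsep : (X ^ 45 - 1 : (AlgebraicClosure F)[X]).Separable := by
    simpa using separable_X_pow_sub_C (1 : AlgebraicClosure F) h45ne one_ne_zero
  have hdsep : d.Separable := hsep.of_dvd (EuclideanDomain.gcd_dvd_right _ _)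
  have hd0 : d ≠ 0 := hdsep.ne_zero
  have hroots : ∀ l : AlgebraicClosure F, d.IsRoot l → P.IsRoot l ∧ l ^ 45 = 1 := by
    intro l hl
    refine ⟨hl.dvd (EuclideanDomain.gcd_dvd_left _ _), ?_⟩
    have := hl.dvd (EuclideanDomain.gcd_dvd_right P (X ^ 45 - 1 : (AlgebraicClosure F)[X]))
    simpa [IsRoot, sub_eq_zero] using this
  have finish : ∀ n : ℕ, ¬ 15 ∣ n → ∀ c : AlgebraicClosure F,
      (∀ l, P.IsRoot l → l ^ 45 = 1 → l ^ n = c) → False := by
    intro n hn c hall
    have hn0 : n ≠ 0 := fun h => hn (h ▸ dvd_zero 15)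
    have hdvd : d ∣ X ^ n - C c := by
      rw [(IsAlgClosed.splits d).eq_prod_roots, IsUnit.mul_left_dvd
        (isUnit_C.2 (isUnit_iff_ne_zero.2 (leadingCoeff_ne_zero.2 hd0)))]
      refine (Multiset.prod_X_sub_C_dvd_iff_le_roots (X_pow_sub_C_ne_zero (Nat.pos_of_ne_zero hn0) c) _).2 ?_
      rw [Multiset.le_iff_subset (nodup_roots hdsep)]
      intro l hl
      obtain ⟨hl1, hl2⟩ := hroots l (isRoot_of_mem_roots hl)
      rw [mem_roots (X_pow_sub_C_ne_zero (Nat.pos_of_ne_zero hn0) c)]
      simp [IsRoot, hall l hl1 hl2]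
    obtain ⟨e, he⟩ := hdvd
    have hAn : A ^ n = Matrix.scalar (Fin 3) c := by
      have := congrArg (aeval A) he
      rw [map_mul, hdA, zero_mul, map_sub, map_pow, aeval_X, aeval_C, sub_eq_zero] at this
      rw [this]
      rfl
    rw [hpow] at hAn
    refine hnc n hn (Matrix.SpecialLinearGroup.mem_center_iff.2 ⟨(g ^ n).1 0 0, ?_, ?_⟩)
    · have hdet := congrArg Matrix.det hAn
      rw [← RingHom.mapMatrix_apply, ← RingHom.map_det, (g ^ n).2, map_one, Matrix.scalar_apply,
        Matrix.det_diagonal, Finset.prod_const] at hdet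
      have h00 : φ ((g ^ n).1 0 0) = c := by
        simpa using congrFun (congrFun hAn 0) 0
      refine φ.injective ?_
      rw [map_pow, h00, map_one, ← Finset.card_univ]
      exact hdet.symm
    · ext i j
      refine φ.injective ?_
      have h00 := congrFun (congrFun hAn 0) 0
      have hij := congrFun (congrFun hAn i) j
      simp only [Matrix.map_apply, Matrix.scalar_apply, Matrix.diagonal_apply] at h00 hij ⊢
      rw [hij]
      split
      · exact h00
      · exact map_zero φ
  have hfrob : ∀ l, P.IsRoot l → P.IsRoot (l ^ 4) := by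
    intro l hl
    have hPm : P = (g.1.charpoly).map φ := by rw [hP, hA, Matrix.charpoly_map]
    have he : expand (AlgebraicClosure F) 4 P = P ^ 4 := by
      rw [hPm, ← Polynomial.map_expand, ← hF, FiniteField.expand_card, Polynomial.map_pow]
    rw [IsRoot, ← Polynomial.expand_eval, he, eval_pow, hl, zero_pow (by norm_num)]
  have hmem : ∀ l, P.IsRoot l ↔ l ∈ P.roots := fun l => (mem_roots hP0).symm
  have hcard : Multiset.card P.roots = 3 := by
    rw [splits_iff_card_roots.1 (IsAlgClosed.splits P), hP, Matrix.charpoly_natDegree_eq_dim, Fintype.card_fin]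
  have hprod : P.roots.prod = 1 := by
    rw [← Matrix.det_eq_prod_roots_charpoly, hA, ← RingHom.mapMatrix_apply, ← RingHom.map_det, g.2, map_one]
  obtain ⟨a, b, c, habc⟩ := Multiset.card_eq_three.1 hcard
  by_cases hall3 : ∀ l, P.IsRoot l → l ^ 45 = 1 → l ^ 3 = 1
  · exact finish 3 (by norm_num) 1 hall3
  push Not at hall3
  obtain ⟨l, hl, hl45, hl3⟩ := hall3
  have hl0 : l ≠ 0 := fun h => by simp [h] at hl45
  have cancel : ∀ m n : ℕ, l ^ (m + n) = l ^ m → l ^ n = 1 := fun m n h => by
    rw [pow_add] at h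
    exact mul_left_cancel₀ (pow_ne_zero m hl0) (h.trans (mul_one _).symm)
  have hl4 : l ^ 4 ≠ l := fun h => hl3 (cancel 1 3 (by rw [pow_one]; exact h))
  have r1 := (hmem l).1 hl
  have r4 := (hmem _).1 (hfrob l hl)
  have r16 := (hmem _).1 (hfrob _ (hfrob l hl))
  have r64 := (hmem _).1 (hfrob _ (hfrob _ (hfrob l hl)))
  simp only [← pow_mul, show (4 * 4 : ℕ) = 16 from rfl, show (4 * 4 * 4 : ℕ) = 64 from rfl] at r16 r64
  by_cases h15 : l ^ 15 = 1
  · obtain ⟨t, ht⟩ := Multiset.exists_cons_of_mem r1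
    have r4' : l ^ 4 ∈ t := (Multiset.mem_cons.1 (ht ▸ r4)).resolve_left hl4
    obtain ⟨t', ht'⟩ := Multiset.exists_cons_of_mem r4'
    have hc1 : Multiset.card t' = 1 := by
      rw [ht, ht'] at hcard
      simpa using hcard
    obtain ⟨μ, rfl⟩ := Multiset.card_eq_one.1 hc1
    rw [ht, ht'] at hprod
    simp at hprod
    refine finish 5 (by norm_num) (l ^ 5) fun k hk _ => ?_
    have hk' := (hmem k).1 hk
    rw [ht, ht'] at hk'
    simp at hk'
    rcases hk' with rfl | rfl | rfl
    · rfl
    · rw [← pow_mul, show 4 * 5 = 5 + 15 from rfl, pow_add, h15, mul_one]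
    · refine mul_right_cancel₀ (pow_ne_zero 25 hl0) ?_
      calc k ^ 5 * l ^ 25 = (l * (l ^ 4 * k)) ^ 5 := by ring
        _ = 1 := by rw [hprod, one_pow]
        _ = l ^ 5 * l ^ 25 := by
          rw [← pow_add, show 5 + 25 = 15 * 2 from rfl, pow_mul, h15, one_pow]
  · have n1 : l ^ 16 ≠ l := fun h => h15 (cancel 1 15 (by rw [pow_one]; exact h))
    have n2 : l ^ 16 ≠ l ^ 4 := fun h => hl3 (by
      have h12 : l ^ 12 = 1 := cancel 4 12 h
      calc l ^ 3 = (l ^ 12) ^ 4 := by
            rw [← pow_mul, show 12 * 4 = 45 + 3 from rfl, pow_add, hl45, one_mul]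
        _ = 1 := by rw [h12, one_pow])
    have hnd : ([l, l ^ 4, l ^ 16] : List (AlgebraicClosure F)).Nodup := by
      simp [Ne.symm hl4, Ne.symm n1, Ne.symm n2]
    have heq : (↑[l, l ^ 4, l ^ 16] : Multiset (AlgebraicClosure F)) = P.roots := by
      refine Multiset.eq_of_le_of_card_le ((Multiset.le_iff_subset (Multiset.coe_nodup.2 hnd)).2 ?_) (by simp [hcard])
      intro k hk
      simp at hk
      rcases hk with rfl | rfl | rfl
      · exact r1
      · exact r4
      · exact r16
    have h9 : l ^ 9 = 1 := by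
      rw [← heq] at r64
      simp at r64
      rcases r64 with h | h | h
      · have h63 : l ^ 63 = 1 := cancel 1 63 (by rw [pow_one]; exact h)
        rw [show l ^ 63 = l ^ 45 * l ^ 18 from pow_add l 45 18, hl45, one_mul] at h63
        calc l ^ 9 = l ^ 9 * (l ^ 18) ^ 2 := by rw [h63, one_pow, mul_one]
          _ = l ^ 45 := by ring
          _ = 1 := hl45
      · have h60 : l ^ 60 = 1 := cancel 4 60 h
        rw [show l ^ 60 = l ^ 45 * l ^ 15 from pow_add l 45 15, hl45, one_mul] at h60
        exact absurd h60 h15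
      · have h48 : l ^ 48 = 1 := cancel 16 48 h
        rw [show l ^ 48 = l ^ 45 * l ^ 3 from pow_add l 45 3, hl45, one_mul] at h48
        exact absurd h48 hl3
    refine finish 9 (by norm_num) 1 fun k hk _ => ?_
    have hk' := (hmem k).1 hk
    rw [← heq] at hk'
    simp at hk'
    rcases hk' with rfl | rfl | rfl
    · exact h9
    · rw [← pow_mul, mul_comm, pow_mul, h9, one_pow]
    · rw [← pow_mul, mul_comm, pow_mul, h9, one_pow]

end CfsgLib.Classical.PSL34
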