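/-
`PSL_3(4)`: the elements of order three are conjugate.
-/
import Mathlib

set_option autoImplicit false

namespace CfsgLib.Classical.PSL34Three

open Matrix Polynomial

variable {F : Type*} [Field F] [Fintype F]

theorem cube_eq_one (hF : Fintype.card F = 4) {a : F} (ha : a ≠ 0) : a ^ 3 = 1 := by
  simpa [hF] using FiniteField.pow_card_sub_one_eq_one a ha

theorem two_zero (hF : Fintype.card F = 4) : (2 : F) = 0 := by
  have h := FiniteField.cast_card_eq_zero F
  rw [hF] at h
  have : (2 : F) * 2 = 0 := by exact_mod_cast h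
  exact mul_self_eq_zero.1 this

/-- A primitive cube root of one. -/
theorem exists_omega (hF : Fintype.card F = 4) : ∃ w : F, w ≠ 0 ∧ w ≠ 1 ∧ w ^ 2 + w + 1 = 0 := by
  classical
  obtain ⟨w, hw⟩ : ((Finset.univ.erase (0 : F)).erase 1).Nonempty := by
    rw [← Finset.card_pos, Finset.card_erase_of_mem (by simp), Finset.card_erase_of_mem (by simp),
      Finset.card_univ, hF]
    norm_num
  simp only [Finset.mem_erase, Finset.mem_univ, and_true] at hw
  refine ⟨w, hw.2, hw.1, ?_⟩
  have : (w - 1) * (w ^ 2 + w + 1) = 0 := by linear_combination cube_eq_one hF hw.2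
  exact (mul_eq_zero.1 this).resolve_left (sub_ne_zero.2 hw.1)

/-- A scalar cube of a matrix of determinant one is trivial. -/
theorem cube_scalar_eq_one (hF : Fintype.card F = 4) (g : Matrix (Fin 3) (Fin 3) F)
    (hdet : g.det = 1) (z : F) (hz : g ^ 3 = z • (1 : Matrix (Fin 3) (Fin 3) F)) : z = 1 := by
  by_contra h1
  have hz0 : z ≠ 0 := by
    rintro rfl
    have := congrArg Matrix.det hz
    simp [det_pow, hdet] at this
  have hirr : Irreducible (X ^ 3 - C z : F[X]) := by
    apply X_pow_sub_C_irreducible_of_prime Nat.prime_three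
    intro b hb
    rcases eq_or_ne b 0 with rfl | hb0
    · exact hz0 (by simpa using hb.symm)
    · exact h1 (hb ▸ cube_eq_one hF hb0)
  have hmon : (X ^ 3 - C z : F[X]).Monic := monic_X_pow_sub_C z (by norm_num)
  have hroot : Polynomial.aeval g (X ^ 3 - C z : F[X]) = 0 := by
    simp [Algebra.algebraMap_eq_smul_one, hz]
  have hmin : minpoly F g = X ^ 3 - C z :=
    (minpoly.eq_of_irreducible_of_monic hirr hroot hmon).symm
  have hchar : g.charpoly = X ^ 3 - C z := by
    refine Polynomial.eq_of_monic_of_dvd_of_natDegree_le hmon g.charpoly_monic ?_ ?_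
    · rw [← hmin]; exact Matrix.minpoly_dvd_charpoly g
    · rw [Matrix.charpoly_natDegree_eq_dim, Polynomial.natDegree_X_pow_sub_C]; simp
  have h := Matrix.det_eq_sign_charpoly_coeff g
  rw [hdet, hchar] at h
  norm_num at h
  exact h1 h.symm

/-- An eigenbasis for a matrix with cube one. -/
theorem exists_eigenbasis (hF : Fintype.card F = 4) (g : Matrix (Fin 3) (Fin 3) F) (hg : g ^ 3 = 1) :
    ∃ (P : Matrix (Fin 3) (Fin 3) F) (d : Fin 3 → F),
      P.det ≠ 0 ∧ (∀ i, d i ^ 3 = 1) ∧ g * P = P * diagonal d := by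
  classical
  obtain ⟨w, hw0, hw1, hw⟩ := exists_omega hF
  have h2 := two_zero (F := F) hF
  set S : Set (Fin 3 → F) := {v | ∃ a : F, a ^ 3 = 1 ∧ g *ᵥ v = a • v}
  have hggg : ∀ v, g *ᵥ (g *ᵥ (g *ᵥ v)) = v := fun v => by
    rw [Matrix.mulVec_mulVec, Matrix.mulVec_mulVec, ← pow_two, ← pow_succ, hg, Matrix.one_mulVec]
  have hproj : ∀ (a : F), a ^ 3 = 1 → ∀ v,
      v + a ^ 2 • (g *ᵥ v) + a • (g *ᵥ (g *ᵥ v)) ∈ S := by
    intro a ha v
    refine ⟨a, ha, ?_⟩
    simp only [Matrix.mulVec_add, Matrix.mulVec_smul, hggg, smul_add, smul_smul, ← pow_two, ← pow_succ', ha,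
      one_smul]
    abel
  have hspan : ⊤ ≤ Submodule.span F S := by
    intro v _
    have h : v = (v + (1 : F) ^ 2 • (g *ᵥ v) + (1 : F) • (g *ᵥ (g *ᵥ v)))
        + (v + w ^ 2 • (g *ᵥ v) + w • (g *ᵥ (g *ᵥ v)))
        + (v + (w ^ 2) ^ 2 • (g *ᵥ v) + w ^ 2 • (g *ᵥ (g *ᵥ v))) := by
      have e1 : (1 : F) ^ 2 + w ^ 2 + (w ^ 2) ^ 2 = 0 := by linear_combination (w ^ 2 - w + 1) * hw
      have e2 : (1 : F) + w + w ^ 2 = 0 := by linear_combination hw
      have e3 : (1 : F) + 1 + 1 = 1 := by linear_combination h2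
      calc v = ((1 : F) + 1 + 1) • v + ((1 : F) ^ 2 + w ^ 2 + (w ^ 2) ^ 2) • (g *ᵥ v)
            + ((1 : F) + w + w ^ 2) • (g *ᵥ (g *ᵥ v)) := by rw [e1, e2, e3]; simp
        _ = _ := by module
    rw [h]
    have hw3 := cube_eq_one hF hw0
    refine add_mem (add_mem ?_ ?_) ?_ <;> refine Submodule.subset_span (hproj _ ?_ v)
    · simp
    · exact hw3
    · rw [← pow_mul, pow_mul', hw3, one_pow]
  let b := Module.Basis.ofSpan hspan
  have hfin : Fintype ((linearIndepOn_empty F id).extend (Set.empty_subset S)) :=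
    FiniteDimensional.fintypeBasisIndex b
  let b' : Module.Basis (Fin 3) F (Fin 3 → F) :=
    b.reindex (Fintype.equivFinOfCardEq (by rw [← Module.finrank_eq_card_basis b]; simp))
  have hmem : ∀ i, b' i ∈ S := by
    intro i
    simp only [b', b, Module.Basis.reindex_apply]
    exact Module.Basis.ofSpan_subset hspan ⟨_, rfl⟩
  choose d hd hdv using hmem
  refine ⟨Matrix.of fun i j => b' j i, d, ?_, hd, ?_⟩
  · have : (Matrix.of fun i j => b' j i) = (Pi.basisFun F (Fin 3)).toMatrix b' := by
      ext i j; simp [Module.Basis.toMatrix_apply]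
    rw [this]
    have hu := (Pi.basisFun F (Fin 3)).isUnit_det b'
    rw [Module.Basis.det_apply] at hu
    exact hu.ne_zero
  · ext i j
    have := congrFun (hdv j) i
    simpa [Matrix.mul_apply, Matrix.mulVec, dotProduct, Matrix.diagonal_apply, mul_comm] using this

/-- A non-scalar matrix of determinant one and cube one has three distinct eigenvalues. -/
theorem exists_eigenbasis_injective (hF : Fintype.card F = 4) (g : Matrix (Fin 3) (Fin 3) F)
    (hg : g ^ 3 = 1) (hdet : g.det = 1) (hns : ∀ c : F, g ≠ c • (1 : Matrix (Fin 3) (Fin 3) F)) :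
    ∃ (P : Matrix (Fin 3) (Fin 3) F) (d : Fin 3 → F),
      P.det ≠ 0 ∧ (∀ i, d i ^ 3 = 1) ∧ g * P = P * diagonal d ∧ Function.Injective d := by
  obtain ⟨P, d, hP, hd, h⟩ := exists_eigenbasis hF g hg
  refine ⟨P, d, hP, hd, h, ?_⟩
  have hprod : d 0 * d 1 * d 2 = 1 := by
    have h' := congrArg Matrix.det h
    rw [Matrix.det_mul, Matrix.det_mul, hdet, Matrix.det_diagonal, one_mul, Fin.prod_univ_three] at h'
    exact (mul_right_eq_self₀.1 h'.symm).resolve_right hP
  have key : ∀ a b c : F, a ^ 3 = 1 → a * b * c = 1 → a = b → c = a := by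
    intro a b c ha habc hab
    subst hab
    have ha0 : a ≠ 0 := by rintro rfl; simp at ha
    exact mul_left_cancel₀ (mul_ne_zero ha0 ha0) (by linear_combination habc - ha)
  have hconst : ¬ (d 1 = d 0 ∧ d 2 = d 0) := by
    rintro ⟨h1, h2⟩
    have hdd : diagonal d = d 0 • (1 : Matrix (Fin 3) (Fin 3) F) := by
      rw [Matrix.smul_one_eq_diagonal]
      congr 1
      funext i
      fin_cases i <;> simp [h1, h2]
    rw [hdd, Matrix.mul_smul, Matrix.mul_one] at h
    apply hns (d 0)
    have hu : IsUnit P.det := isUnit_iff_ne_zero.2 hP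
    have h' := congrArg (· * P⁻¹) h
    simpa [Matrix.mul_assoc, Matrix.mul_nonsing_inv P hu] using h'
  intro i j hij
  fin_cases i <;> fin_cases j <;> simp at hij ⊢ <;> exfalso
  · exact hconst ⟨hij.symm, key _ _ _ (hd 0) hprod hij⟩
  · exact hconst ⟨key _ _ (d 1) (hd 0) (by linear_combination hprod) hij, hij.symm⟩
  · exact hconst ⟨hij, key _ _ (d 2) (hd 0) hprod hij.symm⟩
  · have := key _ _ (d 0) (hd 1) (by linear_combination hprod) hij
    exact hconst ⟨this.symm, hij.symm.trans this.symm⟩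
  · exact hconst ⟨key _ _ (d 1) (hd 0) (by linear_combination hprod) hij.symm, hij⟩
  · have := key _ _ (d 0) (hd 1) (by linear_combination hprod) hij.symm
    exact hconst ⟨this.symm, hij.trans this.symm⟩

/-- Conjugacy in the special linear group. -/
theorem isConj_of_cube (hF : Fintype.card F = 4) (g g' : SpecialLinearGroup (Fin 3) F)
    (hg : g ^ 3 = 1) (hg' : g' ^ 3 = 1) (hc : g ∉ Subgroup.center _) (hc' : g' ∉ Subgroup.center _) :
    IsConj g g' := by
  classical
  have hns : ∀ x : SpecialLinearGroup (Fin 3) F, x ∉ Subgroup.center _ →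
      ∀ c : F, (x : Matrix (Fin 3) (Fin 3) F) ≠ c • (1 : Matrix (Fin 3) (Fin 3) F) := by
    intro x hx c hxc
    apply hx
    rw [Subgroup.mem_center_iff]
    intro y
    apply Subtype.ext
    simp [hxc]
  obtain ⟨P, d, hP, hd, h, hdi⟩ := exists_eigenbasis_injective hF g.1
    (by have := congrArg Subtype.val hg; simpa using this) g.2 (hns g hc)
  obtain ⟨P', d', hP', hd', h', hdi'⟩ := exists_eigenbasis_injective hF g'.1
    (by have := congrArg Subtype.val hg'; simpa using this) g'.2 (hns g' hc')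
  let T : Finset F := Finset.univ.filter fun a => a ^ 3 = 1
  have hT : T.card = 3 := by
    have hTeq : T = Finset.univ.erase 0 := by
      ext a
      simp only [T, Finset.mem_filter, Finset.mem_univ, true_and, Finset.mem_erase, and_true]
      exact ⟨fun h0 h1 => by simp [h1] at h0, cube_eq_one hF⟩
    rw [hTeq, Finset.card_erase_of_mem (Finset.mem_univ _), Finset.card_univ, hF]
  have himg : ∀ e : Fin 3 → F, Function.Injective e → (∀ i, e i ^ 3 = 1) → Finset.univ.image e = T := by
    intro e he he3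
    refine Finset.eq_of_subset_of_card_le ?_ ?_
    · intro a ha
      obtain ⟨i, -, rfl⟩ := Finset.mem_image.1 ha
      simp [T, he3 i]
    · rw [Finset.card_image_of_injective _ he, hT]; simp
  have hex : ∀ i, ∃ j, d' j = d i := by
    intro i
    have : d i ∈ Finset.univ.image d' := by
      rw [himg d' hdi' hd']; simp [T, hd i]
    simpa using this
  choose σ hσ using hex
  have hσi : Function.Injective σ := fun i j e => hdi (by rw [← hσ i, ← hσ j, e])
  let s : Equiv.Perm (Fin 3) := Equiv.ofBijective σ ((Finite.injective_iff_bijective).1 hσi)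
  set R := P'.submatrix id s with hR
  have hR0 : R.det ≠ 0 := by
    rw [hR, Matrix.det_permute']
    exact mul_ne_zero (by rcases Int.units_eq_one_or (Equiv.Perm.sign s) with e | e <;> simp [e]) hP'
  have hgR : g'.1 * R = R * diagonal d := by
    ext i j
    have hh := congrFun (congrFun h' i) (s j)
    rw [Matrix.mul_diagonal] at hh ⊢
    simp only [Matrix.mul_apply, hR, Matrix.submatrix_apply, id] at hh ⊢
    rw [hh]
    simp [s, hσ]
  set D : Matrix (Fin 3) (Fin 3) F := diagonal ![P.det / R.det, 1, 1] with hD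
  set Q := R * D * P⁻¹ with hQdef
  have hu : IsUnit P.det := isUnit_iff_ne_zero.2 hP
  have hQ : Q.det = 1 := by
    rw [hQdef, Matrix.det_mul, Matrix.det_mul, hD, Matrix.det_diagonal, Matrix.det_nonsing_inv,
      Fin.prod_univ_three]
    simp
    field_simp
  let Q' : SpecialLinearGroup (Fin 3) F := ⟨Q, hQ⟩
  refine isConj_iff.2 ⟨Q', ?_⟩
  rw [mul_inv_eq_iff_eq_mul]
  apply Subtype.ext
  change Q * g.1 = g'.1 * Q
  have e1 : P⁻¹ * g.1 = diagonal d * P⁻¹ := by
    calc P⁻¹ * g.1 = P⁻¹ * (g.1 * P) * P⁻¹ := by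
          rw [Matrix.mul_assoc, Matrix.mul_assoc, Matrix.mul_nonsing_inv P hu, Matrix.mul_one]
      _ = _ := by rw [h, ← Matrix.mul_assoc P⁻¹, Matrix.nonsing_inv_mul P hu, Matrix.one_mul]
  have e2 : D * diagonal d = diagonal d * D := by
    rw [hD, diagonal_mul_diagonal, diagonal_mul_diagonal]
    simp [mul_comm]
  rw [hQdef, Matrix.mul_assoc, e1, ← Matrix.mul_assoc, Matrix.mul_assoc R, e2, ← Matrix.mul_assoc R, ← hgR]
  simp only [Matrix.mul_assoc]

/-- Elements of order three in the projective group are conjugate. -/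
theorem psl_isConj_order_three (hF : Fintype.card F = 4) (x y : ProjectiveSpecialLinearGroup (Fin 3) F)
    (hx : orderOf x = 3) (hy : orderOf y = 3) : IsConj x y := by
  have lift : ∀ u : ProjectiveSpecialLinearGroup (Fin 3) F, orderOf u = 3 →
      ∃ g : SpecialLinearGroup (Fin 3) F, QuotientGroup.mk g = u ∧ g ^ 3 = 1 ∧ g ∉ Subgroup.center _ := by
    intro u hu
    obtain ⟨g, rfl⟩ := QuotientGroup.mk_surjective u
    refine ⟨g, rfl, ?_, ?_⟩
    · have hg3 : g ^ 3 ∈ Subgroup.center _ := by
        rw [← QuotientGroup.eq_one_iff, QuotientGroup.mk_pow]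
        exact orderOf_dvd_iff_pow_eq_one.1 hu.dvd
      obtain ⟨z, -, hzz⟩ := Matrix.SpecialLinearGroup.mem_center_iff.1 hg3
      have hz' : (g : Matrix (Fin 3) (Fin 3) F) ^ 3 = z • (1 : Matrix (Fin 3) (Fin 3) F) := by
        rw [Matrix.smul_one_eq_diagonal]
        exact ((Matrix.SpecialLinearGroup.coe_pow g 3).symm.trans hzz.symm).trans rfl
      have hz1 := cube_scalar_eq_one hF g.1 g.2 z hz'
      apply Subtype.ext
      refine ((Matrix.SpecialLinearGroup.coe_pow g 3).trans hz').trans ?_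
      rw [hz1, one_smul]
      rfl
    · intro hc
      rw [← QuotientGroup.eq_one_iff] at hc
      rw [hc, orderOf_one] at hu
      omega
  obtain ⟨g, rfl, hg, hgc⟩ := lift x hx
  obtain ⟨g', rfl, hg', hgc'⟩ := lift y hy
  exact MonoidHom.map_isConj (QuotientGroup.mk' _) (isConj_of_cube hF g g' hg hg' hgc hgc')

end CfsgLib.Classical.PSL34Three
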