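/-
Standard bases of non-degenerate quadratic spaces.
-/
import Mathlib
import Cfsg.Agent.Lib.Classical.QuadDisc
import Cfsg.Agent.Lib.KnownSimple.POAut.FormClass

set_option autoImplicit false

namespace CfsgLib.Classical

variable {F V : Type*} [Field F] [AddCommGroup V] [Module F V] {k : ℕ} {J : Type} [Fintype J] [DecidableEq J]

theorem polar_qExt (Q₀ : QuadraticForm F (J → F)) (u w : (Fin k ⊕ Fin k) ⊕ J → F) :
    QuadraticMap.polar (qExt k Q₀) u w =
      (∑ i, (u (.inl (.inl i)) * w (.inl (.inr i)) + w (.inl (.inl i)) * u (.inl (.inr i)))) +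
        QuadraticMap.polar Q₀ (fun j => u (.inr j)) (fun j => w (.inr j)) := by
  simp only [QuadraticMap.polar, qExt_apply, Pi.add_apply, add_mul, mul_add, Finset.sum_add_distrib,
    show (fun j => u (Sum.inr j) + w (Sum.inr j)) = (fun j => u (Sum.inr j)) + fun j => w (Sum.inr j) from rfl]
  ring

theorem basis_spec {Q : QuadraticForm F V} {Q₀ : QuadraticForm F (J → F)}
    (ε : ((Fin k ⊕ Fin k) ⊕ J → F) ≃ₗ[F] V) (hε : ∀ w, Q (ε w) = qExt k Q₀ w) :
    let b := Module.Basis.ofEquivFun ε.symm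
    (∀ i, Q (b (.inl (.inl i))) = 0 ∧ Q (b (.inl (.inr i))) = 0) ∧
      (∀ i j, QuadraticMap.polar Q (b (.inl (.inl i))) (b (.inl (.inr j))) = if i = j then 1 else 0) ∧
      (∀ i j, QuadraticMap.polar Q (b (.inl (.inl i))) (b (.inl (.inl j))) = 0 ∧
        QuadraticMap.polar Q (b (.inl (.inr i))) (b (.inl (.inr j))) = 0) ∧
      (∀ i j, QuadraticMap.polar Q (b (.inl (.inl i))) (b (.inr j)) = 0 ∧
        QuadraticMap.polar Q (b (.inl (.inr i))) (b (.inr j)) = 0) ∧
      (∀ i, Q (b (.inr i)) = Q₀ (Pi.single i 1)) ∧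
      ∀ i j, QuadraticMap.polar Q (b (.inr i)) (b (.inr j)) =
        QuadraticMap.polar Q₀ (Pi.single i 1) (Pi.single j 1) := by
  intro b
  have hb : ∀ x, b x = ε (Pi.single x 1) := fun x => by
    rw [Module.Basis.coe_ofEquivFun, LinearEquiv.symm_symm]
  have hp : ∀ u w, QuadraticMap.polar Q (ε u) (ε w) = QuadraticMap.polar (qExt k Q₀) u w := fun u w => by
    simp only [QuadraticMap.polar, ← map_add, hε]
  have hl : ∀ x : Fin k ⊕ Fin k, (fun j => (Pi.single (Sum.inl x) 1 : (Fin k ⊕ Fin k) ⊕ J → F) (Sum.inr j)) = 0 :=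
    fun x => funext fun j => by simp
  have hr : ∀ i : J, (fun j => (Pi.single (Sum.inr i) 1 : (Fin k ⊕ Fin k) ⊕ J → F) (Sum.inr j)) = Pi.single i 1 :=
    fun i => funext fun j => by simp [Pi.single_apply]
  simp only [hb, hp, hε, polar_qExt, qExt_apply, hl, hr, QuadraticMap.map_zero, QuadraticMap.polar_zero_left,
    QuadraticMap.polar_zero_right]
  refine ⟨?_, ?_, ?_, ?_, ?_, ?_⟩ <;> intro i
  · simp [Pi.single_apply]
  · intro j; simp [Pi.single_apply, ite_and, eq_comm]
  · intro j; simp [Pi.single_apply]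
  · intro j; simp [Pi.single_apply]
  · simp [Pi.single_apply]
  · intro j; simp [Pi.single_apply]

/-- Scaling the second halves of the hyperbolic pairs. -/
def scaleY (c : F) (hc : c ≠ 0) : ((Fin k ⊕ Fin k) ⊕ J → F) ≃ₗ[F] ((Fin k ⊕ Fin k) ⊕ J → F) :=
  LinearEquiv.piCongrRight fun x => match x with
    | .inl (.inr _) => LinearEquiv.smulOfNeZero F F c hc
    | _ => LinearEquiv.refl F F

omit [DecidableEq J] in
theorem qExt_scaleY (c : F) (hc : c ≠ 0) (Q₀ : QuadraticForm F (J → F)) (w : (Fin k ⊕ Fin k) ⊕ J → F) :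
    qExt k Q₀ (scaleY c hc w) = c * qExt k (c⁻¹ • Q₀) w := by
  simp only [qExt_apply, mul_add, Finset.mul_sum, QuadraticMap.smul_apply, smul_eq_mul, mul_inv_cancel_left₀ hc]
  exact congrArg₂ (· + ·) (Finset.sum_congr rfl fun i _ => by simp [scaleY]; ring) rfl

theorem exists_anisotropic_one [Finite F] : ∃ ζ : F, ∀ t : F, t ^ 2 + t + ζ ≠ 0 := by
  by_contra h
  push Not at h
  have hs : Function.Surjective fun t : F => t ^ 2 + t := fun y => by
    obtain ⟨t, ht⟩ := h (-y)
    exact ⟨t, show t ^ 2 + t = y by linear_combination ht⟩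
  have h1 := (Finite.injective_iff_surjective.2 hs) (show (fun t : F => t ^ 2 + t) 0 = (fun t : F => t ^ 2 + t) (-1) by
    simp)
  exact one_ne_zero (neg_eq_zero.1 h1.symm)

end CfsgLib.Classical
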