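/-
Classical groups over a subfield inside classical groups over the field.
-/
import Mathlib
import Cfsg.Prelude.Def_LieClassical
import Cfsg.Agent.Lib.Classical.AltBasis
import Cfsg.Agent.Lib.Classical.SpBasic
import Cfsg.Agent.Lib.Classical.QuadStd
import Cfsg.Agent.Lib.Classical.OrthBasic

set_option autoImplicit false

namespace CfsgLib.Classical.Embeddings

open Matrix Cfsg

variable {F K : Type*} [Field F] [Fintype F] [Field K] [Fintype K]

theorem exists_ringHom_of_card {k : ℕ} (hk : k ≠ 0) (h : Fintype.card K = Fintype.card F ^ k) :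
    Nonempty (F →+* K) := by
  obtain ⟨p, hp⟩ := CharP.exists F
  obtain ⟨a, hprime, hF⟩ := FiniteField.card F p
  haveI : Fact p.Prime := ⟨hprime⟩
  obtain ⟨p', hp'⟩ := CharP.exists K
  obtain ⟨b, hprime', hK⟩ := FiniteField.card K p'
  rw [hF, hK, ← pow_mul] at h
  have hpp : p' = p := (Nat.prime_dvd_prime_iff_eq hprime' hprime).1
    (hprime'.dvd_of_dvd_pow (h ▸ dvd_pow_self p' (PNat.ne_zero b)))
  subst hpp
  letI := ZMod.algebra F p'
  letI := ZMod.algebra K p'
  have e1 : Module.finrank (ZMod p') F = (a : ℕ) := Nat.pow_right_injective hprime.two_le (by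
    show p' ^ Module.finrank (ZMod p') F = p' ^ (a : ℕ)
    rw [← hF, Module.card_eq_pow_finrank (K := ZMod p') (V := F), ZMod.card])
  have e2 : Module.finrank (ZMod p') K = (b : ℕ) := Nat.pow_right_injective hprime.two_le (by
    show p' ^ Module.finrank (ZMod p') K = p' ^ (b : ℕ)
    rw [← hK, Module.card_eq_pow_finrank (K := ZMod p') (V := K), ZMod.card])
  obtain ⟨f⟩ := FiniteField.nonempty_algHom_of_finrank_dvd (F := ZMod p') (K := F) (L := K)
    (by rw [e1, e2, Nat.pow_right_injective hprime.two_le h]; exact dvd_mul_right _ _)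
  exact ⟨f.toRingHom⟩

theorem gu_embeds {q : ℕ} (hK : Fintype.card K = q ^ 2) (hF : Fintype.card F = q) (m : ℕ) :
    ∃ φ : GU m K q →* symplecticGroup (Fin m) F, Function.Injective φ := by
  classical
  subst hF
  set q := Fintype.card F
  obtain ⟨ι⟩ := exists_ringHom_of_card (F := F) (K := K) two_ne_zero hK
  letI := ι.toAlgebra
  haveI : FiniteDimensional F K := Module.Finite.of_finite
  have hq1 : 1 < q := Fintype.one_lt_card
  have hd : Module.finrank F K = 2 := Nat.pow_right_injective hq1 (by
    show q ^ Module.finrank F K = q ^ 2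
    rw [← hK, Module.card_eq_pow_finrank (K := F) (V := K)])
  have hfix : ∀ x : K, x ^ q = x ↔ ∃ a : F, algebraMap F K a = x := by
    intro x
    refine ⟨fun h => ?_, ?_⟩
    · by_contra hx
      push Not at hx
      let P : Polynomial K := Polynomial.X ^ q - Polynomial.X
      have hP : P ≠ 0 := FiniteField.X_pow_card_sub_X_ne_zero K hq1
      have hPd : P.natDegree = q := FiniteField.X_pow_card_sub_X_natDegree_eq K hq1
      have hsub : insert x (Finset.univ.image (algebraMap F K)) ⊆ P.roots.toFinset := by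
        intro y hy
        rw [Multiset.mem_toFinset, Polynomial.mem_roots hP, Polynomial.IsRoot.def]
        rcases Finset.mem_insert.1 hy with rfl | hy
        · simp [P, h]
        · obtain ⟨a, -, rfl⟩ := Finset.mem_image.1 hy
          simp [P, ← map_pow, FiniteField.pow_card, q]
      have hc := (Finset.card_le_card hsub).trans ((Multiset.toFinset_card_le _).trans (Polynomial.card_roots' P))
      rw [Finset.card_insert_of_notMem (fun h' => by
          obtain ⟨a, -, ha⟩ := Finset.mem_image.1 h'
          exact hx a ha), Finset.card_image_of_injective _ (algebraMap F K).injective, Finset.card_univ, hPd] at hc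
      omega
    · rintro ⟨a, rfl⟩
      rw [← map_pow, FiniteField.pow_card]
  obtain ⟨p, hp⟩ := CharP.exists K
  obtain ⟨b, hprime, hKc⟩ := FiniteField.card K p
  haveI : Fact p.Prime := ⟨hprime⟩
  obtain ⟨n, -, hn⟩ := (Nat.dvd_prime_pow hprime).1 (show q ∣ p ^ (b : ℕ) from hKc ▸ hK ▸ dvd_pow_self q two_ne_zero)
  have hfa : ∀ x y : K, (x + y) ^ q = x ^ q + y ^ q := fun x y => by rw [hn, add_pow_char_pow]
  have hqq : ∀ x : K, (x ^ q) ^ q = x := fun x => by rw [← pow_mul, ← sq, ← hK, FiniteField.pow_card]
  -- a non-zero element of trace zero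
  obtain ⟨δ, hδ0, hδ⟩ : ∃ δ : K, δ ≠ 0 ∧ δ ^ q + δ = 0 := by
    by_contra h
    push Not at h
    have hinj : Function.Injective fun x : K => (⟨x ^ q + x, (hfix _).1 (by rw [hfa, hqq, add_comm])⟩ :
        {y : K // ∃ a : F, algebraMap F K a = y}) := by
      intro x y hxy
      by_contra hne
      refine h (x - y) (sub_ne_zero.2 hne) ?_
      have h1 : x ^ q + x = y ^ q + y := congrArg Subtype.val hxy
      have h2 := hfa (x - y) y
      rw [sub_add_cancel] at h2
      linear_combination h1 - h2
    have hc := Fintype.card_le_of_injective _ hinj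
    have hle : Fintype.card {y : K // ∃ a : F, algebraMap F K a = y} ≤ q :=
      Fintype.card_le_of_surjective (fun a : F => (⟨algebraMap F K a, a, rfl⟩ : {y : K // ∃ a : F, algebraMap F K a = y}))
        fun ⟨y, a, ha⟩ => ⟨a, Subtype.ext ha⟩
    have : q ^ 2 ≤ q := hK ▸ hc.trans hle
    have := Nat.pow_le_pow_right hq1.le (show 2 ≤ 2 from le_rfl)
    nlinarith
  let h := hermForm m K q
  have hsw : ∀ u v, h v u = (h u v) ^ q := fun u v => by
    simp only [h, hermForm]
    rw [show (∑ i, u i * v i ^ q) ^ q = ∑ i, (u i * v i ^ q) ^ q by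
      rw [hn, sum_pow_char_pow]]
    exact Finset.sum_congr rfl fun i _ => by rw [mul_pow, hqq, mul_comm]
  let g : (Fin m → K) → (Fin m → K) → K := fun u v => δ * h u v + (δ * h u v) ^ q
  have hgF : ∀ u v, ∃ a : F, algebraMap F K a = g u v := fun u v => (hfix _).1 (by
    simp only [g]; rw [hfa, hqq, add_comm])
  choose B hB using hgF
  have hadd : ∀ u u' v, h (u + u') v = h u v + h u' v := fun u u' v => by
    simp [h, hermForm, add_mul, Finset.sum_add_distrib]
  have hadd' : ∀ u v v', h u (v + v') = h u v + h u v' := fun u v v' => by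
    simp [h, hermForm, hfa, mul_add, Finset.sum_add_distrib]
  have hsm : ∀ (a : F) u v, h (a • u) v = algebraMap F K a * h u v := fun a u v => by
    simp [h, hermForm, Finset.mul_sum, Algebra.smul_def, mul_assoc]
  have hsm' : ∀ (a : F) u v, h u (a • v) = algebraMap F K a * h u v := fun a u v => by
    simp only [h, hermForm, Finset.mul_sum, Pi.smul_apply]
    simp only [Algebra.smul_def, mul_pow, ← map_pow, FiniteField.pow_card, q]
    exact Finset.sum_congr rfl fun i _ => by ring
  have hinjA := (algebraMap F K).injective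
  let Bf : LinearMap.BilinForm F (Fin m → K) := LinearMap.mk₂ F B
    (fun u u' v => hinjA (by rw [map_add, hB, hB, hB]; simp only [g, hadd, mul_add, hfa]; ring))
    (fun a u v => hinjA (by
      rw [smul_eq_mul, map_mul, hB, hB]
      simp only [g, hsm, mul_pow, ← map_pow, FiniteField.pow_card, q]; ring))
    (fun u v v' => hinjA (by rw [map_add, hB, hB, hB]; simp only [g, hadd', mul_add, hfa]; ring))
    (fun a u v => hinjA (by
      rw [smul_eq_mul, map_mul, hB, hB]
      simp only [g, hsm', mul_pow, ← map_pow, FiniteField.pow_card, q]; ring))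
  have hBf : ∀ u v, algebraMap F K (Bf u v) = g u v := fun u v => hB u v
  have halt : Bf.IsAlt := fun v => hinjA (by
    rw [map_zero, hBf]
    simp only [g, mul_pow, ← hsw v v]
    linear_combination (h v v) * hδ)
  obtain ⟨k, hk, e, he⟩ := exists_symp_equiv Bf halt (fun v hv => funext fun i => by
    by_contra hi
    refine hδ0 ?_
    -- the trace form is non-degenerate
    have hall : ∀ c : K, δ * (v i * c) + (δ * (v i * c)) ^ q = 0 := fun c => by
      have hs : h v (Pi.single i (c ^ q)) = v i * c := by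
        simp only [h, hermForm]
        rw [Finset.sum_eq_single i (fun j _ hj => by simp [hj, show q ≠ 0 by omega]) (by simp)]
        simp [hqq]
      have := (hBf v (Pi.single i (c ^ q))).symm
      rw [hv, map_zero] at this
      simpa [g, hs] using this
    by_contra hδ1
    obtain ⟨y, hy⟩ : ∃ y : K, y ^ q + y ≠ 0 := by
      by_contra hc
      push Not at hc
      have hfix1 : ∀ y : K, y ^ q = -y := fun y => eq_neg_of_add_eq_zero_left (hc y)
      have h11 := hfix1 1
      rw [one_pow] at h11
      have : Fintype.card K ≤ q := by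
        refine Fintype.card_le_of_surjective (fun a : F => algebraMap F K a) fun y => (hfix y).1 ?_
        rw [hfix1, ← neg_one_mul, ← h11, one_mul]
      rw [hK] at this
      nlinarith
    refine hy ?_
    have := hall (δ⁻¹ * (v i)⁻¹ * y)
    have hvi : v i ≠ 0 := hi
    rwa [show δ * (v i * (δ⁻¹ * (v i)⁻¹ * y)) = y by field_simp, add_comm] at this)

  obtain rfl : k = m := by
    rw [Module.finrank_pi_fintype, Finset.sum_const, hd, Finset.card_univ, Fintype.card_fin, smul_eq_mul] at hk
    omega
  let L : GU k K q →* Module.End F (Fin k ⊕ Fin k → F) :=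
    { toFun := fun A => e.symm.toLinearMap ∘ₗ ((Matrix.mulVecLin ((A : GL (Fin k) K) : Matrix (Fin k) (Fin k) K)).restrictScalars F) ∘ₗ e.toLinearMap
      map_one' := LinearMap.ext fun v => by simp
      map_mul' := fun A A' => LinearMap.ext fun v => by simp [Matrix.mulVec_mulVec] }
  have hL : ∀ (A : GU k K q) v, e (L A v) = ((A : GL (Fin k) K) : Matrix (Fin k) (Fin k) K) *ᵥ e v := fun A v =>
    e.apply_symm_apply _
  have hmem : ∀ A, LinearMap.toMatrix' (L A) ∈ symplecticGroup (Fin k) F := fun A => by
    refine mem_sp_iff.2 fun u v => ?_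
    rw [LinearMap.toMatrix'_mulVec, LinearMap.toMatrix'_mulVec, ← he, ← he, hL, hL]
    refine hinjA ?_
    rw [hBf, hBf]
    have hA : ∀ x y, h (((A : GL (Fin k) K) : Matrix (Fin k) (Fin k) K) *ᵥ x)
        (((A : GL (Fin k) K) : Matrix (Fin k) (Fin k) K) *ᵥ y) = h x y := fun x y => A.2 x y
    simp only [g, hA]
  refine ⟨MonoidHom.mk' (fun A => ⟨LinearMap.toMatrix' (L A), hmem A⟩) (fun A A' => Subtype.ext (
    (congrArg LinearMap.toMatrix' (map_mul L A A')).trans (LinearMap.toMatrix'_comp _ _))), fun A A' hAA => ?_⟩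
  have hL' : L A = L A' := LinearMap.toMatrix'.injective (congrArg Subtype.val hAA)
  refine Subtype.ext (Units.ext (Matrix.ext_of_mulVec_single fun i => ?_))
  obtain ⟨w, hw⟩ := e.surjective (Pi.single i 1)
  rw [← hw, ← hL, ← hL, hL']

theorem minus_embeds_plus {q : ℕ} (hF : Fintype.card F = q) (hK : Fintype.card K = q ^ 2) {m : ℕ} (hm : 1 ≤ m)
    (a c : F) (hac : BinAniso a c) :
    ∃ φ : isometryGroup F (quadFormMinus (m - 1) F a c) →* isometryGroup K (quadFormPlus m K), Function.Injective φ := by
  classical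
  subst hF
  obtain ⟨n, rfl⟩ : ∃ n, m = n + 1 := ⟨m - 1, by omega⟩
  let P : Polynomial F := Polynomial.X ^ 2 + Polynomial.C a * Polynomial.X + Polynomial.C c
  have hPm : P.Monic := by
    simp only [P]; monicity!
  have hPd : P.natDegree = 2 := by
    simp only [P]; compute_degree!
  haveI : Fact (Irreducible P) := ⟨(Polynomial.irreducible_iff_roots_eq_zero_of_degree_le_three
    (by rw [hPd]) (by rw [hPd]; norm_num)).2 (Multiset.eq_zero_of_forall_notMem fun x hx => by
      rw [Polynomial.mem_roots hPm.ne_zero, Polynomial.IsRoot.def] at hx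
      simp [P] at hx
      exact one_ne_zero (hac x 1 (by linear_combination hx)).2)⟩
  haveI : Module.Finite F (AdjoinRoot P) := hPm.finite_adjoinRoot
  haveI : Finite (AdjoinRoot P) := Module.finite_of_finite F
  haveI := Fintype.ofFinite (AdjoinRoot P)
  have hcard : Fintype.card (AdjoinRoot P) = Fintype.card K := by
    rw [Module.card_eq_pow_finrank (K := F) (V := AdjoinRoot P), (AdjoinRoot.powerBasis hPm.ne_zero).finrank,
      AdjoinRoot.powerBasis_dim, hPd, hK]
  let e := FiniteField.ringEquivOfCardEq hcard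
  let ι : F →+* K := e.toRingHom.comp (AdjoinRoot.of P)
  set α : K := e (AdjoinRoot.root P) with hαdef
  have hα : α * α + ι a * α + ι c = 0 := by
    have h := congrArg e (AdjoinRoot.eval₂_root P)
    simp only [P, Polynomial.eval₂_add, Polynomial.eval₂_mul, Polynomial.eval₂_pow, Polynomial.eval₂_X,
      Polynomial.eval₂_C, map_add, map_mul, map_pow, map_zero] at h
    simp only [ι, α, RingHom.comp_apply, RingEquiv.toRingHom_eq_coe, RingHom.coe_coe]
    linear_combination h
  set β : K := -ι a - α with hβ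
  have hαβ : α ≠ β := by
    intro h
    rcases eq_or_ne (2 : F) 0 with h2 | h2
    · -- characteristic two: then `a = 0` and `c` is a square
      haveI : CharP F 2 := CharTwo.of_one_ne_zero_of_two_eq_zero one_ne_zero h2
      have hK2 : (2 : K) = 0 := by rw [← map_ofNat ι 2, h2, map_zero]
      have ha0 : a = 0 := ι.injective (by rw [map_zero]; linear_combination h + hβ - α * hK2)
      obtain ⟨r, hr⟩ := FiniteField.isSquare_of_char_two (ringChar.eq F 2) c
      exact one_ne_zero (hac r 1 (by rw [ha0, hr]; linear_combination r * r * h2)).2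
    · have h1 : ι (a * a - 4 * c) = 0 := by
        rw [map_sub, map_mul, map_mul, map_ofNat]
        linear_combination (-4 : K) * hα + (2 * α + ι a) * h + (2 * α + ι a) * hβ
      have h3 : a * a - 4 * c = 0 := ι.injective (h1.trans (map_zero ι).symm)
      exact one_ne_zero (hac (-a / 2) 1 (by field_simp; linear_combination -h3)).2
  have hQF : ∀ (g : isometryGroup F (quadFormMinus n F a c)) (v : (Fin n ⊕ Fin n) ⊕ Fin 2 → K),
      qExt n (qBin (ι a) (ι c)) ((((g : GL ((Fin n ⊕ Fin n) ⊕ Fin 2) F) : Matrix _ _ F).map ι) *ᵥ v) =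
        qExt n (qBin (ι a) (ι c)) v := by
    intro g
    set M := ((g : GL ((Fin n ⊕ Fin n) ⊕ Fin 2) F) : Matrix ((Fin n ⊕ Fin n) ⊕ Fin 2) ((Fin n ⊕ Fin n) ⊕ Fin 2) F)
    have hbase : ∀ x : (Fin n ⊕ Fin n) ⊕ Fin 2 → F,
        qExt n (qBin (ι a) (ι c)) (ι ∘ x) = ι (quadFormMinus n F a c x) := fun x => by
      simp [qExt_apply, qBin_apply, quadFormMinus, map_sum]
    let L := Matrix.mulVecLin (M.map ι)
    have hLb : ∀ x : (Fin n ⊕ Fin n) ⊕ Fin 2 → F, L (ι ∘ x) = ι ∘ (M *ᵥ x) := fun x => by
      funext i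
      exact (RingHom.map_mulVec ι M x i).symm
    have hq0 : ∀ x : (Fin n ⊕ Fin n) ⊕ Fin 2 → F,
        qExt n (qBin (ι a) (ι c)) (L (ι ∘ x)) = qExt n (qBin (ι a) (ι c)) (ι ∘ x) := fun x => by
      rw [hLb, hbase, hbase]
      exact congrArg ι (isoApply_Q g x)
    set D : QuadraticForm K ((Fin n ⊕ Fin n) ⊕ Fin 2 → K) :=
      (qExt n (qBin (ι a) (ι c))).comp L - qExt n (qBin (ι a) (ι c)) with hD
    have hD0 : ∀ x, D (ι ∘ x) = 0 := fun x => by simp [hD, hq0]
    have hsingle : ∀ i, (Pi.single i 1 : (Fin n ⊕ Fin n) ⊕ Fin 2 → K) = ι ∘ Pi.single i 1 := fun i => funext fun j => by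
      simp [Pi.single_apply, apply_ite ι]
    have hpol : ∀ i j, QuadraticMap.polar D (Pi.single i 1) (Pi.single j 1) = 0 := fun i j => by
      rw [QuadraticMap.polar, hsingle, hsingle, show ι ∘ Pi.single i 1 + ι ∘ Pi.single j 1 =
        ι ∘ (Pi.single i 1 + Pi.single j 1) from funext fun x => (map_add ι _ _).symm, hD0, hD0, hD0]
      simp
    have hall : ∀ (s : Finset ((Fin n ⊕ Fin n) ⊕ Fin 2)) (v : (Fin n ⊕ Fin n) ⊕ Fin 2 → K),
        D (∑ i ∈ s, v i • Pi.single i 1) = 0 := by
      intro s v
      induction s using Finset.induction_on with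
      | empty => simp
      | insert i s hi ih =>
        have hs : QuadraticMap.polar D (v i • Pi.single i 1) (∑ j ∈ s, v j • Pi.single j 1) = 0 := by
          show QuadraticMap.polarBilin D (v i • Pi.single i 1) (∑ j ∈ s, v j • Pi.single j 1) = 0
          simp [map_sum, hpol]
        rw [Finset.sum_insert hi, QuadraticMap.map_add D, ih, hs, QuadraticMap.map_smul, hsingle, hD0]
        simp
    intro v
    have h := hall Finset.univ v
    rw [show (∑ i, v i • (Pi.single i 1 : (Fin n ⊕ Fin n) ⊕ Fin 2 → K)) = v from funext fun j => by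
      simp [Finset.sum_apply, Pi.single_apply]] at h
    simpa [hD, sub_eq_zero, L] using h
  let T : ((Fin n ⊕ Fin n) ⊕ Fin 2 → K) →ₗ[K] (Fin (n + 1) ⊕ Fin (n + 1) → K) :=
    { toFun := fun v => Sum.elim (Fin.snoc (fun i => v (.inl (.inl i))) (v (.inr 0) - α * v (.inr 1)))
        (Fin.snoc (fun i => v (.inl (.inr i))) (v (.inr 0) - β * v (.inr 1)))
      map_add' := fun u v => by
        funext i
        rcases i with i | i <;> induction i using Fin.lastCases <;> simp <;> ring
      map_smul' := fun k v => by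
        funext i
        rcases i with i | i <;> induction i using Fin.lastCases <;> simp <;> ring }
  have hTinj : Function.Injective T := by
    rw [injective_iff_map_eq_zero]
    intro v hv
    have h0 : v (.inr 0) - α * v (.inr 1) = 0 := by simpa [T] using congrFun hv (.inl (Fin.last n))
    have h1 : v (.inr 0) - β * v (.inr 1) = 0 := by simpa [T] using congrFun hv (.inr (Fin.last n))
    have hz : v (.inr 1) = 0 := (mul_eq_zero.1 (show (β - α) * v (.inr 1) = 0 by linear_combination h0 - h1)).resolve_left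
      (sub_ne_zero.2 hαβ.symm)
    funext i
    rcases i with (i | i) | i
    · simpa [T] using congrFun hv (.inl i.castSucc)
    · simpa [T] using congrFun hv (.inr i.castSucc)
    · fin_cases i
      · simpa [hz] using h0
      · exact hz
  let S := LinearEquiv.ofInjectiveOfFinrankEq T hTinj (by simp; omega)
  have hS : ∀ v, qPlus (n + 1) K (S v) = qExt n (qBin (ι a) (ι c)) v := fun v => by
    rw [show S v = T v from rfl, coe_qPlus, qExt_apply, qBin_apply, quadFormPlus, Fin.sum_univ_castSucc]
    simp only [T, LinearMap.coe_mk, AddHom.coe_mk, Sum.elim_inl, Sum.elim_inr, Fin.snoc_castSucc, Fin.snoc_last]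
    linear_combination (- v (.inr 1) * v (.inr 1)) * hα + (α * v (.inr 1) * v (.inr 1) - v (.inr 0) * v (.inr 1)) * hβ
  rw [← coe_qPlus (F := K) (n + 1)]
  let f : isometryGroup F (quadFormMinus n F a c) →* Module.End K (Fin (n + 1) ⊕ Fin (n + 1) → K) :=
    { toFun := fun g => S.toLinearMap ∘ₗ Matrix.mulVecLin
        (((g : GL ((Fin n ⊕ Fin n) ⊕ Fin 2) F) : Matrix ((Fin n ⊕ Fin n) ⊕ Fin 2) ((Fin n ⊕ Fin n) ⊕ Fin 2) F).map ι) ∘ₗ S.symm.toLinearMap
      map_one' := LinearMap.ext fun v => by simp [Matrix.map_one]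
      map_mul' := fun g g' => LinearMap.ext fun v => by simp [Matrix.map_mul, Matrix.mulVec_mulVec] }
  have hfQ : ∀ g v, qPlus (n + 1) K (f g v) = qPlus (n + 1) K v := fun g v => by
    obtain ⟨w, rfl⟩ := S.surjective v
    show qPlus (n + 1) K (S (_ *ᵥ S.symm (S w))) = _
    rw [S.symm_apply_apply, hS, hS, hQF]
  have hfinj : ∀ g, Function.Injective (f g) := fun g x y hxy => by
    have := congrArg (f g⁻¹) hxy
    rwa [← Module.End.mul_apply, ← Module.End.mul_apply, ← map_mul, inv_mul_cancel, map_one] at this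
  let Φ : isometryGroup F (quadFormMinus n F a c) →* isometryGroup K ⇑(qPlus (n + 1) K) :=
    MonoidHom.mk' (fun g => isoMk (Q := ⇑(qPlus (n + 1) K)) (f g) (hfinj g) (hfQ g)) fun g g' => iso_ext fun v => by
      rw [isoApply_mul, isoMk_apply, isoMk_apply, isoMk_apply, map_mul, Module.End.mul_apply]
  refine ⟨Φ, fun g g' h => ?_⟩
  have hf : f g = f g' := LinearMap.ext fun v => by
    have h' := congrArg (fun x => isoApply x v) h
    simpa [Φ, isoMk_apply] using h'
  refine Subtype.ext (Units.ext (Matrix.map_injective ι.injective (Matrix.ext_of_mulVec_single fun i => ?_)))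
  have h' := congrArg S.symm (LinearMap.congr_fun hf (S (Pi.single i 1)))
  simpa [f] using h'

end CfsgLib.Classical.Embeddings
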