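/-
Subgroups of index two of orthogonal groups over finite fields.
-/
import Cfsg.Agent.Lib.Classical.QuadCentre
import Cfsg.Agent.Lib.Classical.QuadBridge

set_option autoImplicit false

namespace CfsgLib.Classical

open scoped commutatorElement

theorem commutator_le_of_index_two {G : Type*} [Group G] {K : Subgroup G} (hK : K.index = 2) :
    commutator G ≤ K := by
  rw [commutator_def, Subgroup.commutator_le]
  intro g _ h _
  rw [commutatorElement_def]
  simp only [Subgroup.mul_mem_iff_of_index_two hK, inv_mem_iff]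
  tauto

/-- A subgroup of index two containing all products of two generating involutions has a unique subgroup of
index two, provided the commutator subgroup has index four. -/
theorem unique_index_two_of_pairs {G : Type*} [Group G] (S : Subgroup G) (R : Set G)
    (hR : Subgroup.closure R = ⊤) (hsq : ∀ r ∈ R, r * r = 1) (hpair : ∀ r ∈ R, ∀ r' ∈ R, r * r' ∈ S)
    (hS : S.index = 2) (hG : (commutator G).index = 4) :
    ∃! H : Subgroup S, H.index = 2 := by
  classical
  have hle : commutator G ≤ S := commutator_le_of_index_two hS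
  refine ⟨(commutator G).subgroupOf S, ?_, fun H hH => ?_⟩
  · have h := Subgroup.relIndex_mul_index hle
    rw [hS, hG] at h
    change (commutator G).relIndex S = 2
    omega
  · have hK : (H.map S.subtype).index = 4 := by rw [Subgroup.index_map_subtype, hH, hS]
    haveI : S.Normal := Subgroup.normal_of_index_eq_two hS
    let L := Subgroup.normalClosure {g : G | ∃ s ∈ S, g = s * s}
    have hLK : L ≤ H.map S.subtype := by
      have hset : {g : G | ∃ s ∈ S, g = s * s} = Group.conjugatesOfSet {g : G | ∃ s ∈ S, g = s * s} := by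
        refine Set.Subset.antisymm Group.subset_conjugatesOfSet fun x hx => ?_
        obtain ⟨_, ⟨s, hs, rfl⟩, hc⟩ := Group.mem_conjugatesOfSet_iff.1 hx
        obtain ⟨c, rfl⟩ := isConj_iff.1 hc
        exact ⟨c * s * c⁻¹, Subgroup.Normal.conj_mem inferInstance s hs c, by group⟩
      rw [show L = Subgroup.closure (Group.conjugatesOfSet {g : G | ∃ s ∈ S, g = s * s}) from rfl,
        ← hset, Subgroup.closure_le]
      rintro g ⟨s, hs, rfl⟩
      exact ⟨⟨s, hs⟩ * ⟨s, hs⟩, Subgroup.mul_self_mem_of_index_two hH ⟨s, hs⟩, rfl⟩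
    haveI : L.Normal := Subgroup.normalClosure_normal
    have hcomm : ∀ r ∈ R, ∀ r' ∈ R, (r : G ⧸ L) * (r' : G ⧸ L) = (r' : G ⧸ L) * (r : G ⧸ L) := by
      intro r hr r' hr'
      have h1 : ((r * r' * (r * r') : G) : G ⧸ L) = 1 :=
        (QuotientGroup.eq_one_iff _).2 (Subgroup.subset_normalClosure ⟨_, hpair r hr r' hr', rfl⟩)
      have e1 : (r : G ⧸ L) * r = 1 := by rw [← QuotientGroup.mk_mul, hsq r hr]; rfl
      have e2 : (r' : G ⧸ L) * r' = 1 := by rw [← QuotientGroup.mk_mul, hsq r' hr']; rfl
      rw [QuotientGroup.mk_mul, QuotientGroup.mk_mul] at h1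
      calc (r : G ⧸ L) * r' = ((r : G ⧸ L) * r') * ((r' : G ⧸ L) * r') * ((r : G ⧸ L) * r) := by
            rw [e1, e2, mul_one, mul_one]
        _ = ((r : G ⧸ L) * (r' * r')) * (r' * r) * r := by group
        _ = (r : G ⧸ L) * (r' * r) * r := by rw [e2, mul_one]
        _ = ((r : G ⧸ L) * r' * (r * r')) * (r' * r) := by
            simp only [mul_assoc]
            rw [← mul_assoc (r' : G ⧸ L) r' (r : G ⧸ L), e2, one_mul]
        _ = (r' : G ⧸ L) * r := by rw [h1, one_mul]
    have hab : ∀ x y : G, (x : G ⧸ L) * y = y * x := by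
      have h1 : ∀ r ∈ R, ∀ y : G, (r : G ⧸ L) * y = y * r := by
        intro r hr y
        have hy : y ∈ Subgroup.closure R := hR ▸ Subgroup.mem_top y
        have hle' : Subgroup.closure R ≤
            (Subgroup.centralizer {(r : G ⧸ L)}).comap (QuotientGroup.mk' L) :=
          (Subgroup.closure_le _).2 fun r' hr' => Subgroup.mem_centralizer_singleton_iff.2 (hcomm r' hr' r hr)
        exact (Subgroup.mem_centralizer_singleton_iff.1 (hle' hy)).symm
      intro x y
      have hx : x ∈ Subgroup.closure R := hR ▸ Subgroup.mem_top x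
      have hle' : Subgroup.closure R ≤
          (Subgroup.centralizer {(y : G ⧸ L)}).comap (QuotientGroup.mk' L) :=
        (Subgroup.closure_le _).2 fun r hr => Subgroup.mem_centralizer_singleton_iff.2 (h1 r hr y)
      exact Subgroup.mem_centralizer_singleton_iff.1 (hle' hx)
    have hcL : commutator G ≤ H.map S.subtype := by
      refine le_trans ?_ hLK
      rw [commutator_def, Subgroup.commutator_le]
      intro g _ h _
      rw [← QuotientGroup.eq_one_iff, commutatorElement_def]
      simp only [QuotientGroup.mk_mul, QuotientGroup.mk_inv]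
      rw [hab g h, mul_inv_cancel_right, mul_inv_cancel]
    have h := Subgroup.relIndex_mul_index hcL
    rw [hK, hG] at h
    have heq : H.map S.subtype = commutator G := le_antisymm (Subgroup.relIndex_eq_one.1 (by omega)) hcL
    rw [← heq, ← Subgroup.comap_subtype, Subgroup.comap_map_eq_self_of_injective S.subtype_injective]

/-- A group with abelianisation the four group has three subgroups of index two. -/
theorem card_index_two_of_surjective {G : Type*} [Group G] (ψ : G →* Multiplicative (ZMod 2) × ℤˣ)
    (hψ : Function.Surjective ψ) (hker : ψ.ker = commutator G) :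
    Nat.card {H : Subgroup G // H.index = 2} = 3 := by
  classical
  set T := Multiplicative (ZMod 2) × ℤˣ
  have hT : ∀ x : T, x * x = 1 := by decide
  have hcardT : Nat.card T = 4 := by
    rw [Nat.card_prod]
    simp [Nat.card_eq_fintype_card]
  let e : {K : Subgroup T // K.index = 2} → {H : Subgroup G // H.index = 2} := fun K =>
    ⟨K.1.comap ψ, by rw [Subgroup.index_comap_of_surjective _ hψ, K.2]⟩
  have he : Function.Bijective e := by
    refine ⟨fun K K' h => Subtype.ext (Subgroup.comap_injective hψ (congrArg Subtype.val h)), fun H => ?_⟩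
    have hle : ψ.ker ≤ H.1 := hker ▸ commutator_le_of_index_two H.2
    refine ⟨⟨H.1.map ψ, ?_⟩, Subtype.ext (Subgroup.comap_map_eq_self hle)⟩
    rw [← Subgroup.index_comap_of_surjective _ hψ, Subgroup.comap_map_eq_self hle]
    exact H.2
  rw [← Nat.card_congr (Equiv.ofBijective e he)]
  have hord : ∀ x : T, x ≠ 1 → orderOf x = 2 := fun x hx => orderOf_eq_prime (by rw [sq, hT]) hx
  let f : {x : T // x ≠ 1} → {K : Subgroup T // K.index = 2} := fun x => ⟨Subgroup.zpowers x.1, by
    have h := Subgroup.index_mul_card (Subgroup.zpowers x.1)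
    rw [Nat.card_zpowers, hord _ x.2, hcardT] at h
    omega⟩
  have hf : Function.Bijective f := by
    refine ⟨fun x y h => Subtype.ext ?_, fun K => ?_⟩
    · have h' : Subgroup.zpowers x.1 = Subgroup.zpowers y.1 := congrArg Subtype.val h
      have hx : x.1 ∈ Subgroup.zpowers y.1 := h' ▸ Subgroup.mem_zpowers x.1
      obtain ⟨k, hk⟩ := Subgroup.mem_zpowers_iff.1 hx
      rw [← zpow_mod_orderOf, hord _ y.2] at hk
      rcases Int.emod_two_eq_zero_or_one k with h' | h' <;> simp only [Nat.cast_ofNat, h'] at hk
      · exact absurd (by simpa using hk.symm) x.2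
      · simpa using hk.symm
    · have hK : Nat.card K.1 = 2 := by
        have h := Subgroup.index_mul_card K.1
        rw [K.2, hcardT] at h
        omega
      obtain ⟨x, hx, hx1⟩ := (Subgroup.ne_bot_iff_exists_ne_one).1 (fun h => by
        rw [h, Subgroup.card_bot] at hK
        omega) |> fun ⟨⟨x, hx⟩, hx1⟩ => (⟨x, hx, fun h => hx1 (Subtype.ext h)⟩ : ∃ x, x ∈ K.1 ∧ x ≠ 1)
      refine ⟨⟨x, hx1⟩, Subtype.ext (Subgroup.eq_of_le_of_card_ge (Subgroup.zpowers_le.2 hx) ?_)⟩
      rw [Nat.card_zpowers, hord _ hx1, hK]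
  rw [← Nat.card_congr (Equiv.ofBijective f hf), Nat.card_eq_fintype_card, Fintype.card_subtype_compl,
    Fintype.card_subtype_eq, ← Nat.card_eq_fintype_card, hcardT]

section Quad

variable {F V : Type*} [Field F] [AddCommGroup V] [Module F V] [FiniteDimensional F V] (Q : QuadraticForm F V)

omit [FiniteDimensional F V] in
/-- An isometry with one-dimensional moving space is a reflection. -/
theorem eq_refl_of_moves (hQ : PolarNondeg Q) {g : qAut Q} {u : V} (hg : g ≠ 1)
    (hu : ∀ x, g.1 x - x ∈ Submodule.span F {u}) :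
    ∃ hQu : Q u ≠ 0, g = qRefl Q hQu := by
  have hx : ∀ x, ∃ f : F, g.1 x = x + f • u := fun x => by
    obtain ⟨f, hf⟩ := Submodule.mem_span_singleton.1 (hu x)
    exact ⟨f, by rw [hf]; abel⟩
  choose f hf using hx
  have key : ∀ x, f x = 0 ∨ f x * Q u = -QuadraticMap.polar Q x u := by
    intro x
    have h := qAut_map g x
    rw [hf, quad_add, quad_smul, QuadraticMap.polar_smul_right, smul_eq_mul] at h
    rcases eq_or_ne (f x) 0 with h0 | h0
    · exact Or.inl h0
    · exact Or.inr (mul_left_cancel₀ h0 (by linear_combination h))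
  obtain ⟨x0, hx0⟩ : ∃ x, f x ≠ 0 := by
    by_contra hc
    push Not at hc
    exact hg (qAut_ext fun x => by rw [hf, hc, zero_smul, add_zero]; rfl)
  have hu0 : u ≠ 0 := by
    rintro rfl
    exact hg (qAut_ext fun x => by rw [hf, smul_zero, add_zero]; rfl)
  have hadd : ∀ x y, f (x + y) = f x + f y := fun x y => by
    have h := map_add g.1 x y
    rw [hf, hf, hf] at h
    refine smul_left_injective F hu0 ?_
    change f (x + y) • u = (f x + f y) • u
    linear_combination (norm := module) h
  have hQu : Q u ≠ 0 := by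
    intro h0
    refine hu0 (hQ u fun y => ?_)
    rcases key y with hy | hy
    · rcases key (x0 + y) with h | h
      · rw [hadd, hy, add_zero] at h
        exact absurd h hx0
      · rcases key x0 with h' | h'
        · exact absurd h' hx0
        rw [h0, mul_zero, eq_comm, neg_eq_zero] at h h'
        rw [QuadraticMap.polar_add_left, h', zero_add, QuadraticMap.polar_comm] at h
        exact h
    · rw [h0, mul_zero, eq_comm, neg_eq_zero, QuadraticMap.polar_comm] at hy
      exact hy
  refine ⟨hQu, qAut_ext fun x => ?_⟩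
  have hfx : f x * Q u = -QuadraticMap.polar Q x u := by
    rcases key x with h | h
    · rcases key (x0 + x) with h' | h'
      · rw [hadd, h, add_zero] at h'
        exact absurd h' hx0
      · rcases key x0 with h'' | h''
        · exact absurd h'' hx0
        rw [hadd, QuadraticMap.polar_add_left] at h'
        linear_combination h' - h''
    · exact h
  rw [hf, qRefl_apply, show (Q u)⁻¹ * QuadraticMap.polar Q x u = -f x by
    field_simp
    linear_combination hfx, neg_smul, sub_neg_eq_add]

/-- The subgroup generated by the reflections with value in one square class has index two. -/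
theorem index_class_refl [Fintype F] (h2 : (2 : F) ≠ 0) (hQ : PolarNondeg Q) (hev : Even (Module.finrank F V))
    (hn : 2 ≤ Module.finrank F V) (h43 : ¬(Module.finrank F V = 4 ∧ Fintype.card F = 3)) {c : F} (hc : c ≠ 0) :
    (Subgroup.closure {g : qAut Q | ∃ (v : V) (hv : Q v ≠ 0), IsSquare (Q v * c) ∧ g = qRefl Q hv}).index = 2 := by
  classical
  have hex : Fintype.card F ≠ 2 ∨ Module.finrank F V ≠ 4 := Or.inl fun h => by
    have hodd := FiniteField.odd_card_of_char_ne_two (F := F) fun hc => h2 (by
      haveI : CharP F 2 := hc ▸ ringChar.charP F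
      exact CharTwo.two_eq_zero)
    omega
  obtain ⟨ψ, hψs, hker, hfst, hiff⟩ := exists_abel_odd Q h2 hQ hn
  obtain ⟨D, hDrank, hD⟩ := exists_parity_hom Q hQ (reflGroup_eq_top Q hQ hex)
  set K := Subgroup.closure {g : qAut Q | ∃ (v : V) (hv : Q v ≠ 0), IsSquare (Q v * c) ∧ g = qRefl Q hv} with hKdef
  haveI hKn : K.Normal := by
    refine ⟨fun k hk g => ?_⟩
    induction hk using Subgroup.closure_induction with
    | mem x hx =>
      obtain ⟨v, hv, hsq, rfl⟩ := hx
      have hgv : Q (g.1 v) ≠ 0 := by rwa [qAut_map]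
      refine Subgroup.subset_closure ⟨g.1 v, hgv, by rwa [qAut_map], qRefl_conj Q g hv hgv⟩
    | one => simp
    | mul x y _ _ hx hy => simpa [mul_assoc] using mul_mem hx hy
    | inv x _ hx => simpa [mul_assoc] using inv_mem hx
  obtain ⟨v₀, hv₀⟩ := exists_value Q hQ hn hc
  have hv₀' : Q v₀ ≠ 0 := hv₀ ▸ hc
  obtain ⟨ε, hε⟩ := FiniteField.exists_nonsquare (F := F) (fun h => h2 (by
    haveI : CharP F 2 := h ▸ ringChar.charP F
    exact CharTwo.two_eq_zero))
  have hε0 : ε ≠ 0 := fun h => hε (h ▸ IsSquare.zero)
  obtain ⟨w₀, hw₀⟩ := exists_value Q hQ hn (mul_ne_zero hc hε0)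
  have hw₀' : Q w₀ ≠ 0 := hw₀ ▸ mul_ne_zero hc hε0
  have hrv : ∀ {v : V} (hv : Q v ≠ 0), IsSquare (Q v * c) → qRefl Q hv ∈ K :=
    fun {v} hv hs => Subgroup.subset_closure ⟨v, hv, hs, rfl⟩
  -- products of two reflections of the other class in a non-degenerate plane
  have plane : ∀ {w w' : V} (hw : Q w ≠ 0) (hw' : Q w' ≠ 0), Q w = Q w' →
      QuadraticMap.polar Q w w' * QuadraticMap.polar Q w w' ≠ 4 * (Q w * Q w') →
      qRefl Q hw * qRefl Q hw' ∈ K := by
    intro w w' hw hw' heq hdisc
    set P := Submodule.span F {w, w'} with hPdef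
    have hwP : w ∈ P := Submodule.subset_span (by simp)
    have hw'P : w' ∈ P := Submodule.subset_span (by simp)
    have hP : NdOn Q P := by
      intro x hx hall
      obtain ⟨s, t, rfl⟩ := Submodule.mem_span_pair.1 hx
      have h1 := hall w hwP
      have h3 := hall w' hw'P
      simp only [QuadraticMap.polar_add_left, QuadraticMap.polar_smul_left, smul_eq_mul, quad_polar_self,
        QuadraticMap.polar_comm Q w' w] at h1 h3
      have hd : QuadraticMap.polar Q w w' * QuadraticMap.polar Q w w' - 4 * (Q w * Q w') ≠ 0 :=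
        sub_ne_zero.2 hdisc
      have hs : s = 0 := (mul_eq_zero.1 (show s * (QuadraticMap.polar Q w w' * QuadraticMap.polar Q w w' -
        4 * (Q w * Q w')) = 0 by linear_combination QuadraticMap.polar Q w w' * h3 - 2 * Q w' * h1)).resolve_right hd
      have ht : t = 0 := (mul_eq_zero.1 (show t * (QuadraticMap.polar Q w w' * QuadraticMap.polar Q w w' -
        4 * (Q w * Q w')) = 0 by linear_combination QuadraticMap.polar Q w w' * h1 - 2 * Q w * h3)).resolve_right hd
      simp [hs, ht]
    obtain ⟨x, y, hxy⟩ : ∃ x y : F, Q (x • w + y • w') = c := by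
      set u := QuadraticMap.polar Q w w'
      set a := Q w
      set e := Q w' - u * u / (4 * a)
      have h4 : (4 : F) ≠ 0 := by
        rw [show (4 : F) = 2 * 2 by norm_num]
        exact mul_ne_zero h2 h2
      have he : e ≠ 0 := fun he => hdisc (by
        have := congrArg (fun z => 4 * a * z) he
        simp only [e, mul_sub, mul_zero, mul_div_cancel₀ _ (mul_ne_zero h4 hw)] at this
        linear_combination -this)
      obtain ⟨x, y, hxy⟩ := exists_mul_sq_add_mul_sq h2 hw he c
      refine ⟨x - u / (2 * a) * y, y, ?_⟩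
      rw [quad_add, quad_smul, quad_smul, QuadraticMap.polar_smul_left, QuadraticMap.polar_smul_right,
        smul_eq_mul, smul_eq_mul]
      obtain ⟨t, ht⟩ : ∃ t, t = u / (2 * a) := ⟨_, rfl⟩
      have hut : u = 2 * a * t := by rw [ht, mul_div_cancel₀ _ (mul_ne_zero h2 hw)]
      have he' : e = Q w' - a * t * t := by
        simp only [e]
        have ha : a ≠ 0 := hw
        rw [show u * u / (4 * a) = a * t * t by rw [hut]; field_simp; ring]
      rw [← hxy, he', ← ht, show QuadraticMap.polar Q w w' = 2 * a * t from hut, show Q w = a from rfl]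
      ring
    set v := x • w + y • w' with hvdef
    have hvP : v ∈ P := P.add_mem (P.smul_mem _ hwP) (P.smul_mem _ hw'P)
    have hv : Q v ≠ 0 := hxy ▸ hc
    set h := qRefl Q hv * (qRefl Q hw * qRefl Q hw') with hh
    have hmove : ∀ z, h.1 z - z ∈ P := by
      intro z
      simp only [hh, qAut_mul_apply, qRefl_apply]
      rw [show ∀ a b d : V, z - a - b - d - z = -a - b - d from fun a b d => by abel]
      exact P.sub_mem (P.sub_mem (P.neg_mem (P.smul_mem _ hw'P)) (P.smul_mem _ hwP)) (P.smul_mem _ hvP)
    have hrange : LinearMap.range (h.1.toLinearMap - LinearMap.id) ≤ P := by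
      rintro _ ⟨z, rfl⟩
      exact hmove z
    have hrank : qRank Q h = 1 := by
      have hPr : Module.finrank F P ≤ 2 := by
        have h' := finrank_span_finset_le_card (R := F) ({w, w'} : Finset V)
        rw [Set.finrank] at h'
        rw [hPdef, show ({w, w'} : Set V) = (({w, w'} : Finset V) : Set V) by simp]
        exact h'.trans Finset.card_le_two
      have hle : qRank Q h ≤ 2 := (Submodule.finrank_mono hrange).trans hPr
      have hpar : (qRank Q h : ZMod 2) = 1 := by
        have h3 := hDrank h
        rw [hh, map_mul, map_mul, hD, hD, hD] at h3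
        exact (congrArg Multiplicative.toAdd h3).symm.trans (by decide)
      interval_cases hq : qRank Q h <;> simp_all [show (2 : ZMod 2) = 0 from rfl]
    obtain ⟨u, hu⟩ := (finrank_eq_one_iff'.1 hrank)
    have hne : h ≠ 1 := fun h1 => by rw [h1, qRank_one] at hrank; omega
    obtain ⟨hQu, hhu⟩ := eq_refl_of_moves Q hQ (u := (u : V)) hne fun z => by
      obtain ⟨t, ht⟩ := hu.2 ⟨h.1 z - z, ⟨z, rfl⟩⟩
      exact Submodule.mem_span_singleton.2 ⟨t, congrArg Subtype.val ht⟩
    have hcls : IsSquare (Q (u : V) * c) := by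
      have e1 : ψ (qRefl Q hw) = ψ (qRefl Q hw') := (hiff w w' hw hw').2 ⟨Q w, by rw [heq]⟩
      have e2 : ψ (qRefl Q hw') * ψ (qRefl Q hw') = 1 := by rw [← map_mul, qRefl_mul_self, map_one]
      have e3 : ψ (qRefl Q hQu) = ψ (qRefl Q hv) := by
        rw [← hhu, hh, map_mul, map_mul, e1, e2, mul_one]
      rw [← hxy]
      exact (hiff _ _ hQu hv).1 e3
    rw [show qRefl Q hw * qRefl Q hw' = qRefl Q hv * h by rw [hh, ← mul_assoc, qRefl_mul_self, one_mul], hhu]
    exact mul_mem (hrv hv ⟨c, by rw [hxy]⟩) (hrv hQu hcls)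
  have hother : ∀ {w : V} (hw : Q w ≠ 0), Q w = c * ε → qRefl Q hw₀' * qRefl Q hw ∈ K := by
    intro w hw hqw
    set d := c * ε with hd
    have hd0 : d ≠ 0 := mul_ne_zero hc hε0
    by_cases hdisc : QuadraticMap.polar Q w₀ w * QuadraticMap.polar Q w₀ w ≠ 4 * (Q w₀ * Q w)
    · exact plane hw₀' hw (hw₀.trans hqw.symm) hdisc
    push Not at hdisc
    obtain ⟨s, hs2, hs⟩ : ∃ s : F, (s = 1 ∨ s = -1) ∧ QuadraticMap.polar Q w₀ w = s * (2 * d) := by
      rw [hw₀, hqw] at hdisc
      have : (QuadraticMap.polar Q w₀ w - 2 * d) * (QuadraticMap.polar Q w₀ w + 2 * d) = 0 := by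
        linear_combination hdisc
      rcases mul_eq_zero.1 this with h | h
      · exact ⟨1, Or.inl rfl, by linear_combination h⟩
      · exact ⟨-1, Or.inr rfl, by linear_combination h⟩
    have hss : s * s = 1 := by rcases hs2 with rfl | rfl <;> ring
    set z := w - s • w₀ with hz
    have hwz : w = s • w₀ + z := by rw [hz]; abel
    have hz0 : QuadraticMap.polar Q w₀ z = 0 := by
      rw [hz, QuadraticMap.polar_sub_right, QuadraticMap.polar_smul_right, quad_polar_self, hs, hw₀, smul_eq_mul,
        sub_self]
    have hQz : Q z = 0 := by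
      have h := hqw
      rw [hwz, quad_add, quad_smul, hw₀, QuadraticMap.polar_smul_left, hz0, hss] at h
      simpa using h
    rcases eq_or_ne z 0 with hzz | hzne
    · have hws : w = s • w₀ := by rw [hwz, hzz, add_zero]
      subst hws
      rw [qRefl_smul Q hw₀' hw, qRefl_mul_self]
      exact one_mem K
    have hamb : NdOn Q (⊤ : Submodule F V) := fun x _ h => hQ x fun y => h y trivial
    have hP := ndOn_linePerp Q h2 hamb (Submodule.mem_top (x := w₀)) hw₀'
    have hzP : z ∈ ⊤ ⊓ LinearMap.ker (QuadraticMap.polarBilin Q w₀) := ⟨trivial, hz0⟩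
    obtain ⟨y, hyP, hy, hzy⟩ := exists_partner Q hP hzP hzne hQz
    have hy0 : QuadraticMap.polar Q w₀ y = 0 := hyP.2
    obtain ⟨u, hQu, hu0, hu⟩ : ∃ u, Q u = d ∧ QuadraticMap.polar Q w₀ u = 0 ∧
        QuadraticMap.polar Q u w * QuadraticMap.polar Q u w ≠ 4 * (d * d) := by
      have hd4 : (4 : F) * (d * d) ≠ 0 := mul_ne_zero (by
        rw [show (4 : F) = 2 * 2 by norm_num]
        exact mul_ne_zero h2 h2) (mul_ne_zero hd0 hd0)
      by_cases hbig : ∃ t : F, t ≠ 0 ∧ t * t ≠ 4 * (d * d)
      · obtain ⟨t, ht, ht'⟩ := hbig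
        refine ⟨t • y + (d / t) • z, ?_, ?_, ?_⟩
        · rw [quad_add, quad_smul, quad_smul, hy, hQz, QuadraticMap.polar_smul_left, QuadraticMap.polar_smul_right,
            QuadraticMap.polar_comm Q y z, hzy]
          simp only [smul_eq_mul, mul_zero, zero_add, mul_one]
          field_simp
        · simp [hy0, hz0]
        · rw [hwz]
          simp only [QuadraticMap.polar_add_left, QuadraticMap.polar_add_right, QuadraticMap.polar_smul_left,
            QuadraticMap.polar_smul_right, QuadraticMap.polar_comm Q y w₀, QuadraticMap.polar_comm Q z w₀, hy0, hz0,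
            QuadraticMap.polar_comm Q y z, hzy, quad_polar_self, hQz, smul_eq_mul, mul_zero, add_zero, zero_add,
            mul_one]
          exact ht'
      · push Not at hbig
        have hcard : Fintype.card F = 3 := by
          have hsub : (Finset.univ : Finset F) ⊆ {0, 2 * d, -(2 * d)} := fun t _ => by
            simp only [Finset.mem_insert, Finset.mem_singleton]
            rcases eq_or_ne t 0 with rfl | ht
            · exact Or.inl rfl
            rcases mul_eq_zero.1 (show (t - 2 * d) * (t + 2 * d) = 0 by linear_combination hbig t ht) with h | h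
            · exact Or.inr (Or.inl (by linear_combination h))
            · exact Or.inr (Or.inr (by linear_combination h))
          have h3 := (Finset.card_le_card hsub).trans Finset.card_le_three
          rw [Finset.card_univ] at h3
          have hodd := FiniteField.odd_card_of_char_ne_two (F := F) fun hc' => h2 (by
            haveI : CharP F 2 := hc' ▸ ringChar.charP F
            exact CharTwo.two_eq_zero)
          have := Fintype.one_lt_card (α := F)
          omega
        have hR := ndOn_pairPerp Q hP hzP hyP hQz hy hzy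
        set R := ⊤ ⊓ LinearMap.ker (QuadraticMap.polarBilin Q w₀) ⊓ LinearMap.ker (QuadraticMap.polarBilin Q z) ⊓
          LinearMap.ker (QuadraticMap.polarBilin Q y)
        have hRdim : 2 ≤ Module.finrank F R := by
          have hn4 : Module.finrank F V ≠ 4 := fun h => h43 ⟨h, hcard⟩
          have hzy' : QuadraticMap.polar Q z y ≠ 0 := by rw [hzy]; exact one_ne_zero
          have hge2 : 4 ≤ Module.finrank F V := by
            by_contra hlt
            have h2' : Module.finrank F V = 2 := by
              obtain ⟨k, hk⟩ := hev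
              omega
            have h1 := finrank_linePerp Q h2 hw₀'
            have hsub : Submodule.span F {z} ⊔ Submodule.span F {y} ≤
                LinearMap.ker (QuadraticMap.polarBilin Q w₀) :=
              sup_le ((Submodule.span_singleton_le_iff_mem _ _).2 hz0) ((Submodule.span_singleton_le_iff_mem _ _).2 hy0)
            have hrank1 : Module.finrank F (LinearMap.ker (QuadraticMap.polarBilin Q w₀)) = 1 := by omega
            have hline : ∀ a ∈ LinearMap.ker (QuadraticMap.polarBilin Q w₀), ∃ t : F, t • z = a := fun a ha => by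
              obtain ⟨t, ht⟩ := (finrank_eq_one_iff_of_nonzero' (⟨z, hz0⟩ : LinearMap.ker (QuadraticMap.polarBilin Q w₀))
                (fun h => hzne (congrArg Subtype.val h))).1 hrank1 ⟨a, ha⟩
              exact ⟨t, congrArg Subtype.val ht⟩
            obtain ⟨t, ht⟩ := hline y hy0
            rw [← ht, QuadraticMap.polar_smul_right, quad_polar_self, hQz] at hzy'
            simp at hzy'
          obtain ⟨k, hk⟩ := hev
          have hge : 6 ≤ Module.finrank F V := by omega
          let f : V →ₗ[F] F × F × F := (QuadraticMap.polarBilin Q w₀).prod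
            ((QuadraticMap.polarBilin Q z).prod (QuadraticMap.polarBilin Q y))
          have hk' : LinearMap.ker f = R := by
            ext a
            simp [f, R, Prod.ext_iff, and_assoc]
          have h1 := LinearMap.finrank_range_add_finrank_ker f
          have h3 := Submodule.finrank_le (LinearMap.range f)
          simp only [Module.finrank_prod, Module.finrank_self] at h3
          rw [hk'] at h1
          omega
        haveI : FiniteDimensional F R := inferInstance
        have hQR : PolarNondeg (Q.comp R.subtype) := fun a ha => Subtype.ext (hR a a.2 fun b hb => by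
          simpa [QuadraticMap.polar] using ha ⟨b, hb⟩)
        obtain ⟨⟨u, hu⟩, hQu⟩ := exists_value (Q.comp R.subtype) hQR hRdim hd0
        have hu0 : u ∈ LinearMap.ker (QuadraticMap.polarBilin Q w₀) := hu.1.1.2
        have huz : u ∈ LinearMap.ker (QuadraticMap.polarBilin Q z) := hu.1.2
        simp only [SetLike.mem_coe, LinearMap.mem_ker, QuadraticMap.polarBilin_apply_apply] at hu0 huz
        refine ⟨u, hQu, hu0, ?_⟩
        rw [hwz, QuadraticMap.polar_add_right, QuadraticMap.polar_smul_right, QuadraticMap.polar_comm Q u w₀, hu0,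
          QuadraticMap.polar_comm Q u z, huz, smul_zero, add_zero, zero_mul]
        exact hd4.symm
    have hu' : Q u ≠ 0 := hQu ▸ hd0
    have h1 := plane hw₀' hu' (hw₀.trans hQu.symm) (by
      rw [hu0, hw₀, hQu, zero_mul]
      exact (mul_ne_zero (by rw [show (4 : F) = 2 * 2 by norm_num]; exact mul_ne_zero h2 h2)
        (mul_ne_zero hd0 hd0)).symm)
    have h3 := plane hu' hw (hQu.trans hqw.symm) (by rwa [hQu, hqw])
    have := mul_mem h1 h3
    rwa [mul_assoc, ← mul_assoc (qRefl Q hu'), qRefl_mul_self, one_mul] at this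
  have hnot : qRefl Q hw₀' ∉ K := by
    intro hmem
    have hψK : ∀ g ∈ K, ψ g = 1 ∨ ψ g = ψ (qRefl Q hv₀') := by
      intro g hg
      have e : ψ (qRefl Q hv₀') * ψ (qRefl Q hv₀') = 1 := by rw [← map_mul, qRefl_mul_self, map_one]
      induction hg using Subgroup.closure_induction with
      | mem x hx =>
        obtain ⟨v, hv, hsq, rfl⟩ := hx
        exact Or.inr ((hiff v v₀ hv hv₀').2 (by rwa [hv₀]))
      | one => exact Or.inl (map_one _)
      | mul x y _ _ hx hy => rcases hx with hx | hx <;> rcases hy with hy | hy <;> simp [map_mul, hx, hy, e]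
      | inv x _ hx => rcases hx with hx | hx <;> simp [map_inv, hx, inv_eq_of_mul_eq_one_right e]
    rcases hψK _ hmem with h | h
    · have := congrArg Prod.fst h
      rw [hfst] at this
      exact absurd this (by decide)
    · have hs := (hiff _ _ hw₀' hv₀').1 h
      rw [hw₀, hv₀] at hs
      have h' := hs.mul (show IsSquare (c⁻¹ * c⁻¹) from ⟨_, rfl⟩)
      rw [show c * ε * c * (c⁻¹ * c⁻¹) = ε by field_simp] at h'
      exact hε h'
  have hcover : ∀ g : qAut Q, g ∈ K ∨ qRefl Q hw₀' * g ∈ K := by
    intro g
    have hg : g ∈ reflGroup Q := reflGroup_eq_top Q hQ hex ▸ Subgroup.mem_top g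
    have mk : ∀ {v : V} (hv : Q v ≠ 0), qRefl Q hv ∈ K ∨ qRefl Q hw₀' * qRefl Q hv ∈ K := by
      intro v hv
      by_cases hs : IsSquare (Q v * c)
      · exact Or.inl (hrv hv hs)
      · right
        obtain ⟨r, hr⟩ := isSquare_mul_of_not_isSquare h2 hs hε
        have hr0 : r ≠ 0 := fun h => by
          rw [h, mul_zero] at hr
          exact mul_ne_zero (mul_ne_zero hv hc) hε0 hr
        have hq : Q ((c * ε / r) • v) = c * ε := by
          rw [quad_smul]
          field_simp
          linear_combination hr
        have hne : Q ((c * ε / r) • v) ≠ 0 := by rw [hq]; exact mul_ne_zero hc hε0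
        rw [← qRefl_smul Q hv hne]
        exact hother hne hq
    have hmul : ∀ a b, (a ∈ K ∨ qRefl Q hw₀' * a ∈ K) → (b ∈ K ∨ qRefl Q hw₀' * b ∈ K) →
        (a * b ∈ K ∨ qRefl Q hw₀' * (a * b) ∈ K) := by
      intro a b ha hb
      rcases ha with ha | ha <;> rcases hb with hb | hb
      · exact Or.inl (mul_mem ha hb)
      · refine Or.inr ?_
        have h := mul_mem (hKn.conj_mem a ha (qRefl Q hw₀')) hb
        rwa [mul_assoc (qRefl Q hw₀' * a), ← mul_assoc (qRefl Q hw₀')⁻¹, inv_mul_cancel, one_mul, mul_assoc] at h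
      · exact Or.inr (by rw [← mul_assoc]; exact mul_mem ha hb)
      · refine Or.inl ?_
        have h := mul_mem (hKn.conj_mem _ ha (qRefl Q hw₀')) hb
        rwa [qRefl_inv, show qRefl Q hw₀' * (qRefl Q hw₀' * a) * qRefl Q hw₀' * (qRefl Q hw₀' * b) =
          (qRefl Q hw₀' * qRefl Q hw₀') * a * (qRefl Q hw₀' * qRefl Q hw₀') * b by group, qRefl_mul_self,
          one_mul, mul_one] at h
    induction hg using Subgroup.closure_induction with
    | mem x hx => obtain ⟨v, hv, rfl⟩ := hx; exact mk hv
    | one => exact Or.inl (one_mem _)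
    | mul x y _ _ hx hy => exact hmul x y hx hy
    | inv x _ hx =>
      rcases hx with hx | hx
      · exact Or.inl (inv_mem hx)
      · refine Or.inr ?_
        have h := hKn.conj_mem _ (inv_mem hx) (qRefl Q hw₀')
        rwa [mul_inv_rev, qRefl_inv, mul_assoc (qRefl Q hw₀'), mul_assoc, qRefl_mul_self, mul_one] at h
  rw [Subgroup.index_eq_two_iff]
  refine ⟨qRefl Q hw₀', fun b => ?_⟩
  rcases hcover b with hb | hb
  · refine Or.inr ⟨hb, fun h => hnot ?_⟩
    have h' := hKn.conj_mem _ (mul_mem (inv_mem hb) h) b
    rw [show b * (b⁻¹ * (b * qRefl Q hw₀')) * b⁻¹ = b * qRefl Q hw₀' * b⁻¹ by group] at h'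
    have h'' := hKn.conj_mem _ h' b⁻¹
    rwa [show b⁻¹ * (b * qRefl Q hw₀' * b⁻¹) * b⁻¹⁻¹ = qRefl Q hw₀' by group] at h''
  · refine Or.inl ⟨?_, fun h => hnot ?_⟩
    · have h' := hKn.conj_mem _ hb (qRefl Q hw₀')
      rwa [qRefl_inv, ← mul_assoc, qRefl_mul_self, one_mul] at h'
    · have := mul_mem hb (inv_mem h)
      rwa [mul_assoc, mul_inv_cancel, mul_one] at this

end Quad

open Cfsg in
/-- The special isometry group has index two in odd characteristic. -/
theorem index_specialIsometryGroup {F : Type*} [Field F] {ι : Type} [Fintype ι] [DecidableEq ι]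
    (Q : QuadraticForm F (ι → F)) (h2 : (2 : F) ≠ 0) (hQ : PolarNondeg Q) {v : ι → F} (hv : Q v ≠ 0) :
    (specialIsometryGroup F ⇑Q).index = 2 := by
  rw [Subgroup.index_eq_two_iff]
  refine ⟨reflect Q v hv, fun b => ?_⟩
  simp only [Cfsg.specialIsometryGroup, MonoidHom.mem_ker, Units.ext_iff, MonoidHom.coe_comp,
    Function.comp_apply, Subgroup.coe_subtype, Subgroup.coe_mul, map_mul, Units.val_mul, Units.val_one,
    Matrix.GeneralLinearGroup.val_det_apply, reflect_coe, det_reflectionMatrix Q hv]
  rcases det_isometry Q hQ.nondegenerate b with hd | hd <;> rw [hd] <;>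
    simp [Xor, neg_eq_iff_add_eq_zero, one_add_one_eq_two, h2]

end CfsgLib.Classical
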