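/-
The special orthogonal group in three variables over the field with three elements.
-/
import Cfsg.Agent.Lib.Classical.QuadSubgroups
import Cfsg.Agent.Lib.Classical.QuadPOmega

set_option autoImplicit false

namespace CfsgLib.Classical

open Matrix Cfsg

variable {F : Type*} [Field F]

/-- A vector in three coordinates. -/
def vec3 (z x y : F) : OddI 1 → F := Sum.elim (fun _ => z) (Sum.elim (fun _ => x) fun _ => y)

theorem vec3_eta (v : OddI 1 → F) : v = vec3 (v oZ) (v (oL 0)) (v (oR 0)) := by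
  funext i
  rcases i with ⟨⟩ | i | i
  · rfl
  · fin_cases i; rfl
  · fin_cases i; rfl

theorem qOdd_vec3 (z x y : F) : qOdd 1 F (vec3 z x y) = z * z + x * y := by
  simp [qOdd_apply, vec3]

theorem smul_vec3 (c z x y : F) : c • vec3 z x y = vec3 (c * z) (c * x) (c * y) := by
  funext i
  rcases i with ⟨⟩ | i | i <;> simp [vec3]

theorem add_vec3 (z x y z' x' y' : F) : vec3 z x y + vec3 z' x' y' = vec3 (z + z') (x + x') (y + y') := by
  funext i
  rcases i with ⟨⟩ | i | i <;> simp [vec3]

theorem neg_vec3 (z x y : F) : -vec3 z x y = vec3 (-z) (-x) (-y) := by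
  funext i
  rcases i with ⟨⟩ | i | i <;> simp [vec3]

theorem vec3_inj {z x y z' x' y' : F} (h : vec3 z x y = vec3 z' x' y') : z = z' ∧ x = x' ∧ y = y' :=
  ⟨congrFun h oZ, congrFun h (oL 0), congrFun h (oR 0)⟩

/-- `SO_3(3) ≅ S_4`. -/
theorem nonempty_so3_three [Fintype F] (hF : Fintype.card F = 3) :
    Nonempty (specialIsometryGroup F ⇑(qOdd 1 F) ≃* Equiv.Perm (Fin 4)) := by
  classical
  have h2 : (2 : F) ≠ 0 := two_ne_zero_of_odd_card (by rw [hF]; decide)
  have h11 : (1 : F) ≠ -1 := fun h => h2 (by linear_combination h)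
  have hall : ∀ t : F, t = 0 ∨ t = 1 ∨ t = -1 := by
    have h : ({0, 1, -1} : Finset F) = Finset.univ := Finset.eq_univ_of_card _ (by
      rw [hF, Finset.card_eq_three]
      exact ⟨0, 1, -1, zero_ne_one, by simp, h11, rfl⟩)
    intro t
    have ht := Finset.mem_univ t
    rw [← h] at ht
    simpa using ht
  let u : Fin 4 → OddI 1 → F := ![vec3 0 1 0, vec3 0 0 1, vec3 1 1 (-1), vec3 1 (-1) 1]
  have hu : ∀ i, qOdd 1 F (u i) = 0 := fun i => by fin_cases i <;> simp [u, qOdd_vec3]
  have hclass : ∀ v : OddI 1 → F, v ≠ 0 → qOdd 1 F v = 0 → ∃ i, ∃ c : F, c • u i = v := by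
    intro v hv0 hv
    rw [vec3_eta v] at hv0 hv ⊢
    rw [qOdd_vec3] at hv
    rcases hall (v oZ) with e | e | e <;> rcases hall (v (oL 0)) with e' | e' | e' <;>
      rcases hall (v (oR 0)) with e'' | e'' | e'' <;> rw [e, e', e''] at hv0 hv ⊢ <;>
      first
        | (refine absurd ?_ hv0; funext i; rcases i with ⟨⟩ | i | i <;> rfl)
        | (simp [h2, one_add_one_eq_two] at hv; done)
        | (refine ⟨0, 1, ?_⟩; simp [u, smul_vec3, neg_vec3]; done)
        | (refine ⟨0, -1, ?_⟩; simp [u, smul_vec3, neg_vec3]; done)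
        | (refine ⟨1, 1, ?_⟩; simp [u, smul_vec3, neg_vec3]; done)
        | (refine ⟨1, -1, ?_⟩; simp [u, smul_vec3, neg_vec3]; done)
        | (refine ⟨2, 1, ?_⟩; simp [u, smul_vec3, neg_vec3]; done)
        | (refine ⟨2, -1, ?_⟩; simp [u, smul_vec3, neg_vec3]; done)
        | (refine ⟨3, 1, ?_⟩; simp [u, smul_vec3, neg_vec3]; done)
        | (refine ⟨3, -1, ?_⟩; simp [u, smul_vec3, neg_vec3]; done)
  have hdist : ∀ i j (c : F), c • u i = u j → i = j := by
    intro i j c h
    fin_cases i <;> fin_cases j <;> simp [u, smul_vec3] at h ⊢ <;>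
      (have h' := vec3_inj h; grind)
  have hu0 : ∀ i, u i ≠ 0 := fun i h => by
    fin_cases i <;> simp [u] at h <;>
      first
        | exact one_ne_zero (α := F) (congrFun h oZ)
        | exact one_ne_zero (α := F) (congrFun h (oL 0))
        | exact one_ne_zero (α := F) (congrFun h (oR 0))
  have hex : ∀ (g : isometryGroup F ⇑(qOdd 1 F)) (i : Fin 4), ∃ j, ∃ c : F, c • u j = isoApply g (u i) := by
    intro g i
    refine hclass _ (fun h => hu0 i ?_) ((isoApply_Q g (u i)).trans (hu i))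
    rw [← isoApply_inv_apply g (u i), h]
    exact Matrix.mulVec_zero _
  choose π c hc using hex
  have huniq : ∀ g i j (d : F), d • u j = isoApply g (u i) → π g i = j := by
    intro g i j d h
    rw [← hc g i] at h
    have hd : d ≠ 0 := fun hd => hu0 i (by
      rw [hd, zero_smul, hc g i] at h
      rw [← isoApply_inv_apply g (u i), ← h]
      exact Matrix.mulVec_zero _)
    exact hdist _ _ (d⁻¹ * c g i) (by rw [mul_smul, ← h, smul_smul, inv_mul_cancel₀ hd, one_smul])
  have hmul : ∀ g h i, π (g * h) i = π g (π h i) := fun g h i =>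
    huniq _ _ _ (c h i * c g (π h i)) (by
      rw [isoApply_mul, ← hc h i, show isoApply g (c h i • u (π h i)) = c h i • isoApply g (u (π h i)) from
        Matrix.mulVec_smul _ _ _, ← hc g (π h i), smul_smul])
  have hone : ∀ i, π 1 i = i := fun i => huniq _ _ _ 1 (by rw [one_smul, isoApply_one])
  let Φ : specialIsometryGroup F ⇑(qOdd 1 F) →* Equiv.Perm (Fin 4) := MonoidHom.mk'
    (fun g => { toFun := π g.1
                invFun := π g.1⁻¹
                left_inv := fun i => by rw [← hmul, inv_mul_cancel, hone]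
                right_inv := fun i => by rw [← hmul, mul_inv_cancel, hone] })
    fun g h => Equiv.ext fun i => hmul g.1 h.1 i
  have hinj : Function.Injective Φ := by
    refine (injective_iff_map_eq_one Φ).2 fun g hg => Subtype.ext ?_
    have hfix : ∀ i, π g.1 i = i := fun i => congrArg (fun f : Equiv.Perm (Fin 4) => f i) hg
    have hl : ∀ i, isoApply g.1 (u i) = c g.1 i • u i := fun i => by rw [← hc g.1 i, hfix]
    obtain ⟨α, hα⟩ : ∃ α, isoApply g.1 (vec3 0 1 0) = α • vec3 (0 : F) 1 0 := ⟨_, hl 0⟩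
    obtain ⟨β, hβ⟩ : ∃ β, isoApply g.1 (vec3 0 0 1) = β • vec3 (0 : F) 0 1 := ⟨_, hl 1⟩
    obtain ⟨γ, hγ⟩ : ∃ γ, isoApply g.1 (vec3 1 1 (-1)) = γ • vec3 (1 : F) 1 (-1) := ⟨_, hl 2⟩
    have hz : isoApply g.1 (vec3 1 0 0) = vec3 γ (γ - α) (β - γ) := by
      rw [show vec3 (1 : F) 0 0 = vec3 1 1 (-1) + (-1 : F) • vec3 0 1 0 + vec3 0 0 1 by
        simp [smul_vec3, add_vec3, neg_vec3]]
      change _ *ᵥ _ = _
      rw [Matrix.mulVec_add, Matrix.mulVec_add, Matrix.mulVec_smul]
      change isoApply g.1 _ + (-1 : F) • isoApply g.1 _ + isoApply g.1 _ = _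
      rw [hα, hβ, hγ]
      simp [smul_vec3, add_vec3, neg_vec3, sub_eq_add_neg, add_comm]
    have hαβ : α * β = 1 := by
      have h := isoApply_Q g.1 (vec3 0 1 0 + vec3 0 0 1)
      rw [show isoApply g.1 (vec3 0 1 0 + vec3 0 0 1) = isoApply g.1 (vec3 0 1 0) + isoApply g.1 (vec3 0 0 1) from
        Matrix.mulVec_add _ _ _, hα, hβ, smul_vec3, smul_vec3, add_vec3, add_vec3, qOdd_vec3, qOdd_vec3] at h
      simpa using h
    have hq : γ * γ + (γ - α) * (β - γ) = 1 := by
      have h := isoApply_Q g.1 (vec3 1 0 0)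
      rw [hz, qOdd_vec3, qOdd_vec3] at h
      simpa using h
    have hγ0 : γ ≠ 0 := by
      rintro rfl
      rw [zero_smul] at hγ
      refine hu0 2 ?_
      rw [← isoApply_inv_apply g.1 (u 2)]
      change isoApply g.1⁻¹ (isoApply g.1 (vec3 1 1 (-1))) = _
      rw [hγ]
      exact Matrix.mulVec_zero _
    have sq1 : ∀ t : F, t ≠ 0 → t * t = 1 := fun t ht => by rcases hall t with rfl | rfl | rfl <;> simp_all
    have hγ1 := sq1 γ hγ0
    have hα1 := sq1 α (left_ne_zero_of_mul_eq_one hαβ)
    have hab : α = β := by linear_combination β * hα1 - α * hαβ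
    have hag : γ = α := by
      subst hab
      have : (γ - α) * (γ - α) = 0 := by linear_combination -hq + hγ1
      exact sub_eq_zero.1 (mul_self_eq_zero.1 this)
    subst hab hag
    have hscal : ((g.1 : GL (OddI 1) F) : Matrix (OddI 1) (OddI 1) F) = γ • (1 : Matrix (OddI 1) (OddI 1) F) := by
      refine Matrix.ext_of_mulVec_single fun i => ?_
      rw [smul_mulVec, one_mulVec]
      have e : ∀ z x y : F, isoApply g.1 (vec3 z x y) = γ • vec3 z x y := fun z x y => by
        rw [show vec3 z x y = z • vec3 1 0 0 + x • vec3 0 1 0 + y • vec3 0 0 1 by simp [smul_vec3, add_vec3]]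
        change _ *ᵥ _ = _
        rw [Matrix.mulVec_add, Matrix.mulVec_add, Matrix.mulVec_smul, Matrix.mulVec_smul, Matrix.mulVec_smul]
        change z • isoApply g.1 _ + x • isoApply g.1 _ + y • isoApply g.1 _ = _
        rw [hz, hα, hβ]
        simp [smul_vec3, add_vec3, mul_comm]
      have h := e ((Pi.single i 1 : OddI 1 → F) oZ) ((Pi.single i 1 : OddI 1 → F) (oL 0))
        ((Pi.single i 1 : OddI 1 → F) (oR 0))
      rwa [← vec3_eta] at h
    have hdet : ((g.1 : GL (OddI 1) F) : Matrix (OddI 1) (OddI 1) F).det = 1 := by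
      simpa using congrArg Units.val (MonoidHom.mem_ker.1 g.2)
    rw [hscal, Matrix.det_smul, Matrix.det_one, mul_one] at hdet
    have hg1 : γ = 1 := by
      simp at hdet
      linear_combination hdet - γ * hγ1
    refine Subtype.ext (Units.ext ?_)
    rw [hscal, hg1, one_smul]
    rfl
  have hcard : Nat.card (specialIsometryGroup F ⇑(qOdd 1 F)) = 24 := by
    have h := Subgroup.card_mul_index (specialIsometryGroup F ⇑(qOdd 1 F))
    rw [index_specialIsometryGroup _ h2 (polarNondeg_qOdd h2 1) (v := Pi.single oZ 1)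
      (by rw [qOdd_oZ]; exact one_ne_zero), Nat.card_congr (isoEquiv (qOdd 1 F)).toEquiv, card_qAut_qOdd,
      card_qAut_line h2, hF] at h
    norm_num [Finset.prod_range_succ] at h
    rw [Nat.card_eq_fintype_card]
    omega
  refine ⟨MulEquiv.ofBijective Φ ((Nat.bijective_iff_injective_and_card Φ).2 ⟨hinj, ?_⟩)⟩
  rw [hcard, Nat.card_eq_fintype_card, Fintype.card_perm, Fintype.card_fin]
  rfl

end CfsgLib.Classical
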