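/-
Classes of regular unipotent elements.
-/
import Cfsg.Agent.Lib.Classical.RegularNilpotent
import Cfsg.Agent.Lib.Classical.SLBasic

set_option autoImplicit false

namespace CfsgLib.Classical.RegularNilpotent

open Matrix

variable {F : Type*} [Field F] {n : ℕ}

/-- A cyclic basis for a regular nilpotent endomorphism. -/
theorem exists_cyclic_basis {V : Type*} [AddCommGroup V] [Module F V] [FiniteDimensional F V] {f : V →ₗ[F] V}
    (hn : Module.finrank F V = n) (hn1 : 1 ≤ n) (h1 : Module.finrank F (LinearMap.ker f) ≤ 1) (hf : f ^ n = 0) :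
    ∃ b : Module.Basis (Fin n) F V, ∀ i : Fin n, b i = (f ^ (i : ℕ)) (b ⟨0, hn1⟩) := by
  obtain ⟨e, he⟩ : ∃ e : V, (f ^ (n - 1)) e ≠ 0 := by
    by_contra h
    push Not at h
    have h2 := finrank_ker_pow hn h1 hf (n - 1) (by omega)
    rw [show LinearMap.ker (f ^ (n - 1)) = ⊤ from eq_top_iff.2 fun v _ => h v, finrank_top, hn] at h2
    omega
  haveI : Nonempty (Fin n) := ⟨⟨0, hn1⟩⟩
  refine ⟨basisOfLinearIndependentOfCardEqFinrank (linearIndependent_pow hf he) (by rw [hn, Fintype.card_fin]),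
    fun i => by simp⟩

theorem exists_linearEquiv_intertwine {V W : Type*} [AddCommGroup V] [Module F V] [FiniteDimensional F V]
    [AddCommGroup W] [Module F W] [FiniteDimensional F W] {f : V →ₗ[F] V} {g : W →ₗ[F] W}
    (hn1 : 1 ≤ n) (hV : Module.finrank F V = n) (hf1 : Module.finrank F (LinearMap.ker f) ≤ 1) (hf : f ^ n = 0)
    (hW : Module.finrank F W = n) (hg1 : Module.finrank F (LinearMap.ker g) ≤ 1) (hg : g ^ n = 0) :
    ∃ e : V ≃ₗ[F] W, ∀ v, e (f v) = g (e v) := by
  obtain ⟨b, hb⟩ := exists_cyclic_basis hV hn1 hf1 hf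
  obtain ⟨c, hc⟩ := exists_cyclic_basis hW hn1 hg1 hg
  obtain ⟨e, he⟩ : ∃ e : V ≃ₗ[F] W, ∀ i, e (b i) = c i :=
    ⟨b.equiv c (Equiv.refl _), fun i => by simp⟩
  refine ⟨e, fun v => LinearMap.congr_fun ((b.ext fun i => ?_ :
    (e.toLinearMap.comp f) = g.comp e.toLinearMap)) v⟩
  show e (f (b i)) = g (e (b i))
  rw [he, hb i, hc i, ← Module.End.mul_apply, ← pow_succ', ← Module.End.mul_apply, ← pow_succ']
  rcases Nat.lt_or_ge ((i : ℕ) + 1) n with hi | hi
  · rw [← hb ⟨_, hi⟩, he, hc ⟨_, hi⟩]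
  · rw [show (i : ℕ) + 1 = n by omega, hf, hg, LinearMap.zero_apply, LinearMap.zero_apply, map_zero]

variable {ι : Type} [Fintype ι] [DecidableEq ι]

/-- Regular nilpotent matrices are similar. -/
theorem exists_similar {N₁ N₂ : Matrix ι ι F} (hι : Fintype.card ι = n) (hn1 : 1 ≤ n) (h1 : N₁ ^ n = 0)
    (r1 : N₁.rank = n - 1) (h2 : N₂ ^ n = 0) (r2 : N₂.rank = n - 1) :
    ∃ P : GL ι F, (P : Matrix ι ι F) * N₁ = N₂ * (P : Matrix ι ι F) := by
  obtain ⟨hV, hk1, hf1⟩ := hyps_of_matrix hι h1 r1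
  obtain ⟨-, hk2, hf2⟩ := hyps_of_matrix hι h2 r2
  obtain ⟨e, he⟩ := exists_linearEquiv_intertwine hn1 hV hk1 hf1 hV hk2 hf2
  have hu : IsUnit (LinearMap.toMatrix' e.toLinearMap) :=
    IsUnit.of_mul_eq_one (LinearMap.toMatrix' e.symm.toLinearMap) (by rw [← LinearMap.toMatrix'_comp]; simp)
  refine ⟨hu.unit, Matrix.ext_of_mulVec_single fun i => ?_⟩
  rw [IsUnit.unit_spec, ← mulVec_mulVec, ← mulVec_mulVec, LinearMap.toMatrix'_mulVec, LinearMap.toMatrix'_mulVec]
  exact he _

/-- The determinant of an element of the commutant is an `n`-th power. -/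
theorem det_commutant {N : Matrix ι ι F} (hι : Fintype.card ι = n) (hn1 : 1 ≤ n) (h : N ^ n = 0)
    (r : N.rank = n - 1) {M : Matrix ι ι F} (hM : M * N = N * M) : ∃ a : F, M.det = a ^ n := by
  classical
  obtain ⟨hV, hk, hf⟩ := hyps_of_matrix hι h r
  obtain ⟨b, hb⟩ := exists_cyclic_basis hV hn1 hk hf
  set f := Matrix.mulVecLin N with hfdef
  set g := Matrix.mulVecLin M with hgdef
  have hcomm : Commute g f := by
    show g * f = f * g
    rw [hfdef, hgdef, Module.End.mul_eq_comp, Module.End.mul_eq_comp, ← Matrix.mulVecLin_mul, ← Matrix.mulVecLin_mul, hM]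
  have hgb : ∀ j : Fin n, g (b j) = ∑ k : Fin n, b.repr (g (b ⟨0, hn1⟩)) k • (f ^ ((j : ℕ) + (k : ℕ))) (b ⟨0, hn1⟩) := fun j => by
    rw [hb j, ← Module.End.mul_apply, (hcomm.pow_right _).eq, Module.End.mul_apply]
    conv_lhs => rw [← b.sum_repr (g (b ⟨0, hn1⟩)), map_sum]
    refine Finset.sum_congr rfl fun k _ => ?_
    rw [map_smul, hb k, ← Module.End.mul_apply, ← pow_add]
  obtain ⟨a, ha⟩ : ∃ a, a = b.repr (g (b ⟨0, hn1⟩)) ⟨0, hn1⟩ := ⟨_, rfl⟩
  have hent : ∀ i j : Fin n, (i ≤ j) → LinearMap.toMatrix b b g i j = if i = j then a else 0 := by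
    intro i j hij
    rw [LinearMap.toMatrix_apply, hgb j, map_sum, Finsupp.finset_sum_apply]
    rw [Finset.sum_eq_single (⟨0, hn1⟩ : Fin n)]
    · rw [map_smul, Finsupp.smul_apply, Nat.add_zero, ← hb j, b.repr_self, Finsupp.single_apply, ← ha, smul_eq_mul]
      by_cases hij' : i = j
      · rw [if_pos hij'.symm, if_pos hij', mul_one]
      · rw [if_neg (Ne.symm hij'), if_neg hij', mul_zero]
    · intro k _ hk
      have hk0 : 0 < (k : ℕ) := Nat.pos_of_ne_zero fun hz => hk (Fin.ext hz)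
      rcases Nat.lt_or_ge ((j : ℕ) + (k : ℕ)) n with hlt | hge
      · have hne : (⟨(j : ℕ) + k, hlt⟩ : Fin n) ≠ i := fun e => by
          have h1 : (j : ℕ) + k = i := congrArg Fin.val e
          have h2 : (i : ℕ) ≤ j := hij
          omega
        rw [map_smul, Finsupp.smul_apply, ← hb ⟨_, hlt⟩, b.repr_self, Finsupp.single_apply, if_neg hne, smul_zero]
      · obtain ⟨e, he⟩ := Nat.exists_eq_add_of_le hge
        rw [he, pow_add, hf, zero_mul, LinearMap.zero_apply, smul_zero, map_zero, Finsupp.zero_apply]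
    · exact fun h => absurd (Finset.mem_univ _) h
  refine ⟨a, ?_⟩
  have hdet : (LinearMap.toMatrix b b g).det = M.det := by
    rw [LinearMap.det_toMatrix, hgdef, ← Matrix.toLin'_apply', LinearMap.det_toLin']
  rw [← hdet, Matrix.det_of_lowerTriangular _ (fun i j hij => by
    have hij' : i < j := hij
    rw [hent i j hij'.le, if_neg hij'.ne])]
  rw [Finset.prod_congr rfl (fun i _ => hent i i le_rfl)]
  simp

section SL

variable [Fintype F]

/-- A standard regular unipotent matrix of determinant one. -/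
theorem exists_regular_unipotent (hn1 : 1 ≤ n) :
    ∃ u : SpecialLinearGroup (Fin n) F, ((u : Matrix (Fin n) (Fin n) F) - 1) ^ n = 0 ∧
      ((u : Matrix (Fin n) (Fin n) F) - 1).rank = n - 1 := by
  classical
  let N : Matrix (Fin n) (Fin n) F := Matrix.of fun i j => if (i : ℕ) = (j : ℕ) + 1 then 1 else 0
  have hdet : (1 + N).det = 1 := by
    rw [Matrix.det_of_lowerTriangular _ (fun i j (hij : i < j) => by
      simp [N, Matrix.one_apply, ne_of_lt hij]; omega)]
    simp [N]
  refine ⟨⟨1 + N, hdet⟩, ?_⟩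
  show (1 + N - 1) ^ n = 0 ∧ (1 + N - 1).rank = n - 1
  rw [add_sub_cancel_left]
  have happly : ∀ (v : Fin n → F) (i : Fin n), (N *ᵥ v) i = if h : 0 < (i : ℕ) then v ⟨(i : ℕ) - 1, by omega⟩ else 0 := by
    intro v i
    simp only [Matrix.mulVec, dotProduct, N, Matrix.of_apply]
    split_ifs with h
    · rw [Finset.sum_eq_single (⟨(i : ℕ) - 1, by omega⟩ : Fin n)]
      · rw [if_pos (by show (i : ℕ) = (i : ℕ) - 1 + 1; omega), one_mul]
      · intro j _ hj
        rw [if_neg (fun e => hj (Fin.ext (by show (j : ℕ) = (i : ℕ) - 1; omega))), zero_mul]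
      · exact fun h => absurd (Finset.mem_univ _) h
    · exact Finset.sum_eq_zero fun j _ => by rw [if_neg (by omega), zero_mul]
  constructor
  · have hk : ∀ (k : ℕ) (v : Fin n → F) (i : Fin n), (i : ℕ) < k → (N ^ k *ᵥ v) i = 0 := by
      intro k
      induction k with
      | zero => intro v i h; omega
      | succ k ih =>
        intro v i h
        rw [pow_succ', ← mulVec_mulVec, happly]
        split_ifs with h0
        · exact ih v _ (by show (i : ℕ) - 1 < k; omega)
        · rfl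
    exact Matrix.ext_of_mulVec_single fun j => funext fun i => by rw [hk n _ i i.2, zero_mulVec]; rfl
  · have hker : LinearMap.ker N.mulVecLin = Submodule.span F {Pi.single (⟨n - 1, by omega⟩ : Fin n) (1 : F)} := by
      ext v
      rw [LinearMap.mem_ker, Submodule.mem_span_singleton, Matrix.mulVecLin_apply]
      constructor
      · intro h
        refine ⟨v ⟨n - 1, by omega⟩, funext fun i => ?_⟩
        rw [Pi.smul_apply, Pi.single_apply, smul_eq_mul]
        split_ifs with hi
        · rw [hi, mul_one]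
        · have hlt : (i : ℕ) + 1 < n := by
            have : (i : ℕ) ≠ n - 1 := fun e => hi (Fin.ext e)
            omega
          have h2 := congrFun h ⟨(i : ℕ) + 1, hlt⟩
          rw [happly, dif_pos (Nat.succ_pos _)] at h2
          simpa using h2.symm
      · rintro ⟨a, rfl⟩
        funext i
        rw [happly]
        split_ifs with h
        · rw [Pi.smul_apply, Pi.single_eq_of_ne (fun e => by
            have h1 : (i : ℕ) - 1 = n - 1 := congrArg Fin.val e
            omega), smul_zero, Pi.zero_apply]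
        · rfl
    have h := LinearMap.finrank_range_add_finrank_ker N.mulVecLin
    rw [hker, finrank_span_singleton (by simp), Module.finrank_fintype_fun_eq_card, Fintype.card_fin] at h
    show Module.finrank F (LinearMap.range N.mulVecLin) = n - 1
    omega

/-- The regular unipotent classes of the special linear group. -/
theorem card_classes_SL (hn : 1 ≤ n) :
    Nat.card {C : ConjClasses (SpecialLinearGroup (Fin n) F) // ∃ u : SpecialLinearGroup (Fin n) F,
      ConjClasses.mk u = C ∧ ((u : Matrix (Fin n) (Fin n) F) - 1) ^ n = 0 ∧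
        ((u : Matrix (Fin n) (Fin n) F) - 1).rank = n - 1} = Nat.gcd n (Fintype.card F - 1) := by
  classical
  obtain ⟨u, hu, hur⟩ := exists_regular_unipotent (F := F) (n := n) hn
  haveI : NeZero n := ⟨by omega⟩
  let D : Fˣ → GL (Fin n) F := fun x => GeneralLinearGroup.mkOfDetNeZero
    (Matrix.diagonal (Function.update (1 : Fin n → F) 0 (x : F))) (by
      rw [det_diagonal, Finset.prod_update_of_mem (Finset.mem_univ _)]; simp)
  have hD : ∀ x, (D x : Matrix (Fin n) (Fin n) F).det = x := fun x => by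
    show (Matrix.diagonal (Function.update (1 : Fin n → F) 0 (x : F))).det = x
    rw [det_diagonal, Finset.prod_update_of_mem (Finset.mem_univ _)]; simp
  obtain ⟨U, hU⟩ : ∃ U, U = (u : Matrix (Fin n) (Fin n) F) := ⟨_, rfl⟩
  have hUd : U.det = 1 := hU ▸ u.2
  have hconj : ∀ (g : GL (Fin n) F), ((g : Matrix (Fin n) (Fin n) F) * U * (↑g⁻¹ : Matrix (Fin n) (Fin n) F)).det = 1 := fun g => by
    rw [det_mul, det_mul, hUd, mul_one, ← det_mul, Units.mul_inv, det_one]
  let v : GL (Fin n) F → SpecialLinearGroup (Fin n) F := fun g => ⟨_, hconj g⟩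
  have hv : ∀ g, ((v g : Matrix (Fin n) (Fin n) F) - 1) ^ n = 0 ∧ ((v g : Matrix (Fin n) (Fin n) F) - 1).rank = n - 1 := by
    intro g
    have e : ((v g : Matrix (Fin n) (Fin n) F) - 1) = (g : Matrix (Fin n) (Fin n) F) * (U - 1) * (↑g⁻¹ : Matrix (Fin n) (Fin n) F) := by
      show (g : Matrix (Fin n) (Fin n) F) * U * (↑g⁻¹ : Matrix (Fin n) (Fin n) F) - 1 = _
      rw [Matrix.mul_sub, Matrix.sub_mul, Matrix.mul_one, Units.mul_inv]
    rw [e]
    constructor
    · rw [Units.conj_pow, hU, hu, Matrix.mul_zero, Matrix.zero_mul]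
    · rw [Matrix.rank_mul_eq_left_of_isUnit_det _ _ ((Matrix.isUnit_iff_isUnit_det _).1 (g⁻¹).isUnit),
        Matrix.rank_mul_eq_right_of_isUnit_det _ _ ((Matrix.isUnit_iff_isUnit_det _).1 g.isUnit), hU, hur]
  -- classes only depend on the determinant modulo powers
  have hkey : ∀ g h : GL (Fin n) F, IsConj (v g) (v h) ↔
      ∃ a : F, (h : Matrix (Fin n) (Fin n) F).det = (g : Matrix (Fin n) (Fin n) F).det * a ^ n := by
    intro g h
    constructor
    · rintro hc
      obtain ⟨s, hs⟩ := isConj_iff.1 hc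
      let S : GL (Fin n) F := Matrix.SpecialLinearGroup.toGL s
      have hs' : s * v g = v h * s := by rw [← hs]; group
      have h1 : (S : Matrix (Fin n) (Fin n) F) * (g * U * (↑g⁻¹ : Matrix (Fin n) (Fin n) F)) =
          ((h : Matrix (Fin n) (Fin n) F) * U * (↑h⁻¹ : Matrix (Fin n) (Fin n) F)) * S :=
        congrArg Subtype.val hs'
      obtain ⟨M, hM⟩ : ∃ M : Matrix (Fin n) (Fin n) F, M = ((h⁻¹ * S * g : GL (Fin n) F) : Matrix (Fin n) (Fin n) F) := ⟨_, rfl⟩
      have hMU : M * (U - 1) = (U - 1) * M := by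
        rw [Matrix.mul_sub, Matrix.sub_mul, Matrix.mul_one, Matrix.one_mul, hM, Units.val_mul, Units.val_mul]
        congr 1
        calc (↑h⁻¹ : Matrix (Fin n) (Fin n) F) * S * g * U
            = (↑h⁻¹ : Matrix (Fin n) (Fin n) F) * ((S : Matrix (Fin n) (Fin n) F) * (g * U * (↑g⁻¹ : Matrix (Fin n) (Fin n) F))) * g := by
              simp only [Matrix.mul_assoc, Units.inv_mul, Matrix.mul_one]
          _ = U * ((↑h⁻¹ : Matrix (Fin n) (Fin n) F) * S * g) := by
              rw [h1]; simp only [← Matrix.mul_assoc, Units.inv_mul, Matrix.one_mul]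
      obtain ⟨a, ha⟩ := det_commutant (Fintype.card_fin n) hn (hU ▸ hu) (hU ▸ hur) hMU
      have hS : (S : Matrix (Fin n) (Fin n) F).det = 1 := s.2
      rw [hM, Units.val_mul, Units.val_mul, det_mul, det_mul, hS, mul_one] at ha
      have hh : (h : Matrix (Fin n) (Fin n) F).det * (↑h⁻¹ : Matrix (Fin n) (Fin n) F).det = 1 := by
        rw [← det_mul, Units.mul_inv, det_one]
      have ha0 : a ≠ 0 := fun h0 => by
        rw [h0, zero_pow (by omega)] at ha
        rcases mul_eq_zero.1 ha with e | e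
        · rw [e, mul_zero] at hh; exact zero_ne_one hh
        · exact g.det_ne_zero e
      refine ⟨a⁻¹, ?_⟩
      rw [inv_pow, eq_mul_inv_iff_mul_eq₀ (pow_ne_zero _ ha0), ← ha, ← mul_assoc, hh, one_mul]
    · rintro ⟨a, ha⟩
      have ha0 : a ≠ 0 := fun h0 => by
        rw [h0, zero_pow (by omega), mul_zero] at ha
        exact h.det_ne_zero ha
      let A : GL (Fin n) F := GeneralLinearGroup.scalar (Fin n) (Units.mk0 a ha0)
      have hAval : (A : Matrix (Fin n) (Fin n) F) = Matrix.scalar (Fin n) a := rfl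
      have hSd : ((h * (A⁻¹ * g⁻¹) : GL (Fin n) F) : Matrix (Fin n) (Fin n) F).det = 1 := by
        have e1 : ((h * (A⁻¹ * g⁻¹) : GL (Fin n) F) : Matrix (Fin n) (Fin n) F).det *
            ((g : Matrix (Fin n) (Fin n) F).det * (A : Matrix (Fin n) (Fin n) F).det) = (h : Matrix (Fin n) (Fin n) F).det := by
          rw [← det_mul, ← det_mul, ← Units.val_mul, ← Units.val_mul]
          congr 2
          group
        rw [hAval, Matrix.scalar_apply, det_diagonal, Finset.prod_const, Finset.card_univ, Fintype.card_fin, ← ha] at e1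
        exact mul_right_cancel₀ h.det_ne_zero (e1.trans (one_mul _).symm)
      refine isConj_iff.2 ⟨⟨_, hSd⟩, mul_inv_eq_iff_eq_mul.2 ?_⟩
      apply Subtype.ext
      show ((h * (A⁻¹ * g⁻¹) : GL (Fin n) F) : Matrix (Fin n) (Fin n) F) * (g * U * (↑g⁻¹ : Matrix (Fin n) (Fin n) F)) =
        (h : Matrix (Fin n) (Fin n) F) * U * (↑h⁻¹ : Matrix (Fin n) (Fin n) F) * ((h * (A⁻¹ * g⁻¹) : GL (Fin n) F) : Matrix (Fin n) (Fin n) F)
      have hAU : (↑A⁻¹ : Matrix (Fin n) (Fin n) F) * U = U * (↑A⁻¹ : Matrix (Fin n) (Fin n) F) := by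
        show Matrix.scalar (Fin n) (↑(Units.mk0 a ha0)⁻¹ : F) * U = U * Matrix.scalar (Fin n) (↑(Units.mk0 a ha0)⁻¹ : F)
        exact (Matrix.scalar_commute _ (Commute.all _) U).eq
      simp only [Units.val_mul, ← Matrix.mul_assoc, Units.inv_mul, Matrix.mul_one]
      simp only [Matrix.mul_assoc]
      rw [← Matrix.mul_assoc (↑g⁻¹ : Matrix (Fin n) (Fin n) F) (g : Matrix (Fin n) (Fin n) F), Units.inv_mul, Matrix.one_mul,
        ← Matrix.mul_assoc (↑h⁻¹ : Matrix (Fin n) (Fin n) F) (h : Matrix (Fin n) (Fin n) F), Units.inv_mul, Matrix.one_mul,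
        ← Matrix.mul_assoc (↑A⁻¹ : Matrix (Fin n) (Fin n) F), hAU, Matrix.mul_assoc U]
  let P : Subgroup Fˣ := (powMonoidHom n : Fˣ →* Fˣ).range
  let S : Type _ := {C : ConjClasses (SpecialLinearGroup (Fin n) F) // ∃ u : SpecialLinearGroup (Fin n) F,
    ConjClasses.mk u = C ∧ ((u : Matrix (Fin n) (Fin n) F) - 1) ^ n = 0 ∧
      ((u : Matrix (Fin n) (Fin n) F) - 1).rank = n - 1}
  have hcard : Nat.card S = P.index := by
    symm
    have hrel : ∀ x y : Fˣ, QuotientGroup.leftRel P x y ↔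
        ConjClasses.mk (v (D x)) = ConjClasses.mk (v (D y)) := by
      intro x y
      rw [QuotientGroup.leftRel_apply, ConjClasses.mk_eq_mk_iff_isConj, hkey, hD, hD, MonoidHom.mem_range]
      constructor
      · rintro ⟨a, ha⟩
        refine ⟨(a : F), ?_⟩
        have h2 : y = x * a ^ n := by rw [show a ^ n = x⁻¹ * y from ha, mul_inv_cancel_left]
        rw [h2, Units.val_mul, Units.val_pow_eq_pow_val]
      · rintro ⟨a, ha⟩
        have ha0 : a ≠ 0 := fun h0 => by
          rw [h0, zero_pow (by omega), mul_zero] at ha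
          exact y.ne_zero ha
        refine ⟨Units.mk0 a ha0, Units.ext ?_⟩
        rw [powMonoidHom_apply, Units.val_pow_eq_pow_val, Units.val_mk0, Units.val_mul, ha, ← mul_assoc, ← Units.val_mul,
          inv_mul_cancel, Units.val_one, one_mul]
    refine Nat.card_congr (Equiv.ofBijective
      (Quotient.lift (fun x => (⟨ConjClasses.mk (v (D x)), _, rfl, hv _⟩ : S))
        fun x y h => Subtype.ext ((hrel x y).1 h)) ⟨?_, ?_⟩)
    · intro x y
      induction x using Quotient.inductionOn with | h x =>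
      induction y using Quotient.inductionOn with | h y =>
      intro h
      exact Quotient.sound ((hrel x y).2 (congrArg Subtype.val h))
    · rintro ⟨C, w, rfl, hw, hwr⟩
      obtain ⟨g, hg⟩ := exists_similar (Fintype.card_fin n) hn (hU ▸ hu) (hU ▸ hur) hw hwr
      have hgw : w = v g := Subtype.ext (by
        show (w : Matrix (Fin n) (Fin n) F) = (g : Matrix (Fin n) (Fin n) F) * U * (↑g⁻¹ : Matrix (Fin n) (Fin n) F)
        rw [Matrix.mul_sub, Matrix.sub_mul, Matrix.mul_one, Matrix.one_mul, sub_left_inj] at hg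
        rw [hg, Matrix.mul_assoc, Units.mul_inv, Matrix.mul_one])
      refine ⟨Quotient.mk'' (GeneralLinearGroup.det g), Subtype.ext ?_⟩
      show ConjClasses.mk (v (D (GeneralLinearGroup.det g))) = ConjClasses.mk w
      rw [hgw, ConjClasses.mk_eq_mk_iff_isConj, hkey, hD]
      exact ⟨1, by simp⟩
  change Nat.card S = _
  rw [hcard, IsCyclic.index_powMonoidHom_range, Nat.card_units, Nat.card_eq_fintype_card, Nat.gcd_comm]

end SL

end CfsgLib.Classical.RegularNilpotent
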