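import Cfsg.Agent.Lib.Classical.SL2Quat
import Cfsg.Agent.Lib.Classical.SL2OddSylow

/-!
Redundant Sylow subgroups of `SL_2(q)` and `PSL_2(q)`: every `p`-element lies in a second Sylow
`p`-subgroup iff `p = 2` and `q` is not `2^k - 1`, `2^k` or `2^k + 1`.
-/

set_option autoImplicit false

namespace CfsgLib.Classical.Redundant

/-- Some Sylow `p`-subgroup is covered by the other ones. -/
def HasRedundant (p : ℕ) (G : Type*) [Group G] : Prop :=
  ∃ Q : Sylow p G, ∀ x : G, (∃ k : ℕ, orderOf x = p ^ k) → ∃ P : Sylow p G, P ≠ Q ∧ x ∈ P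

/-- Every `p`-element lies in two different Sylow `p`-subgroups. -/
def AllTwo (p : ℕ) (G : Type*) [Group G] : Prop :=
  ∀ x : G, (∃ k : ℕ, orderOf x = p ^ k) → ∃ P P' : Sylow p G, P ≠ P' ∧ x ∈ P ∧ x ∈ P'

section General

variable {G : Type*} [Group G] [Finite G] {p : ℕ} [Fact p.Prime]

theorem orderOf_prime_pow_of_mem {x : G} {P : Subgroup G} (hP : IsPGroup p P) (hx : x ∈ P) :
    ∃ k : ℕ, orderOf x = p ^ k := by
  obtain ⟨k, hk⟩ := IsPGroup.iff_orderOf.1 hP ⟨x, hx⟩
  exact ⟨k, by rw [← hk, Subgroup.orderOf_mk]⟩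

theorem isPGroup_zpowers {x : G} {k : ℕ} (h : orderOf x = p ^ k) :
    IsPGroup p (Subgroup.zpowers x) :=
  IsPGroup.of_card (n := k) (by rw [Nat.card_zpowers, h])

theorem hasRedundant_iff : HasRedundant p G ↔ AllTwo p G := by
  constructor
  · rintro ⟨Q, hQ⟩ x ⟨k, hk⟩
    obtain ⟨P₀, hP₀⟩ := (isPGroup_zpowers hk).exists_le_sylow
    obtain ⟨g, hg⟩ := MulAction.exists_smul_eq G P₀ Q
    have mem : ∀ (R : Sylow p G) (y : G), y ∈ (g • R : Sylow p G) ↔ g⁻¹ * y * g ∈ R := by
      intro R y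
      show y ∈ ((g • R : Sylow p G) : Subgroup G) ↔ _
      rw [Sylow.coe_subgroup_smul, Subgroup.mem_pointwise_smul_iff_inv_smul_mem, ← map_inv,
        MulAut.smul_def, MulAut.conj_apply, inv_inv]
      rfl
    obtain ⟨P, hP, hxP⟩ := hQ (g * x * g⁻¹) ⟨k, by rw [← hk, ← MulAut.conj_apply, MulEquiv.orderOf_eq]⟩
    refine ⟨P₀, g⁻¹ • P, fun e => hP ?_, hP₀ (Subgroup.mem_zpowers x), ?_⟩
    · rw [← hg, e, smul_inv_smul]
    · have := (mem (g⁻¹ • P) (g * x * g⁻¹)).1 (by rwa [smul_inv_smul])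
      rwa [show g⁻¹ * (g * x * g⁻¹) * g = x by group] at this
  · intro h
    obtain ⟨Q⟩ : Nonempty (Sylow p G) := inferInstance
    refine ⟨Q, fun x hx => ?_⟩
    obtain ⟨P, P', hne, hP, hP'⟩ := h x hx
    by_cases e : P = Q
    · exact ⟨P', fun e' => hne (e.trans e'.symm), hP'⟩
    · exact ⟨P, e, hP⟩

/-- A cyclic Sylow subgroup prevents redundancy. -/
theorem not_allTwo_of_cyclic (P : Sylow p G) (hP : IsCyclic (P : Subgroup G)) : ¬ AllTwo p G := by
  intro h
  obtain ⟨⟨c, hc⟩, hgen⟩ := hP.exists_generator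
  obtain ⟨R, R', hne, hR, hR'⟩ := h c (orderOf_prime_pow_of_mem P.2 hc)
  have key : ∀ S : Sylow p G, c ∈ S → (S : Subgroup G) = Subgroup.zpowers c := by
    intro S hS
    refine (Subgroup.eq_of_le_of_card_ge (Subgroup.zpowers_le.2 hS) ?_).symm
    rw [Nat.card_zpowers, Nat.card_congr (S.equiv P).toEquiv, ← orderOf_eq_card_of_forall_mem_zpowers hgen,
      Subgroup.orderOf_mk]
  exact hne (Sylow.ext ((key R hR).trans (key R' hR').symm))

/-- An element commuting with an odd-order element `w`, both inverted by a `2`-element,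
lies in two Sylow 2-subgroups. -/
theorem two_sylow_of_inverted [Fact (Nat.Prime 2)] {x j w : G} {a b : ℕ}
    (hx : orderOf x = 2 ^ a) (hj : orderOf j = 2 ^ b) (hxj : j * x * j⁻¹ = x⁻¹)
    (hxw : Commute x w) (hwj : j * w * j⁻¹ = w⁻¹) (hw : Odd (orderOf w)) (hw1 : w ≠ 1) :
    ∃ P P' : Sylow 2 G, P ≠ P' ∧ x ∈ P ∧ x ∈ P' := by
  have hnorm : Subgroup.zpowers j ≤ Subgroup.normalizer (Subgroup.zpowers x : Set G) := by
    rw [Subgroup.zpowers_le, Subgroup.mem_normalizer_iff]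
    intro y
    have e : ∀ n : ℤ, j * x ^ n * j⁻¹ = x ^ (-n) := fun n => by
      rw [← conj_zpow, hxj, inv_zpow, zpow_neg]
    constructor
    · intro hy
      obtain ⟨n, rfl⟩ := Subgroup.mem_zpowers_iff.1 hy
      exact Subgroup.mem_zpowers_iff.2 ⟨-n, (e n).symm⟩
    · intro hy
      obtain ⟨n, hn⟩ := Subgroup.mem_zpowers_iff.1 hy
      refine Subgroup.mem_zpowers_iff.2 ⟨-n, ?_⟩
      have h2 := e (-n)
      rw [neg_neg, hn] at h2
      exact mul_left_cancel (mul_right_cancel h2)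
  have hsup := IsPGroup.to_sup_of_normal_right' (isPGroup_zpowers hj) (isPGroup_zpowers hx) hnorm
  obtain ⟨S, hS⟩ := hsup.exists_le_sylow
  have hxS : x ∈ S := hS (Subgroup.mem_sup_right (Subgroup.mem_zpowers x))
  have hjS : j ∈ S := hS (Subgroup.mem_sup_left (Subgroup.mem_zpowers j))
  refine ⟨S, w • S, fun e => hw1 ?_, hxS, ?_⟩
  · have hconj : w * j * w⁻¹ ∈ S := by
      rw [e]
      show w * j * w⁻¹ ∈ ((w • S : Sylow 2 G) : Subgroup G)
      rw [Sylow.coe_subgroup_smul]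
      exact Subgroup.mem_pointwise_smul_iff_inv_smul_mem.2 (by
        rw [← map_inv, MulAut.smul_def, MulAut.conj_apply, inv_inv,
          show w⁻¹ * (w * j * w⁻¹) * w = j by group]
        exact hjS)
    have hmem : w * w ∈ S := by
      have h : w * j * w⁻¹ * j⁻¹ = w * w := by
        have h' := congrArg (·⁻¹) hwj
        simp only [mul_inv_rev, inv_inv] at h'
        calc w * j * w⁻¹ * j⁻¹ = w * (j * (w⁻¹ * j⁻¹)) := by group
          _ = w * w := by rw [h']
      exact h ▸ S.1.mul_mem hconj (S.1.inv_mem hjS)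
    obtain ⟨k, hk⟩ := orderOf_prime_pow_of_mem S.2 hmem
    have hsame : orderOf (w ^ 2) = orderOf w := Nat.Coprime.orderOf_pow hw.coprime_two_right
    rw [sq, hk] at hsame
    rcases k with _ | k
    · exact orderOf_eq_one_iff.1 hsame.symm
    · exact absurd hw (by rw [← hsame, Nat.not_odd_iff_even]; exact ⟨2 ^ k, by ring⟩)
  · show x ∈ ((w • S : Sylow 2 G) : Subgroup G)
    rw [Sylow.coe_subgroup_smul]
    refine Subgroup.mem_pointwise_smul_iff_inv_smul_mem.2 ?_
    rw [← map_inv, MulAut.smul_def, MulAut.conj_apply, inv_inv, mul_assoc, hxw.eq,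
      inv_mul_cancel_left]
    exact hxS

/-- `AllTwo` is inherited both ways through a central quotient. -/
theorem allTwo_iff_of_central {H : Type*} [Group H] (f : G →* H) (hf : Function.Surjective f)
    (hker : f.ker ≤ Subgroup.center G) : AllTwo p G ↔ AllTwo p H := by
  haveI : Finite H := Finite.of_surjective f hf
  have key : ∀ (P : Sylow p G) (x : G), (∃ k : ℕ, orderOf x = p ^ k) →
      f x ∈ (Sylow.mapSurjective hf P : Subgroup H) → x ∈ P := by
    rintro P x ⟨k, hk⟩ hx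
    rw [Sylow.coe_mapSurjective] at hx
    obtain ⟨y, hy, hyx⟩ := hx
    have hz : y⁻¹ * x ∈ Subgroup.center G := hker (by rw [MonoidHom.mem_ker, map_mul, map_inv, hyx, inv_mul_cancel])
    have hn : x ∈ Subgroup.normalizer ((P : Subgroup G) : Set G) := by
      rw [show x = y * (y⁻¹ * x) by group]
      exact mul_mem (Subgroup.le_normalizer hy) (Subgroup.center_le_normalizer _ hz)
    have h := P.3 (IsPGroup.to_sup_of_normal_right' (isPGroup_zpowers hk) P.2
      (Subgroup.zpowers_le.2 hn)) le_sup_right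
    exact (SetLike.ext_iff.1 h x).1 (Subgroup.mem_sup_left (Subgroup.mem_zpowers x))
  constructor
  · rintro h y ⟨k, hk⟩
    obtain ⟨S, hS⟩ := (isPGroup_zpowers hk).exists_le_sylow
    obtain ⟨P₀, hP₀⟩ := Sylow.mapSurjective_surjective hf p S
    have hy : y ∈ (Sylow.mapSurjective hf P₀ : Subgroup H) := hP₀ ▸ hS (Subgroup.mem_zpowers y)
    rw [Sylow.coe_mapSurjective] at hy
    obtain ⟨x, hxP, rfl⟩ := hy
    obtain ⟨P, P', hne, hP, hP'⟩ := h x (orderOf_prime_pow_of_mem P₀.2 hxP)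
    refine ⟨Sylow.mapSurjective hf P, Sylow.mapSurjective hf P', fun e => hne ?_, ⟨x, hP, rfl⟩,
      ⟨x, hP', rfl⟩⟩
    refine Sylow.ext (le_antisymm ?_ ?_)
    · intro z hz
      exact key P' z (orderOf_prime_pow_of_mem P.2 hz) (e ▸ ⟨z, hz, rfl⟩)
    · intro z hz
      exact key P z (orderOf_prime_pow_of_mem P'.2 hz) (e ▸ ⟨z, hz, rfl⟩)
  · rintro h x ⟨k, hk⟩
    obtain ⟨m, -, hm⟩ := (Nat.dvd_prime_pow Fact.out).1 (hk ▸ orderOf_map_dvd f x)
    obtain ⟨S, S', hne, hS, hS'⟩ := h (f x) ⟨m, hm⟩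
    obtain ⟨P, rfl⟩ := Sylow.mapSurjective_surjective hf p S
    obtain ⟨P', rfl⟩ := Sylow.mapSurjective_surjective hf p S'
    exact ⟨P, P', fun e => hne (e ▸ rfl), key P x ⟨k, hk⟩ hS, key P' x ⟨k, hk⟩ hS'⟩

end General

section SLTwo

open Matrix CfsgLib.Classical.SL2Q CfsgLib.Fusion.PSL2
open scoped MatrixGroups

variable {F : Type*} [Field F] [Fintype F]

/-- Sylow subgroups in the characteristic are disjoint, so nothing is redundant. -/
theorem not_allTwo_char (p : ℕ) [Fact p.Prime] [CharP F p] :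
    ¬ AllTwo p (SpecialLinearGroup (Fin 2) F) := by
  intro h
  let x : SpecialLinearGroup (Fin 2) F := upperUniSL (Multiplicative.ofAdd 1)
  have hx1 : x ≠ 1 := fun e => one_ne_zero (α := F) (by
    have := congrArg (fun g : SpecialLinearGroup (Fin 2) F => g.1 0 1) e
    simpa [x, upperUniSL_val] using this)
  have hxU : x ∈ (upperSylowSL p : Sylow p (SpecialLinearGroup (Fin 2) F)) := ⟨_, rfl⟩
  obtain ⟨P, P', hne, hP, hP'⟩ := h x (orderOf_prime_pow_of_mem (upperSylowSL p).2 hxU)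
  have hι : Function.Injective (SpecialLinearGroup.toGL : SpecialLinearGroup (Fin 2) F →* GL (Fin 2) F) := by
    intro a b e
    exact Subtype.ext (congrArg Units.val e)
  have up : ∀ R : Sylow p (SpecialLinearGroup (Fin 2) F), ∃ R' : Sylow p (GL (Fin 2) F),
      (R : Subgroup (SpecialLinearGroup (Fin 2) F)).map SpecialLinearGroup.toGL = R' := by
    intro R
    obtain ⟨R', hR'⟩ := (R.2.map (SpecialLinearGroup.toGL)).exists_le_sylow
    refine ⟨R', Subgroup.eq_of_le_of_card_ge hR' (le_of_eq ?_)⟩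
    rw [Subgroup.card_map_of_injective hι, Nat.card_congr (R.equiv (upperSylowSL p)).toEquiv,
      Nat.card_congr (R'.equiv (upperSylow p)).toEquiv]
    show Nat.card (upperUni (F := F)).range = Nat.card (upperUniSL (F := F)).range
    rw [← Nat.card_congr (MonoidHom.ofInjective upperUni_injective).toEquiv,
      ← Nat.card_congr (MonoidHom.ofInjective upperUniSL_injective).toEquiv]
  obtain ⟨A, hA⟩ := up P
  obtain ⟨B, hB⟩ := up P'
  have hAB : A = B := by
    by_contra hAB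
    have hmem : SpecialLinearGroup.toGL x ∈
        (A : Subgroup (GL (Fin 2) F)) ⊓ (B : Subgroup (GL (Fin 2) F)) :=
      ⟨hA ▸ ⟨x, hP, rfl⟩, hB ▸ ⟨x, hP', rfl⟩⟩
    rw [sylow_GL_two_disjoint p A B hAB, Subgroup.mem_bot, ← map_one SpecialLinearGroup.toGL] at hmem
    exact hx1 (hι hmem)
  exact hne (Sylow.ext (Subgroup.map_injective hι (by rw [hA, hB, hAB])))

variable (h2 : (2 : F) ≠ 0)
include h2

theorem isCyclic_torus : IsCyclic (torus : Subgroup (SpecialLinearGroup (Fin 2) F)) := by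
  obtain ⟨i, hi⟩ := IsAlgClosed.exists_pow_nat_eq (-1 : AlgebraicClosure F) (n := 2) (by norm_num)
  let φ := algebraMap F (AlgebraicClosure F)
  let f : (torus : Subgroup (SpecialLinearGroup (Fin 2) F)) →* AlgebraicClosure F :=
    { toFun := fun t => φ (t.1.1 0 0) + i * φ (t.1.1 1 0)
      map_one' := by simp
      map_mul' := fun s t => by
        obtain ⟨s1, s2⟩ := s.2
        obtain ⟨t1, t2⟩ := t.2
        simp only [Subgroup.coe_mul, mul_entry, s1, s2, t1, t2, map_add, map_mul, map_neg]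
        linear_combination (-(φ (s.1.1 1 0) * φ (t.1.1 1 0))) * hi }
  refine isCyclic_of_subgroup_isDomain f fun u v huv => ?_
  suffices h : ∀ w, f w = 1 → w = 1 by
    refine mul_inv_eq_one.1 (h (u * v⁻¹) ?_)
    rw [map_mul, huv, ← map_mul, mul_inv_cancel, map_one]
  rintro ⟨w, hw⟩ hfw
  obtain ⟨w1, w2⟩ := id hw
  have hd := congrArg φ (det_eq w)
  rw [← w1, w2] at hd
  simp only [map_sub, map_mul, map_neg, map_one] at hd
  change φ (w.1 0 0) + i * φ (w.1 1 0) = 1 at hfw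
  have h0 : φ (w.1 0 0) = 1 := by
    have h4 : (2 : AlgebraicClosure F) * (φ (w.1 0 0) - 1) = 0 := by
      linear_combination (-(φ (w.1 0 0) - i * φ (w.1 1 0)) + 1) * hfw + hd + (-(φ (w.1 1 0) * φ (w.1 1 0))) * hi
    refine sub_eq_zero.1 ((mul_eq_zero.1 h4).resolve_left fun h => h2 ?_)
    exact φ.injective (by rwa [map_ofNat, map_zero])
  have hi0 : i ≠ 0 := by rintro rfl; norm_num at hi
  have h1 : w.1 1 0 = 0 := φ.injective (by
    rw [h0, add_eq_left] at hfw
    rw [map_zero]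
    exact (mul_eq_zero.1 hfw).resolve_left hi0)
  have h0' : w.1 0 0 = 1 := φ.injective (h0.trans (map_one φ).symm)
  refine Subtype.ext (ext2 ?_ ?_ ?_ ?_) <;> simp [← w1, w2, h1, h0']

theorem factorization_two (hT : Nat.card (torus : Subgroup (SpecialLinearGroup (Fin 2) F)) =
    if Fintype.card F % 4 = 3 then Fintype.card F + 1 else Fintype.card F - 1) :
    (Nat.card (Subgroup.normalizer (Subgroup.zpowers (wM : SpecialLinearGroup (Fin 2) F) :
      Set (SpecialLinearGroup (Fin 2) F)))).factorization 2 =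
      (Nat.card (SpecialLinearGroup (Fin 2) F)).factorization 2 := by
  obtain ⟨r, hr⟩ := CharP.exists F
  obtain ⟨n, hrp, hn⟩ := FiniteField.card F r
  have hqodd : Odd (Fintype.card F) := by
    rw [hn]
    refine Odd.pow (hrp.odd_of_ne_two fun e => h2 ?_)
    subst e
    exact_mod_cast CharP.cast_eq_zero F 2
  have hq2 : 2 ≤ Fintype.card F := Fintype.one_lt_card
  rw [card_normalizer_wM h2, card_SL_two rfl, hT]
  set q := Fintype.card F
  obtain ⟨m, hm⟩ := hqodd
  rw [Nat.factorization_mul two_ne_zero (by split <;> omega),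
    Nat.factorization_mul (by omega) (by
      exact Nat.mul_ne_zero (by omega) (by omega)),
    Nat.factorization_mul (a := q - 1) (by omega) (by omega)]
  simp only [Finsupp.add_apply]
  have hz : ∀ a : ℕ, a % 2 = 1 → a.factorization 2 = 0 := fun a ha =>
    Nat.factorization_eq_zero_of_not_dvd (by omega)
  rw [hz q (by omega), zero_add, Nat.Prime.factorization_self Nat.prime_two]
  split
  · next h3 =>
    obtain ⟨c, hc, hc'⟩ : ∃ c, q - 1 = 2 * c ∧ c % 2 = 1 := ⟨(q - 1) / 2, by omega, by omega⟩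
    rw [hc, Nat.factorization_mul two_ne_zero (by omega), Finsupp.add_apply,
      Nat.Prime.factorization_self Nat.prime_two, hz c hc', add_zero]
  · next h3 =>
    obtain ⟨c, hc, hc'⟩ : ∃ c, q + 1 = 2 * c ∧ c % 2 = 1 := ⟨(q + 1) / 2, by omega, by omega⟩
    rw [hc, Nat.factorization_mul two_ne_zero (by omega), Finsupp.add_apply,
      Nat.Prime.factorization_self Nat.prime_two, hz c hc', add_zero, add_comm]

/-- Every 2-element is conjugate into the torus. -/
theorem exists_conj_torus {x : SpecialLinearGroup (Fin 2) F} {k : ℕ} (hk : orderOf x = 2 ^ k) :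
    ∃ g : SpecialLinearGroup (Fin 2) F, g⁻¹ * x * g ∈ torus := by
  haveI : Fact (Nat.Prime 2) := ⟨Nat.prime_two⟩
  set N := Subgroup.normalizer (Subgroup.zpowers (wM : SpecialLinearGroup (Fin 2) F) :
      Set (SpecialLinearGroup (Fin 2) F))
  obtain ⟨R⟩ : Nonempty (Sylow 2 N) := inferInstance
  have hcard : Nat.card ((R : Subgroup N).map N.subtype) =
      2 ^ (Nat.card (SpecialLinearGroup (Fin 2) F)).factorization 2 := by
    rw [Subgroup.card_map_of_injective (Subgroup.subtype_injective _), Sylow.card_eq_multiplicity,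
      factorization_two h2 (card_torus_eq h2)]
  let S : Sylow 2 (SpecialLinearGroup (Fin 2) F) := Sylow.ofCard _ hcard
  obtain ⟨P, hP⟩ := (isPGroup_zpowers hk).exists_le_sylow
  obtain ⟨g, hg⟩ := exists_conj_sylow 2 S P
  have hy : g⁻¹ * x * g ∈ N := by
    obtain ⟨z, -, hz⟩ := Subgroup.mem_map.1 ((hg x).1 (hP (Subgroup.mem_zpowers x)))
    exact hz ▸ z.2
  rcases (mem_normalizer_wM h2).1 hy with h | h
  · exact ⟨g, h⟩
  · obtain ⟨Q, hQ⟩ := exists_conj_wM h2 h.trace
    refine ⟨g * Q, ?_⟩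
    rw [show (g * Q)⁻¹ * x * (g * Q) = Q⁻¹ * ((g⁻¹ * x * g) * Q) by group, hQ, inv_mul_cancel_left]
    exact wM_mem_torus

theorem allTwo_of_not_pow (h : ¬ ∃ m : ℕ, Nat.card (torus : Subgroup (SpecialLinearGroup (Fin 2) F)) = 2 ^ m) :
    AllTwo 2 (SpecialLinearGroup (Fin 2) F) := by
  haveI : Fact (Nat.Prime 2) := ⟨Nat.prime_two⟩
  haveI := isCyclic_torus h2 (F := F)
  rintro x ⟨k, hk⟩
  obtain ⟨g, hg⟩ := exists_conj_torus h2 hk
  obtain ⟨r, hr, hr2, hrd⟩ : ∃ r : ℕ, r.Prime ∧ r ≠ 2 ∧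
      r ∣ Nat.card (torus : Subgroup (SpecialLinearGroup (Fin 2) F)) := by
    by_contra hcon
    push Not at hcon
    exact h ⟨_, Nat.eq_prime_pow_of_unique_prime_dvd Nat.card_pos.ne' fun {d} hd hdd => by
      by_contra hd2
      exact hcon d hd hd2 hdd⟩
  haveI : Fact r.Prime := ⟨hr⟩
  obtain ⟨w, hw⟩ := exists_prime_orderOf_dvd_card' r hrd
  obtain ⟨j, hj⟩ := exists_isFlip (F := F) h2
  have hconj : ∀ t ∈ (torus : Subgroup (SpecialLinearGroup (Fin 2) F)), j * t * j⁻¹ = t⁻¹ := fun t ht => by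
    rw [hj.inverts ht, mul_inv_cancel_right]
  set y := g⁻¹ * x * g with hy
  have hyo : orderOf y = 2 ^ k := by
    rw [hy, show g⁻¹ * x * g = MulAut.conj g⁻¹ x by simp, MulEquiv.orderOf_eq, hk]
  obtain ⟨P, P', hne, hP, hP'⟩ := two_sylow_of_inverted (w := (w : SpecialLinearGroup (Fin 2) F))
    (b := 2) hyo (orderOf_of_sq_negOne h2 hj.sq) (hconj y hg) (torus_comm hg w.2) (hconj _ w.2)
    (by rw [Subgroup.orderOf_coe, hw]; exact hr.odd_of_ne_two hr2)
    (fun e => hr.ne_one (by rw [← hw, ← Subgroup.orderOf_coe, e, orderOf_one]))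
  have mem : ∀ R : Sylow 2 (SpecialLinearGroup (Fin 2) F), y ∈ R → x ∈ g • R := fun R hR => by
    show x ∈ ((g • R : Sylow 2 (SpecialLinearGroup (Fin 2) F)) : Subgroup _)
    rw [Sylow.coe_subgroup_smul, Subgroup.mem_pointwise_smul_iff_inv_smul_mem, ← map_inv,
      MulAut.smul_def, MulAut.conj_apply, inv_inv]
    exact hR
  exact ⟨g • P, g • P', fun e => hne (smul_left_cancel g e), mem P hP, mem P' hP'⟩

theorem not_allTwo_of_pow {m : ℕ} (hm : Nat.card (torus : Subgroup (SpecialLinearGroup (Fin 2) F)) = 2 ^ m) :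
    ¬ AllTwo 2 (SpecialLinearGroup (Fin 2) F) := by
  haveI : Fact (Nat.Prime 2) := ⟨Nat.prime_two⟩
  intro h
  obtain ⟨⟨c, hc⟩, hgen⟩ := (isCyclic_torus h2 (F := F)).exists_generator
  have hoc : orderOf c = 2 ^ m := by
    rw [← hm, ← orderOf_eq_card_of_forall_mem_zpowers hgen, Subgroup.orderOf_mk]
  have hzc : Subgroup.zpowers c = torus := by
    refine Subgroup.eq_of_le_of_card_ge (Subgroup.zpowers_le.2 hc) ?_
    rw [Nat.card_zpowers, hoc, hm]
  obtain ⟨P, P', hne, hP, hP'⟩ := h c ⟨m, hoc⟩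
  set N := Subgroup.normalizer (Subgroup.zpowers (wM : SpecialLinearGroup (Fin 2) F) :
      Set (SpecialLinearGroup (Fin 2) F)) with hN
  have hNcard : Nat.card N = 2 ^ (m + 1) := by
    rw [hN, card_normalizer_wM h2, hm, pow_succ']
  have key : ∀ R : Sylow 2 (SpecialLinearGroup (Fin 2) F), c ∈ R → (R : Subgroup _) = N := by
    intro R hR
    have hRcard : Nat.card (R : Subgroup (SpecialLinearGroup (Fin 2) F)) = 2 ^ (m + 1) := by
      rw [Sylow.card_eq_multiplicity, ← factorization_two h2 (card_torus_eq h2), ← hN, hNcard,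
        Nat.factorization_pow, Finsupp.smul_apply, Nat.Prime.factorization_self Nat.prime_two,
        smul_eq_mul, mul_one]
    have hTR : torus ≤ (R : Subgroup (SpecialLinearGroup (Fin 2) F)) := hzc ▸ Subgroup.zpowers_le.2 hR
    have hidx : ((torus : Subgroup (SpecialLinearGroup (Fin 2) F)).subgroupOf R).index = 2 := by
      have h1 := Subgroup.index_mul_card ((torus : Subgroup (SpecialLinearGroup (Fin 2) F)).subgroupOf R)
      rw [Nat.card_congr (Subgroup.subgroupOfEquivOfLe hTR).toEquiv, hm, hRcard, pow_succ'] at h1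
      exact Nat.eq_of_mul_eq_mul_right (pow_pos (by norm_num) m) h1
    have hnor := Subgroup.normal_of_index_eq_two hidx
    refine Subgroup.eq_of_le_of_card_ge (fun g hg => ?_) (by rw [hNcard, hRcard])
    -- `g` normalizes the torus, hence fixes the quarter turn up to sign
    have ht : g * wM * g⁻¹ ∈ torus := hnor.conj_mem ⟨wM, hTR wM_mem_torus⟩ wM_mem_torus ⟨g, hg⟩
    have hsq : g * wM * g⁻¹ * (g * wM * g⁻¹) = negOne := by
      rw [show g * wM * g⁻¹ * (g * wM * g⁻¹) = g * (wM * wM) * g⁻¹ by group,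
        sq_of_trace_zero wM_trace, ← negOne_comm, mul_inv_cancel_right]
    obtain ⟨t1, t2⟩ := id ht
    have hd := det_eq (g * wM * g⁻¹)
    have e00 := congrArg (fun z : SpecialLinearGroup (Fin 2) F => z.1 0 0) hsq
    rw [← t1, t2] at hd
    set t : SpecialLinearGroup (Fin 2) F := g * wM * g⁻¹ with ht'
    simp only [mul_entry, t2] at e00
    simp [negOne] at e00
    have ha : t.1 0 0 = 0 := by
      have : (2 : F) * (t.1 0 0 * t.1 0 0) = 0 := by linear_combination e00 + hd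
      exact mul_self_eq_zero.1 ((mul_eq_zero.1 this).resolve_left h2)
    rw [ha] at hd
    rcases mul_self_eq_one_iff.1 (show t.1 1 0 * t.1 1 0 = 1 by linear_combination hd) with hb | hb
    · have e : t = wM := by
        refine ext2 ?_ ?_ ?_ ?_ <;> simp [wM_val, ha, hb, ← t1, t2]
      refine (mem_normalizer_wM h2).2 (Or.inl (commute_wM_iff.1 ?_))
      exact mul_inv_eq_iff_eq_mul.1 e
    · have e : t = negOne * wM := by
        refine ext2 ?_ ?_ ?_ ?_ <;> simp [negOne_mul_entry, wM_val, ha, hb, ← t1, t2]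
      exact (mem_normalizer_wM h2).2 (Or.inr (isFlip_iff.2 (mul_inv_eq_iff_eq_mul.1 e)))
  exact hne (Sylow.ext ((key P hP).trans (key P' hP').symm))

omit h2 in
theorem allTwo_SL_iff (p : ℕ) [Fact p.Prime] :
    AllTwo p (SpecialLinearGroup (Fin 2) F) ↔
      (p = 2 ∧ (¬ ∃ k : ℕ, Fintype.card F + 1 = 2 ^ k) ∧ (¬ ∃ k : ℕ, Fintype.card F = 2 ^ k) ∧
        ¬ ∃ k : ℕ, Fintype.card F = 2 ^ k + 1) := by
  obtain ⟨r, hr⟩ := CharP.exists F
  obtain ⟨n, hrp, hn⟩ := FiniteField.card F r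
  haveI : Fact r.Prime := ⟨hrp⟩
  by_cases hpr : p = r
  · subst hpr
    refine iff_of_false (not_allTwo_char p) ?_
    rintro ⟨rfl, -, h, -⟩
    exact h ⟨n, hn⟩
  by_cases hp2 : p = 2
  swap
  · obtain ⟨P⟩ : Nonempty (Sylow p (SpecialLinearGroup (Fin 2) F)) := inferInstance
    exact iff_of_false (not_allTwo_of_cyclic P (sylow_odd_cyclic_SL_two r p hp2 hpr P)) fun h => hp2 h.1
  subst hp2
  have hr2 : r ≠ 2 := fun e => hpr e.symm
  have h2 : (2 : F) ≠ 0 := by
    intro h
    refine hr2 ((Nat.prime_dvd_prime_iff_eq hrp Nat.prime_two).1 ?_)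
    exact (CharP.cast_eq_zero_iff F r 2).1 (by exact_mod_cast h)
  have hodd : Fintype.card F % 2 = 1 := by
    rw [hn, ← Nat.odd_iff]; exact (hrp.odd_of_ne_two hr2).pow
  have hq2 : 2 ≤ Fintype.card F := Fintype.one_lt_card
  have even_pow : ∀ {k : ℕ}, 1 ≤ k → 2 ∣ 2 ^ k := fun hk => dvd_pow_self 2 (by omega)
  have four_pow : ∀ {k : ℕ}, 2 ≤ k → 4 ∣ 2 ^ k := fun hk => pow_dvd_pow 2 hk
  have hT := card_torus_eq h2 (F := F)
  constructor
  · intro h
    refine ⟨rfl, ?_, ?_, ?_⟩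
    · rintro ⟨k, hk⟩
      refine not_allTwo_of_pow h2 (m := k) ?_ h
      have h4 : 4 ∣ 2 ^ k := four_pow (by
        by_contra hlt
        interval_cases k <;> omega)
      rw [hT, if_pos (by omega), hk]
    · rintro ⟨k, hk⟩
      rcases k with _ | k
      · omega
      · have := even_pow (k := k + 1) (by omega); omega
    · rintro ⟨k, hk⟩
      rcases k with _ | _ | k
      · omega
      · refine not_allTwo_of_pow h2 (m := 2) ?_ h
        rw [hT, hk]; rfl
      · refine not_allTwo_of_pow h2 (m := k + 2) ?_ h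
        have h4 : 4 ∣ 2 ^ (k + 1 + 1) := four_pow (by omega)
        rw [hT, if_neg (by omega), hk, show k + 2 = k + 1 + 1 from rfl]
        omega
  · rintro ⟨-, h1, -, h3⟩
    refine allTwo_of_not_pow h2 ?_
    rintro ⟨m, hm⟩
    rw [hT] at hm
    split at hm
    · exact h1 ⟨m, hm⟩
    · exact h3 ⟨m, by omega⟩

omit h2 in
theorem allTwo_PSL_iff (p : ℕ) [Fact p.Prime] :
    AllTwo p (ProjectiveSpecialLinearGroup (Fin 2) F) ↔
      (p = 2 ∧ (¬ ∃ k : ℕ, Fintype.card F + 1 = 2 ^ k) ∧ (¬ ∃ k : ℕ, Fintype.card F = 2 ^ k) ∧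
        ¬ ∃ k : ℕ, Fintype.card F = 2 ^ k + 1) := by
  rw [← allTwo_SL_iff p]
  exact (allTwo_iff_of_central (QuotientGroup.mk' _) (QuotientGroup.mk'_surjective _)
    (QuotientGroup.ker_mk' _).le).symm

end SLTwo

end CfsgLib.Classical.Redundant
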