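/-
`SU_2(q) ≅ SL_2(q)`.
-/
import Cfsg.Agent.Lib.Classical.HermOrder
import Cfsg.Agent.Lib.Classical.SL2Sylow

set_option autoImplicit false

namespace CfsgLib.Classical

open Matrix Cfsg
open scoped MatrixGroups

variable {F K : Type*} [Field F] [Fintype F] [Field K] [Fintype K] {q : ℕ}

theorem exists_embedding_fixed (hF : Fintype.card F = q ^ 2) (hK : Fintype.card K = q) :
    ∃ f : K →+* F, ∀ x, (f x) ^ q = f x := by
  classical
  obtain ⟨σ, hσ, -, -⟩ := exists_qPow hF
  have hq := two_le_q hF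
  let F0 : Subfield F := σ.eqLocusField (RingHom.id F)
  have hmem : ∀ x, x ∈ F0 ↔ x ^ q = x := fun x => by
    show σ x = x ↔ _
    rw [hσ]
  haveI : Fintype F0 := Fintype.ofFinite _
  have hu : Nat.card F0ˣ = q - 1 := by
    have hd : (q - 1) ∣ Nat.card Fˣ := by
      rw [Nat.card_units, Nat.card_eq_fintype_card, hF]
      exact ⟨q + 1, by rw [mul_comm, ← Nat.sq_sub_sq, one_pow]⟩
    have h := IsCyclic.card_powMonoidHom_ker (G := Fˣ) (q - 1)
    rw [Nat.gcd_eq_right hd] at h
    conv_rhs => rw [← h]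
    refine Nat.card_congr ?_
    refine Equiv.ofBijective (fun u => ⟨Units.map (F0.subtype : F0 →* F) u, Units.ext ?_⟩) ⟨?_, ?_⟩
    · have hx : ((u : F0) : F) ^ q = ((u : F0) : F) := (hmem _).1 (u : F0).2
      have hne : ((u : F0) : F) ≠ 0 := fun h0 => u.ne_zero (Subtype.ext h0)
      refine mul_right_cancel₀ hne ?_
      simp only [powMonoidHom_apply, Units.val_pow_eq_pow_val, Units.coe_map, Units.val_one, one_mul]
      exact (pow_succ _ _).symm.trans ((congrArg _ (Nat.sub_add_cancel (by omega : 1 ≤ q))).trans hx)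
    · intro a b hab
      have := congrArg (fun z => ((Subtype.val z : Fˣ) : F)) hab
      exact Units.ext (Subtype.ext this)
    · rintro ⟨u, hu⟩
      have hu' : (u : F) ^ (q - 1) = 1 := by
        have := congrArg Units.val hu
        simpa using this
      have hmu : (u : F) ∈ F0 := (hmem _).2 (by
        conv_lhs => rw [← Nat.sub_add_cancel (by omega : 1 ≤ q), pow_succ, hu', one_mul])
      refine ⟨Units.mk0 ⟨(u : F), hmu⟩ (fun h0 => u.ne_zero (congrArg Subtype.val h0)), ?_⟩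
      exact Subtype.ext (Units.ext rfl)
  have hF0 : Fintype.card K = Fintype.card F0 := by
    rw [Nat.card_units, Nat.card_eq_fintype_card] at hu
    have := Fintype.card_pos (α := F0)
    have h1 : 1 < Fintype.card F0 := Fintype.one_lt_card
    omega
  exact ⟨F0.subtype.comp (FiniteField.ringEquivOfCardEq hF0).toRingHom, fun x => (hmem _).1 (Subtype.prop _)⟩

theorem su_two_equiv_sl_two (hF : Fintype.card F = q ^ 2) (hK : Fintype.card K = q) :
    Nonempty (SU 2 F q ≃* SpecialLinearGroup (Fin 2) K) := by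
  classical
  obtain ⟨σ, hσ, hinv, hne⟩ := exists_qPow hF
  obtain ⟨f, hf⟩ := exists_embedding_fixed hF hK
  have hq := two_le_q hF
  obtain ⟨ω, hω⟩ := exists_norm_eq hF (μ := (-1 : F)) (by rw [← hσ, map_neg, map_one])
  obtain ⟨γ, hγ0, hγ⟩ : ∃ γ : F, γ ≠ 0 ∧ σ γ = -γ := by
    obtain ⟨x, hx⟩ : ∃ x, σ x ≠ x := not_forall.1 fun h => hne (RingHom.ext h)
    exact ⟨σ x - x, sub_ne_zero.2 hx, by rw [map_sub, hinv]; ring⟩
  obtain ⟨t, ht⟩ : ∃ t : F, t + σ t = -1 := by
    obtain ⟨x, hx⟩ : ∃ x, x + σ x ≠ 0 := by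
      by_contra h
      push Not at h
      have h11 := h 1
      rw [map_one] at h11
      refine hne (RingHom.ext fun x => ?_)
      rw [RingHom.id_apply]
      linear_combination h x - x * h11
    refine ⟨-x / (x + σ x), ?_⟩
    rw [map_div₀, map_neg, map_add, hinv, add_comm (σ x) x]
    field_simp
    ring
  have hω0 : σ ω = ω ^ q := hσ ω
  have hN : ω * σ ω = -1 := by rw [hω0, ← pow_succ', hω]
  set P : Matrix (Fin 2) (Fin 2) F := !![1, -γ * (1 + t); ω, -γ * (t * ω)] with hP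
  have hdetP : IsUnit P.det := by
    rw [isUnit_iff_ne_zero, hP, Matrix.det_fin_two]
    simp only [Matrix.of_apply, Matrix.cons_val', Matrix.cons_val_zero, Matrix.cons_val_one, Matrix.empty_val',
      Matrix.cons_val_fin_one]
    rw [show (1 : F) * (-γ * (t * ω)) - -γ * (1 + t) * ω = γ * ω by ring]
    exact mul_ne_zero hγ0 (left_ne_zero_of_mul_eq_one (a := ω) (b := -σ ω) (by linear_combination -hN))
  have hσt : σ t = -1 - t := by linear_combination ht
  have hB : ∀ u v : Fin 2 → F, hermForm 2 F q (P *ᵥ u) (P *ᵥ v) = γ * (u 0 * σ (v 1) - u 1 * σ (v 0)) := by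
    intro u v
    rw [hermForm_apply 2 hσ, Fin.sum_univ_two]
    simp only [hP, Matrix.mulVec, dotProduct, Fin.sum_univ_two, Matrix.of_apply, Matrix.cons_val',
      Matrix.cons_val_zero, Matrix.cons_val_one, Matrix.empty_val', Matrix.cons_val_fin_one, map_add, map_mul,
      map_neg, map_one, hγ, hσt]
    linear_combination ((u 0 - γ * t * u 1) * (σ (v 0) - γ * (1 + t) * σ (v 1))) * hN
  let g : SpecialLinearGroup (Fin 2) K → SU 2 F q := fun M =>
    ⟨⟨P * (M.1.map f) * P⁻¹, by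
      rw [Matrix.det_mul, Matrix.det_mul, Matrix.det_nonsing_inv, Ring.inverse_eq_inv', mul_right_comm,
        mul_inv_cancel₀ hdetP.ne_zero, one_mul, ← RingHom.mapMatrix_apply, ← RingHom.map_det, M.2, map_one]⟩, by
      intro u v
      show hermForm 2 F q ((P * (M.1.map f) * P⁻¹) *ᵥ u) ((P * (M.1.map f) * P⁻¹) *ᵥ v) = hermForm 2 F q u v
      have hd : f (M.1 0 0) * f (M.1 1 1) - f (M.1 0 1) * f (M.1 1 0) = 1 := by
        rw [← map_mul, ← map_mul, ← map_sub, ← Matrix.det_fin_two, M.2, map_one]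
      rw [← Matrix.mulVec_mulVec, ← Matrix.mulVec_mulVec, ← Matrix.mulVec_mulVec, ← Matrix.mulVec_mulVec, hB]
      conv_rhs => rw [show u = P *ᵥ (P⁻¹ *ᵥ u) by rw [Matrix.mulVec_mulVec, Matrix.mul_nonsing_inv _ hdetP,
        Matrix.one_mulVec], show v = P *ᵥ (P⁻¹ *ᵥ v) by rw [Matrix.mulVec_mulVec, Matrix.mul_nonsing_inv _ hdetP,
        Matrix.one_mulVec], hB]
      generalize P⁻¹ *ᵥ u = a
      generalize P⁻¹ *ᵥ v = b
      have hfix : ∀ i j, σ (f (M.1 i j)) = f (M.1 i j) := fun i j => by rw [hσ, hf]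
      simp only [Matrix.mulVec, dotProduct, Fin.sum_univ_two, Matrix.map_apply, map_add, map_mul, hfix]
      linear_combination (γ * (a 0 * σ (b 1) - a 1 * σ (b 0))) * hd⟩
  have hginj : Function.Injective g := by
    intro M N h
    have h' : P * (M.1.map f) * P⁻¹ = P * (N.1.map f) * P⁻¹ := congrArg (fun x : SU 2 F q => x.1.1) h
    have h'' := congrArg (fun X => P⁻¹ * X * P) h'
    simp only [← mul_assoc, Matrix.nonsing_inv_mul _ hdetP, one_mul] at h''
    simp only [mul_assoc, Matrix.nonsing_inv_mul _ hdetP, mul_one] at h''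
    exact Subtype.ext (Matrix.map_injective f.injective h'')
  let G : SpecialLinearGroup (Fin 2) K →* SU 2 F q := MonoidHom.mk' g fun M N => Subtype.ext (Subtype.ext (by
    show P * ((M * N).1.map f) * P⁻¹ = P * (M.1.map f) * P⁻¹ * (P * (N.1.map f) * P⁻¹)
    rw [Matrix.SpecialLinearGroup.coe_mul, Matrix.map_mul, ← mul_assoc, ← mul_assoc, ← mul_assoc,
      mul_assoc (P * M.1.map f) P⁻¹ P, Matrix.nonsing_inv_mul _ hdetP, mul_one]))
  refine ⟨(MulEquiv.ofBijective G ((Nat.bijective_iff_injective_and_card G).2 ⟨hginj, ?_⟩)).symm⟩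
  refine Nat.eq_of_mul_eq_mul_left (by omega : 0 < q + 1) ?_
  rw [card_SL_two hK, card_su hF (by norm_num)]
  obtain ⟨m, rfl⟩ : ∃ m, q = m + 2 := ⟨q - 2, by omega⟩
  simp [unitaryOrder, Finset.prod_range_succ]
  have h1 : (m + 2) ^ 2 - 1 = (m + 2 + 1) * (m + 1) := by
    rw [show (m + 2) ^ 2 = (m + 2 + 1) * (m + 1) + 1 by ring, Nat.add_sub_cancel]
  rw [h1]
  ring

end CfsgLib.Classical
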