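/-
Classes of regular unipotent elements of the special unitary groups.
-/
import Cfsg.Agent.Lib.Classical.UnitaryConjugacy
import Cfsg.Agent.Lib.Classical.RegularUnipotentClasses
import Cfsg.Agent.Lib.Classical.RegularProduct

set_option autoImplicit false

namespace CfsgLib.Classical.SURegular

open Matrix CfsgLib.Classical

variable {K : Type*} [Field K] {q n : ℕ}

theorem exists_scalar_add_nilpotent {N M : Matrix (Fin n) (Fin n) K} (hn : 1 ≤ n) (h : N ^ n = 0)
    (r : N.rank = n - 1) (hM : M * N = N * M) : ∃ a : K, IsNilpotent (M - algebraMap K _ a) ∧ M.det = a ^ n := by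
  classical
  obtain ⟨hV, hk, hf⟩ := RegularNilpotent.hyps_of_matrix (Fintype.card_fin n) h r
  obtain ⟨b, hb⟩ := RegularNilpotent.exists_cyclic_basis hV hn hk hf
  obtain ⟨e, he⟩ : ∃ e, e = b ⟨0, hn⟩ := ⟨_, rfl⟩
  obtain ⟨P, hP⟩ : ∃ P, P = ∑ k : Fin n, b.repr (M *ᵥ e) k • N ^ (k : ℕ) := ⟨_, rfl⟩
  have hbN : ∀ i : Fin n, b i = N ^ (i : ℕ) *ᵥ e := fun i => by
    rw [hb i, ← he, ← RegularNilpotent.mulVecLin_pow]; rfl
  have hPN : Commute P N := by
    rw [hP]; exact Commute.sum_left _ _ _ fun k _ => ((Commute.refl N).pow_left _).smul_left _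
  have hMN : Commute M N := hM
  have hMP : M = P := by
    have h0 : M *ᵥ e = P *ᵥ e := by
      rw [hP, Matrix.sum_mulVec]
      conv_lhs => rw [← b.sum_repr (M *ᵥ e)]
      exact Finset.sum_congr rfl fun k _ => by rw [Matrix.smul_mulVec, hbN]
    have hl : Matrix.mulVecLin M = Matrix.mulVecLin P := b.ext fun i => by
      show M *ᵥ b i = P *ᵥ b i
      rw [hbN, mulVec_mulVec, mulVec_mulVec, (hMN.pow_right _).eq, (hPN.pow_right _).eq, ← mulVec_mulVec, ← mulVec_mulVec, h0]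
    exact Matrix.toLin'.injective hl
  have hnil : IsNilpotent (M - algebraMap K _ (b.repr (M *ᵥ e) ⟨0, hn⟩)) := by
    rw [show M - algebraMap K _ (b.repr (M *ᵥ e) ⟨0, hn⟩) =
        ∑ k ∈ Finset.univ.erase (⟨0, hn⟩ : Fin n), b.repr (M *ᵥ e) k • N ^ (k : ℕ) by
      conv_lhs => arg 1; rw [hMP, hP]
      rw [← Finset.add_sum_erase _ _ (Finset.mem_univ (⟨0, hn⟩ : Fin n)), pow_zero, Algebra.algebraMap_eq_smul_one,
        add_sub_cancel_left]]
    refine Commute.isNilpotent_sum (fun k hk => ?_) fun i j _ _ => ?_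
    · exact IsNilpotent.smul (IsNilpotent.pow_of_pos ⟨n, h⟩ fun hz => Finset.ne_of_mem_erase hk (Fin.ext hz)) _
    · exact (((Commute.refl N).pow_left _).pow_right _).smul_left _ |>.smul_right _
  obtain ⟨a, ha⟩ : ∃ a, a = b.repr (M *ᵥ e) ⟨0, hn⟩ := ⟨_, rfl⟩
  rw [← ha] at hnil
  refine ⟨a, hnil, ?_⟩
  have hc := Matrix.isNilpotent_charpoly_sub_pow_of_isNilpotent (M := -(M - algebraMap K _ a)) hnil.neg
  have hc' := sub_eq_zero.1 hc.eq_zero
  have h1 := congrArg (Polynomial.eval a) hc'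
  rw [Matrix.eval_charpoly, Polynomial.eval_pow, Polynomial.eval_X, Fintype.card_fin, sub_neg_eq_add] at h1
  rw [← h1]
  congr 1
  show M = algebraMap K _ a + (M - algebraMap K _ a)
  rw [add_sub_cancel]

variable [Fintype K] (hK : Fintype.card K = q ^ 2)
include hK

theorem norm_one_of_unitary {M : Matrix (Fin n) (Fin n) K} {a : K} (hn : 1 ≤ n) (hM : GUConj.starQ q M * M = 1)
    (ha : IsNilpotent (M - algebraMap K _ a)) : a ^ q * a = 1 := by
  haveI : Nonempty (Fin n) := ⟨⟨0, hn⟩⟩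
  have hM' : M * GUConj.starQ q M = 1 := mul_eq_one_comm.1 hM
  obtain ⟨j, hj⟩ := ha
  have hS : IsNilpotent (GUConj.starQ q M - algebraMap K _ (a ^ q)) := by
    refine ⟨j, ?_⟩
    have e : GUConj.starQ q (M - algebraMap K _ a) = GUConj.starQ q M - algebraMap K _ (a ^ q) := by
      rw [eq_sub_iff_add_eq, ← GUConj.starQ_scal hK, ← GUConj.starQ_add hK, sub_add_cancel]
    have hp : ∀ (k : ℕ), GUConj.starQ q ((M - algebraMap K _ a) ^ k) = (GUConj.starQ q (M - algebraMap K _ a)) ^ k := by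
      intro k
      induction k with
      | zero => rw [pow_zero, pow_zero, GUConj.starQ_one hK]
      | succ k ih => rw [pow_succ, GUConj.starQ_mul hK, ih, ← pow_succ']
    rw [← e, ← hp, hj, ← map_zero (algebraMap K (Matrix (Fin n) (Fin n) K)), GUConj.starQ_scal hK,
      zero_pow (by have := two_le_q hK; omega : q ≠ 0)]
  have e : algebraMap K (Matrix (Fin n) (Fin n) K) (a ^ q * a - 1) =
      -((GUConj.starQ q M - algebraMap K _ (a ^ q)) * M + (M - algebraMap K _ a) * algebraMap K _ (a ^ q)) := by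
    rw [sub_mul, sub_mul, hM, map_sub, map_mul, map_one, ← Algebra.commutes (a ^ q) M, ← Algebra.commutes (a ^ q) (algebraMap K (Matrix (Fin n) (Fin n) K) a)]
    abel
  have hc : Commute (GUConj.starQ q M) M := hM.trans hM'.symm
  have hnil : IsNilpotent (algebraMap K (Matrix (Fin n) (Fin n) K) (a ^ q * a - 1)) := by
    rw [e]
    refine (Commute.isNilpotent_add ?_ ?_ ?_).neg
    · exact (((hc.sub_left (Algebra.commutes _ _)).sub_right ((Algebra.commutes _ _).symm)).mul_right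
        (Algebra.commutes _ _).symm).mul_left
        (((Commute.refl M).sub_right (Algebra.commutes _ _).symm).mul_right (Algebra.commutes _ _).symm)
    · exact Commute.isNilpotent_mul_right (hc.sub_left (Algebra.commutes _ _)) hS
    · exact Commute.isNilpotent_mul_right ((Algebra.commutes _ _).symm) ⟨j, hj⟩
  exact sub_eq_zero.1 ((IsNilpotent.map_iff (FaithfulSMul.algebraMap_injective K _)).1 hnil).eq_zero

theorem card_classes_SU (hn : 1 ≤ n) :
    Nat.card {C : ConjClasses ↥(Cfsg.SU n K q) // ∃ u : ↥(Cfsg.SU n K q), ConjClasses.mk u = C ∧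
      (((u : SpecialLinearGroup (Fin n) K) : Matrix (Fin n) (Fin n) K) - 1) ^ n = 0 ∧
      (((u : SpecialLinearGroup (Fin n) K) : Matrix (Fin n) (Fin n) K) - 1).rank = n - 1} = Nat.gcd n (q + 1) := by
  classical
  haveI : NeZero n := ⟨by omega⟩
  have hq := two_le_q hK
  have toGU : ∀ u : ↥(Cfsg.SU n K q), Matrix.SpecialLinearGroup.toGL (u : SpecialLinearGroup (Fin n) K) ∈ Cfsg.GU n K q := fun u => u.2
  -- a regular unipotent unitary element
  obtain ⟨u0, hu0, hu0r⟩ := RegularNilpotent.exists_regular_unipotent (F := K) (n := n) hn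
  obtain ⟨A, hA⟩ : ∃ A : GL (Fin n) K, A = Matrix.SpecialLinearGroup.toGL u0 := ⟨_, rfl⟩
  obtain ⟨a, ha⟩ : ∃ a, a = (A : Matrix (Fin n) (Fin n) K) := ⟨_, rfl⟩
  have hau : a = (u0 : Matrix (Fin n) (Fin n) K) := by rw [ha, hA]; rfl
  obtain ⟨B, hB⟩ : ∃ B : Cfsg.GU n K q, IsConj A (B : GL (Fin n) K) := by
    rw [GUConj.exists_conj_mem_gu_iff hK, ← ha]
    obtain ⟨a', ha'⟩ : ∃ a', a * a' = 1 := ⟨_, ha ▸ A.mul_inv⟩
    have hsa : GUConj.starQ q a * GUConj.starQ q a' = 1 := by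
      rw [← GUConj.starQ_mul hK, mul_eq_one_comm.1 ha', GUConj.starQ_one hK]
    rw [Matrix.inv_eq_right_inv hsa]
    obtain ⟨N, hNdef⟩ : ∃ N, N = a - 1 := ⟨_, rfl⟩
    have hN : N ^ n = 0 := by rw [hNdef, hau]; exact hu0
    have hN1 : N ^ (n - 1) ≠ 0 := by
      intro h
      obtain ⟨hV, hk, hf⟩ := RegularNilpotent.hyps_of_matrix (Fintype.card_fin n) hN (by rw [hNdef, hau]; exact hu0r)
      obtain ⟨b, hb⟩ := RegularNilpotent.exists_cyclic_basis hV hn hk hf
      refine b.ne_zero ⟨n - 1, by omega⟩ ?_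
      rw [hb, ← RegularNilpotent.mulVecLin_pow, Matrix.mulVecLin_apply, h, Matrix.zero_mulVec]
    have e1 : GUConj.starQ q a' - 1 = -(GUConj.starQ q a' * GUConj.starQ q N) := by
      rw [eq_neg_iff_add_eq_zero, sub_add_eq_add_sub, sub_eq_zero]
      conv_lhs => arg 1; rw [← mul_one (GUConj.starQ q a')]
      rw [← mul_add, ← GUConj.starQ_one hK, ← GUConj.starQ_add hK, hNdef, add_sub_cancel, ← GUConj.starQ_mul hK, ha']
    have hcom : Commute (GUConj.starQ q a') (GUConj.starQ q N) := by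
      show _ = _
      rw [← GUConj.starQ_mul hK, ← GUConj.starQ_mul hK, hNdef, sub_mul, mul_sub, ha', mul_eq_one_comm.1 ha', one_mul, mul_one]
    have hpow : ∀ k, (GUConj.starQ q N) ^ k = GUConj.starQ q (N ^ k) := by
      intro k
      induction k with
      | zero => rw [pow_zero, pow_zero, GUConj.starQ_one hK]
      | succ k ih => rw [pow_succ', ih, pow_succ, GUConj.starQ_mul hK]
    have hs0 : GUConj.starQ q (0 : Matrix (Fin n) (Fin n) K) = 0 := by
      rw [← map_zero (algebraMap K (Matrix (Fin n) (Fin n) K)), GUConj.starQ_scal hK, zero_pow (by omega)]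
    let Y : GL (Fin n) K := ⟨GUConj.starQ q a', GUConj.starQ q a, mul_eq_one_comm.1 hsa, hsa⟩
    have hY : ∀ k, ((Y : Matrix (Fin n) (Fin n) K) - 1) ^ k = (-1) ^ k * (GUConj.starQ q a' ^ k * GUConj.starQ q (N ^ k)) := fun k => by
      show (GUConj.starQ q a' - 1) ^ k = _
      rw [e1, neg_pow, hcom.mul_pow, hpow]
    obtain ⟨e, he⟩ : ∃ e, (N ^ (n - 1)) *ᵥ e ≠ 0 := by
      by_contra h
      push Not at h
      exact hN1 (Matrix.ext_of_mulVec_single fun i => by rw [h, Matrix.zero_mulVec])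
    obtain ⟨e', he'⟩ : ∃ e', ((Y : Matrix (Fin n) (Fin n) K) - 1) ^ (n - 1) *ᵥ e' ≠ 0 := by
      by_contra h
      push Not at h
      have h0 : ((Y : Matrix (Fin n) (Fin n) K) - 1) ^ (n - 1) = 0 :=
        Matrix.ext_of_mulVec_single fun i => by rw [h, Matrix.zero_mulVec]
      rw [hY] at h0
      have hu : IsUnit ((-1 : Matrix (Fin n) (Fin n) K) ^ (n - 1) * GUConj.starQ q a' ^ (n - 1)) :=
        (isUnit_one.neg.pow _).mul (Y.isUnit.pow _)
      rw [← mul_assoc] at h0
      have h1 := hu.mul_left_cancel (h0.trans (mul_zero _).symm)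
      apply hN1
      rw [← GUConj.starQ_starQ hK (N ^ (n - 1)), h1, hs0]
    obtain ⟨P, hP⟩ := RegularProduct.isConj_of_regular (X := Y) (Y := A) (by rw [hY, hN, hs0, mul_zero, mul_zero]) he'
      (by rw [← ha, ← hNdef, hN]) (by rw [← ha, ← hNdef]; exact he)
    refine ⟨P, ?_⟩
    show (P : Matrix (Fin n) (Fin n) K) * a = GUConj.starQ q a' * P
    have h2 := congrArg Units.val (mul_inv_eq_iff_eq_mul.1 hP)
    rw [Units.val_mul, Units.val_mul, ← ha] at h2
    exact h2
  obtain ⟨U, hU⟩ : ∃ U, U = ((B : GL (Fin n) K) : Matrix (Fin n) (Fin n) K) := ⟨_, rfl⟩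
  obtain ⟨P0, hP0⟩ := isConj_iff.1 hB
  have hUP : U = (P0 : Matrix (Fin n) (Fin n) K) * a * (P0⁻¹ : GL (Fin n) K).1 := by rw [hU, ← hP0, Units.val_mul, Units.val_mul, ha]
  have conjreg : ∀ (g : GL (Fin n) K) (X : Matrix (Fin n) (Fin n) K), (X - 1) ^ n = 0 → (X - 1).rank = n - 1 →
      ((g : Matrix (Fin n) (Fin n) K) * X * (g⁻¹).1 - 1) ^ n = 0 ∧ ((g : Matrix (Fin n) (Fin n) K) * X * (g⁻¹).1 - 1).rank = n - 1 := by
    intro g X h1 h2
    have e : (g : Matrix (Fin n) (Fin n) K) * X * (g⁻¹).1 - 1 = (g : Matrix (Fin n) (Fin n) K) * (X - 1) * (g⁻¹).1 := by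
      rw [mul_sub, sub_mul, mul_one, Units.mul_inv]
    rw [e]
    constructor
    · rw [Units.conj_pow, h1, mul_zero, zero_mul]
    · rw [Matrix.rank_mul_eq_left_of_isUnit_det _ _ ((Matrix.isUnit_iff_isUnit_det _).1 (g⁻¹).isUnit),
        Matrix.rank_mul_eq_right_of_isUnit_det _ _ ((Matrix.isUnit_iff_isUnit_det _).1 g.isUnit), h2]
  have hUr : (U - 1) ^ n = 0 ∧ (U - 1).rank = n - 1 := hUP ▸ conjreg P0 a (hau ▸ hu0) (hau ▸ hu0r)
  have hUd : U.det = 1 := by
    rw [hUP, det_mul, det_mul, hau, u0.2, mul_one, ← det_mul, Units.mul_inv, det_one]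
  have hdet : ∀ x : Cfsg.GU n K q, (((x * B * x⁻¹ : Cfsg.GU n K q) : GL (Fin n) K) : Matrix (Fin n) (Fin n) K).det = 1 := fun x => by
    rw [Subgroup.coe_mul, Subgroup.coe_mul, Subgroup.coe_inv, Units.val_mul, Units.val_mul, det_mul, det_mul, ← hU, hUd,
      mul_one, ← det_mul, Units.mul_inv, det_one]
  let v : Cfsg.GU n K q → ↥(Cfsg.SU n K q) := fun x => ⟨⟨_, hdet x⟩, (x * B * x⁻¹).2⟩
  have hvval : ∀ x, Matrix.SpecialLinearGroup.toGL (v x : SpecialLinearGroup (Fin n) K) = ((x * B * x⁻¹ : Cfsg.GU n K q) : GL (Fin n) K) :=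
    fun x => Units.ext rfl
  have hv : ∀ x, (((v x : SpecialLinearGroup (Fin n) K) : Matrix (Fin n) (Fin n) K) - 1) ^ n = 0 ∧
      (((v x : SpecialLinearGroup (Fin n) K) : Matrix (Fin n) (Fin n) K) - 1).rank = n - 1 := fun x => by
    have := conjreg (x : GL (Fin n) K) U hUr.1 hUr.2
    rw [hU] at this
    exact this
  let dt : GL (Fin n) K →* Kˣ := GeneralLinearGroup.det
  let μ : Subgroup Kˣ := (powMonoidHom (q + 1) : Kˣ →* Kˣ).ker
  have hdtμ : ∀ x : Cfsg.GU n K q, dt (x : GL (Fin n) K) ∈ μ := fun x => by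
    obtain ⟨σ, hσ, -, -⟩ := exists_qPow hK
    have h := congrArg Matrix.det ((GUConj.mem_gu_iff_starQ hK _).1 x.2)
    rw [det_mul, det_one, GUConj.starQ, det_transpose, show (fun y : K => y ^ q) = σ from funext fun y => (hσ y).symm,
      ← RingHom.mapMatrix_apply, ← RingHom.map_det, hσ] at h
    apply MonoidHom.mem_ker.2
    apply Units.ext
    rw [powMonoidHom_apply, Units.val_pow_eq_pow_val, pow_succ, Units.val_one]
    exact h
  let D : μ → Cfsg.GU n K q := fun z => ⟨GeneralLinearGroup.mkOfDetNeZero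
    (Matrix.diagonal (Function.update (1 : Fin n → K) 0 ((z : Kˣ) : K))) (by
      rw [det_diagonal, Finset.prod_update_of_mem (Finset.mem_univ _)]; simp), by
    rw [GUConj.mem_gu_iff_starQ hK]
    show GUConj.starQ q (Matrix.diagonal _) * Matrix.diagonal _ = 1
    rw [GUConj.starQ, Matrix.diagonal_map (f := fun x : K => x ^ q) (zero_pow (by omega)), diagonal_transpose, diagonal_mul_diagonal, ← diagonal_one]
    congr 1
    funext i
    rcases eq_or_ne i 0 with rfl | hi
    · have h := congrArg Units.val (MonoidHom.mem_ker.1 z.2)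
      rw [powMonoidHom_apply, Units.val_pow_eq_pow_val, pow_succ, Units.val_one] at h
      simpa using h
    · simp [Function.update_of_ne hi]⟩
  have hD : ∀ z : μ, dt (D z : GL (Fin n) K) = z := fun z => Units.ext (by
    show (Matrix.diagonal (Function.update (1 : Fin n → K) 0 ((z : Kˣ) : K))).det = _
    rw [det_diagonal, Finset.prod_update_of_mem (Finset.mem_univ _)]; simp)
  let P : Subgroup μ := (powMonoidHom n : μ →* μ).range
  let dμ : Cfsg.GU n K q →* μ := (dt.comp (Cfsg.GU n K q).subtype).codRestrict μ hdtμ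
  have hDμ : ∀ z, dμ (D z) = z := fun z => Subtype.ext (hD z)
  have hkey : ∀ x y : Cfsg.GU n K q, IsConj (v x) (v y) ↔ (dμ x)⁻¹ * dμ y ∈ P := by
    intro x y
    constructor
    · intro hc
      obtain ⟨s, hs⟩ := isConj_iff.1 hc
      let S : Cfsg.GU n K q := ⟨_, toGU s⟩
      have hS : dμ S = 1 := Subtype.ext (Units.ext s.1.2)
      have hs' : S * (x * B * x⁻¹) * S⁻¹ = y * B * y⁻¹ := by
        apply Subtype.ext
        have := congrArg (fun t : ↥(Cfsg.SU n K q) => Matrix.SpecialLinearGroup.toGL (t : SpecialLinearGroup (Fin n) K)) hs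
        simp only [Subgroup.coe_mul, Subgroup.coe_inv, map_mul, map_inv] at this
        rw [hvval, hvval] at this
        simpa using this
      obtain ⟨c, hc'⟩ : ∃ c, c = x⁻¹ * S⁻¹ * y := ⟨_, rfl⟩
      have hcB : c * B = B * c := by
        rw [hc']
        calc x⁻¹ * S⁻¹ * y * B = x⁻¹ * S⁻¹ * (y * B * y⁻¹) * y := by group
          _ = B * (x⁻¹ * S⁻¹ * y) := by rw [← hs']; group
      have hcm : ((c : GL (Fin n) K) : Matrix (Fin n) (Fin n) K) * (U - 1) = (U - 1) * ((c : GL (Fin n) K) : Matrix (Fin n) (Fin n) K) := by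
        rw [mul_sub, sub_mul, mul_one, one_mul, hU, ← Units.val_mul, ← Units.val_mul, ← Subgroup.coe_mul, ← Subgroup.coe_mul, hcB]
      obtain ⟨b, hb, hbd⟩ := exists_scalar_add_nilpotent hn hUr.1 hUr.2 hcm
      have hb1 := norm_one_of_unitary hK hn ((GUConj.mem_gu_iff_starQ hK _).1 c.2) hb
      have hb0 : b ≠ 0 := fun h => by rw [h, mul_zero] at hb1; exact zero_ne_one hb1
      refine ⟨⟨Units.mk0 b hb0, MonoidHom.mem_ker.2 (Units.ext (by
        rw [powMonoidHom_apply, Units.val_pow_eq_pow_val, Units.val_mk0, pow_succ, Units.val_one]; exact hb1))⟩, ?_⟩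
      have e : (dμ x)⁻¹ * dμ y = dμ c := by rw [hc', map_mul, map_mul, map_inv, map_inv, hS, inv_one, mul_one]
      rw [e]
      apply Subtype.ext
      apply Units.ext
      show b ^ n = _
      rw [← hbd]; rfl
    · rintro ⟨z, hz⟩
      let Z : Cfsg.GU n K q := ⟨GeneralLinearGroup.scalar (Fin n) (z : Kˣ), by
        rw [GUConj.mem_gu_iff_starQ hK]
        show GUConj.starQ q (algebraMap K _ ((z : Kˣ) : K)) * algebraMap K _ ((z : Kˣ) : K) = 1
        rw [GUConj.starQ_scal hK, ← map_mul, ← pow_succ]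
        have h := congrArg Units.val (MonoidHom.mem_ker.1 z.2)
        rw [powMonoidHom_apply, Units.val_pow_eq_pow_val, Units.val_one] at h
        rw [h, map_one]⟩
      have hZc : Z * B = B * Z := Subtype.ext (Units.ext (by
        show algebraMap K (Matrix (Fin n) (Fin n) K) ((z : Kˣ) : K) * _ = _ * algebraMap K (Matrix (Fin n) (Fin n) K) ((z : Kˣ) : K)
        exact Algebra.commutes _ _))
      have hZd : dμ Z = z ^ n := Subtype.ext (Units.ext (by
        show (Matrix.scalar (Fin n) ((z : Kˣ) : K)).det = _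
        simp [Matrix.scalar_apply, det_diagonal]))
      obtain ⟨S, hS⟩ : ∃ S, S = y * Z⁻¹ * x⁻¹ := ⟨_, rfl⟩
      have hSd : dμ S = 1 := by
        rw [hS, map_mul, map_mul, map_inv, map_inv, hZd, show z ^ n = (dμ x)⁻¹ * dμ y from hz]
        rw [_root_.mul_inv_rev, inv_inv]; group
      have hSd' : ((S : GL (Fin n) K) : Matrix (Fin n) (Fin n) K).det = 1 := congrArg (fun t : μ => ((t : Kˣ) : K)) hSd
      refine isConj_iff.2 ⟨⟨⟨_, hSd'⟩, S.2⟩, ?_⟩
      have hs' : S * (x * B * x⁻¹) * S⁻¹ = y * B * y⁻¹ := by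
        rw [hS]
        calc y * Z⁻¹ * x⁻¹ * (x * B * x⁻¹) * (y * Z⁻¹ * x⁻¹)⁻¹ = y * (Z⁻¹ * (B * Z)) * y⁻¹ := by group
          _ = y * B * y⁻¹ := by rw [← hZc, inv_mul_cancel_left]
      rw [mul_inv_eq_iff_eq_mul] at hs' ⊢
      apply Subtype.ext
      apply Subtype.ext
      exact congrArg (fun t : Cfsg.GU n K q => ((t : GL (Fin n) K) : Matrix (Fin n) (Fin n) K)) hs'
  let T : Type _ := {C : ConjClasses ↥(Cfsg.SU n K q) // ∃ u : ↥(Cfsg.SU n K q), ConjClasses.mk u = C ∧
      (((u : SpecialLinearGroup (Fin n) K) : Matrix (Fin n) (Fin n) K) - 1) ^ n = 0 ∧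
      (((u : SpecialLinearGroup (Fin n) K) : Matrix (Fin n) (Fin n) K) - 1).rank = n - 1}
  have hcard : Nat.card T = P.index := by
    symm
    have hrel : ∀ z w : μ, QuotientGroup.leftRel P z w ↔ ConjClasses.mk (v (D z)) = ConjClasses.mk (v (D w)) := by
      intro z w
      rw [QuotientGroup.leftRel_apply, ConjClasses.mk_eq_mk_iff_isConj, hkey, hDμ, hDμ]
    refine Nat.card_congr (Equiv.ofBijective
      (Quotient.lift (fun z => (⟨ConjClasses.mk (v (D z)), _, rfl, hv _⟩ : T)) fun z w h => Subtype.ext ((hrel z w).1 h)) ⟨?_, ?_⟩)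
    · intro z w
      induction z using Quotient.inductionOn with | h z =>
      induction w using Quotient.inductionOn with | h w =>
      exact fun h => Quotient.sound ((hrel z w).2 (congrArg Subtype.val h))
    · rintro ⟨C, w, rfl, hw, hwr⟩
      obtain ⟨g, hg⟩ := RegularNilpotent.exists_similar (Fintype.card_fin n) hn hUr.1 hUr.2 hw hwr
      obtain ⟨x, hx⟩ := isConj_iff.1 ((GUConj.isConj_iff_gl hK B ⟨_, toGU w⟩).2 (isConj_iff.2 ⟨g, by
        rw [mul_inv_eq_iff_eq_mul]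
        apply Units.ext
        rw [Units.val_mul, Units.val_mul, ← hU]
        rw [mul_sub, sub_mul, mul_one, one_mul, sub_left_inj] at hg
        exact hg⟩))
      have hwv : w = v x := Subtype.ext (Subtype.ext
        (congrArg (fun t : Cfsg.GU n K q => ((t : GL (Fin n) K) : Matrix (Fin n) (Fin n) K)) hx).symm)
      refine ⟨Quotient.mk'' (dμ x), Subtype.ext ?_⟩
      show ConjClasses.mk (v (D (dμ x))) = ConjClasses.mk w
      rw [hwv, ConjClasses.mk_eq_mk_iff_isConj, hkey, hDμ, inv_mul_cancel]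
      exact one_mem _
  change Nat.card T = _
  rw [hcard, IsCyclic.index_powMonoidHom_range]
  have hμ : Nat.card μ = q + 1 := by
    show Nat.card (powMonoidHom (q + 1) : Kˣ →* Kˣ).ker = q + 1
    rw [IsCyclic.card_powMonoidHom_ker, Nat.card_units, Nat.card_eq_fintype_card, hK]
    refine Nat.gcd_eq_right ⟨q - 1, ?_⟩
    obtain ⟨r, rfl⟩ : ∃ r, q = r + 1 := ⟨q - 1, by omega⟩
    rw [show (r + 1) ^ 2 = (r + 1 + 1) * r + 1 by ring]
    simp
  rw [hμ, Nat.gcd_comm]

end CfsgLib.Classical.SURegular
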