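/-
Involutions of the special unitary group in three dimensions and their commuting graph.
-/
import Cfsg.Agent.Lib.Classical.HermOrder
import Cfsg.Agent.Lib.Classical.HermSplit
import Cfsg.Agent.Lib.Classical.HermLines

set_option autoImplicit false

namespace CfsgLib.Classical.SUThree

open Matrix CfsgLib.Classical Cfsg

variable {F : Type*} [Field F] [Fintype F] {q : ℕ}

local notation "h3" => hermForm 3 F q

/-- The rank one projection attached to a vector of norm one. -/
def proj3 (q : ℕ) (v : Fin 3 → F) : Matrix (Fin 3) (Fin 3) F := Matrix.vecMulVec v (fun i => v i ^ q)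

/-- The involution fixing a line. -/
def refl3 (q : ℕ) (v : Fin 3 → F) : Matrix (Fin 3) (Fin 3) F := (2 : F) • proj3 q v - 1

omit [Fintype F] in
theorem proj3_apply (v x : Fin 3 → F) : proj3 q v *ᵥ x = h3 x v • v := by
  ext i
  simp only [proj3, vecMulVec, mulVec, dotProduct, of_apply, Pi.smul_apply, smul_eq_mul, hermForm, Finset.sum_mul]
  exact Finset.sum_congr rfl fun j _ => by ring

omit [Fintype F] in
theorem refl3_apply (v x : Fin 3 → F) : refl3 q v *ᵥ x = (2 * h3 x v) • v - x := by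
  rw [refl3, sub_mulVec, smul_mulVec, proj3_apply, one_mulVec, smul_smul]

variable (hF : Fintype.card F = q ^ 2) (hq : Odd q)
include hF

theorem herm_sub_left (x y z : Fin 3 → F) : h3 (x - y) z = h3 x z - h3 y z := by
  rw [sub_eq_add_neg, ← neg_one_smul F y, hermForm_add_left, hermForm_smul_left]; ring

theorem herm_add_right (x y z : Fin 3 → F) : h3 x (y + z) = h3 x y + h3 x z := by
  obtain ⟨σ, hσ, -, -⟩ := exists_qPow hF
  rw [← hermForm_conj hF (y + z) x, hermForm_add_left, ← hσ, map_add, hσ, hσ, hermForm_conj hF, hermForm_conj hF]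

theorem herm_smul_right (a : F) (x z : Fin 3 → F) : h3 x (a • z) = a ^ q * h3 x z := by
  rw [← hermForm_conj hF (a • z) x, hermForm_smul_left, mul_pow, hermForm_conj hF]

theorem herm_sub_right (x y z : Fin 3 → F) : h3 x (y - z) = h3 x y - h3 x z := by
  have h := herm_add_right hF x (y - z) z
  rw [sub_add_cancel] at h
  linear_combination -h

theorem herm_zero_right (x : Fin 3 → F) : h3 x 0 = 0 := by
  have := two_le_q hF
  simp [hermForm, zero_pow (show q ≠ 0 by omega)]

theorem refl3_det {v : Fin 3 → F} (hv : h3 v v = 1) : (refl3 q v).det = 1 := by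
  have e : refl3 q v = -(1 + replicateCol Unit ((-2 : F) • v) * replicateRow Unit (fun i => v i ^ q)) := by
    rw [refl3, proj3]
    ext i j
    simp [Matrix.mul_apply, vecMulVec]
    ring
  have hd : (fun i => v i ^ q) ⬝ᵥ ((-2 : F) • v) = -2 * h3 v v := by
    simp only [dotProduct, Pi.smul_apply, smul_eq_mul, hermForm, Finset.mul_sum]
    exact Finset.sum_congr rfl fun i _ => by ring
  rw [e, det_neg, det_one_add_replicateCol_mul_replicateRow, hd, hv, Fintype.card_fin]
  ring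

theorem refl3_form {v : Fin 3 → F} (hv : h3 v v = 1) (x y : Fin 3 → F) :
    h3 (refl3 q v *ᵥ x) (refl3 q v *ᵥ y) = h3 x y := by
  rw [refl3_apply, refl3_apply, herm_sub_left hF, herm_sub_right hF, herm_sub_right hF, hermForm_smul_left,
    hermForm_smul_left, herm_smul_right hF, herm_smul_right hF, hv, mul_pow, hermForm_conj hF]
  obtain ⟨σ, hσ, -, -⟩ := exists_qPow hF
  rw [show (2 : F) ^ q = 2 by rw [← hσ, map_ofNat]]
  ring

/-- The involution of `SU_3` fixing a line of norm one. -/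
def reflSU (v : Fin 3 → F) (hv : h3 v v = 1) : ↥(SU 3 F q) := suMk (refl3 q v) (refl3_det hF hv) (refl3_form hF hv)

theorem reflSU_sq (v : Fin 3 → F) (hv : h3 v v = 1) : reflSU hF v hv * reflSU hF v hv = 1 := by
  refine Subtype.ext (Subtype.ext ?_)
  show refl3 q v * refl3 q v = 1
  refine Matrix.ext_of_mulVec_single fun i => ?_
  rw [← mulVec_mulVec, refl3_apply, refl3_apply, one_mulVec, herm_sub_left hF, hermForm_smul_left, hv]
  ext j
  simp only [Pi.sub_apply, Pi.smul_apply, smul_eq_mul]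
  ring

include hq in
theorem two_ne_zero_three : (2 : F) ≠ 0 := by
  intro h
  obtain ⟨p, hp⟩ := CharP.exists F
  obtain ⟨f, hpp, hf⟩ := FiniteField.card F p
  have h2 : p ∣ 2 := (CharP.cast_eq_zero_iff F p 2).1 (by exact_mod_cast h)
  have h3' : p = 2 := (Nat.prime_dvd_prime_iff_eq hpp Nat.prime_two).1 h2
  have h4 : Odd (Fintype.card F) := by rw [hF]; exact hq.pow
  rw [hf, h3', Nat.odd_pow_iff f.pos.ne'] at h4
  exact absurd h4 (by decide)

theorem ne_zero_of_norm_one {v : Fin 3 → F} (hv : h3 v v = 1) : v ≠ 0 := fun h => by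
  rw [h, herm_zero_right hF] at hv
  exact zero_ne_one hv

include hq in
/-- Norm one vectors give the same involution exactly when they are proportional. -/
theorem reflSU_eq_iff {v w : Fin 3 → F} (hv : h3 v v = 1) (hw : h3 w w = 1) :
    reflSU hF v hv = reflSU hF w hw ↔ ∃ c : F, c ^ (q + 1) = 1 ∧ w = c • v := by
  constructor
  · intro h
    have h1 : refl3 q v *ᵥ w = refl3 q w *ᵥ w := congrArg (fun x : ↥(SU 3 F q) => x.1.1 *ᵥ w) h
    rw [refl3_apply, refl3_apply, hw, sub_left_inj, mul_one, ← smul_smul] at h1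
    have h2 : h3 w v • v = w := smul_right_injective _ (two_ne_zero_three hF hq) h1
    refine ⟨h3 w v, ?_, h2.symm⟩
    rw [← h2, hermForm_smul_left, herm_smul_right hF, hv, mul_one, ← pow_succ'] at hw
    exact hw
  · rintro ⟨c, hc, rfl⟩
    refine Subtype.ext (Subtype.ext (Matrix.ext_of_mulVec_single fun i => ?_))
    show refl3 q v *ᵥ _ = refl3 q (c • v) *ᵥ _
    rw [refl3_apply, refl3_apply, herm_smul_right hF, smul_smul]
    congr 2
    rw [mul_assoc, mul_assoc, mul_comm (h3 (Pi.single i 1) v) c, ← mul_assoc (c ^ q) c, ← pow_succ, hc, one_mul]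

include hq in
theorem reflSU_commute_iff {v w : Fin 3 → F} (hv : h3 v v = 1) (hw : h3 w w = 1) :
    Commute (reflSU hF v hv) (reflSU hF w hw) ↔ reflSU hF v hv = reflSU hF w hw ∨ h3 w v = 0 := by
  constructor
  · intro h
    have h1 : refl3 q v *ᵥ (refl3 q w *ᵥ v) = refl3 q w *ᵥ (refl3 q v *ᵥ v) := by
      rw [mulVec_mulVec, mulVec_mulVec]
      exact congrArg (fun x : ↥(SU 3 F q) => x.1.1 *ᵥ v) h.eq
    rcases eq_or_ne (h3 w v) 0 with ha | ha
    · exact Or.inr ha
    left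
    have hb : h3 v w = (h3 w v) ^ q := (hermForm_conj hF w v).symm
    rw [refl3_apply, refl3_apply, refl3_apply, refl3_apply, hv, herm_sub_left hF, hermForm_smul_left, hv,
      show h3 ((2 * 1 : F) • v - v) w = h3 v w by
        rw [show (2 * 1 : F) • v - v = v by rw [mul_one, two_smul, add_sub_cancel_right]]] at h1
    have hne : (2 * h3 v w) ≠ 0 := mul_ne_zero (two_ne_zero_three hF hq) (by rw [hb]; exact pow_ne_zero _ ha)
    have e : (2 * h3 v w) • w = (2 * h3 v w) • (h3 w v • v) := by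
      have e1 : (2 * h3 v w) • w + (2 * h3 v w) • w = (2 * (2 * h3 v w * h3 w v)) • v := by
        linear_combination (norm := module) -h1
      rw [← add_smul, ← two_mul] at e1
      rw [show (2 * (2 * h3 v w * h3 w v)) • v = (2 : F) • ((2 * h3 v w) • (h3 w v • v)) by
        rw [smul_smul, smul_smul]; congr 1; ring, ← smul_smul] at e1
      exact smul_right_injective _ (two_ne_zero_three hF hq) e1
    have e2 : w = h3 w v • v := smul_right_injective _ hne e
    refine (reflSU_eq_iff hF hq hv hw).2 ⟨h3 w v, ?_, e2⟩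
    rw [e2, hermForm_smul_left, herm_smul_right hF, hv, mul_one, ← pow_succ'] at hw
    exact hw
  · rintro (h | h)
    · rw [h]
    · have h' : h3 v w = 0 := by
        rw [← hermForm_conj hF w v, h, zero_pow (by have := two_le_q hF; omega)]
      refine Subtype.ext (Subtype.ext (Matrix.ext_of_mulVec_single fun i => ?_))
      show (refl3 q v * refl3 q w) *ᵥ _ = (refl3 q w * refl3 q v) *ᵥ _
      rw [← mulVec_mulVec, ← mulVec_mulVec, refl3_apply, refl3_apply, refl3_apply, refl3_apply, herm_sub_left hF,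
        herm_sub_left hF, hermForm_smul_left, hermForm_smul_left, h, h', mul_zero, mul_zero, zero_sub, zero_sub]
      ext j
      simp only [Pi.sub_apply, Pi.smul_apply, smul_eq_mul]
      ring

theorem herm_nondeg {x : Fin 3 → F} (hx : ∀ y, h3 x y = 0) : x = 0 := by
  funext i
  have h := hx (Pi.single i 1)
  have := two_le_q hF
  simpa [hermForm, Pi.single_apply, zero_pow (show q ≠ 0 by omega)] using h

theorem exists_scale {v : Fin 3 → F} (hv : h3 v v ≠ 0) : ∃ a : F, a ≠ 0 ∧ h3 (a • v) (a • v) = 1 := by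
  obtain ⟨a, ha⟩ := exists_norm_eq hF (μ := (h3 v v)⁻¹) (by rw [inv_pow, hermForm_conj hF])
  refine ⟨a, fun h => ?_, ?_⟩
  · rw [h, zero_pow (by omega)] at ha
    exact inv_ne_zero hv ha.symm
  · rw [hermForm_smul_left, herm_smul_right hF, ← mul_assoc, ← pow_succ', ha, inv_mul_cancel₀ hv]

include hq in
/-- Every involution fixes a line. -/
theorem exists_refl (x : ↥(SU 3 F q)) (hx : x ≠ 1) (hx2 : x * x = 1) : ∃ v, ∃ hv : h3 v v = 1, x = reflSU hF v hv := by
  classical
  have h2 := two_ne_zero_three hF hq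
  obtain ⟨X, hX⟩ : ∃ X, X = x.1.1 := ⟨_, rfl⟩
  have hXX : ∀ y, X *ᵥ (X *ᵥ y) = y := fun y => by
    have := congrArg (fun z : ↥(SU 3 F q) => z.1.1 *ᵥ y) hx2
    rw [mulVec_mulVec, hX]
    exact this.trans (one_mulVec y)
  have hXf : ∀ a b, h3 (X *ᵥ a) (X *ᵥ b) = h3 a b := hX ▸ x.2
  let P : Submodule F (Fin 3 → F) := LinearMap.ker (Matrix.toLin' X - 1)
  let N : Submodule F (Fin 3 → F) := LinearMap.ker (Matrix.toLin' X + 1)
  have hP : ∀ y, y ∈ P ↔ X *ᵥ y = y := fun y => by simp [P, sub_eq_zero]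
  have hN : ∀ y, y ∈ N ↔ X *ᵥ y = -y := fun y => by simp [N, add_eq_zero_iff_eq_neg]
  have hPN : IsCompl P N := by
    refine ⟨Submodule.disjoint_def.2 fun y h1 h1' => ?_, codisjoint_iff.2 (eq_top_iff.2 fun y _ => ?_)⟩
    · rw [hP] at h1; rw [hN, h1, eq_neg_iff_add_eq_zero, ← two_smul F y] at h1'
      exact (smul_eq_zero.1 h1').resolve_left h2
    · refine Submodule.mem_sup.2 ⟨(2 : F)⁻¹ • (y + X *ᵥ y), (hP _).2 ?_, (2 : F)⁻¹ • (y - X *ᵥ y), (hN _).2 ?_, ?_⟩
      · rw [mulVec_smul, mulVec_add, hXX, add_comm]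
      · rw [mulVec_smul, mulVec_sub, hXX, ← smul_neg, neg_sub]
      · rw [← smul_add, add_add_sub_cancel, ← two_smul F y, smul_smul, inv_mul_cancel₀ h2, one_smul]
  have hdim : Module.finrank F P + Module.finrank F N = 3 := by
    rw [Submodule.finrank_add_eq_of_isCompl hPN, Module.finrank_fin_fun]
  have hdet : ((-1 : F) ^ Module.finrank F N) = 1 := by
    have hd : LinearMap.det (Matrix.toLin' X) = 1 := by rw [LinearMap.det_toLin', hX]; exact x.1.2
    let e := Submodule.prodEquivOfIsCompl P N hPN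
    have he : e.symm.conj (Matrix.toLin' X) = LinearMap.prodMap LinearMap.id (-LinearMap.id) := by
      refine LinearMap.ext fun y => ?_
      rw [LinearEquiv.conj_apply_apply, LinearEquiv.symm_symm, LinearEquiv.symm_apply_eq]
      obtain ⟨a, b⟩ := y
      show X *ᵥ ((a : Fin 3 → F) + b) = (a : Fin 3 → F) + ((-b : N) : Fin 3 → F)
      rw [mulVec_add, (hP _).1 a.2, (hN _).1 b.2]
      rfl
    have h1 : LinearMap.det (e.symm.conj (Matrix.toLin' X)) = LinearMap.det (Matrix.toLin' X) := by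
      rw [LinearEquiv.conj_apply, LinearMap.comp_assoc]
      exact LinearMap.det_conj _ _
    rw [he, LinearMap.det_prodMap, LinearMap.det_id, one_mul, hd, ← neg_one_smul F (LinearMap.id : N →ₗ[F] N),
      LinearMap.det_smul, LinearMap.det_id, mul_one] at h1
    exact h1
  have hne : Module.finrank F N ≠ 0 := fun h => hx (by
    have hN0 : N = ⊥ := Submodule.finrank_eq_zero.1 h
    have hP1 : P = ⊤ := hPN.sup_eq_top ▸ (by rw [hN0, sup_bot_eq])
    refine Subtype.ext (Subtype.ext (Matrix.ext_of_mulVec_single fun i => ?_))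
    rw [← hX, (hP _).1 (hP1.symm ▸ Submodule.mem_top)]
    exact (one_mulVec _).symm)
  have hP1 : Module.finrank F P = 1 := by
    have hev : Even (Module.finrank F N) := by
      by_contra hodd
      rw [Nat.not_even_iff_odd] at hodd
      rw [hodd.neg_one_pow, neg_eq_iff_add_eq_zero, one_add_one_eq_two] at hdet
      exact h2 hdet
    obtain ⟨r, hr⟩ := hev
    omega
  obtain ⟨⟨v, hv⟩, hv0, hspan⟩ := finrank_eq_one_iff'.1 hP1
  have hv0' : v ≠ 0 := fun h => hv0 (Subtype.ext h)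
  have hPN0 : ∀ a ∈ P, ∀ b ∈ N, h3 a b = 0 := fun a ha b hb => by
    have h := hXf a b
    rw [(hP a).1 ha, (hN b).1 hb, ← neg_one_smul F b, herm_smul_right hF] at h
    obtain ⟨σ, hσ, -, -⟩ := exists_qPow hF
    rw [show ((-1 : F)) ^ q = -1 by rw [← hσ, map_neg, map_one], neg_one_mul, neg_eq_iff_add_eq_zero, ← two_mul] at h
    exact (mul_eq_zero.1 h).resolve_left h2
  have hvv : h3 v v ≠ 0 := fun h => hv0' (herm_nondeg hF fun y => by
    obtain ⟨a, ha, b, hb, rfl⟩ := Submodule.mem_sup.1 (show y ∈ P ⊔ N by rw [hPN.sup_eq_top]; trivial)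
    obtain ⟨k, hk⟩ := hspan ⟨a, ha⟩
    rw [herm_add_right hF, hPN0 v hv b hb, add_zero, show a = k • v from (congrArg Subtype.val hk).symm,
      herm_smul_right hF, h, mul_zero])
  obtain ⟨c, hc0, hc⟩ := exists_scale hF hvv
  refine ⟨c • v, hc, Subtype.ext (Subtype.ext (Matrix.ext_of_mulVec_single fun i => ?_))⟩
  show x.1.1 *ᵥ _ = refl3 q (c • v) *ᵥ _
  generalize (Pi.single i (1 : F) : Fin 3 → F) = y
  rw [← hX, refl3_apply]
  obtain ⟨a, ha, b, hb, rfl⟩ := Submodule.mem_sup.1 (show y ∈ P ⊔ N by rw [hPN.sup_eq_top]; trivial)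
  obtain ⟨k, hk⟩ := hspan ⟨a, ha⟩
  have hak : a = k • v := (congrArg Subtype.val hk).symm
  have hbv : h3 b v = 0 := by rw [← hermForm_conj hF v b, hPN0 v hv b hb, zero_pow (by have := two_le_q hF; omega)]
  have hak' : a = (k / c) • (c • v) := by rw [smul_smul, div_mul_cancel₀ _ hc0, hak]
  rw [mulVec_add, (hP a).1 ha, (hN b).1 hb, hermForm_add_left, herm_smul_right hF c b v, hbv, mul_zero, add_zero]
  rw [hak', hermForm_smul_left, hc, mul_one]
  module

theorem exists_move {v w : Fin 3 → F} (hv : h3 v v = 1) (hw : h3 w w = 1) :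
    ∃ g : GU 3 F q, guApply g v = w := by
  obtain ⟨g, hg⟩ := exists_gu_map hF (κ := Unit) (b := fun _ => v) (c := fun _ => w)
    (fun i j => by simp [hv]) (fun i j => by simp [hw])
  exact ⟨g, hg ()⟩

/-- The vector with coordinates `(a, y)`. -/
def cons3 (a : F) (y : Fin 2 → F) : Fin 3 → F := Fin.cons a y

omit [Fintype F] hF in
theorem herm_cons3 (a b : F) (y z : Fin 2 → F) : h3 (cons3 a y) (cons3 b z) = a * b ^ q + hermForm 2 F q y z := by
  simp [cons3, hermForm, Fin.sum_univ_succ]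

theorem herm_e3 : h3 (cons3 1 0) (cons3 1 (0 : Fin 2 → F)) = 1 ∧
    ∀ (a : F) (y : Fin 2 → F), h3 (cons3 a y) (cons3 1 0) = a := by
  have := two_le_q hF
  constructor
  · rw [herm_cons3]; simp [hermForm, zero_pow (show q ≠ 0 by omega)]
  · intro a y
    rw [herm_cons3]; simp [hermForm, zero_pow (show q ≠ 0 by omega)]

/-- Counting vectors by their products against a fixed vector of norm one. -/
theorem card_relative {v : Fin 3 → F} (hv : h3 v v = 1) (P : F → F → Prop) :
    Nat.card {w : Fin 3 → F // P (h3 w v) (h3 w w)} =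
      Nat.card {x : F × (Fin 2 → F) // P x.1 (x.1 * x.1 ^ q + hermForm 2 F q x.2 x.2)} := by
  obtain ⟨he, hcoord⟩ := herm_e3 hF
  obtain ⟨g, hg⟩ := exists_move hF he hv
  have key : ∀ a y, h3 (guApply g (cons3 a y)) v = a ∧
      h3 (guApply g (cons3 a y)) (guApply g (cons3 a y)) = a * a ^ q + hermForm 2 F q y y := fun a y => by
    constructor
    · rw [← hg, guApply_form, hcoord]
    · rw [guApply_form, herm_cons3]
  have e : ∀ w, guApply g (cons3 (guApply g⁻¹ w 0) (Fin.tail (guApply g⁻¹ w))) = w := fun w => by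
    rw [cons3, Fin.cons_self_tail, guApply_apply_inv]
  refine (Nat.card_congr
    { toFun := fun (x : {x : F × (Fin 2 → F) // P x.1 (x.1 * x.1 ^ q + hermForm 2 F q x.2 x.2)}) =>
        (⟨guApply g (cons3 x.1.1 x.1.2), by rw [(key _ _).1, (key _ _).2]; exact x.2⟩ :
          {w : Fin 3 → F // P (h3 w v) (h3 w w)})
      invFun := fun w => ⟨(guApply g⁻¹ w.1 0, Fin.tail (guApply g⁻¹ w.1)), by
        obtain ⟨h1, h2⟩ := key (guApply g⁻¹ w.1 0) (Fin.tail (guApply g⁻¹ w.1))
        rw [e] at h1 h2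
        show P (guApply g⁻¹ w.1 0) (_ + hermForm 2 F q (Fin.tail (guApply g⁻¹ w.1)) (Fin.tail (guApply g⁻¹ w.1)))
        rw [← h2]
        nth_rewrite 1 [← h1]
        exact w.2⟩
      left_inv := fun x => by
        refine Subtype.ext ?_
        show ((guApply g⁻¹ (guApply g (cons3 x.1.1 x.1.2)) 0, Fin.tail (guApply g⁻¹ (guApply g (cons3 x.1.1 x.1.2)))) :
          F × (Fin 2 → F)) = x.1
        rw [guApply_inv_apply, cons3, Fin.cons_zero, Fin.tail_cons]
      right_inv := fun w => Subtype.ext (e w.1) }).symm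

include hq in
/-- Each involution comes from `q + 1` vectors of norm one. -/
theorem card_invol_mul (P : ↥(SU 3 F q) → Prop) :
    Nat.card {x : ↥(SU 3 F q) // x ≠ 1 ∧ x * x = 1 ∧ P x} * (q + 1) =
      Nat.card {w : Fin 3 → F // ∃ hw : h3 w w = 1, P (reflSU hF w hw)} := by
  classical
  have hne : ∀ v (hv : h3 v v = 1), reflSU hF v hv ≠ 1 := fun v hv h => by
    have h1 : ∀ y, refl3 q v *ᵥ y = y := fun y => by
      have := congrArg (fun z : ↥(SU 3 F q) => z.1.1 *ᵥ y) h
      exact this.trans (one_mulVec y)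
    obtain ⟨y, hy0, hy⟩ : ∃ y : Fin 3 → F, y ≠ 0 ∧ h3 y v = 0 := by
      obtain ⟨he, hc⟩ := herm_e3 hF
      obtain ⟨g, hg⟩ := exists_move hF he hv
      refine ⟨guApply g (cons3 0 (Pi.single 0 1)), fun h0 => ?_, by rw [← hg, guApply_form, hc]⟩
      have h00 : guApply g (cons3 0 (Pi.single 0 1)) = guApply g 0 := h0.trans (mulVec_zero _).symm
      have h1 := congrArg (guApply g⁻¹) h00
      rw [guApply_inv_apply, guApply_inv_apply] at h1
      simpa [cons3] using congrFun h1 1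
    have h2 := h1 y
    rw [refl3_apply, hy, mul_zero, zero_smul, zero_sub, neg_eq_iff_add_eq_zero, ← two_smul F y] at h2
    exact hy0 ((smul_eq_zero.1 h2).resolve_left (two_ne_zero_three hF hq))
  choose rep hrep hrx using fun x : {x : ↥(SU 3 F q) // x ≠ 1 ∧ x * x = 1 ∧ P x} => exists_refl hF hq x.1 x.2.1 x.2.2.1
  rw [← card_norm_one hF, ← Nat.card_prod]
  have hn : ∀ x (c : {c : F // c ^ (q + 1) = 1}), h3 (c.1 • rep x) (c.1 • rep x) = 1 := fun x c => by
    rw [hermForm_smul_left, herm_smul_right hF, hrep, mul_one, ← pow_succ', c.2]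
  have hr : ∀ x (c : {c : F // c ^ (q + 1) = 1}), reflSU hF _ (hn x c) = x.1 := fun x c =>
    (((reflSU_eq_iff hF hq (hrep x) (hn x c)).2 ⟨c.1, c.2, rfl⟩).symm).trans (hrx x).symm
  refine Nat.card_congr (Equiv.ofBijective
    (fun xc => ⟨xc.2.1 • rep xc.1, hn _ _, by rw [hr]; exact xc.1.2.2.2⟩) ⟨?_, ?_⟩)
  · rintro ⟨x, c⟩ ⟨x', c'⟩ h
    have h' : c.1 • rep x = c'.1 • rep x' := congrArg Subtype.val h
    have e : x = x' := Subtype.ext (by
      rw [← hr x c, ← hr x' c']
      congr 1)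
    subst e
    exact Prod.ext rfl (Subtype.ext (smul_left_injective F (ne_zero_of_norm_one hF (hrep x)) h'))
  · rintro ⟨w, hw, hP⟩
    let x : {x : ↥(SU 3 F q) // x ≠ 1 ∧ x * x = 1 ∧ P x} := ⟨_, hne w hw, reflSU_sq hF w hw, hP⟩
    obtain ⟨c, hc, hcw⟩ := (reflSU_eq_iff hF hq (hrep x) hw).1 (hrx x).symm
    exact ⟨(x, ⟨c, hc⟩), Subtype.ext hcw.symm⟩

theorem norm_eq_zero {a : F} : a * a ^ q = 0 ↔ a = 0 := by
  rw [← pow_succ', pow_eq_zero_iff (Nat.succ_ne_zero q)]

theorem hermCount_two : (hermCount 2 F q 1 : ℤ) = q * ((q : ℤ) ^ 2 - 1) ∧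
    (hermCount 2 F q 0 : ℤ) = ((q : ℤ) ^ 2 - 1) * (q + 1) + 1 ∧
    (hermCount 3 F q 1 : ℤ) = q ^ 2 * ((q : ℤ) ^ 3 + 1) := by
  have h2 := hermCount_formula hF 1
  have h3' := hermCount_formula hF 2
  norm_num at h2 h3'
  exact ⟨h2.1, h2.2, h3'.1⟩

/-- The exceptional vectors: degenerate span with `v`. -/
theorem card_norm_set {v : Fin 3 → F} (hv : h3 v v = 1) :
    Nat.card {w : Fin 3 → F // h3 w v ^ (q + 1) = 1 ∧ h3 w w = 1} = (q + 1) * hermCount 2 F q 0 := by
  rw [card_relative hF hv (fun a b => a ^ (q + 1) = 1 ∧ b = 1)]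
  refine Eq.trans ?_ (congrArg (· * hermCount 2 F q 0) (card_norm_one hF))
  rw [hermCount, ← Nat.card_prod]
  refine Nat.card_congr
    { toFun := fun x => (⟨x.1.1, x.2.1⟩, ⟨x.1.2, by
        have h := x.2.2
        rw [← pow_succ', x.2.1] at h
        linear_combination h⟩)
      invFun := fun x => ⟨(x.1.1, x.2.1), x.1.2, by rw [← pow_succ', x.1.2, x.2.2, add_zero]⟩
      left_inv := fun x => rfl
      right_inv := fun x => rfl }

theorem card_perp {v : Fin 3 → F} (hv : h3 v v = 1) :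
    Nat.card {w : Fin 3 → F // h3 w v = 0 ∧ h3 w w = 1} = hermCount 2 F q 1 := by
  have := two_le_q hF
  rw [card_relative hF hv (fun a b => a = 0 ∧ b = 1), hermCount]
  refine Nat.card_congr
    { toFun := fun x => ⟨x.1.2, by
        have h := x.2.2
        rwa [x.2.1, zero_mul, zero_add] at h⟩
      invFun := fun y => ⟨(0, y.1), rfl, by rw [zero_mul, zero_add, y.2]⟩
      left_inv := fun x => Subtype.ext (Prod.ext x.2.1.symm rfl)
      right_inv := fun x => rfl }

theorem card_generic {v : Fin 3 → F} (hv : h3 v v = 1) :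
    Nat.card {w : Fin 3 → F // (h3 w v ≠ 0 ∧ h3 w v ^ (q + 1) ≠ 1) ∧ h3 w w = 1} =
      (q ^ 2 - 1 - (q + 1)) * hermCount 2 F q 1 := by
  classical
  rw [card_relative hF hv (fun a b => (a ≠ 0 ∧ a ^ (q + 1) ≠ 1) ∧ b = 1)]
  have hA : Nat.card {a : F // a ≠ 0 ∧ a ^ (q + 1) ≠ 1} = q ^ 2 - 1 - (q + 1) := by
    rw [Nat.card_eq_fintype_card, Fintype.card_subtype]
    have e : Finset.univ.filter (fun a : F => a ≠ 0 ∧ a ^ (q + 1) ≠ 1) =
        (Finset.univ.filter fun a : F => ¬ a ^ (q + 1) = 1).erase 0 := by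
      ext a; simp
    have h1 := Finset.card_filter_add_card_filter_not (s := (Finset.univ : Finset F)) (fun a : F => a ^ (q + 1) = 1)
    rw [← Fintype.card_subtype (fun a : F => a ^ (q + 1) = 1), ← Nat.card_eq_fintype_card, card_norm_one hF,
      Finset.card_univ, hF] at h1
    rw [e, Finset.card_erase_of_mem (by simp)]
    omega
  haveI : Fintype {a : F // a ≠ 0 ∧ a ^ (q + 1) ≠ 1} := Fintype.ofFinite _
  rw [← hA]
  have e : {x : F × (Fin 2 → F) // (x.1 ≠ 0 ∧ x.1 ^ (q + 1) ≠ 1) ∧ x.1 * x.1 ^ q + hermForm 2 F q x.2 x.2 = 1} ≃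
      Σ a : {a : F // a ≠ 0 ∧ a ^ (q + 1) ≠ 1}, {y : Fin 2 → F // hermForm 2 F q y y = 1 - a.1 * a.1 ^ q} :=
    { toFun := fun x => ⟨⟨x.1.1, x.2.1⟩, ⟨x.1.2, by linear_combination x.2.2⟩⟩
      invFun := fun s => ⟨(s.1.1, s.2.1), s.1.2, by rw [s.2.2]; ring⟩
      left_inv := fun x => rfl
      right_inv := fun s => rfl }
  rw [Nat.card_congr e, Nat.card_sigma]
  rw [Finset.sum_congr rfl (g := fun _ => hermCount 2 F q 1) (fun a _ => ?_), Finset.sum_const, smul_eq_mul,
    Finset.card_univ, Nat.card_eq_fintype_card]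
  refine hermCount_eq_one hF 2 ?_ ?_
  · rw [sub_ne_zero, ← pow_succ']
    exact Ne.symm a.2.2
  · rw [← pow_succ']
    exact sub_pow_q hF (one_pow q) (norm_pow_q hF _)

include hq in
/-- A common orthogonal vector exists exactly off the degenerate set. -/
theorem exists_common_iff {v w : Fin 3 → F} (hv : h3 v v = 1) (hw : h3 w w = 1) (hne : reflSU hF v hv ≠ reflSU hF w hw) :
    (∃ u, h3 u u = 1 ∧ h3 u v = 0 ∧ h3 u w = 0) ↔ h3 w v ^ (q + 1) ≠ 1 := by
  classical
  have hq2 := two_le_q hF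
  obtain ⟨he, hc⟩ := herm_e3 hF
  obtain ⟨g, hg⟩ := exists_move hF he hv
  obtain ⟨a, ha⟩ : ∃ a, a = guApply g⁻¹ w 0 := ⟨_, rfl⟩
  obtain ⟨y, hy⟩ : ∃ y, y = Fin.tail (guApply g⁻¹ w) := ⟨_, rfl⟩
  have hwc : w = guApply g (cons3 a y) := by rw [ha, hy, cons3, Fin.cons_self_tail, guApply_apply_inv]
  have hwv : h3 w v = a := by rw [hwc, ← hg, guApply_form, hc]
  have hyy : a * a ^ q + hermForm 2 F q y y = 1 := by rw [← herm_cons3, ← guApply_form g, ← hwc, hw]
  constructor
  · rintro ⟨u, hu, huv, huw⟩ hN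
    rw [hwv] at hN
    obtain ⟨u', hu'⟩ : ∃ u', u' = guApply g⁻¹ u := ⟨_, rfl⟩
    have huu : u = guApply g u' := by rw [hu', guApply_apply_inv]
    have hu0 : u' 0 = 0 := by
      have h := huv
      rw [huu, ← hg, guApply_form, show u' = cons3 (u' 0) (Fin.tail u') by rw [cons3, Fin.cons_self_tail], hc] at h
      exact h
    have h1 : hermForm 2 F q (Fin.tail u') y = 0 := by
      have h := huw
      rw [huu, hwc, guApply_form, show u' = cons3 (u' 0) (Fin.tail u') by rw [cons3, Fin.cons_self_tail], herm_cons3,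
        hu0, zero_mul, zero_add] at h
      exact h
    have h2 : hermForm 2 F q (Fin.tail u') (Fin.tail u') = 1 := by
      have h := hu
      rw [huu, guApply_form, show u' = cons3 (u' 0) (Fin.tail u') by rw [cons3, Fin.cons_self_tail], herm_cons3,
        hu0, zero_mul, zero_add] at h
      exact h
    rw [← pow_succ', hN, add_eq_left] at hyy
    generalize Fin.tail u' = z at h1 h2
    -- an isotropic vector orthogonal to a vector of norm one in the plane vanishes
    have hy0 : y = 0 := by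
      simp only [hermForm, Fin.sum_univ_two] at h1 h2 hyy
      have hh : z 0 * y 0 ^ q = -(z 1 * y 1 ^ q) := eq_neg_of_add_eq_zero_left h1
      obtain ⟨σ, hσ, -, -⟩ := exists_qPow hF
      have hh' : z 0 ^ q * y 0 = -(z 1 ^ q * y 1) := by
        have h3'' := congrArg σ hh
        rw [map_neg, map_mul, map_mul, hσ, hσ, hσ, hσ, pow_q_q hF, pow_q_q hF] at h3''
        exact h3''
      have e1 : y 1 * y 1 ^ q = 0 := by
        linear_combination (-(y 1 * y 1 ^ q)) * h2 + (z 0 * z 0 ^ q) * hyy - (z 0 ^ q * y 0) * hh +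
          (z 1 * y 1 ^ q) * hh'
      have e0 : y 0 * y 0 ^ q = 0 := by linear_combination hyy - e1
      funext i
      fin_cases i
      · exact (norm_eq_zero hF).1 e0
      · exact (norm_eq_zero hF).1 e1
    refine hne ((reflSU_eq_iff hF hq hv hw).2 ⟨a, hN, ?_⟩)
    rw [hwc, hy0, show cons3 a (0 : Fin 2 → F) = a • cons3 1 0 by
      ext i; refine Fin.cases ?_ (fun j => ?_) i <;> simp [cons3]]
    exact (mulVec_smul _ _ _).trans (congrArg (a • ·) hg)
  · intro hN
    rw [hwv] at hN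
    obtain ⟨z, hz⟩ : ∃ z : Fin 2 → F, z = ![y 1 ^ q, -(y 0 ^ q)] := ⟨_, rfl⟩
    have hzy : hermForm 2 F q z y = 0 := by
      simp only [hermForm, Fin.sum_univ_two, hz, cons_val_zero, cons_val_one]
      ring
    have hzz : h3 (guApply g (cons3 0 z)) (guApply g (cons3 0 z)) ≠ 0 := by
      rw [guApply_form, herm_cons3, zero_mul, zero_add]
      have e : hermForm 2 F q z z = hermForm 2 F q y y := by
        obtain ⟨σ, hσ, -, -⟩ := exists_qPow hF
        have hneg : ∀ x : F, (-x) ^ q = -(x ^ q) := fun x => by rw [← hσ, ← hσ, map_neg]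
        simp only [hermForm, Fin.sum_univ_two, hz, cons_val_zero, cons_val_one, hneg, pow_q_q hF]
        ring
      rw [e, show hermForm 2 F q y y = 1 - a * a ^ q by linear_combination hyy, sub_ne_zero, ← pow_succ']
      exact Ne.symm hN
    obtain ⟨c, -, hcc⟩ := exists_scale hF hzz
    refine ⟨c • guApply g (cons3 0 z), hcc, ?_, ?_⟩
    · rw [hermForm_smul_left, ← hg, guApply_form, hc, mul_zero]
    · rw [hermForm_smul_left, hwc, guApply_form, herm_cons3, hzy, zero_mul, zero_add, mul_zero]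

include hq in
theorem isConj_refl {v w : Fin 3 → F} (hv : h3 v v = 1) (hw : h3 w w = 1) :
    ∃ s : ↥(SU 3 F q), s * reflSU hF v hv * s⁻¹ = reflSU hF w hw := by
  classical
  obtain ⟨g, hg⟩ := exists_move hF hv hw
  obtain ⟨G, hG⟩ : ∃ G, G = ((g : GL (Fin 3) F) : Matrix (Fin 3) (Fin 3) F) := ⟨_, rfl⟩
  have hgG : ∀ x, guApply g x = G *ᵥ x := fun x => hG ▸ rfl
  obtain ⟨d, hd⟩ : ∃ d, d = G.det⁻¹ := ⟨_, rfl⟩
  obtain ⟨σ, hσ, -, -⟩ := exists_qPow hF
  have hG0 : G.det ≠ 0 := hG ▸ (Matrix.GeneralLinearGroup.det (g : GL (Fin 3) F)).ne_zero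
  have hdd : d ^ q * d = 1 := by
    have h := det_gu_pow (n := 3) (fun M => det_map_pow hF M) (le_trans one_le_two (two_le_q hF)) g
    rw [← hG] at h
    rw [hd, inv_pow, ← mul_inv, ← pow_succ, h, inv_one]
  obtain ⟨D, hD⟩ : ∃ D : Matrix (Fin 3) (Fin 3) F, D = 1 + (d - 1) • proj3 q v := ⟨_, rfl⟩
  have hDx : ∀ x, D *ᵥ x = x + ((d - 1) * h3 x v) • v := fun x => by
    rw [hD, add_mulVec, one_mulVec, smul_mulVec, proj3_apply, smul_smul]
  have hDdet : D.det = d := by
    have e : D = 1 + replicateCol Unit ((d - 1) • v) * replicateRow Unit (fun i => v i ^ q) := by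
      rw [hD, proj3]
      ext i j
      simp [Matrix.mul_apply, vecMulVec]
      try ring
    have hdot : (fun i => v i ^ q) ⬝ᵥ ((d - 1) • v) = (d - 1) * h3 v v := by
      simp only [dotProduct, Pi.smul_apply, smul_eq_mul, hermForm, Finset.mul_sum]
      exact Finset.sum_congr rfl fun i _ => by ring
    rw [e, det_one_add_replicateCol_mul_replicateRow, hdot, hv]
    ring
  have hDf : ∀ x y, h3 (D *ᵥ x) (D *ᵥ y) = h3 x y := fun x y => by
    rw [hDx, hDx, hermForm_add_left, herm_add_right hF, herm_add_right hF, hermForm_smul_left, hermForm_smul_left,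
      herm_smul_right hF, herm_smul_right hF, hv, mul_pow, hermForm_conj hF, ← hσ, map_sub, map_one, hσ]
    linear_combination (h3 x v * h3 v y) * hdd
  have hdet : (G * D).det = 1 := by rw [det_mul, hDdet, hd, mul_inv_cancel₀ hG0]
  have hform : ∀ x y, h3 ((G * D) *ᵥ x) ((G * D) *ᵥ y) = h3 x y := fun x y => by
    rw [← mulVec_mulVec, ← mulVec_mulVec, ← hgG, ← hgG, guApply_form, hDf]
  refine ⟨suMk (G * D) hdet hform, mul_inv_eq_iff_eq_mul.2 (Subtype.ext (Subtype.ext
    (Matrix.ext_of_mulVec_single fun i => ?_)))⟩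
  show ((G * D) * refl3 q v) *ᵥ _ = (refl3 q w * (G * D)) *ᵥ _
  generalize (Pi.single i (1 : F) : Fin 3 → F) = x
  rw [← mulVec_mulVec x (G * D) (refl3 q v), ← mulVec_mulVec x (refl3 q w) (G * D), refl3_apply, refl3_apply]
  have hGDv : (G * D) *ᵥ v = d • w := by
    rw [← mulVec_mulVec, hDx, hv, mul_one, ← hg, hgG]
    conv_lhs => rw [show v + (d - 1) • v = d • v by rw [sub_smul, one_smul, add_sub_cancel]]
    exact mulVec_smul _ _ _
  have hin : h3 ((G * D) *ᵥ x) w = h3 x v * d := by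
    have hd0 : d ≠ 0 := by rw [hd]; exact inv_ne_zero hG0
    have e : w = d⁻¹ • (G * D) *ᵥ v := by rw [hGDv, smul_smul, inv_mul_cancel₀ hd0, one_smul]
    conv_lhs => rw [e, herm_smul_right hF, hform]
    rw [inv_pow, show (d ^ q)⁻¹ = d by rw [← mul_eq_one_iff_inv_eq₀ (pow_ne_zero _ hd0)]; exact hdd]
    ring
  rw [mulVec_sub, mulVec_smul, hGDv, hin, smul_smul, mul_assoc (2 : F)]

include hq in
/-- The statistics of the commuting graph. -/
theorem invol_counts {v : Fin 3 → F} (hv : h3 v v = 1) :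
    Nat.card {x : ↥(SU 3 F q) // x ≠ 1 ∧ x * x = 1} = q ^ 2 * (q ^ 2 - q + 1) ∧
    Nat.card {x : ↥(SU 3 F q) // x ≠ 1 ∧ x * x = 1 ∧ x ≠ reflSU hF v hv ∧ Commute (reflSU hF v hv) x} = q * (q - 1) ∧
    Nat.card {x : ↥(SU 3 F q) // x ≠ 1 ∧ x * x = 1 ∧ ¬ Commute (reflSU hF v hv) x ∧
        ∃ y : ↥(SU 3 F q), y ≠ 1 ∧ y * y = 1 ∧ Commute (reflSU hF v hv) y ∧ Commute y x} = q * (q - 2) * (q ^ 2 - 1) ∧
    Nat.card {x : ↥(SU 3 F q) // x ≠ 1 ∧ x * x = 1 ∧ ¬ Commute (reflSU hF v hv) x ∧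
        ∀ y : ↥(SU 3 F q), y ≠ 1 → y * y = 1 → ¬ (Commute (reflSU hF v hv) y ∧ Commute y x)} = (q + 1) * (q ^ 2 - 1) := by
  classical
  have hq2 := two_le_q hF
  obtain ⟨h21, h20, h31⟩ := hermCount_two hF
  have hflip : ∀ x y : Fin 3 → F, h3 x y = 0 → h3 y x = 0 := fun x y h => by
    rw [← hermForm_conj hF x y, h, zero_pow (by omega)]
  have hprop : ∀ w (hw : h3 w w = 1), reflSU hF v hv = reflSU hF w hw → h3 w v ^ (q + 1) = 1 := fun w hw h => by
    obtain ⟨c, hc, rfl⟩ := (reflSU_eq_iff hF hq hv hw).1 h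
    rw [hermForm_smul_left, hv, mul_one, hc]
  have hne1 : ∀ u (hu : h3 u u = 1), reflSU hF u hu ≠ 1 := fun u hu h => by
    have hc : Commute (reflSU hF u hu) (reflSU hF u hu) := Commute.refl _
    obtain ⟨he, hc'⟩ := herm_e3 hF
    obtain ⟨g, hg⟩ := exists_move hF he hu
    obtain ⟨y, hy⟩ : ∃ y, y = guApply g (cons3 0 (Pi.single 0 1)) := ⟨_, rfl⟩
    have hyy : h3 y y = 1 := by
      rw [hy, guApply_form, herm_cons3, zero_mul, zero_add, hermForm_single_one (by omega), if_pos rfl]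
    have hyu : h3 y u = 0 := by rw [hy, ← hg, guApply_form, hc']
    have h1 : refl3 q u *ᵥ y = y := (congrArg (fun z : ↥(SU 3 F q) => z.1.1 *ᵥ y) h).trans (one_mulVec y)
    rw [refl3_apply, hyu, mul_zero, zero_smul, zero_sub, neg_eq_iff_add_eq_zero, ← two_smul F y] at h1
    exact ne_zero_of_norm_one hF hyy ((smul_eq_zero.1 h1).resolve_left (two_ne_zero_three hF hq))
  have hcommon : ∀ w (hw : h3 w w = 1), ¬ Commute (reflSU hF v hv) (reflSU hF w hw) →
      ((∃ y : ↥(SU 3 F q), y ≠ 1 ∧ y * y = 1 ∧ Commute (reflSU hF v hv) y ∧ Commute y (reflSU hF w hw)) ↔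
        h3 w v ^ (q + 1) ≠ 1) := fun w hw hc => by
    have hne : reflSU hF v hv ≠ reflSU hF w hw := fun h => hc (h ▸ Commute.refl _)
    rw [← exists_common_iff hF hq hv hw hne]
    constructor
    · rintro ⟨y, hy1, hy2, hvy, hyw⟩
      obtain ⟨u, hu, rfl⟩ := exists_refl hF hq y hy1 hy2
      refine ⟨u, hu, ?_, ?_⟩
      · rcases (reflSU_commute_iff hF hq hv hu).1 hvy with h | h
        · exact absurd (h ▸ hyw) hc
        · exact h
      · rcases (reflSU_commute_iff hF hq hu hw).1 hyw with h | h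
        · exact absurd (h ▸ hvy) hc
        · exact hflip _ _ h
    · rintro ⟨u, hu, huv, huw⟩
      exact ⟨reflSU hF u hu, hne1 u hu, reflSU_sq hF u hu, (reflSU_commute_iff hF hq hv hu).2 (Or.inr huv),
        (reflSU_commute_iff hF hq hu hw).2 (Or.inr (hflip _ _ huw))⟩
  have hpos : 0 < q + 1 := by omega
  have hq1 : q ≤ q ^ 2 := by nlinarith
  refine ⟨?_, ?_, ?_, ?_⟩
  · have h := card_invol_mul hF hq (fun _ => True)
    have e1 : Nat.card {w : Fin 3 → F // ∃ _ : h3 w w = 1, True} = hermCount 3 F q 1 :=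
      Nat.card_congr (Equiv.subtypeEquivRight fun w => by simp)
    have e2 : Nat.card {x : ↥(SU 3 F q) // x ≠ 1 ∧ x * x = 1 ∧ True} = Nat.card {x : ↥(SU 3 F q) // x ≠ 1 ∧ x * x = 1} :=
      Nat.card_congr (Equiv.subtypeEquivRight fun x => by simp)
    rw [e1, e2] at h
    refine Nat.eq_of_mul_eq_mul_right hpos (h.trans ?_)
    zify [hq1]
    rw [h31]
    ring
  · have h := card_invol_mul hF hq (fun x => x ≠ reflSU hF v hv ∧ Commute (reflSU hF v hv) x)
    refine Nat.eq_of_mul_eq_mul_right hpos (h.trans ?_)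
    rw [show Nat.card {w : Fin 3 → F // ∃ hw : h3 w w = 1, reflSU hF w hw ≠ reflSU hF v hv ∧
        Commute (reflSU hF v hv) (reflSU hF w hw)} = Nat.card {w : Fin 3 → F // h3 w v = 0 ∧ h3 w w = 1} from
      Nat.card_congr (Equiv.subtypeEquivRight fun w => ⟨fun ⟨hw, hne, hc⟩ =>
          ⟨((reflSU_commute_iff hF hq hv hw).1 hc).resolve_left (Ne.symm hne), hw⟩,
        fun ⟨ha, hw⟩ => ⟨hw, (fun h => by
          have := hprop w hw h.symm
          rw [ha, zero_pow (by omega)] at this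
          exact zero_ne_one this), (reflSU_commute_iff hF hq hv hw).2 (Or.inr ha)⟩⟩),
      card_perp hF hv]
    zify [show 1 ≤ q by omega]
    rw [h21]
    ring
  · have h := card_invol_mul hF hq (fun x => ¬ Commute (reflSU hF v hv) x ∧
        ∃ y : ↥(SU 3 F q), y ≠ 1 ∧ y * y = 1 ∧ Commute (reflSU hF v hv) y ∧ Commute y x)
    refine Nat.eq_of_mul_eq_mul_right hpos (h.trans ?_)
    rw [show Nat.card {w : Fin 3 → F // ∃ hw : h3 w w = 1, ¬ Commute (reflSU hF v hv) (reflSU hF w hw) ∧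
        ∃ y : ↥(SU 3 F q), y ≠ 1 ∧ y * y = 1 ∧ Commute (reflSU hF v hv) y ∧ Commute y (reflSU hF w hw)} =
        Nat.card {w : Fin 3 → F // (h3 w v ≠ 0 ∧ h3 w v ^ (q + 1) ≠ 1) ∧ h3 w w = 1} from
      Nat.card_congr (Equiv.subtypeEquivRight fun w => ⟨fun ⟨hw, hc, hy⟩ =>
          ⟨⟨fun ha => hc ((reflSU_commute_iff hF hq hv hw).2 (Or.inr ha)), (hcommon w hw hc).1 hy⟩, hw⟩,
        fun ⟨⟨ha, hN⟩, hw⟩ => by
          have hc : ¬ Commute (reflSU hF v hv) (reflSU hF w hw) := fun hc =>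
            ((reflSU_commute_iff hF hq hv hw).1 hc).elim (fun he => hN (hprop w hw he)) ha
          exact ⟨hw, hc, (hcommon w hw hc).2 hN⟩⟩),
      card_generic hF hv]
    have e1 : q + 1 ≤ q ^ 2 - 1 := by
      have : q + 2 ≤ q ^ 2 := by nlinarith
      omega
    zify [e1, show 1 ≤ q ^ 2 by nlinarith, hq2]
    rw [h21]
    ring
  · have h := card_invol_mul hF hq (fun x => ¬ Commute (reflSU hF v hv) x ∧
        ∀ y : ↥(SU 3 F q), y ≠ 1 → y * y = 1 → ¬ (Commute (reflSU hF v hv) y ∧ Commute y x))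
    refine Nat.eq_of_mul_eq_mul_right hpos (h.trans ?_)
    let A := {w : Fin 3 → F // h3 w v ^ (q + 1) = 1 ∧ h3 w w = 1}
    have hsplit : Nat.card A = Nat.card {c : F // c ^ (q + 1) = 1} + Nat.card {w : Fin 3 → F // ∃ hw : h3 w w = 1,
        ¬ Commute (reflSU hF v hv) (reflSU hF w hw) ∧
        ∀ y : ↥(SU 3 F q), y ≠ 1 → y * y = 1 → ¬ (Commute (reflSU hF v hv) y ∧ Commute y (reflSU hF w hw))} := by
      rw [← Nat.card_sum]
      refine (Nat.card_congr (Equiv.ofBijective (Sum.elim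
        (fun c => (⟨c.1 • v, by rw [hermForm_smul_left, hv, mul_one, c.2], by
          rw [hermForm_smul_left, herm_smul_right hF, hv, mul_one, ← pow_succ', c.2]⟩ : A))
        (fun w => (⟨w.1, by
          obtain ⟨hw, hc, hy⟩ := w.2
          by_contra hN
          obtain ⟨y, h1, h2, h4, h5⟩ := (hcommon _ hw hc).2 hN
          exact hy y h1 h2 ⟨h4, h5⟩, w.2.1⟩ : A))) ⟨?_, ?_⟩)).symm
      · rintro (⟨c, hc⟩ | ⟨w, hw, hc, hy⟩) (⟨c', hc'⟩ | ⟨w', hw', hc', hy'⟩) he
        · exact congrArg Sum.inl (Subtype.ext (smul_left_injective F (ne_zero_of_norm_one hF hv) (congrArg Subtype.val he)))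
        · refine absurd ?_ hc'
          rw [← (reflSU_eq_iff hF hq hv hw').2 ⟨c, hc, (congrArg Subtype.val he).symm⟩]
        · refine absurd ?_ hc
          rw [← (reflSU_eq_iff hF hq hv hw).2 ⟨c', hc', congrArg Subtype.val he⟩]
        · have e : w = w' := congrArg Subtype.val he
          subst e
          rfl
      · rintro ⟨w, hN, hw⟩
        by_cases he : reflSU hF v hv = reflSU hF w hw
        · obtain ⟨c, hc, hcw⟩ := (reflSU_eq_iff hF hq hv hw).1 he
          exact ⟨Sum.inl ⟨c, hc⟩, Subtype.ext hcw.symm⟩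
        · have hc : ¬ Commute (reflSU hF v hv) (reflSU hF w hw) := fun hc =>
            ((reflSU_commute_iff hF hq hv hw).1 hc).elim he fun ha => by
              rw [ha, zero_pow (by omega)] at hN
              exact zero_ne_one hN
          exact ⟨Sum.inr ⟨w, hw, hc, fun y h1 h2 h4 => (hcommon w hw hc).1 ⟨y, h1, h2, h4.1, h4.2⟩ hN⟩, rfl⟩
    rw [card_norm_set hF hv, card_norm_one hF] at hsplit
    have hz := congrArg (Nat.cast : ℕ → ℤ) hsplit
    push_cast at hz
    zify [show 1 ≤ q ^ 2 by nlinarith]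
    rw [h20] at hz
    push_cast at hz
    linear_combination -hz

include hq in
theorem exists_path {v w : Fin 3 → F} (hv : h3 v v = 1) (hw : h3 w w = 1) :
    ∃ u z : Fin 3 → F, ∃ hu : h3 u u = 1, ∃ hz : h3 z z = 1, Commute (reflSU hF v hv) (reflSU hF u hu) ∧
      Commute (reflSU hF u hu) (reflSU hF z hz) ∧ Commute (reflSU hF z hz) (reflSU hF w hw) := by
  classical
  have hq2 := two_le_q hF
  by_cases hcvw : Commute (reflSU hF v hv) (reflSU hF w hw)
  · exact ⟨v, v, hv, hv, Commute.refl _, Commute.refl _, hcvw⟩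
  obtain ⟨he, hc⟩ := herm_e3 hF
  obtain ⟨g, hg⟩ := exists_move hF he hw
  obtain ⟨y, hy⟩ : ∃ y, y = Fin.tail (guApply g⁻¹ v) := ⟨_, rfl⟩
  have hvc : v = guApply g (cons3 (guApply g⁻¹ v 0) y) := by rw [hy, cons3, Fin.cons_self_tail, guApply_apply_inv]
  by_cases hN : h3 w v ^ (q + 1) = 1
  swap
  · obtain ⟨u, hu, huv, huw⟩ := (exists_common_iff hF hq hv hw (fun h => hcvw (h ▸ Commute.refl _))).2 hN
    refine ⟨u, u, hu, hu, (reflSU_commute_iff hF hq hv hu).2 (Or.inr huv), Commute.refl _,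
      ((reflSU_commute_iff hF hq hw hu).2 (Or.inr huw)).symm⟩
  obtain ⟨a, ha⟩ : ∃ a, a = guApply g⁻¹ v 0 := ⟨_, rfl⟩
  rw [← ha] at hvc
  have hvw : h3 v w = a := by rw [hvc, ← hg, guApply_form, hc]
  have hsum : y 0 * y 0 ^ q + y 1 * y 1 ^ q = 0 := by
    have h : a * a ^ q + hermForm 2 F q y y = 1 := by rw [← herm_cons3, ← guApply_form g, ← hvc, hv]
    have hN' : a * a ^ q = 1 := by
      rw [← hvw, ← hermForm_conj hF w v, pow_q_q hF, mul_comm, ← pow_succ', hN]
    rw [hN', add_eq_left] at h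
    simpa [hermForm, Fin.sum_univ_two] using h
  obtain ⟨j, hj⟩ : ∃ j : Fin 2, y j * y j ^ q ≠ 1 := by
    by_contra hcon
    push Not at hcon
    rw [hcon, hcon, one_add_one_eq_two] at hsum
    exact two_ne_zero_three hF hq hsum
  obtain ⟨z, hzdef⟩ : ∃ z, z = guApply g (cons3 0 (Pi.single j 1)) := ⟨_, rfl⟩
  have hz : h3 z z = 1 := by
    rw [hzdef, guApply_form, herm_cons3, zero_mul, zero_add, hermForm_single_one (by omega), if_pos rfl]
  have hzw : h3 z w = 0 := by rw [hzdef, ← hg, guApply_form, hc]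
  have hzv : h3 z v = y j ^ q := by
    rw [hzdef, hvc, guApply_form, herm_cons3, zero_mul, zero_add]
    simp [hermForm, Pi.single_apply]
  by_cases hcz : Commute (reflSU hF v hv) (reflSU hF z hz)
  · exact ⟨z, z, hz, hz, hcz, Commute.refl _, ((reflSU_commute_iff hF hq hw hz).2 (Or.inr hzw)).symm⟩
  have hNz : h3 z v ^ (q + 1) ≠ 1 := by
    rw [hzv, pow_succ, pow_q_q hF]
    exact hj
  obtain ⟨u, hu, huv, huz⟩ := (exists_common_iff hF hq hv hz (fun h => hcz (h ▸ Commute.refl _))).2 hNz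
  exact ⟨u, z, hu, hz, (reflSU_commute_iff hF hq hv hu).2 (Or.inr huv),
    ((reflSU_commute_iff hF hq hz hu).2 (Or.inr huz)).symm, ((reflSU_commute_iff hF hq hw hz).2 (Or.inr hzw)).symm⟩

end CfsgLib.Classical.SUThree

namespace CfsgLib.Classical.SUThree

open Matrix CfsgLib.Classical Cfsg

variable {F : Type*} [Field F] [Fintype F] {q : ℕ} (hF : Fintype.card F = q ^ 2) (hq : Odd q)

local notation "h3" => hermForm 3 F q

include hF hq

theorem refl_ne_one {u : Fin 3 → F} (hu : h3 u u = 1) : reflSU hF u hu ≠ 1 := fun h => by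
  have := two_le_q hF
  obtain ⟨he, hc'⟩ := herm_e3 hF
  obtain ⟨g, hg⟩ := exists_move hF he hu
  obtain ⟨y, hy⟩ : ∃ y, y = guApply g (cons3 0 (Pi.single 0 1)) := ⟨_, rfl⟩
  have hyy : h3 y y = 1 := by
    rw [hy, guApply_form, herm_cons3, zero_mul, zero_add, hermForm_single_one (by omega), if_pos rfl]
  have hyu : h3 y u = 0 := by rw [hy, ← hg, guApply_form, hc']
  have h1 : refl3 q u *ᵥ y = y := (congrArg (fun z : ↥(SU 3 F q) => z.1.1 *ᵥ y) h).trans (one_mulVec y)
  rw [refl3_apply, hyu, mul_zero, zero_smul, zero_sub, neg_eq_iff_add_eq_zero, ← two_smul F y] at h1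
  exact ne_zero_of_norm_one hF hyy ((smul_eq_zero.1 h1).resolve_left (two_ne_zero_three hF hq))

/-- Exactly one further involution commutes with two commuting involutions. -/
theorem card_third {v w : Fin 3 → F} (hv : h3 v v = 1) (hw : h3 w w = 1)
    (hne : reflSU hF v hv ≠ reflSU hF w hw) (hc : Commute (reflSU hF v hv) (reflSU hF w hw)) :
    Nat.card {y : ↥(SU 3 F q) // y ≠ 1 ∧ y * y = 1 ∧ y ≠ reflSU hF v hv ∧ y ≠ reflSU hF w hw ∧
      Commute (reflSU hF v hv) y ∧ Commute (reflSU hF w hw) y} = 1 := by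
  classical
  have hq2 := two_le_q hF
  have ha : h3 w v = 0 := ((reflSU_commute_iff hF hq hv hw).1 hc).resolve_left hne
  have hb : h3 v w = 0 := by rw [← hermForm_conj hF w v, ha, zero_pow (by omega)]
  obtain ⟨g, hg⟩ := exists_gu_map hF (b := fun i : Fin 2 => (Pi.single i.castSucc (1 : F) : Fin 3 → F))
    (c := ![v, w]) (fun i j => by rw [hermForm_single_one (by omega)]; simp [Fin.ext_iff])
    (fun i j => by fin_cases i <;> fin_cases j <;> simp [hv, hw, ha, hb])
  obtain ⟨e, he⟩ : ∃ e, e = guApply g (Pi.single 2 1) := ⟨_, rfl⟩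
  have hee : h3 e e = 1 := by rw [he, guApply_form, hermForm_single_one (by omega), if_pos rfl]
  have hev : h3 e v = 0 := by
    have : v = guApply g (Pi.single (Fin.castSucc (0 : Fin 2)) 1) := (hg 0).symm
    rw [this, he, guApply_form, hermForm_single_one (by omega), if_neg (by decide)]
  have hew : h3 e w = 0 := by
    have : w = guApply g (Pi.single (Fin.castSucc (1 : Fin 2)) 1) := (hg 1).symm
    rw [this, he, guApply_form, hermForm_single_one (by omega), if_neg (by decide)]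
  have hnv : reflSU hF e hee ≠ reflSU hF v hv := fun h => by
    obtain ⟨c, hc', hvc⟩ := (reflSU_eq_iff hF hq hee hv).1 h
    have : h3 v v = 0 := by
      nth_rewrite 1 [hvc]
      rw [hermForm_smul_left, hev, mul_zero]
    rw [hv] at this
    exact one_ne_zero this
  have hnw : reflSU hF e hee ≠ reflSU hF w hw := fun h => by
    obtain ⟨c, hc', hwc⟩ := (reflSU_eq_iff hF hq hee hw).1 h
    have : h3 w w = 0 := by
      nth_rewrite 1 [hwc]
      rw [hermForm_smul_left, hew, mul_zero]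
    rw [hw] at this
    exact one_ne_zero this
  rw [Nat.card_eq_one_iff_exists]
  refine ⟨⟨reflSU hF e hee, refl_ne_one hF hq hee, reflSU_sq hF e hee, hnv, hnw,
    (reflSU_commute_iff hF hq hv hee).2 (Or.inr hev), (reflSU_commute_iff hF hq hw hee).2 (Or.inr hew)⟩, ?_⟩
  rintro ⟨y, hy1, hy2, hyv, hyw, hcv, hcw⟩
  obtain ⟨u, hu, rfl⟩ := exists_refl hF hq y hy1 hy2
  refine Subtype.ext ((reflSU_eq_iff hF hq hee hu).2 ?_).symm
  have huv : h3 u v = 0 := ((reflSU_commute_iff hF hq hv hu).1 hcv).resolve_left (Ne.symm hyv)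
  have huw : h3 u w = 0 := ((reflSU_commute_iff hF hq hw hu).1 hcw).resolve_left (Ne.symm hyw)
  obtain ⟨u', hu'⟩ : ∃ u', u = guApply g u' := ⟨guApply g⁻¹ u, (guApply_apply_inv g u).symm⟩
  have h0 : u' 0 = 0 := by
    rw [hu', ← show guApply g (Pi.single (Fin.castSucc (0 : Fin 2)) 1) = v from hg 0, guApply_form] at huv
    simpa [hermForm, Pi.single_apply, zero_pow (show q ≠ 0 by omega)] using huv
  have h1 : u' 1 = 0 := by
    rw [hu', ← show guApply g (Pi.single (Fin.castSucc (1 : Fin 2)) 1) = w from hg 1, guApply_form] at huw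
    simpa [hermForm, Pi.single_apply, zero_pow (show q ≠ 0 by omega)] using huw
  have he2 : u' = u' 2 • (Pi.single 2 1 : Fin 3 → F) := by
    funext i
    fin_cases i <;> simp [h0, h1]
  refine ⟨u' 2, ?_, ?_⟩
  · have h := hu
    rw [hu', guApply_form] at h
    simpa [hermForm, Fin.sum_univ_three, h0, h1, zero_pow (show q ≠ 0 by omega), ← pow_succ'] using h
  · rw [hu', he]
    conv_lhs => rw [he2]
    exact mulVec_smul _ _ _

/-- The centraliser of an involution. -/
theorem card_centralizer {v : Fin 3 → F} (hv : h3 v v = 1) :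
    Nat.card ↥(Subgroup.centralizer ({reflSU hF v hv} : Set ↥(SU 3 F q))) = q * (q + 1) * (q ^ 2 - 1) := by
  classical
  have hq2 := two_le_q hF
  obtain ⟨t, htdef⟩ : ∃ t, t = reflSU hF v hv := ⟨_, rfl⟩
  rw [← htdef]
  have horb : Nat.card (MulAction.orbit (ConjAct ↥(SU 3 F q)) t) = q ^ 2 * (q ^ 2 - q + 1) := by
    rw [← (invol_counts hF hq hv).1]
    refine Nat.card_congr (Equiv.subtypeEquivRight fun x => ⟨?_, fun ⟨hx1, hx2⟩ => ?_⟩)
    · rintro ⟨s, rfl⟩
      dsimp only
      rw [ConjAct.smul_def]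
      refine ⟨fun h => refl_ne_one hF hq hv ?_, ?_⟩
      · rw [← htdef]
        have h' := congrArg (fun z => (ConjAct.ofConjAct s)⁻¹ * z * ConjAct.ofConjAct s) h
        simpa [mul_assoc] using h'
      · rw [conj_mul, htdef, reflSU_sq, mul_one, mul_inv_cancel]
    · obtain ⟨w, hw, rfl⟩ := exists_refl hF hq x hx1 hx2
      obtain ⟨s, hs⟩ := isConj_refl hF hq hv hw
      exact ⟨ConjAct.toConjAct s, by rw [htdef]; exact (ConjAct.smul_def _ _).trans hs⟩
  have h := MulAction.card_orbit_mul_card_stabilizer_eq_card_group (ConjAct ↥(SU 3 F q)) t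
  rw [← Nat.card_eq_fintype_card, ← Nat.card_eq_fintype_card, ← Nat.card_eq_fintype_card, horb] at h
  have hstab : Nat.card (MulAction.stabilizer (ConjAct ↥(SU 3 F q)) t) =
      Nat.card ↥(Subgroup.centralizer ({t} : Set ↥(SU 3 F q))) := by
    refine Nat.card_congr (Equiv.subtypeEquiv ConjAct.ofConjAct.toEquiv fun s => ?_)
    rw [MulAction.mem_stabilizer_iff, ConjAct.smul_def, Subgroup.mem_centralizer_singleton_iff, mul_inv_eq_iff_eq_mul]
    rfl
  rw [hstab] at h
  have hG : Nat.card (ConjAct ↥(SU 3 F q)) = Nat.card ↥(SU 3 F q) := Nat.card_congr ConjAct.ofConjAct.toEquiv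
  rw [hG] at h
  have hsu := card_su (n := 3) hF (by norm_num)
  rw [← h] at hsu
  have hu : unitaryOrder q 3 = q ^ 3 * ((q + 1) * (q ^ 2 - 1) * (q ^ 3 + 1)) := by
    simp [unitaryOrder, Finset.prod_range_succ]
  rw [hu] at hsu
  have hle : q ≤ q ^ 2 := by nlinarith
  have h1le : 1 ≤ q ^ 2 := by nlinarith
  have hpos : 0 < (q + 1) * (q ^ 2 * (q ^ 2 - q + 1)) := by positivity
  refine Nat.eq_of_mul_eq_mul_left hpos ?_
  rw [mul_assoc, hsu]
  zify [hle, h1le]
  ring

end CfsgLib.Classical.SUThree
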