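/-
Invariant forms of elements of prime order: symmetry of the primary parts and the orthogonal blocks.
-/
import Cfsg.Agent.Lib.Classical.InversionIndex

set_option autoImplicit false

namespace CfsgLib.Classical.SDBlock

open Polynomial CfsgLib.Classical.Primary CfsgLib.Classical.InvIdx

universe u

variable {F : Type u} [Field F] {r t i : ℕ} {P : Option (Fin t) → F[X]}
variable {V : Type u} [AddCommGroup V] [Module F V] {W : Type u} [AddCommGroup W] [Module F W]

/-- The dimension of a primary part. -/
noncomputable def kd (P : Option (Fin t) → F[X]) (A : Module.End F V) (o : Option (Fin t)) : ℕ :=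
  Module.finrank F (LinearMap.ker (aeval A (P o)))

theorem kd_of_intertwine (A : Module.End F V) (B : Module.End F W) (e : V ≃ₗ[F] W) (he : ∀ x, e (A x) = B (e x))
    (o : Option (Fin t)) : kd P A o = kd P B o := by
  have hB : B = e.conjAlgEquiv F A := LinearMap.ext fun y => by
    obtain ⟨x, rfl⟩ := e.surjective y
    simp [← he]
  have h : aeval B (P o) = e.conj (aeval A (P o)) := by rw [hB]; exact aeval_algHom_apply (e.conjAlgEquiv F).toAlgHom A (P o)
  have hk : (LinearMap.ker (aeval A (P o))).map e.toLinearMap = LinearMap.ker (aeval B (P o)) := by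
    ext y
    obtain ⟨x, rfl⟩ := e.surjective y
    simp [h, LinearEquiv.conj_apply]
  rw [kd, kd, ← hk, LinearEquiv.finrank_map_eq]

theorem kd_prodMap [FiniteDimensional F V] [FiniteDimensional F W] (A : Module.End F V) (B : Module.End F W)
    (o : Option (Fin t)) : kd P (A.prodMap B) o = kd P A o + kd P B o := by
  have h : aeval (A.prodMap B) (P o) = (aeval A (P o)).prodMap (aeval B (P o)) := by
    rw [show A.prodMap B = LinearMap.prodMapAlgHom F V W (A, B) from rfl, aeval_algHom_apply, Polynomial.aeval_prod_apply]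
    rfl
  rw [kd, kd, kd, h, LinearMap.ker_prodMap, ← Module.finrank_prod]
  exact LinearEquiv.finrank_eq
    { toFun := fun x => (⟨x.1.1, x.2.1⟩, ⟨x.1.2, x.2.2⟩)
      map_add' := fun x y => rfl
      map_smul' := fun c x => rfl
      invFun := fun x => ⟨(x.1.1, x.2.1), x.1.2, x.2.2⟩
      left_inv := fun x => rfl
      right_inv := fun x => rfl }

theorem prodMap_pow (A : Module.End F V) (B : Module.End F W) (k : ℕ) :
    A.prodMap B ^ k = (A ^ k).prodMap (B ^ k) :=
  ((map_pow (LinearMap.prodMapAlgHom F V W) (A, B) k).symm.trans (by rw [Prod.pow_mk]; rfl))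

theorem dualMap_pow (A : Module.End F V) (k : ℕ) : (A.dualMap : Module.End F (Module.Dual F V)) ^ k = (A ^ k).dualMap := by
  induction k with
  | zero => rw [pow_zero, pow_zero]; rfl
  | succ k ih => rw [pow_succ, ih, pow_succ']; rfl

theorem aeval_dualMap (A : Module.End F V) (p : F[X]) : aeval (A.dualMap : Module.End F (Module.Dual F V)) p = (aeval A p).dualMap := by
  induction p using Polynomial.induction_on' with
  | add a b ha hb => rw [map_add, map_add, ha, hb]; exact LinearMap.ext fun f => LinearMap.ext fun v => by simp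
  | monomial k c =>
    rw [aeval_monomial, aeval_monomial, dualMap_pow]
    exact LinearMap.ext fun f => LinearMap.ext fun v => by simp [Module.algebraMap_end_apply]

variable (hD : Data F r i t P)
include hD

omit hD in
theorem ker_le_of_dvd (A : Module.End F V) {p p' : F[X]} (h : p ∣ p') : LinearMap.ker (aeval A p) ≤ LinearMap.ker (aeval A p') := by
  obtain ⟨c, rfl⟩ := h
  intro x hx
  rw [LinearMap.mem_ker] at hx ⊢
  rw [mul_comm, map_mul, Module.End.mul_apply, hx, map_zero]

theorem aeval_prod_eq_zero {A : Module.End F V} (hA : A ^ r = 1) : aeval A (∏ o, P o) = 0 := by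
  rw [hD.prod, map_sub, map_pow, aeval_X, hA, map_one, sub_self]

theorem ker_comp_inv (δ : Option (Fin t) → Option (Fin t))
    (hδ : ∀ l o, P o ∣ (P l).comp (X ^ (r - 1)) ↔ o = δ l) {A : Module.End F V} (hA : A ^ r = 1) (l : Option (Fin t)) :
    LinearMap.ker (aeval (A ^ (r - 1)) (P l)) = LinearMap.ker (aeval A (P (δ l))) := by
  classical
  rw [show aeval (A ^ (r - 1)) (P l) = aeval A ((P l).comp (X ^ (r - 1))) by rw [aeval_comp, map_pow, aeval_X]]
  refine le_antisymm (fun v hv => ?_) (ker_le_of_dvd A ((hδ l _).2 rfl))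
  obtain ⟨u, w, huw⟩ : IsCoprime (∏ o ∈ Finset.univ.erase (δ l), P o) ((P l).comp (X ^ (r - 1))) :=
    IsCoprime.prod_left fun o ho => (hD.irred o).coprime_iff_not_dvd.2 fun h => Finset.ne_of_mem_erase ho ((hδ l o).1 h)
  rw [LinearMap.mem_ker] at hv ⊢
  have h := congrArg (fun p => aeval A (P (δ l) * p) v) huw
  simp only [mul_one] at h
  rw [← h, show P (δ l) * (u * (∏ o ∈ Finset.univ.erase (δ l), P o) + w * (P l).comp (X ^ (r - 1))) =
    u * (P (δ l) * ∏ o ∈ Finset.univ.erase (δ l), P o) + P (δ l) * w * (P l).comp (X ^ (r - 1)) by ring,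
    Finset.mul_prod_erase _ _ (Finset.mem_univ _), map_add, map_mul, map_mul _ (P (δ l) * w), aeval_prod_eq_zero hD hA, mul_zero,
    LinearMap.add_apply, LinearMap.zero_apply, Module.End.mul_apply, hv, map_zero, add_zero]

theorem kd_dual (δ : Option (Fin t) → Option (Fin t)) (hδ : ∀ l o, P o ∣ (P l).comp (X ^ (r - 1)) ↔ o = δ l)
    [FiniteDimensional F V] {A : Module.End F V} (hA : A ^ r = 1) (o : Option (Fin t)) :
    kd P ((A ^ (r - 1)).dualMap : Module.End F (Module.Dual F V)) o = kd P A (δ o) := by
  rw [kd, kd, aeval_dualMap, ← ker_comp_inv hD δ hδ hA o]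
  have h1 := LinearMap.finrank_range_add_finrank_ker (aeval (A ^ (r - 1)) (P o)).dualMap
  have h2 := LinearMap.finrank_range_add_finrank_ker (aeval (A ^ (r - 1)) (P o))
  rw [LinearMap.finrank_range_dualMap_eq_finrank_range, Subspace.dual_finrank_eq] at h1
  omega

omit hD in
theorem inv_apply {A : Module.End F V} (hr : 0 < r) (hA : A ^ r = 1) (y : V) : A ((A ^ (r - 1)) y) = y := by
  rw [← Module.End.mul_apply, ← pow_succ', Nat.sub_add_cancel hr, hA, Module.End.one_apply]

/-- The primary parts of an element with an invariant non-degenerate form come in inverse pairs. -/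
theorem kd_symm (δ : Option (Fin t) → Option (Fin t)) (hδ : ∀ l o, P o ∣ (P l).comp (X ^ (r - 1)) ↔ o = δ l)
    [FiniteDimensional F V] {A : Module.End F V} (hA : A ^ r = 1) (B : LinearMap.BilinForm F V)
    (hAB : ∀ x y, B (A x) (A y) = B x y) (hB : ∀ x, (∀ y, B x y = 0) → x = 0) (o : Option (Fin t)) :
    kd P A o = kd P A (δ o) := by
  have hinj : Function.Injective B := fun x y h => sub_eq_zero.1 (hB _ fun z => by rw [map_sub, h, sub_self]; rfl)
  let e : V ≃ₗ[F] Module.Dual F V := LinearEquiv.ofBijective B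
    ⟨hinj, (LinearMap.injective_iff_surjective_of_finrank_eq_finrank (Subspace.dual_finrank_eq).symm).1 hinj⟩
  rw [← kd_dual hD δ hδ hA o]
  refine kd_of_intertwine A _ e (fun x => LinearMap.ext fun y => ?_) o
  show B (A x) y = B x ((A ^ (r - 1)) y)
  conv_lhs => rw [← inv_apply hD.prime.pos hA y, hAB]

/-- A space with a single elementary block. -/
theorem exists_block [Finite F] (j : Fin t) :
    ∃ A : Module.End F (Fin i → F), A ^ r = 1 ∧ ∀ o, kd P A o = if o = some j then i else 0 := by
  classical
  haveI : ∀ o, Fact (Irreducible (P o)) := fun o => ⟨hD.irred o⟩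
  obtain ⟨A, hA, hk⟩ := exists_of_mult (V := Fin i → F) P hD.coprime (fun o => if o = some j then 1 else 0)
    (by simp [hD.deg])
  refine ⟨A, ?_, fun o => ?_⟩
  · rwa [hD.prod, map_sub, map_pow, aeval_X, map_one, sub_eq_zero] at hA
  · rw [kd, hk]
    split_ifs with h
    · rw [h, hD.deg, one_mul]
    · rw [zero_mul]

/-- The block with a paired dual. -/
theorem exists_pair_block [Finite F] (δ : Option (Fin t) → Option (Fin t))
    (hδ : ∀ l o, P o ∣ (P l).comp (X ^ (r - 1)) ↔ o = δ l) (j : Fin t) :
    ∃ A : Module.End F ((Fin i → F) × Module.Dual F (Fin i → F)), A ^ r = 1 ∧ (∀ x, (A x).2 (A x).1 = x.2 x.1) ∧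
      (∀ x y, (A x).2 (A y).1 = x.2 y.1) ∧
      ∀ o, kd P A o = (if o = some j then i else 0) + (if δ o = some j then i else 0) := by
  obtain ⟨A, hA, hk⟩ := exists_block hD j
  refine ⟨A.prodMap (A ^ (r - 1)).dualMap, ?_, ?_, ?_, fun o => ?_⟩
  · rw [prodMap_pow, dualMap_pow, ← pow_mul, mul_comm, pow_mul, hA, one_pow]
    exact LinearMap.ext fun x => rfl
  · intro x
    show x.2 ((A ^ (r - 1)) (A x.1)) = _
    rw [← Module.End.mul_apply, ← pow_succ, Nat.sub_add_cancel hD.prime.one_le, hA]; rfl
  · intro x y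
    show x.2 ((A ^ (r - 1)) (A y.1)) = _
    rw [← Module.End.mul_apply, ← pow_succ, Nat.sub_add_cancel hD.prime.one_le, hA]; rfl
  · rw [kd_prodMap, kd_dual hD δ hδ hA, hk, hk]

omit hD in
theorem eq_top_of_kd {A : Module.End F V} [FiniteDimensional F V] {o : Option (Fin t)} (h : kd P A o = Module.finrank F V) :
    aeval A (P o) = 0 := LinearMap.ker_eq_top.1 (Submodule.eq_top_of_finrank_eq h)

/-- A block equal to its own inverse carries forms of either symmetry. -/
theorem exists_self_block [Finite F] (hi : 0 < i) (δ : Option (Fin t) → Option (Fin t))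
    (hδ : ∀ l o, P o ∣ (P l).comp (X ^ (r - 1)) ↔ o = δ l) (hδ0 : ∀ o, δ (δ o) = o) (j : Fin t)
    (hj : δ (some j) = some j) (s : F) :
    ∃ (A : Module.End F (Fin i → F)) (C : LinearMap.BilinForm F (Fin i → F)), A ^ r = 1 ∧
      (∀ x y, C (A x) (A y) = C x y) ∧ (∀ x, (∀ y, C x y + s * C y x = 0) → x = 0) ∧
      ∀ o, kd P A o = if o = some j then i else 0 := by
  classical
  haveI : Fact (Irreducible (P (some j))) := ⟨hD.irred _⟩
  obtain ⟨A, hA, hk⟩ := exists_block hD j
  have hfr : Module.finrank F (Fin i → F) = i := by simp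
  have hz : aeval A (P (some j)) = 0 := eq_top_of_kd (by rw [hk, if_pos rfl, hfr])
  have hz' : aeval ((A ^ (r - 1)).dualMap : Module.End F (Module.Dual F (Fin i → F))) (P (some j)) = 0 :=
    eq_top_of_kd (by rw [kd_dual hD δ hδ hA, hj, hk, if_pos rfl, Subspace.dual_finrank_eq, hfr])
  obtain ⟨e, he⟩ := exists_intertwine (P (some j)) A hz _ hz' (Subspace.dual_finrank_eq).symm
  have hinv : ∀ x y, e (A x) (A y) = e x y := fun x y => by
    rw [he]
    show e x ((A ^ (r - 1)) (A y)) = _
    rw [← Module.End.mul_apply, ← pow_succ, Nat.sub_add_cancel hD.prime.one_le, hA]; rfl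
  -- an invariant kernel is trivial or everything
  have key : ∀ C : LinearMap.BilinForm F (Fin i → F), (∀ x y, C (A x) (A y) = C x y) →
      (∃ x y, C x y + s * C y x ≠ 0) → ∀ x, (∀ y, C x y + s * C y x = 0) → x = 0 := by
    intro C hC ⟨x₀, y₀, hne⟩ x hx
    let N : Submodule F (Fin i → F) := LinearMap.ker (C + s • C.flip)
    have hN : ∀ v, v ∈ N ↔ ∀ y, C v y + s * C y v = 0 := fun v => by
      rw [LinearMap.mem_ker, LinearMap.ext_iff]; rfl
    have hstab : ∀ v ∈ N, A v ∈ N := fun v hv => (hN _).2 fun y => by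
      rw [← inv_apply hD.prime.pos hA y, hC, hC]
      exact (hN v).1 hv _
    have hz2 : aeval (A.restrict hstab) (P (some j)) = 0 := LinearMap.ext fun v => Subtype.ext (by
      have h2 : ∀ (p : F[X]) (v : N), ((aeval (A.restrict hstab) p v : N) : Fin i → F) = aeval A p (v : Fin i → F) := by
        intro p
        induction p using Polynomial.induction_on' with
        | add a b ha hb => intro v; simp [ha, hb]
        | monomial k c =>
          intro v
          rw [aeval_monomial, aeval_monomial, Module.End.mul_apply, Module.End.mul_apply, Module.End.pow_restrict]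
          simp [Module.algebraMap_end_apply]
      rw [h2, hz]; rfl)
    have hd := natDegree_dvd_finrank (P (some j)) (A.restrict hstab) hz2
    rw [hD.deg] at hd
    by_contra hx0
    have hpos : 0 < Module.finrank F N := Module.finrank_pos_iff_exists_ne_zero.2 ⟨⟨x, (hN x).2 hx⟩, fun h => hx0 (congrArg Subtype.val h)⟩
    have htop : N = ⊤ := Submodule.eq_top_of_finrank_eq
      (le_antisymm (Submodule.finrank_le N) (hfr.le.trans (Nat.le_of_dvd hpos hd)))
    exact hne ((hN x₀).1 (htop ▸ Submodule.mem_top) y₀)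
  by_cases hB : ∃ x y, e x y + s * e y x ≠ 0
  · exact ⟨A, e.toLinearMap, hA, hinv, key e.toLinearMap hinv hB, hk⟩
  push Not at hB
  let C : LinearMap.BilinForm F (Fin i → F) := e.toLinearMap ∘ₗ A
  have hC : ∀ x y, C (A x) (A y) = C x y := fun x y => hinv _ _
  refine ⟨A, C, hA, hC, key C hC ?_, hk⟩
  by_contra hcon
  push Not at hcon
  have hA2 : ∀ y, A (A y) = y := fun y => by
    refine (sub_eq_zero.1 (e.map_eq_zero_iff.1 (LinearMap.ext fun x => ?_))).symm
    have h1 := hcon ((A ^ (r - 1)) y) x
    have h2 : e y x + s * e (A x) ((A ^ (r - 1)) y) = 0 := by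
      simpa [C, inv_apply hD.prime.pos hA] using h1
    have h3 := hB ((A ^ (r - 1)) y) (A x)
    have h4 : e ((A ^ (r - 1)) y) (A x) = e y (A (A x)) := by
      conv_rhs => rw [← inv_apply hD.prime.pos hA y]
      rw [hinv]
    have h5 : e y (A (A x)) = e y x := by linear_combination h3 - h2 - h4
    have h6 : e (A (A y)) (A (A x)) = e y x := by rw [hinv, hinv]
    have h7 : e (A (A y)) x = e y x := by
      have h8 := hB (A (A y)) x
      have h9 := hB y x
      have h10 : e x (A (A y)) = e x y := by
        have h11 := hcon ((A ^ (r - 1)) x) y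
        have h12 : e x y + s * e (A y) ((A ^ (r - 1)) x) = 0 := by simpa [C, inv_apply hD.prime.pos hA] using h11
        have h13 := hB ((A ^ (r - 1)) x) (A y)
        have h14 : e ((A ^ (r - 1)) x) (A y) = e x (A (A y)) := by
          conv_rhs => rw [← inv_apply hD.prime.pos hA x]
          rw [hinv]
        linear_combination h13 - h12 - h14
      linear_combination h8 - h9 - s * h10
    show (e (y - A (A y))) x = 0
    rw [map_sub, LinearMap.sub_apply, h7, sub_self]
  have hA1 : A = 1 := by
    obtain ⟨k, hk2⟩ := hD.prime.odd_of_ne_two hD.ne_two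
    have hsq : A ^ 2 = 1 := LinearMap.ext fun y => by rw [pow_two, Module.End.mul_apply, hA2]; rfl
    rw [hk2, pow_succ, pow_mul, hsq, one_pow, one_mul] at hA
    exact hA
  have h0 := hk none
  rw [if_neg nofun, kd, hD.zero, hA1, map_sub, aeval_X, map_one, map_one, sub_self, LinearMap.ker_zero, finrank_top, hfr] at h0
  omega

end CfsgLib.Classical.SDBlock
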