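/-
Semisimple elements of symplectic and orthogonal groups: conjugacy is controlled by the general linear group.
-/
import Cfsg.Agent.Lib.Classical.InvolutionNorm
import Cfsg.Agent.Lib.Classical.AltBasis
import Cfsg.Agent.Lib.Classical.Witt

set_option autoImplicit false

namespace CfsgLib.Classical.SemiConj

open LinearMap

universe u v

variable {F : Type u} [Field F]

/-- An intertwining isometry exists between the two forms. -/
def Twin {V : Type v} [AddCommGroup V] [Module F V] (A : Module.End F V) (B C : LinearMap.BilinForm F V) : Prop :=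
  ∃ z : V ≃ₗ[F] V, (∀ x, z (A x) = A (z x)) ∧ ∀ x y, B (z x) (z y) = C x y

variable {V : Type v} [AddCommGroup V] [Module F V] [FiniteDimensional F V]

omit [FiniteDimensional F V] in
theorem twin_eq_smul (A : Module.End F V) (B C : LinearMap.BilinForm F V) (ε : F) (hA : ∀ x, A x = ε • x)
    (z : V ≃ₗ[F] V) (hz : ∀ x y, B (z x) (z y) = C x y) : Twin A B C :=
  ⟨z, fun x => by rw [hA, hA, map_smul], hz⟩

theorem twin_scalar_alt (A : Module.End F V) (B C : LinearMap.BilinForm F V) (ε : F) (hA : ∀ x, A x = ε • x)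
    (hB : B.IsAlt) (hBn : ∀ x, (∀ y, B x y = 0) → x = 0) (hC : C.IsAlt) (hCn : ∀ x, (∀ y, C x y = 0) → x = 0) :
    Twin A B C := by
  obtain ⟨m, hm, e, he⟩ := exists_symp_equiv B hB hBn
  obtain ⟨m', hm', e', he'⟩ := exists_symp_equiv C hC hCn
  obtain rfl : m = m' := by omega
  refine twin_eq_smul A B C ε hA (e'.symm.trans e) fun x y => ?_
  rw [LinearEquiv.trans_apply, LinearEquiv.trans_apply, he, ← he', LinearEquiv.apply_symm_apply, LinearEquiv.apply_symm_apply]

omit [FiniteDimensional F V] in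
theorem disjoint_ker_range {T : Module.End F V} {N : ℕ} (hT : T ^ N = 1) (hN : (N : F) ≠ 0) :
    Disjoint (LinearMap.range (T - 1)) (LinearMap.ker (T - 1)) := by
  rw [Submodule.disjoint_def]
  rintro w ⟨x, hx⟩ hw
  rw [LinearMap.mem_ker, LinearMap.sub_apply, Module.End.one_apply, sub_eq_zero] at hw
  rw [LinearMap.sub_apply, Module.End.one_apply, sub_eq_iff_eq_add] at hx
  have h : ∀ k : ℕ, (T ^ k) x = x + (k : F) • w := by
    intro k
    induction k with
    | zero => simp
    | succ k ih =>
      rw [pow_succ', Module.End.mul_apply, ih, map_add, map_smul, hw, hx]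
      push_cast
      rw [add_smul, one_smul]
      abel
  have h' := h N
  rw [hT, Module.End.one_apply, left_eq_add] at h'
  exact (smul_eq_zero.1 h').resolve_left hN

theorem isCompl_range_ker {T : Module.End F V} {N : ℕ} (hT : T ^ N = 1) (hN : (N : F) ≠ 0) :
    IsCompl (LinearMap.range (T - 1)) (LinearMap.ker (T - 1)) := by
  refine (Submodule.isCompl_iff_disjoint _ _ ?_).2 (disjoint_ker_range hT hN)
  rw [LinearMap.finrank_range_add_finrank_ker]

omit [FiniteDimensional F V] in
theorem orth_ker_range {T : Module.End F V} {B : LinearMap.BilinForm F V} (hTB : ∀ x y, B (T x) (T y) = B x y)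
    {x : V} (hx : x ∈ LinearMap.range (T - 1)) {y : V} (hy : y ∈ LinearMap.ker (T - 1)) : B x y = 0 ∧ B y x = 0 := by
  obtain ⟨w, rfl⟩ := hx
  rw [LinearMap.mem_ker, LinearMap.sub_apply, Module.End.one_apply, sub_eq_zero] at hy
  rw [LinearMap.sub_apply, Module.End.one_apply]
  constructor
  · rw [map_sub, LinearMap.sub_apply]; nth_rewrite 1 [← hy]; rw [hTB, sub_self]
  · rw [map_sub]; nth_rewrite 1 [← hy]; rw [hTB, sub_self]

omit [FiniteDimensional F V] in
theorem restrict_nondeg {T : Module.End F V} {B : LinearMap.BilinForm F V} (hTB : ∀ x y, B (T x) (T y) = B x y)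
    (hBn : ∀ x, (∀ y, B x y = 0) → x = 0) {X Y : Submodule F V} (hXY : IsCompl X Y)
    (horth : ∀ x ∈ X, ∀ y ∈ Y, B x y = 0) :
    ∀ x : X, (∀ x' : X, (B.compl₁₂ X.subtype X.subtype) x x' = 0) → x = 0 := by
  intro x hx
  apply Subtype.ext
  apply hBn
  intro y
  obtain ⟨a, ha, b, hb, rfl⟩ := Submodule.mem_sup.1 (show y ∈ X ⊔ Y by rw [hXY.sup_eq_top]; trivial)
  rw [map_add, horth x x.2 b hb, add_zero]
  exact hx ⟨a, ha⟩

/-- Gluing along the decomposition attached to an isometry. -/
theorem twin_glue {A T : Module.End F V} {B C : LinearMap.BilinForm F V} {N : ℕ} (hT : T ^ N = 1) (hN : (N : F) ≠ 0)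
    (hTA : A * T = T * A) (hTB : ∀ x y, B (T x) (T y) = B x y) (hTC : ∀ x y, C (T x) (T y) = C x y)
    (hX : ∀ hm : ∀ x ∈ LinearMap.range (T - 1), A x ∈ LinearMap.range (T - 1),
      Twin (A.restrict hm) (B.compl₁₂ (LinearMap.range (T - 1)).subtype (LinearMap.range (T - 1)).subtype)
        (C.compl₁₂ (LinearMap.range (T - 1)).subtype (LinearMap.range (T - 1)).subtype))
    (hY : ∀ hm : ∀ x ∈ LinearMap.ker (T - 1), A x ∈ LinearMap.ker (T - 1),
      Twin (A.restrict hm) (B.compl₁₂ (LinearMap.ker (T - 1)).subtype (LinearMap.ker (T - 1)).subtype)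
        (C.compl₁₂ (LinearMap.ker (T - 1)).subtype (LinearMap.ker (T - 1)).subtype)) : Twin A B C := by
  have hAf : ∀ x, A ((T - 1) x) = (T - 1) (A x) := fun x => by
    have := congrArg (fun f : Module.End F V => f x) hTA
    simp only [Module.End.mul_apply] at this
    simp [this]
  have hmX : ∀ x ∈ LinearMap.range (T - 1), A x ∈ LinearMap.range (T - 1) := by
    rintro _ ⟨w, rfl⟩; exact ⟨A w, (hAf w).symm⟩
  have hmY : ∀ x ∈ LinearMap.ker (T - 1), A x ∈ LinearMap.ker (T - 1) := fun x hx => by
    rw [LinearMap.mem_ker] at hx ⊢; rw [← hAf, hx, map_zero]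
  obtain ⟨zX, hzX, hzX'⟩ := hX hmX
  obtain ⟨zY, hzY, hzY'⟩ := hY hmY
  have hXY := isCompl_range_ker hT hN
  let e := Submodule.prodEquivOfIsCompl _ _ hXY
  let z : V ≃ₗ[F] V := e.symm.trans ((zX.prodCongr zY).trans e)
  have hz : ∀ (a : LinearMap.range (T - 1)) (b : LinearMap.ker (T - 1)), z ((a : V) + (b : V)) = (zX a : V) + ((zY b : LinearMap.ker (T - 1)) : V) := fun a b => by
    have : e.symm ((a : V) + b) = (a, b) := by rw [LinearEquiv.symm_apply_eq]; rfl
    simp only [z, LinearEquiv.trans_apply, this]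
    rfl
  have hdec : ∀ x : V, ∃ (a : LinearMap.range (T - 1)) (b : LinearMap.ker (T - 1)), x = (a : V) + (b : V) := fun x => by
    obtain ⟨a, ha, b, hb, h⟩ := Submodule.mem_sup.1
      (show x ∈ LinearMap.range (T - 1) ⊔ LinearMap.ker (T - 1) by rw [hXY.sup_eq_top]; trivial)
    exact ⟨⟨a, ha⟩, ⟨b, hb⟩, h.symm⟩
  refine ⟨z, fun x => ?_, fun x y => ?_⟩
  · obtain ⟨a, b, rfl⟩ := hdec x
    rw [hz, map_add A, map_add A, ← LinearMap.restrict_coe_apply A hmX a, ← LinearMap.restrict_coe_apply A hmY b, hz, hzX,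
      hzY, LinearMap.restrict_coe_apply, LinearMap.restrict_coe_apply]
  · obtain ⟨a, b, rfl⟩ := hdec x
    obtain ⟨a', b', rfl⟩ := hdec y
    rw [hz, hz]
    simp only [map_add, LinearMap.add_apply, (orth_ker_range hTB (zX a).2 (zY b').2).1,
      (orth_ker_range hTB (zX a').2 (zY b).2).2, (orth_ker_range hTC a.2 b'.2).1, (orth_ker_range hTC a'.2 b.2).2]
    rw [show B (zX a : V) (zX a' : V) = C (a : V) a' from hzX' a a',
      show B (zY b : V) (zY b' : V) = C (b : V) b' from hzY' b b']

variable [Finite F]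

/-- Away from the eigenvalues `1` and `-1` the two forms are congruent in the centraliser. -/
theorem twin_no_fixed (A : Module.End F V) (B C : LinearMap.BilinForm F V) (ε : F) {N : ℕ} (hN : 0 < N) (hA : A ^ N = 1)
    (hsB : ∀ x y, B y x = ε * B x y) (hsC : ∀ x y, C y x = ε * C x y)
    (hAB : ∀ x y, B (A x) (A y) = B x y) (hAC : ∀ x y, C (A x) (A y) = C x y)
    (hBn : B.Nondegenerate) (hCn : ∀ x, (∀ y, C x y = 0) → x = 0)
    (hinj : Function.Injective (A ^ 2 - 1 : Module.End F V)) : Twin A B C := by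
  classical
  haveI : Finite V := Module.finite_of_finite F
  haveI : Finite (Module.End F V) := Finite.of_injective _ DFunLike.coe_injective
  by_cases htriv : Nontrivial V
  swap
  · haveI := not_nontrivial_iff_subsingleton.1 htriv
    exact ⟨LinearEquiv.refl F V, fun x => Subsingleton.elim _ _, fun x y => by
      simp [Subsingleton.elim x 0, Subsingleton.elim y 0]⟩
  -- adjoints
  obtain ⟨s, hs⟩ : ∃ s : Module.End F V → Module.End F V, ∀ f x y, B (s f x) y = B x (f y) :=
    ⟨fun f => B.leftAdjointOfNondegenerate hBn f, fun f x y =>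
      LinearMap.BilinForm.isAdjointPairLeftAdjointOfNondegenerate B hBn f x y⟩
  have huniq : ∀ f g : Module.End F V, (∀ x y, B (f x) y = B (g x) y) → f = g := fun f g h =>
    LinearMap.ext fun x => sub_eq_zero.1 (hBn.1 _ fun y => by rw [map_sub, LinearMap.sub_apply, h, sub_self])
  have hss : ∀ f, s (s f) = f := fun f => huniq _ _ fun x y => by
    rw [hs, hsB (s f y) x, hs, hsB (f x) y, ← hsB, ← hsB]
  have sadd : ∀ f g, s (f + g) = s f + s g := fun f g => huniq _ _ fun x y => by
    simp [hs]
  have smul' : ∀ f g, s (f * g) = s g * s f := fun f g => huniq _ _ fun x y => by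
    simp [hs, Module.End.mul_apply]
  have sscal : ∀ k, s (algebraMap F (Module.End F V) k) = algebraMap F (Module.End F V) k := fun k => huniq _ _ fun x y => by
    simp [hs, Module.algebraMap_end_apply]
  have sA : s A = A ^ (N - 1) := huniq _ _ fun x y => by
    rw [hs]
    have e : A ((A ^ (N - 1)) x) = x := by
      rw [← Module.End.mul_apply, ← pow_succ', Nat.sub_add_cancel hN, hA, Module.End.one_apply]
    conv_lhs => rw [← e]
    exact hAB _ _
  obtain ⟨h, hh⟩ : ∃ h : Module.End F V, ∀ x y, B (h x) y = C x y :=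
    ⟨(B.toDual hBn).symm.toLinearMap ∘ₗ C, fun x y => LinearMap.BilinForm.apply_toDual_symm_apply (hB := hBn) (C x) y⟩
  have sh : s h = h := huniq _ _ fun x y => by rw [hs, hh, hsB (h y) x, hh, ← hsC]
  have hAi : ∀ x, A ((A ^ (N - 1)) x) = x := fun x => by
    rw [← Module.End.mul_apply, ← pow_succ', Nat.sub_add_cancel hN, hA, Module.End.one_apply]
  have hcomm : A * h = h * A := huniq _ _ fun x y => by
    rw [Module.End.mul_apply, Module.End.mul_apply, hh, ← hAi y, hAB, hh, hAC]
  let R := Algebra.adjoin F ({A, h} : Set (Module.End F V))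
  have hR : ∀ a ∈ R, ∀ b ∈ R, a * b = b * a := fun a ha b hb => by
    refine (Algebra.commute_of_mem_adjoin_of_forall_mem_commute hb fun c hc => ?_).eq
    refine (Algebra.commute_of_mem_adjoin_of_forall_mem_commute ha fun d hd => ?_).symm
    rcases hc with rfl | rfl <;> rcases hd with rfl | rfl <;>
      first | exact Commute.refl _ | exact hcomm | exact hcomm.symm
  letI : CommRing R := { (inferInstance : Ring R) with mul_comm := fun a b => Subtype.ext (hR _ a.2 _ b.2) }
  have hAR : A ∈ R := Algebra.subset_adjoin (Or.inl rfl)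
  have hhR : h ∈ R := Algebra.subset_adjoin (Or.inr rfl)
  have hsR : ∀ a ∈ R, s a ∈ R := by
    intro a ha
    induction ha using Algebra.adjoin_induction with
    | mem x hx =>
      rcases hx with rfl | rfl
      · rw [sA]; exact R.pow_mem hAR _
      · rw [sh]; exact hhR
    | algebraMap r => rw [sscal]; exact R.algebraMap_mem r
    | add x y _ _ ihx ihy => rw [sadd]; exact R.add_mem ihx ihy
    | mul x y _ _ ihx ihy => rw [smul']; exact R.mul_mem ihy ihx
  let σ : R →+* R :=
    { toFun := fun a => ⟨s a, hsR a a.2⟩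
      map_one' := Subtype.ext (by have := sscal 1; rw [map_one] at this; exact this)
      map_mul' := fun a b => Subtype.ext ((smul' a b).trans (hR _ (hsR b b.2) _ (hsR a a.2)))
      map_zero' := Subtype.ext (by have := sscal 0; rw [map_zero] at this; exact this)
      map_add' := fun a b => Subtype.ext (sadd a b) }
  have unitR : ∀ a : R, Function.Injective (a : Module.End F V) → IsUnit a := by
    intro a ha
    have hi : Function.Injective fun b : R => a * b := fun b b' hb =>
      Subtype.ext (LinearMap.ext fun x => ha (by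
        have := congrArg (fun c : R => (c : Module.End F V) x) hb
        exact this))
    obtain ⟨b, hb⟩ := Finite.injective_iff_surjective.1 hi 1
    exact IsUnit.of_mul_eq_one b hb
  have hAinj : Function.Injective A := fun x y e => by
    have h1 : ∀ w, (A ^ (N - 1)) (A w) = w := fun w => by
      rw [← Module.End.mul_apply, ← pow_succ, Nat.sub_add_cancel hN, hA, Module.End.one_apply]
    rw [← h1 x, e, h1]
  have hc : ∀ M : Ideal R, M.IsMaximal → M.comap σ = M → ∃ c, c - σ c ∉ M := fun M hM _ =>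
    ⟨⟨A, hAR⟩, fun hmem => hM.ne_top (Ideal.eq_top_of_isUnit_mem _ hmem (unitR _ fun x y e => hinj (by
      have e' : ∀ w, A ((((⟨A, hAR⟩ : R) - σ ⟨A, hAR⟩ : R) : Module.End F V) w) = (A ^ 2 - 1 : Module.End F V) w := fun w => by
        show A (A w - s A w) = (A ^ 2 - 1 : Module.End F V) w
        rw [sA, map_sub, hAi, pow_two, LinearMap.sub_apply, Module.End.mul_apply, Module.End.one_apply]
      rw [← e', ← e', e])))⟩
  have hinjh : Function.Injective h := by
    intro x y e
    refine sub_eq_zero.1 (hCn _ fun w => ?_)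
    rw [map_sub, LinearMap.sub_apply, ← hh, ← hh, e, sub_self]
  obtain ⟨z, hz, hzz⟩ := InvolNorm.exists_norm_unit σ (fun a => Subtype.ext (hss a.1)) hc (unitR ⟨h, hhR⟩ hinjh)
    (Subtype.ext sh)
  have hzi : Function.Injective (z : Module.End F V) := by
    obtain ⟨w, rfl⟩ := hz
    intro x y e
    have h1 := congrArg Subtype.val w.inv_mul
    have h2 : ∀ a, ((w⁻¹ : Rˣ) : R).1 ((w : R).1 a) = a := fun a => congrArg (fun f : Module.End F V => f a) h1
    rw [← h2 x, e, h2]
  refine ⟨LinearEquiv.ofBijective (z : Module.End F V) ⟨hzi, LinearMap.injective_iff_surjective.1 hzi⟩, fun x => ?_, fun x y => ?_⟩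
  · exact congrArg (fun f : Module.End F V => f x) (hR _ z.2 _ hAR)
  · show B ((z : Module.End F V) x) ((z : Module.End F V) y) = C x y
    rw [← hs, ← hh]
    exact congrArg (fun f : Module.End F V => B (f x) y) ((hR _ (hsR z z.2) _ z.2).trans (congrArg Subtype.val hzz))

theorem twin_alt (A : Module.End F V) (B C : LinearMap.BilinForm F V) {N : ℕ} (hN : (N : F) ≠ 0) (hA : A ^ N = 1)
    (hAB : ∀ x y, B (A x) (A y) = B x y) (hAC : ∀ x y, C (A x) (A y) = C x y)
    (hB : B.IsAlt) (hBn : ∀ x, (∀ y, B x y = 0) → x = 0) (hC : C.IsAlt) (hCn : ∀ x, (∀ y, C x y = 0) → x = 0) :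
    Twin A B C := by
  have hA2 : (A ^ 2) ^ N = 1 := by rw [← pow_mul, mul_comm, pow_mul, hA, one_pow]
  have hsq : ∀ {D : LinearMap.BilinForm F V}, (∀ x y, D (A x) (A y) = D x y) → ∀ x y, D ((A ^ 2) x) ((A ^ 2) y) = D x y :=
    fun h x y => by rw [pow_two, Module.End.mul_apply, Module.End.mul_apply, h, h]
  have hn := fun {T : Module.End F V} (hT : T ^ N = 1) => isCompl_range_ker (V := V) hT hN
  refine twin_glue hA2 hN (by rw [← pow_succ', ← pow_succ]) (hsq hAB) (hsq hAC) (fun hm => ?_) (fun hm => ?_)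
  · have hNpos : 0 < N := Nat.pos_of_ne_zero fun h0 => hN (by simp [h0])
    refine twin_no_fixed _ _ _ (-1) hNpos (LinearMap.ext fun x => Subtype.ext (by
        rw [Module.End.pow_restrict, LinearMap.restrict_coe_apply, hA]; rfl))
      (fun x y => by rw [LinearMap.compl₁₂_apply, LinearMap.compl₁₂_apply, ← LinearMap.IsAlt.neg hB, neg_one_mul])
      (fun x y => by rw [LinearMap.compl₁₂_apply, LinearMap.compl₁₂_apply, ← LinearMap.IsAlt.neg hC, neg_one_mul]) (fun x y => hAB _ _) (fun x y => hAC _ _)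
      ⟨restrict_nondeg (hsq hAB) hBn (hn hA2) fun a ha b hb => (orth_ker_range (hsq hAB) ha hb).1, fun y hy =>
        restrict_nondeg (hsq hAB) hBn (hn hA2) (fun a ha b hb => (orth_ker_range (hsq hAB) ha hb).1) y fun x => by
          have := hy x
          simp only [LinearMap.compl₁₂_apply] at this ⊢
          rw [← LinearMap.IsAlt.neg hB, this, neg_zero]⟩
      (restrict_nondeg (hsq hAC) hCn (hn hA2) fun a ha b hb => (orth_ker_range (hsq hAC) ha hb).1) ?_
    intro x y e
    apply Subtype.ext
    apply sub_eq_zero.1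
    refine (Submodule.disjoint_def.1 (disjoint_ker_range hA2 hN)) _ (Submodule.sub_mem _ x.2 y.2) ?_
    rw [LinearMap.mem_ker, map_sub, sub_eq_zero]
    have e' := congrArg Subtype.val e
    simpa [pow_two] using e'
  · -- on the part where the square is trivial
    have hsq1 : ∀ x : LinearMap.ker (A ^ 2 - 1), A (A (x : V)) = x := fun x => by
      have h := LinearMap.mem_ker.1 x.2
      simpa [sub_eq_zero, pow_two] using h
    set A' := A.restrict hm with hA'def
    have hA'c : ∀ x : LinearMap.ker (A ^ 2 - 1), ((A' x : LinearMap.ker (A ^ 2 - 1)) : V) = A x := fun x =>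
      LinearMap.restrict_coe_apply A hm x
    have hA' : A' ^ N = 1 := LinearMap.ext fun x => Subtype.ext (by
        rw [hA'def, Module.End.pow_restrict, LinearMap.restrict_coe_apply, hA]; rfl)
    have hY := fun {D : LinearMap.BilinForm F V} (hAD : ∀ x y, D (A x) (A y) = D x y) (hDn : ∀ x, (∀ y, D x y = 0) → x = 0) =>
      restrict_nondeg (hsq hAD) hDn (hn hA2).symm fun a ha b hb => (orth_ker_range (hsq hAD) hb ha).2
    have hAB' : ∀ x y, (B.compl₁₂ (LinearMap.ker (A ^ 2 - 1)).subtype (LinearMap.ker (A ^ 2 - 1)).subtype) (A' x) (A' y) =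
        (B.compl₁₂ (LinearMap.ker (A ^ 2 - 1)).subtype (LinearMap.ker (A ^ 2 - 1)).subtype) x y := fun x y => hAB _ _
    have hAC' : ∀ x y, (C.compl₁₂ (LinearMap.ker (A ^ 2 - 1)).subtype (LinearMap.ker (A ^ 2 - 1)).subtype) (A' x) (A' y) =
        (C.compl₁₂ (LinearMap.ker (A ^ 2 - 1)).subtype (LinearMap.ker (A ^ 2 - 1)).subtype) x y := fun x y => hAC _ _
    have hYY := isCompl_range_ker hA' hN
    refine twin_glue hA' hN rfl hAB' hAC' (fun hm' => ?_) (fun hm' => ?_)
    · refine twin_scalar_alt _ _ _ (-1) ?_ (fun x => hB _) ?_ (fun x => hC _) ?_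
      · rintro ⟨_, w, rfl⟩
        apply Subtype.ext
        apply Subtype.ext
        simp [hA'c, hsq1]
      · exact restrict_nondeg hAB' (hY hAB hBn) hYY fun a ha b hb => (orth_ker_range hAB' ha hb).1
      · exact restrict_nondeg hAC' (hY hAC hCn) hYY fun a ha b hb => (orth_ker_range hAC' ha hb).1
    · refine twin_scalar_alt _ _ _ 1 ?_ (fun x => hB _) ?_ (fun x => hC _) ?_
      · rintro ⟨x, hx⟩
        rw [LinearMap.mem_ker, LinearMap.sub_apply, Module.End.one_apply, sub_eq_zero] at hx
        apply Subtype.ext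
        rw [one_smul, LinearMap.restrict_coe_apply]
        exact hx
      · exact restrict_nondeg hAB' (hY hAB hBn) hYY.symm fun a ha b hb => (orth_ker_range hAB' hb ha).2
      · exact restrict_nondeg hAC' (hY hAC hCn) hYY.symm fun a ha b hb => (orth_ker_range hAC' hb ha).2

/-- Orthogonal elements of odd order. -/
theorem exists_quad_intertwine (Q : QuadraticForm F V) (hQ : ∀ x, (∀ y, QuadraticMap.polar Q x y = 0) → x = 0)
    {N : ℕ} (hN : (N : F) ≠ 0) (hodd : Odd N) (A B : V ≃ₗ[F] V) (P : V ≃ₗ[F] V) (hP : ∀ x, P (A x) = B (P x))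
    (hA : (A.toLinearMap : Module.End F V) ^ N = 1) (hAQ : ∀ x, Q (A x) = Q x) (hBQ : ∀ x, Q (B x) = Q x) :
    ∃ g : V ≃ₗ[F] V, (∀ x, Q (g x) = Q x) ∧ ∀ x, g (A x) = B (g x) := by
  set A₀ : Module.End F V := A.toLinearMap with hA₀
  have hA0 : ∀ x, A₀ x = A x := fun x => rfl
  let Q' : QuadraticForm F V := Q.comp P.toLinearMap
  have hQ' : ∀ x, Q' x = Q (P x) := fun x => rfl
  let Bf : LinearMap.BilinForm F V := QuadraticMap.polarBilin Q
  let Cf : LinearMap.BilinForm F V := QuadraticMap.polarBilin Q'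
  have hBf : ∀ x y, Bf x y = QuadraticMap.polar Q x y := fun x y => rfl
  have hCf : ∀ x y, Cf x y = QuadraticMap.polar Q (P x) (P y) := fun x y => by
    show QuadraticMap.polar Q' x y = _
    simp only [QuadraticMap.polar, hQ', map_add]
  have hAB : ∀ x y, Bf (A₀ x) (A₀ y) = Bf x y := fun x y => by
    simp only [hBf, QuadraticMap.polar, hA0, ← map_add, hAQ]
  have hAC : ∀ x y, Cf (A₀ x) (A₀ y) = Cf x y := fun x y => by
    rw [hCf, hCf, hA0, hA0, hP, hP]
    simp only [QuadraticMap.polar, ← map_add, hBQ]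
  have hXY := isCompl_range_ker hA hN
  have hCn : ∀ x, (∀ y, Cf x y = 0) → x = 0 := fun x hx => P.map_eq_zero_iff.1 (hQ _ fun y => by
    obtain ⟨y, rfl⟩ := P.surjective y
    rw [← hCf]; exact hx y)
  have hm : ∀ x ∈ LinearMap.range (A₀ - 1), A₀ x ∈ LinearMap.range (A₀ - 1) := by
    rintro _ ⟨w, rfl⟩; exact ⟨A₀ w, by simp⟩
  have hX := restrict_nondeg hAB hQ hXY fun a ha b hb => (orth_ker_range hAB ha hb).1
  have hsymm : ∀ x y, Bf y x = 1 * Bf x y := fun x y => by rw [one_mul, hBf, hBf, QuadraticMap.polar_comm]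
  obtain ⟨z, hzA, hzz⟩ := twin_no_fixed (A₀.restrict hm) (Bf.compl₁₂ (LinearMap.range (A₀ - 1)).subtype (LinearMap.range (A₀ - 1)).subtype)
    (Cf.compl₁₂ (LinearMap.range (A₀ - 1)).subtype (LinearMap.range (A₀ - 1)).subtype) 1 hodd.pos
    (LinearMap.ext fun x => Subtype.ext (by rw [Module.End.pow_restrict, LinearMap.restrict_coe_apply, hA]; rfl))
    (fun x y => hsymm _ _) (fun x y => by rw [one_mul]; exact QuadraticMap.polar_comm _ _ _)
    (fun x y => hAB _ _) (fun x y => hAC _ _)
    ⟨hX, fun y hy => hX y fun x => by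
      have := hy x
      simp only [LinearMap.compl₁₂_apply] at this ⊢
      rw [hsymm, this, mul_zero]⟩
    (restrict_nondeg hAC hCn hXY fun a ha b hb => (orth_ker_range hAC ha hb).1) (by
      intro x y e
      apply Subtype.ext
      apply sub_eq_zero.1
      obtain ⟨k, hk⟩ := hodd
      have e' : A₀ (A₀ ((x : V) - y)) = (x : V) - y := by
        have := congrArg Subtype.val e
        simp [pow_two] at this
        simp only [map_sub]
        linear_combination (norm := module) this
      have hpow : ∀ j : ℕ, (A₀ ^ (2 * j)) ((x : V) - y) = (x : V) - y := fun j => by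
        induction j with
        | zero => simp
        | succ j ih => rw [mul_add, pow_add, Module.End.mul_apply, mul_one, pow_two, Module.End.mul_apply, e', ih]
      have hfix : A₀ ((x : V) - y) = (x : V) - y :=
        calc A₀ ((x : V) - y) = A₀ ((A₀ ^ (2 * k)) ((x : V) - y)) := by rw [hpow]
          _ = (A₀ ^ (2 * k + 1)) ((x : V) - y) := by rw [pow_succ', Module.End.mul_apply]
          _ = (A₀ ^ N) ((x : V) - y) := by rw [hk]
          _ = (x : V) - y := by rw [hA]; rfl
      refine (Submodule.disjoint_def.1 (disjoint_ker_range hA hN)) _ (Submodule.sub_mem _ x.2 y.2) ?_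
      rw [LinearMap.mem_ker, LinearMap.sub_apply, Module.End.one_apply, hfix, sub_self])
  have hzz' : ∀ x y : LinearMap.range (A₀ - 1),
      QuadraticMap.polar Q (z x : V) (z y : V) = QuadraticMap.polar Q (P (x : V)) (P (y : V)) := fun x y => by
    rw [← hCf, ← hBf]; exact hzz x y
  -- equal polar forms and invariance give equal quadratic forms
  have hQz : ∀ x : LinearMap.range (A₀ - 1), Q (z x : V) = Q (P (x : V)) := by
    have hadd : ∀ x y : LinearMap.range (A₀ - 1), Q (z (x + y) : V) - Q (P ((x + y : LinearMap.range (A₀ - 1)) : V)) =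
        (Q (z x : V) - Q (P (x : V))) + (Q (z y : V) - Q (P (y : V))) := fun x y => by
      have h1 := hzz' x y
      simp only [QuadraticMap.polar] at h1
      rw [map_add, Submodule.coe_add, Submodule.coe_add, map_add P]
      linear_combination h1
    have hinv : ∀ x : LinearMap.range (A₀ - 1), Q (z (A₀.restrict hm x) : V) - Q (P ((A₀.restrict hm x : LinearMap.range (A₀ - 1)) : V)) =
        Q (z x : V) - Q (P (x : V)) := fun x => by
      rw [hzA, LinearMap.restrict_coe_apply, LinearMap.restrict_coe_apply, hA0, hA0, hAQ, hP, hBQ]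
    have hsurj : Function.Surjective (A₀.restrict hm - 1 : Module.End F (LinearMap.range (A₀ - 1))) := by
      refine LinearMap.injective_iff_surjective.1 fun x y e => Subtype.ext (sub_eq_zero.1 ?_)
      refine (Submodule.disjoint_def.1 (disjoint_ker_range hA hN)) _ (Submodule.sub_mem _ x.2 y.2) ?_
      rw [LinearMap.mem_ker, map_sub, sub_eq_zero]
      exact congrArg Subtype.val e
    intro x
    obtain ⟨w, hw⟩ := hsurj x
    have h1 := hadd x w
    rw [show x + w = A₀.restrict hm w by rw [← hw]; simp, hinv] at h1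
    linear_combination -h1
  let φ : LinearMap.range (A₀ - 1) →ₗ[F] V := P.toLinearMap ∘ₗ (LinearMap.range (A₀ - 1)).subtype ∘ₗ z.symm.toLinearMap
  obtain ⟨g, hgQ, hgφ⟩ := witt_quad Q hQ (LinearMap.range (A₀ - 1)) φ
    (fun x y e => z.symm.injective (Subtype.ext (P.injective e))) (fun a => by
      show Q (P ((z.symm a : LinearMap.range (A₀ - 1)) : V)) = _
      rw [← hQz, LinearEquiv.apply_symm_apply])
  have hgX : ∀ x : LinearMap.range (A₀ - 1), g (A x) = B (g (x : V)) := fun x => by
    obtain ⟨x', rfl⟩ := z.surjective x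
    rw [← hA0, ← LinearMap.restrict_coe_apply A₀ hm, ← hzA, hgφ, hgφ]
    show P ((z.symm (z _) : LinearMap.range (A₀ - 1)) : V) = B (P ((z.symm (z x') : LinearMap.range (A₀ - 1)) : V))
    rw [LinearEquiv.symm_apply_apply, LinearEquiv.symm_apply_apply, LinearMap.restrict_coe_apply, hA0, hP]
  refine ⟨g, hgQ, fun v => ?_⟩
  obtain ⟨a, ha, b, hb, rfl⟩ := Submodule.mem_sup.1
    (show v ∈ LinearMap.range (A₀ - 1) ⊔ LinearMap.ker (A₀ - 1) by rw [hXY.sup_eq_top]; trivial)
  have hb' : A b = b := by
    rw [LinearMap.mem_ker, LinearMap.sub_apply, Module.End.one_apply, sub_eq_zero] at hb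
    exact hb
  rw [map_add, map_add g, map_add, map_add, hgX ⟨a, ha⟩, hb']
  congr 1
  -- the image of the fixed space is fixed
  refine (sub_eq_zero.1 (hQ _ fun y => ?_)).symm
  have hg : ∀ w, QuadraticMap.polar Q (g b) (P ((A₀ - 1) w)) = 0 := fun w => by
    have h1 : P ((A₀ - 1) w) = g ((z ⟨_, w, rfl⟩ : LinearMap.range (A₀ - 1)) : V) := by
      rw [hgφ]
      show P ((A₀ - 1) w) = P ((z.symm (z _) : LinearMap.range (A₀ - 1)) : V)
      rw [LinearEquiv.symm_apply_apply]
    rw [h1, QuadraticMap.polar, ← map_add, hgQ, hgQ, hgQ]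
    exact (orth_ker_range hAB (z _).2 hb).2
  obtain ⟨w, rfl⟩ := (B.trans B).surjective y
  have hB' : ∀ s t, QuadraticMap.polar Q (B s) (B t) = QuadraticMap.polar Q s t := fun s t => by
    simp only [QuadraticMap.polar, ← map_add, hBQ]
  obtain ⟨w', hw'⟩ := P.surjective (B w)
  have h1 := hg w'
  rw [LinearMap.sub_apply, Module.End.one_apply, map_sub, hA0, hP, hw', QuadraticMap.polar_sub_right] at h1
  rw [LinearEquiv.trans_apply, QuadraticMap.polar_sub_left, hB']
  linear_combination -h1

end CfsgLib.Classical.SemiConj
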