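/-
Every square matrix over a field is similar to its transpose.
-/
import Mathlib

set_option autoImplicit false

namespace CfsgLib.Classical.SimTranspose

open Polynomial DirectSum

universe u

variable {F : Type u} [Field F]

/-- The symmetric pairing on `F[X]/(f)`. -/
noncomputable def pair (g : F[X]) (y z : F[X] ⧸ (F[X] ∙ g)) : F :=
  ((Quotient.out y * Quotient.out z) %ₘ (g * C g.leadingCoeff⁻¹)).coeff ((g * C g.leadingCoeff⁻¹).natDegree - 1)

variable {g : F[X]}

theorem monic_scale (hg : g ≠ 0) : (g * C g.leadingCoeff⁻¹).Monic := monic_mul_leadingCoeff_inv hg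

theorem pair_mk (hg : g ≠ 0) (a b : F[X]) :
    pair g (Submodule.Quotient.mk a) (Submodule.Quotient.mk b) =
      ((a * b) %ₘ (g * C g.leadingCoeff⁻¹)).coeff ((g * C g.leadingCoeff⁻¹).natDegree - 1) := by
  set f := g * C g.leadingCoeff⁻¹
  have hdvd : ∀ c : F[X], f ∣ Quotient.out (Submodule.Quotient.mk c : F[X] ⧸ (F[X] ∙ g)) - c := by
    intro c
    have h : (Submodule.Quotient.mk (Quotient.out (Submodule.Quotient.mk c : F[X] ⧸ (F[X] ∙ g))) : F[X] ⧸ (F[X] ∙ g)) =
        Submodule.Quotient.mk c := Quotient.out_eq _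
    obtain ⟨k, hk⟩ := Submodule.mem_span_singleton.1 ((Submodule.Quotient.eq _).1 h)
    have hlc : g.leadingCoeff ≠ 0 := leadingCoeff_ne_zero.2 hg
    refine ⟨k * C g.leadingCoeff, ?_⟩
    rw [← hk, smul_eq_mul, show f * (k * C g.leadingCoeff) = k * g * (C g.leadingCoeff⁻¹ * C g.leadingCoeff) by
      simp only [f]; ring, ← C_mul, inv_mul_cancel₀ hlc, C_1, mul_one]
  obtain ⟨s, hs⟩ := hdvd a
  obtain ⟨t, ht⟩ := hdvd b
  unfold pair
  rw [modByMonic_eq_of_dvd_sub (monic_scale hg) (p₂ := a * b) ⟨s * b + t * (a + f * s), by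
    rw [sub_eq_iff_eq_add] at hs ht
    rw [hs, ht]; ring⟩]

theorem pair_comm (y z : F[X] ⧸ (F[X] ∙ g)) : pair g y z = pair g z y := by rw [pair, pair, mul_comm]

theorem pair_add (hg : g ≠ 0) (y y' z : F[X] ⧸ (F[X] ∙ g)) : pair g (y + y') z = pair g y z + pair g y' z := by
  obtain ⟨a, rfl⟩ := Submodule.Quotient.mk_surjective _ y
  obtain ⟨a', rfl⟩ := Submodule.Quotient.mk_surjective _ y'
  obtain ⟨b, rfl⟩ := Submodule.Quotient.mk_surjective _ z
  rw [← Submodule.Quotient.mk_add, pair_mk hg, pair_mk hg, pair_mk hg, add_mul, add_modByMonic, coeff_add]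

theorem pair_C_smul (hg : g ≠ 0) (c : F) (y z : F[X] ⧸ (F[X] ∙ g)) :
    pair g ((C c : F[X]) • y) z = c * pair g y z := by
  obtain ⟨a, rfl⟩ := Submodule.Quotient.mk_surjective _ y
  obtain ⟨b, rfl⟩ := Submodule.Quotient.mk_surjective _ z
  rw [← Submodule.Quotient.mk_smul, pair_mk hg, pair_mk hg, smul_eq_mul, mul_assoc, ← smul_eq_C_mul,
    smul_modByMonic, coeff_smul, smul_eq_mul]

theorem pair_smul_left (hg : g ≠ 0) (k : F[X]) (y z : F[X] ⧸ (F[X] ∙ g)) :
    pair g (k • y) z = pair g y (k • z) := by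
  obtain ⟨a, rfl⟩ := Submodule.Quotient.mk_surjective _ y
  obtain ⟨b, rfl⟩ := Submodule.Quotient.mk_surjective _ z
  rw [← Submodule.Quotient.mk_smul, ← Submodule.Quotient.mk_smul, pair_mk hg, pair_mk hg, smul_eq_mul, smul_eq_mul,
    mul_left_comm a k b, mul_assoc]

theorem pair_nondeg (hg : g ≠ 0) (y : F[X] ⧸ (F[X] ∙ g)) (h : ∀ z, pair g y z = 0) : y = 0 := by
  obtain ⟨a, rfl⟩ := Submodule.Quotient.mk_surjective _ y
  set f := g * C g.leadingCoeff⁻¹
  have hf : f.Monic := monic_scale hg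
  rw [Submodule.Quotient.mk_eq_zero, Submodule.mem_span_singleton]
  by_cases hr : a %ₘ f = 0
  · refine ⟨C g.leadingCoeff⁻¹ * (a /ₘ f), ?_⟩
    conv_rhs => rw [← modByMonic_add_div a f, hr, zero_add]
    rw [smul_eq_mul]
    ring
  exfalso
  set j := (a %ₘ f).natDegree
  have hf1 : f ≠ 1 := fun h1 => hr (by rw [h1, modByMonic_one])
  have hjd : j < f.natDegree := natDegree_modByMonic_lt a hf hf1
  have h' := h (Submodule.Quotient.mk (X ^ (f.natDegree - 1 - j)))
  rw [pair_mk hg] at h'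
  have hred : (a * X ^ (f.natDegree - 1 - j)) %ₘ f = (a %ₘ f) * X ^ (f.natDegree - 1 - j) := by
    rw [modByMonic_eq_of_dvd_sub hf (p₂ := (a %ₘ f) * X ^ (f.natDegree - 1 - j))
      ⟨(a /ₘ f) * X ^ (f.natDegree - 1 - j), by
        nth_rw 1 [← modByMonic_add_div a f]
        ring⟩, modByMonic_eq_self_iff hf]
    refine (degree_le_natDegree (p := _)).trans_lt ?_
    rw [natDegree_mul hr (pow_ne_zero _ X_ne_zero), natDegree_X_pow, degree_eq_natDegree hf.ne_zero,
      Nat.cast_lt]
    omega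
  rw [hred, show f.natDegree - 1 = j + (f.natDegree - 1 - j) by omega, Nat.add_sub_cancel_left,
    coeff_mul_X_pow] at h'
  exact hr (leadingCoeff_eq_zero.1 h')

theorem exists_selfadjoint_form {V : Type u} [AddCommGroup V] [Module F V] [FiniteDimensional F V]
    (L : V →ₗ[F] V) :
    ∃ B : LinearMap.BilinForm F V, (∀ v, (∀ w, B v w = 0) → v = 0) ∧ ∀ v w, B (L v) w = B v (L w) := by
  classical
  let M := Module.AEval F V L
  let of : V ≃ₗ[F] M := Module.AEval.of F V L
  haveI : Module.Finite F M := Module.Finite.equiv of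
  haveI : Module.Finite F[X] M := Module.Finite.of_restrictScalars_finite F F[X] M
  have hT : Module.IsTorsion F[X] M := fun {x} => ⟨⟨L.charpoly,
      mem_nonZeroDivisors_of_ne_zero L.charpoly_monic.ne_zero⟩, by
    obtain ⟨v, rfl⟩ := of.surjective x
    show L.charpoly • of v = 0
    rw [← Module.AEval.of_aeval_smul, LinearMap.aeval_self_charpoly, zero_smul, map_zero]⟩
  obtain ⟨ι, hι, p, hp, e, ⟨Φ⟩⟩ := Module.equiv_directSum_of_isTorsion hT
  have hg : ∀ i, p i ^ e i ≠ 0 := fun i => pow_ne_zero _ (hp i).ne_zero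
  let Ψ : V → ⨁ i : ι, F[X] ⧸ (F[X] ∙ p i ^ e i) := fun v => Φ (of v)
  have hadd : ∀ v w i, Ψ (v + w) i = Ψ v i + Ψ w i := fun v w i => by
    simp only [Ψ, map_add, DirectSum.add_apply]
  have hsm : ∀ (c : F) v i, Ψ (c • v) i = (C c : F[X]) • Ψ v i := fun c v i => by
    simp only [Ψ]
    rw [map_smul, show c • of v = (C c : F[X]) • of v from (Module.AEval.C_smul L c (of v)).symm, map_smul,
      DirectSum.smul_apply]
  have hX : ∀ v i, Ψ (L v) i = (X : F[X]) • Ψ v i := fun v i => by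
    simp only [Ψ]
    rw [← DirectSum.smul_apply, ← map_smul, Module.AEval.X_smul_of]
    rfl
  let b : V → V → F := fun v w => ∑ i, pair (p i ^ e i) (Ψ v i) (Ψ w i)
  have hbc : ∀ v w, b v w = b w v := fun v w => Finset.sum_congr rfl fun i _ => pair_comm _ _
  have hba : ∀ v v' w, b (v + v') w = b v w + b v' w := fun v v' w => by
    simp only [b, ← Finset.sum_add_distrib, hadd, pair_add (hg _)]
  have hbs : ∀ (c : F) v w, b (c • v) w = c * b v w := fun c v w => by
    simp only [b, Finset.mul_sum, hsm, pair_C_smul (hg _)]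
  refine ⟨LinearMap.mk₂ F b hba hbs (fun v w w' => by rw [hbc, hba, hbc w, hbc w'])
    (fun c v w => by rw [hbc, hbs, hbc w, smul_eq_mul]), fun v hv => ?_, fun v w => ?_⟩
  · refine of.injective (Φ.injective ?_)
    rw [map_zero, map_zero]
    refine DFinsupp.ext fun i => ?_
    rw [DirectSum.zero_apply]
    refine pair_nondeg (hg i) _ fun z => ?_
    have h := hv (of.symm (Φ.symm (DirectSum.lof F[X] ι (fun i => F[X] ⧸ (F[X] ∙ p i ^ e i)) i z)))
    simp only [LinearMap.mk₂_apply, b, Ψ, LinearEquiv.apply_symm_apply] at h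
    rw [Finset.sum_eq_single i] at h
    · rwa [DirectSum.lof_apply] at h
    · intro j _ hj
      rw [DirectSum.lof_eq_of, DirectSum.of_eq_of_ne _ _ _ hj]
      obtain ⟨a, ha⟩ := Submodule.Quotient.mk_surjective _ (Φ (of v) j)
      rw [← ha, ← Submodule.Quotient.mk_zero, pair_mk (hg j), mul_zero, zero_modByMonic, coeff_zero]
    · exact fun h => absurd (Finset.mem_univ i) h
  · simp only [LinearMap.mk₂_apply, b, hX, pair_smul_left (hg _)]

open Matrix in
/-- A square matrix is similar to its transpose. -/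
theorem isConj_transpose {ι : Type} [Fintype ι] [DecidableEq ι] (A : Matrix ι ι F) : IsConj A Aᵀ := by
  obtain ⟨B, hn, hs⟩ := exists_selfadjoint_form (Matrix.mulVecLin A)
  set G := LinearMap.BilinForm.toMatrix' B
  have hB : ∀ v w, B v w = v ⬝ᵥ (G *ᵥ w) := fun v w => by
    rw [← Matrix.toBilin'_apply', Matrix.toBilin'_toMatrix']
  have hG : G.det ≠ 0 := by
    intro h
    obtain ⟨v, hv0, hv⟩ := Matrix.exists_vecMul_eq_zero_iff.2 h
    exact hv0 (hn v fun w => by rw [hB, dotProduct_mulVec, hv, zero_dotProduct])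
  have hGA : Aᵀ * G = G * A := Matrix.ext fun i j => by
    have h := hs (Pi.single i 1) (Pi.single j 1)
    simp only [hB, Matrix.mulVecLin_apply] at h
    rw [Matrix.mulVec_mulVec, ← vecMul_transpose, ← dotProduct_mulVec, Matrix.mulVec_mulVec] at h
    simpa [Matrix.mulVec_single_one] using h
  exact ⟨Matrix.nonsingInvUnit G (Ne.isUnit hG), hGA.symm⟩

end CfsgLib.Classical.SimTranspose
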