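/-
The centraliser of a fixed-point-free element of order three in a symplectic group is a unitary group.
-/
import Cfsg.Agent.Lib.Classical.SpBasic
import Cfsg.Agent.Lib.Classical.HermOrder
import Cfsg.Agent.Lib.Classical.HermBilin
import Cfsg.Prelude.Def_LieClassical

set_option autoImplicit false

namespace CfsgLib.Classical.SpFPF

open Matrix Cfsg Polynomial
open scoped Polynomial

variable {F : Type*} [Field F] [Fintype F] {q : ℕ}

theorem coprime_three_card (hF : Fintype.card F = q) (hq : q % 3 = 2) : (3 : F) ≠ 0 := by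
  intro h
  obtain ⟨p, _⟩ := CharP.exists F
  obtain ⟨n, hp, hn⟩ := FiniteField.card F p
  have h3 : p ∣ 3 := (CharP.cast_eq_zero_iff F p 3).1 (by exact_mod_cast h)
  have : p = 3 := (Nat.prime_dvd_prime_iff_eq hp Nat.prime_three).1 h3
  have h' : 3 ∣ q := by rw [← hF, hn, this]; exact dvd_pow_self 3 n.ne_zero
  omega

theorem no_root (hF : Fintype.card F = q) (hq : q % 3 = 2) (z : F) : z ^ 2 + z + 1 ≠ 0 := by
  intro h
  have hz3 : z ^ 3 = 1 := by linear_combination (z - 1) * h
  have hz0 : z ≠ 0 := fun h0 => by rw [h0] at hz3; simp at hz3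
  have hz : z ^ q = z := hF ▸ FiniteField.pow_card z
  have hq' : q = 3 * (q / 3) + 2 := by omega
  rw [hq', pow_add, pow_mul, hz3, one_pow, one_mul] at hz
  have : z = 1 := mul_right_cancel₀ hz0 (by rw [← sq, hz, one_mul])
  exact coprime_three_card hF hq (by rw [this] at h; linear_combination h)

variable {m : ℕ}

/-- The relations of an orthogonal family of hyperbolic planes invariant under `X`. -/
def GoodFamily (X : Matrix (Fin m ⊕ Fin m) (Fin m ⊕ Fin m) F) {k : ℕ} (v : Fin k → Fin m ⊕ Fin m → F) : Prop :=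
  (∀ i j, sympForm m F (v i) (v j) = 0) ∧
    ∀ i j, sympForm m F (v i) (X *ᵥ v j) = if i = j then 1 else 0

variable {X : Matrix (Fin m ⊕ Fin m) (Fin m ⊕ Fin m) F}
  (hX : ∀ v, X *ᵥ (X *ᵥ v) = -v - X *ᵥ v) (hB : ∀ u v, sympForm m F (X *ᵥ u) (X *ᵥ v) = sympForm m F u v)

theorem sympForm_neg_left' (u v : Fin m ⊕ Fin m → F) : sympForm m F (-u) v = - sympForm m F u v := by
  rw [show -u = (-1 : F) • u by simp, sympForm_smul_left, neg_one_mul]

theorem sympForm_neg_right' (u v : Fin m ⊕ Fin m → F) : sympForm m F u (-v) = - sympForm m F u v := by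
  rw [show -v = (-1 : F) • v by simp, sympForm_smul_right, neg_one_mul]

include hX hB

theorem form_X_right (u v : Fin m ⊕ Fin m → F) :
    sympForm m F u (X *ᵥ v) = - sympForm m F u v - sympForm m F (X *ᵥ u) v := by
  have h : sympForm m F u (X *ᵥ v) = sympForm m F (X *ᵥ u) (X *ᵥ (X *ᵥ v)) := (hB _ _).symm
  rw [hX, sympForm_sub_right, sympForm_neg_right', hB] at h
  linear_combination h

theorem exists_pair_ne_zero (h3 : (3 : F) ≠ 0) {W : Submodule F (Fin m ⊕ Fin m → F)} (hW : W ≠ ⊥)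
    (hXW : ∀ w ∈ W, X *ᵥ w ∈ W) (hnd : ∀ w ∈ W, w ≠ 0 → ∃ u ∈ W, sympForm m F w u ≠ 0) :
    ∃ w ∈ W, sympForm m F w (X *ᵥ w) ≠ 0 := by
  by_contra hc
  push Not at hc
  obtain ⟨w, hw, hw0⟩ := Submodule.exists_mem_ne_zero_of_ne_bot hW
  obtain ⟨u, hu, hne⟩ := hnd w hw hw0
  apply hne
  have key : ∀ a ∈ W, ∀ b ∈ W, 2 * sympForm m F a (X *ᵥ b) = sympForm m F b a := by
    intro a ha b hb
    have h := hc (a + b) (W.add_mem ha hb)
    rw [mulVec_add, sympForm_add_left, sympForm_add_right, sympForm_add_right, hc a ha, hc b hb] at h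
    have h1 := form_X_right hX hB b a
    have h2 := sympForm_swap a (X *ᵥ b)
    linear_combination h - h1 + h2
  have k1 := key u hu w hw
  have k2 := key u hu (X *ᵥ w) (hXW w hw)
  rw [hX, sympForm_sub_right, sympForm_neg_right'] at k2
  have h4 := sympForm_swap u (X *ᵥ w)
  have h5 := sympForm_swap w u
  have h6 : 3 * sympForm m F w u = 0 := by
    linear_combination k1 + 2 * k2 + 2 * h4 + 4 * h5
  exact (mul_eq_zero.1 h6).resolve_left h3

variable {K : Type*} [Field K] [Fintype K] [Algebra F K]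

omit hX hB in
theorem omega_facts (hF : Fintype.card F = q) (hq : q % 3 = 2) (hK : Fintype.card K = q ^ 2) {ω : K}
    (hω : ω * ω + ω + 1 = 0) :
    Function.Bijective (fun p : F × F => algebraMap F K p.1 + algebraMap F K p.2 * ω) ∧ ω ^ q = -1 - ω := by
  refine ⟨(Fintype.bijective_iff_injective_and_card _).2 ⟨?_, by rw [Fintype.card_prod, hF, hK, sq]⟩, ?_⟩
  · rintro ⟨a, b⟩ ⟨a', b'⟩ h
    simp only at h
    by_cases hb : b = b'
    · subst hb
      exact Prod.ext ((algebraMap F K).injective (add_right_cancel h)) rfl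
    · exfalso
      have hb' : algebraMap F K (b - b') ≠ 0 := by simpa [sub_eq_zero] using hb
      have hω' : ω = algebraMap F K ((a' - a) / (b - b')) := by
        rw [map_div₀, eq_div_iff hb', map_sub, map_sub]
        linear_combination h
      rw [hω'] at hω
      apply no_root hF hq ((a' - a) / (b - b'))
      apply (algebraMap F K).injective
      rw [map_add, map_add, map_pow, map_one, map_zero, sq]
      exact hω
  · have hω3 : ω ^ 3 = 1 := by linear_combination (ω - 1) * hω
    rw [show q = 3 * (q / 3) + 2 by omega, pow_add, pow_mul, hω3, one_pow, one_mul]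
    linear_combination hω

omit hX hB in
theorem pow_q_mk (hF : Fintype.card F = q) (hK : Fintype.card K = q ^ 2) {ω : K} (hωq : ω ^ q = -1 - ω) (a b : F) :
    (algebraMap F K a + algebraMap F K b * ω) ^ q = algebraMap F K a + algebraMap F K b * (-1 - ω) := by
  obtain ⟨σ, hσ, -, -⟩ := exists_qPow hK
  rw [← hσ, map_add, map_mul, hσ, hσ, hσ, hωq, ← map_pow, ← map_pow, ← hF, FiniteField.pow_card, FiniteField.pow_card]

theorem exists_pair_one (hF : Fintype.card F = q) (hq : q % 3 = 2) (hK : Fintype.card K = q ^ 2) {ω : K}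
    (hω : ω * ω + ω + 1 = 0) {W : Submodule F (Fin m ⊕ Fin m → F)} (hW : W ≠ ⊥)
    (hXW : ∀ w ∈ W, X *ᵥ w ∈ W) (hnd : ∀ w ∈ W, w ≠ 0 → ∃ u ∈ W, sympForm m F w u ≠ 0) :
    ∃ w ∈ W, sympForm m F w (X *ᵥ w) = 1 := by
  obtain ⟨w, hw, hne⟩ := exists_pair_ne_zero hX hB (coprime_three_card hF hq) hW hXW hnd
  obtain ⟨hbij, hωq⟩ := omega_facts hF hq hK hω
  obtain ⟨l, hl⟩ := exists_norm_eq hK (μ := algebraMap F K (sympForm m F w (X *ᵥ w))⁻¹)
    (by rw [← map_pow, ← hF, FiniteField.pow_card])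
  obtain ⟨⟨a, b⟩, hab⟩ := hbij.2 l
  simp only at hab
  rw [← hab, pow_succ, pow_q_mk hF hK hωq] at hl
  have hN : a * a - a * b + b * b = (sympForm m F w (X *ᵥ w))⁻¹ := by
    apply (algebraMap F K).injective
    rw [← hl, map_add, map_sub, map_mul, map_mul, map_mul]
    linear_combination (algebraMap F K b * algebraMap F K b) * hω
  refine ⟨a • w + b • (X *ᵥ w), W.add_mem (W.smul_mem a hw) (W.smul_mem b (hXW w hw)), ?_⟩
  rw [mulVec_add, mulVec_smul, mulVec_smul, hX]
  simp only [sympForm_add_left, sympForm_add_right, sympForm_smul_left, sympForm_smul_right, sympForm_sub_right,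
    sympForm_neg_right', sympForm_self]
  rw [sympForm_swap w (X *ᵥ w)]
  have h1 := mul_inv_cancel₀ hne
  linear_combination h1 + sympForm m F w (X *ᵥ w) * hN

theorem goodFamily_X {k : ℕ} {v : Fin k → Fin m ⊕ Fin m → F} (hv : GoodFamily X v) (i j : Fin k) :
    sympForm m F (X *ᵥ v i) (v j) = -(if i = j then 1 else 0) := by
  rw [sympForm_swap (v j) (X *ᵥ v i), hv.2]
  simp [eq_comm]

theorem exists_goodFamily (hF : Fintype.card F = q) (hq : q % 3 = 2) (hK : Fintype.card K = q ^ 2) {ω : K}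
    (hω : ω * ω + ω + 1 = 0) : ∀ k, k ≤ m → ∃ v : Fin k → Fin m ⊕ Fin m → F, GoodFamily X v := by
  intro k
  induction k with
  | zero => exact fun _ => ⟨Fin.elim0, fun i => i.elim0, fun i => i.elim0⟩
  | succ k ih =>
    intro hk
    obtain ⟨v, hv⟩ := ih (by omega)
    let T : (Fin m ⊕ Fin m → F) →ₗ[F] (Fin k → F) × (Fin k → F) :=
      (LinearMap.pi fun i => (spBilin m F) (v i)).prod (LinearMap.pi fun i => (spBilin m F) (X *ᵥ v i))
    have hT : ∀ u, u ∈ LinearMap.ker T ↔ ∀ i, sympForm m F (v i) u = 0 ∧ sympForm m F (X *ᵥ v i) u = 0 := by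
      intro u
      simp [T, Prod.ext_iff, funext_iff, forall_and]
    have hW : LinearMap.ker T ≠ ⊥ := by
      intro h
      have := LinearMap.finrank_le_finrank_of_injective (LinearMap.ker_eq_bot.1 h)
      simp at this
      omega
    have hXW : ∀ w ∈ LinearMap.ker T, X *ᵥ w ∈ LinearMap.ker T := by
      intro w hw
      rw [hT] at hw ⊢
      intro i
      obtain ⟨h1, h2⟩ := hw i
      refine ⟨?_, ?_⟩
      · rw [form_X_right hX hB, h1, h2]; simp
      · rw [hB, h1]
    have hnd : ∀ w ∈ LinearMap.ker T, w ≠ 0 → ∃ u ∈ LinearMap.ker T, sympForm m F w u ≠ 0 := by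
      intro w hw hw0
      obtain ⟨u, hu⟩ := exists_sympForm_ne_zero hw0
      refine ⟨u + (∑ i, sympForm m F (X *ᵥ v i) u • v i) - ∑ i, sympForm m F (v i) u • (X *ᵥ v i), ?_, ?_⟩
      · rw [hT]
        intro j
        simp only [← spBilin_apply, map_sub, map_add, map_sum, map_smul, smul_eq_mul]
        simp only [spBilin_apply, hv.1, hv.2, goodFamily_X hX hB hv, hB, mul_zero, mul_neg, mul_ite, mul_one,
          Finset.sum_const_zero, Finset.sum_neg_distrib, Finset.sum_ite_eq, Finset.mem_univ, if_true]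
        constructor <;> ring
      · rw [hT] at hw
        have h1 : ∀ i, sympForm m F w (v i) = 0 := fun i => by rw [sympForm_swap, (hw i).1, neg_zero]
        have h2 : ∀ i, sympForm m F w (X *ᵥ v i) = 0 := fun i => by rw [sympForm_swap, (hw i).2, neg_zero]
        simp only [← spBilin_apply, map_sub, map_add, map_sum, map_smul, smul_eq_mul]
        simpa [h1, h2] using hu
    obtain ⟨w, hw, h1⟩ := exists_pair_one hX hB hF hq hK hω hW hXW hnd
    rw [hT] at hw
    refine ⟨Fin.cons w v, fun i j => ?_, fun i j => ?_⟩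
    · refine Fin.cases ?_ (fun i => ?_) i <;> refine Fin.cases ?_ (fun j => ?_) j <;>
        simp only [Fin.cons_zero, Fin.cons_succ]
      · exact sympForm_self w
      · rw [sympForm_swap, (hw j).1, neg_zero]
      · exact (hw i).1
      · exact hv.1 i j
    · refine Fin.cases ?_ (fun i => ?_) i <;> refine Fin.cases ?_ (fun j => ?_) j <;>
        simp only [Fin.cons_zero, Fin.cons_succ]
      · simp [h1]
      · rw [if_neg (Fin.succ_ne_zero j).symm, sympForm_swap, (hw j).2, neg_zero]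
      · rw [if_neg (Fin.succ_ne_zero i), form_X_right hX hB, (hw i).1, (hw i).2]; simp
      · rw [hv.2]; simp [Fin.succ_inj]

omit hX hB

/-- The centraliser is in bijection with the unitary group. -/
theorem card_centralizer_eq (hF : Fintype.card F = q) (hq : q % 3 = 2) (hK : Fintype.card K = q ^ 2) {ω : K}
    (hω : ω * ω + ω + 1 = 0) (x : symplecticGroup (Fin m) F) (hX : ∀ v, x.1 *ᵥ (x.1 *ᵥ v) = -v - x.1 *ᵥ v) :
    Nat.card (Subgroup.centralizer ({x} : Set (symplecticGroup (Fin m) F))) = Nat.card (Cfsg.GU m K q) := by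
  classical
  have hB : ∀ u v, sympForm m F (x.1 *ᵥ u) (x.1 *ᵥ v) = sympForm m F u v := sp_form x
  obtain ⟨hbij, hωq⟩ := omega_facts hF hq hK hω
  obtain ⟨v, hv⟩ := exists_goodFamily hX hB hF hq hK hω m le_rfl
  let c₀ : (F × F) ≃ₗ[F] K := LinearEquiv.ofBijective
    ((Algebra.linearMap F K).coprod ((LinearMap.mulRight F ω).comp (Algebra.linearMap F K))) hbij
  have hc : ∀ a b, c₀ (a, b) = algebraMap F K a + algebraMap F K b * ω := fun a b => rfl
  let pr : K →ₗ[F] F := (LinearMap.snd F F F).comp c₀.symm.toLinearMap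
  have hpr : ∀ a b, pr (algebraMap F K a + algebraMap F K b * ω) = b := fun a b => by
    simp [pr, ← hc]
  let φ₀ : (Fin m → K) →ₗ[F] (Fin m ⊕ Fin m → F) :=
    { toFun := fun u => ∑ i, ((c₀.symm (u i)).1 • v i + (c₀.symm (u i)).2 • (x.1 *ᵥ v i))
      map_add' := fun u u' => by
        simp only [Pi.add_apply, map_add, Prod.fst_add, Prod.snd_add, add_smul, Finset.sum_add_distrib]
        abel
      map_smul' := fun a u => by
        simp only [Pi.smul_apply, map_smul, Prod.smul_fst, Prod.smul_snd, smul_eq_mul, mul_smul, RingHom.id_apply,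
          Finset.smul_sum, smul_add] }
  have hformφ : ∀ u w, sympForm m F (φ₀ u) (φ₀ w) = - pr (hermForm m K q u w) := by
    intro u w
    simp only [φ₀, LinearMap.coe_mk, AddHom.coe_mk, ← spBilin_apply, map_sum, map_add, map_smul,
      LinearMap.add_apply, LinearMap.smul_apply, LinearMap.coe_sum, Finset.sum_apply, smul_eq_mul]
    simp only [spBilin_apply, hv.1, hv.2, goodFamily_X hX hB hv, hB, mul_zero, mul_neg, mul_ite, mul_one, zero_add,
      add_zero, hermForm, map_sum, ← Finset.sum_neg_distrib]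
    refine Finset.sum_congr rfl fun i _ => ?_
    simp only [Finset.sum_add_distrib, Finset.sum_neg_distrib, ← Finset.mul_sum, Finset.sum_ite_eq, Finset.sum_ite_eq', Finset.mem_univ, if_true]
    obtain ⟨⟨a, b⟩, hu⟩ := c₀.surjective (u i)
    obtain ⟨⟨a', b'⟩, hw⟩ := c₀.surjective (w i)
    rw [← hu, ← hw, LinearEquiv.symm_apply_apply, LinearEquiv.symm_apply_apply, hc, hc, pow_q_mk hF hK hωq,
      show (algebraMap F K a + algebraMap F K b * ω) * (algebraMap F K a' + algebraMap F K b' * (-1 - ω)) =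
        algebraMap F K (a * a' - a * b' + b * b') + algebraMap F K (b * a' - a * b') * ω by
      simp only [map_add, map_sub, map_mul]
      linear_combination (-(algebraMap F K b * algebraMap F K b')) * hω, hpr]
    ring
  have hω1 : ∀ u : Fin m → K, φ₀ (ω • u) = x.1 *ᵥ φ₀ u := by
    intro u
    simp only [φ₀, LinearMap.coe_mk, AddHom.coe_mk, Matrix.mulVec_sum, Pi.smul_apply, smul_eq_mul]
    refine Finset.sum_congr rfl fun i _ => ?_
    obtain ⟨⟨a, b⟩, hu⟩ := c₀.surjective (u i)
    have he : ω * u i = c₀ (-b, a - b) := by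
      rw [← hu, hc, hc, map_neg, map_sub]
      linear_combination (algebraMap F K b) * hω
    rw [he, ← hu, LinearEquiv.symm_apply_apply, LinearEquiv.symm_apply_apply, mulVec_add, mulVec_smul, mulVec_smul, hX]
    simp only [neg_smul, sub_smul, smul_sub, smul_neg]
    abel
  have hq1 : 1 ≤ q := by omega
  obtain ⟨σ, hσ, hσσ, -⟩ := exists_qPow hK
  -- a scalar test
  have hsep : ∀ c c' : K, (∀ l : K, pr (c * l ^ q) = pr (c' * l ^ q)) → c = c' := by
    intro c c' h
    by_contra hne
    have hd : c - c' ≠ 0 := sub_ne_zero.2 hne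
    have h' := h (σ (ω * (c - c')⁻¹))
    rw [← hσ, hσσ, ← sub_eq_zero, ← map_sub, ← sub_mul] at h'
    have e : (c - c') * (ω * (c - c')⁻¹) = algebraMap F K 0 + algebraMap F K 1 * ω := by
      rw [map_zero, map_one, zero_add, one_mul, mul_comm ω, ← mul_assoc, mul_inv_cancel₀ hd, one_mul]
    rw [e, hpr] at h'
    exact one_ne_zero h'
  have hherm_smul : ∀ (u w : Fin m → K) (l : K), hermForm m K q u (l • w) = hermForm m K q u w * l ^ q := by
    intro u w l
    simp only [hermForm, Finset.sum_mul, Pi.smul_apply, smul_eq_mul, mul_pow]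
    exact Finset.sum_congr rfl fun i _ => by ring
  have hφinj : Function.Injective φ₀ := by
    rw [← LinearMap.ker_eq_bot, Submodule.eq_bot_iff]
    intro u hu
    rw [LinearMap.mem_ker] at hu
    funext i
    apply hsep
    intro l
    have h := hformφ u (l • Pi.single i 1)
    rw [hu, sympForm_zero_left, hherm_smul] at h
    have h1 : hermForm m K q u (Pi.single i 1) = u i := by
      rw [hermForm, Finset.sum_eq_single i (fun j _ hj => by simp [hj, zero_pow (by omega : q ≠ 0)]) (by simp),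
        Pi.single_eq_same, one_pow, mul_one]
    rw [h1] at h
    rw [Pi.zero_apply, zero_mul, map_zero]
    exact neg_eq_zero.1 h.symm
  let φ : (Fin m → K) ≃ₗ[F] (Fin m ⊕ Fin m → F) := LinearEquiv.ofBijective φ₀
    ((Fintype.bijective_iff_injective_and_card _).2 ⟨hφinj, by
      rw [Fintype.card_fun, Fintype.card_fun, hK, hF, Fintype.card_fin, Fintype.card_sum, Fintype.card_fin, ← pow_mul,
        two_mul]⟩)
  have hφ : ∀ u, φ u = φ₀ u := fun u => rfl
  let T : Cfsg.GU m K q → ((Fin m ⊕ Fin m → F) →ₗ[F] (Fin m ⊕ Fin m → F)) := fun g =>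
    φ.toLinearMap ∘ₗ ((Matrix.toLin' ((g : GL (Fin m) K) : Matrix (Fin m) (Fin m) K)).restrictScalars F) ∘ₗ φ.symm.toLinearMap
  have hT : ∀ g w, LinearMap.toMatrix' (T g) *ᵥ w = φ (guApply g (φ.symm w)) := fun g w => by
    rw [LinearMap.toMatrix'_mulVec]; rfl
  have hxcomm : ∀ w, φ.symm (x.1 *ᵥ w) = ω • φ.symm w := fun w => by
    rw [LinearEquiv.symm_apply_eq, hφ, hω1, ← hφ, LinearEquiv.apply_symm_apply]
  have hmem : ∀ g, LinearMap.toMatrix' (T g) ∈ symplecticGroup (Fin m) F := fun g => by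
    rw [mem_sp_iff]
    intro u w
    rw [hT, hT, hφ, hφ, hformφ, guApply_form, ← hformφ, ← hφ, ← hφ, LinearEquiv.apply_symm_apply,
      LinearEquiv.apply_symm_apply]
  have hcent : ∀ g, (⟨_, hmem g⟩ : symplecticGroup (Fin m) F) ∈ Subgroup.centralizer ({x} : Set (symplecticGroup (Fin m) F)) := fun g => by
    rw [Subgroup.mem_centralizer_singleton_iff]
    refine sp_ext fun w => ?_
    rw [Submonoid.coe_mul, Submonoid.coe_mul, ← mulVec_mulVec, ← mulVec_mulVec, hT, hT, hxcomm]
    rw [show guApply g (ω • φ.symm w) = ω • guApply g (φ.symm w) from mulVec_smul _ _ _, hφ, hφ, hω1]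
  symm
  refine Nat.card_congr (Equiv.ofBijective (fun g => (⟨⟨_, hmem g⟩, hcent g⟩ :
    Subgroup.centralizer ({x} : Set (symplecticGroup (Fin m) F)))) ⟨?_, ?_⟩)
  · intro g g' h
    refine gu_ext fun u => φ.injective ?_
    have h' := congrArg (fun y : Subgroup.centralizer ({x} : Set (symplecticGroup (Fin m) F)) => (y : symplecticGroup (Fin m) F).1 *ᵥ φ u) h
    simp only [hT, LinearEquiv.symm_apply_apply] at h'
    exact h'
  · rintro ⟨y, hy⟩
    rw [Subgroup.mem_centralizer_singleton_iff] at hy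
    have hyx : ∀ w, y.1 *ᵥ (x.1 *ᵥ w) = x.1 *ᵥ (y.1 *ᵥ w) := fun w => by
      rw [mulVec_mulVec, mulVec_mulVec, ← Submonoid.coe_mul, ← Submonoid.coe_mul, hy]
    let f₀ : (Fin m → K) ≃ₗ[F] (Fin m → K) := φ ≪≫ₗ
      LinearEquiv.ofBijective (Matrix.toLin' y.1) (Finite.injective_iff_bijective.1 (sp_mulVec_injective y)) ≪≫ₗ φ.symm
    have hf₀ : ∀ u, f₀ u = φ.symm (y.1 *ᵥ φ u) := fun u => rfl
    have hlin : ∀ (l : K) (u : Fin m → K), f₀ (l • u) = l • f₀ u := by
      intro l u
      obtain ⟨⟨a, b⟩, rfl⟩ := hbij.2 l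
      simp only [add_smul, mul_smul, algebraMap_smul, map_add, map_smul]
      rw [show f₀ (ω • u) = ω • f₀ u by rw [hf₀, hf₀, hφ, hω1, ← hφ, hyx, hxcomm]]
    let f : (Fin m → K) ≃ₗ[K] (Fin m → K) := { f₀ with map_smul' := hlin }
    obtain ⟨g, hg⟩ := guMk_exists (q := q) f (fun u w => by
      apply hsep
      intro l
      have h1 : sympForm m F (φ₀ (f₀ u)) (φ₀ (f₀ (l • w))) = sympForm m F (φ₀ u) (φ₀ (l • w)) := by
        rw [← hφ, ← hφ, ← hφ, ← hφ, hf₀, hf₀, LinearEquiv.apply_symm_apply, LinearEquiv.apply_symm_apply, sp_form]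
      rw [hformφ, hformφ, neg_inj, hlin, hherm_smul, hherm_smul] at h1
      exact h1)
    refine ⟨g, Subtype.ext (sp_ext fun w => ?_)⟩
    rw [hT, hg]
    show φ (f₀ (φ.symm w)) = _
    rw [hf₀, LinearEquiv.apply_symm_apply, LinearEquiv.apply_symm_apply]

/-- The main count. -/
theorem card_centralizer (hF : Fintype.card F = q) (hq : q % 3 = 2) (x : symplecticGroup (Fin m) F) (hx3 : x ^ 3 = 1)
    (hfpf : IsUnit (x.1 - 1)) :
    Nat.card (Subgroup.centralizer ({x} : Set (symplecticGroup (Fin m) F))) = unitaryOrder q m := by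
  classical
  let P : F[X] := Polynomial.X ^ 2 + Polynomial.X + 1
  have hPd : P.natDegree = 2 := by simp only [P]; compute_degree!
  have hP0 : P ≠ 0 := fun h => by simp [h] at hPd
  have : Fact (Irreducible P) := ⟨(Polynomial.irreducible_iff_roots_eq_zero_of_degree_le_three (by omega) (by omega)).2
    (Multiset.eq_zero_of_forall_notMem fun z hz => by
      rw [Polynomial.mem_roots hP0, Polynomial.IsRoot] at hz
      simp [P] at hz
      exact no_root hF hq z hz)⟩
  haveI : Module.Finite F (AdjoinRoot P) := (AdjoinRoot.powerBasis hP0).finite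
  haveI : Finite (AdjoinRoot P) := Module.finite_of_finite F
  letI := Fintype.ofFinite (AdjoinRoot P)
  have hK : Fintype.card (AdjoinRoot P) = q ^ 2 := by
    rw [Module.card_eq_pow_finrank (K := F), hF, (AdjoinRoot.powerBasis hP0).finrank, AdjoinRoot.powerBasis_dim, hPd]
  have hω : AdjoinRoot.root P * AdjoinRoot.root P + AdjoinRoot.root P + 1 = 0 := by
    have h := AdjoinRoot.eval₂_root P
    simp [P] at h
    linear_combination h
  have hX2 : x.1 * x.1 + x.1 + 1 = 0 := by
    have h3 : x.1 ^ 3 = 1 := by rw [← SubmonoidClass.coe_pow, hx3]; rfl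
    have : (x.1 - 1) * (x.1 * x.1 + x.1 + 1) = 0 := by
      rw [← sub_eq_zero.2 h3]; noncomm_ring
    exact hfpf.mul_right_eq_zero.1 this
  rw [card_centralizer_eq hF hq hK hω x (fun v => ?_), card_gu hK]
  have h := congrArg (fun A : Matrix (Fin m ⊕ Fin m) (Fin m ⊕ Fin m) F => A *ᵥ v) hX2
  simp only [add_mulVec, ← mulVec_mulVec, one_mulVec, zero_mulVec] at h
  linear_combination (norm := module) h

end CfsgLib.Classical.SpFPF

namespace CfsgLib.Classical.SpFPF

/-- The order of the unitary group as an integer product. -/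
theorem unitaryOrder_intCast {q₀ : ℕ} (hq : 1 ≤ q₀) (n : ℕ) : (unitaryOrder q₀ n : ℤ) =
    (q₀ : ℤ) ^ (n * (n - 1) / 2) * ∏ i : Fin n, ((q₀ : ℤ) ^ ((i : ℕ) + 1) - (-1) ^ ((i : ℕ) + 1)) := by
  rw [unitaryOrder, Fin.prod_univ_eq_prod_range (fun i => (q₀ : ℤ) ^ (i + 1) - (-1) ^ (i + 1)) n]
  push_cast
  congr 1
  refine Finset.prod_congr rfl fun i _ => ?_
  have h1 : 1 ≤ q₀ ^ (i + 1) := Nat.one_le_pow _ _ hq
  split_ifs with he
  · rw [he.add_one.neg_one_pow]; push_cast; ring
  · rw [(Nat.not_even_iff_odd.1 he).add_one.neg_one_pow, Nat.cast_sub h1]; push_cast; ring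

end CfsgLib.Classical.SpFPF
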