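/-
Parabolic subgroups of the symplectic group.
-/
import Cfsg.Agent.Lib.Classical.FrameCount
import Cfsg.Agent.Lib.Classical.SpOrder
import Cfsg.Agent.Lib.Classical.Witt
import Cfsg.Agent.Lib.Classical.SpSplit

set_option autoImplicit false

namespace CfsgLib.Classical

open Matrix Cfsg

variable {F : Type*} [Field F]

theorem card_spFrame_succ [Fintype F] (n k : ℕ) :
    Nat.card (IsoFrame F (sympForm (n + 1) F) (k + 1)) =
      (Fintype.card F ^ (2 * (n + 1)) - 1) * (Fintype.card F ^ k * Nat.card (IsoFrame F (sympForm n F) k)) := by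
  classical
  rw [card_isoFrame_succ (sympForm (n + 1) F) (sympForm n F) (fun x y h => by rw [sympForm_swap, h, neg_zero]) ?_ k,
    Nat.card_eq_fintype_card (α := F)]
  · congr 1
    rw [Nat.card_congr (Equiv.subtypeEquivRight fun v => and_iff_left (sympForm_self v)), Nat.card_eq_fintype_card,
      Fintype.card_subtype_compl, Fintype.card_subtype_eq, Fintype.card_fun, Fintype.card_sum, Fintype.card_fin,
      ← two_mul]
  · intro v hv _
    obtain ⟨g, -, hg⟩ := exists_sp_move (m := n + 1) (v := Pi.single (Sum.inl 0) (1 : F)) (w := v)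
      (by simp) hv
    let E : (F × (Fin n ⊕ Fin n → F)) →ₗ[F] (Fin (n + 1) ⊕ Fin (n + 1) → F) :=
      g.1.mulVecLin ∘ₗ ((LinearMap.id : F →ₗ[F] F).smulRight (Pi.single (Sum.inl 0) 1)).coprod (spJoin n F)
    have hE : ∀ p, E p = g.1 *ᵥ (p.1 • Pi.single (Sum.inl 0) 1 + spJoin n F p.2) := fun p => by simp [E]
    have htail : ∀ p : F × (Fin n ⊕ Fin n → F),
        spTail n F (p.1 • Pi.single (Sum.inl 0) 1 + spJoin n F p.2) = p.2 := fun p => by
      rw [map_add, spTail_join, map_smul, show spTail n F (Pi.single (Sum.inl 0) (1 : F)) = 0 by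
        funext i; rcases i with i | i <;> simp [spTail, LinearMap.funLeft], smul_zero, zero_add]
    have hhead : ∀ p : F × (Fin n ⊕ Fin n → F),
        (p.1 • (Pi.single (Sum.inl 0) 1 : Fin (n + 1) ⊕ Fin (n + 1) → F) + spJoin n F p.2) (Sum.inr 0) = 0 ∧
        (p.1 • (Pi.single (Sum.inl 0) 1 : Fin (n + 1) ⊕ Fin (n + 1) → F) + spJoin n F p.2) (Sum.inl 0) = p.1 := fun p => by simp [spJoin]
    refine ⟨E, fun p r h => ?_, by rw [hE, map_zero, add_zero, one_smul, hg], fun x => ?_, fun p r => ?_⟩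
    · rw [hE, hE] at h
      have h' := sp_mulVec_injective g h
      refine Prod.ext ?_ ?_
      · rw [← (hhead p).2, h', (hhead r).2]
      · rw [← htail p, h', htail r]
    · constructor
      · intro hx
        refine ⟨(((g⁻¹).1 *ᵥ x) (Sum.inl 0), spTail n F ((g⁻¹).1 *ᵥ x)), ?_⟩
        have h0 : ((g⁻¹).1 *ᵥ x) (Sum.inr 0) = 0 := by
          rw [← sympForm_single_inl (m := n + 1) ((g⁻¹).1 *ᵥ x) 0, ← sp_form g, sp_mulVec_inv, hg, hx]
        rw [hE]
        conv_rhs => rw [← sp_mulVec_inv g x, ← spHead_add_join ((g⁻¹).1 *ᵥ x), spHead_eq, h0, zero_smul, add_zero]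
      · rintro ⟨p, rfl⟩
        rw [hE, ← hg, sp_form, sympForm_single_inl, (hhead p).1]
    · rw [hE, hE, sp_form, sympForm_succ, htail, htail, (hhead p).1, (hhead r).1]
      ring

theorem exists_spFrame_map {m k : ℕ} (f₀ f : IsoFrame F (sympForm m F) k) :
    ∃ g : symplecticGroup (Fin m) F, ∀ i, g.1 *ᵥ f₀.1 i = f.1 i := by
  let bb := Module.Basis.span f₀.2.1
  let φ : Submodule.span F (Set.range f₀.1) →ₗ[F] (Fin m ⊕ Fin m → F) := bb.constr F f.1
  have hφb : ∀ i, φ (bb i) = f.1 i := fun i => bb.constr_basis F f.1 i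
  have hbb : ∀ i, ((bb i : Submodule.span F (Set.range f₀.1)) : Fin m ⊕ Fin m → F) = f₀.1 i := fun i => by
    simp [bb, Module.Basis.span_apply]
  have hinj : Function.Injective φ := (injective_iff_map_eq_zero φ).2 fun x hx => by
    rw [← bb.sum_repr x] at hx ⊢
    simp only [map_sum, map_smul, hφb] at hx
    have h := Fintype.linearIndependent_iff.1 f.2.1 _ hx
    simp [h]
  obtain ⟨g, hg, hga⟩ := witt_alt (spBilin m F) spBilin_isAlt (fun v h => spBilin_nondegenerate.1 v h) _ φ hinj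
    fun x y => by
      rw [← bb.sum_repr x, ← bb.sum_repr y]
      simp only [map_sum, map_smul, hφb, Submodule.coe_sum, Submodule.coe_smul, hbb, LinearMap.sum_apply,
        LinearMap.smul_apply, spBilin_apply, f.2.2, f₀.2.2]
  obtain ⟨g', hg'⟩ := spMk_exists g.toLinearMap (fun u v => hg u v)
  refine ⟨g', fun i => ?_⟩
  rw [hg', LinearEquiv.coe_coe, ← hbb, hga, hφb]

theorem card_sp_frame [Fintype F] : ∀ (k n : ℕ), ∃ e : ℕ, 2 * e = k * (k + 1) + 4 * k * n ∧
    Nat.card (symplecticGroup (Fin (n + k)) F) =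
      Fintype.card F ^ e * Nat.card (symplecticGroup (Fin n) F) * Nat.card (IsoFrame F (sympForm (n + k) F) k)
  | 0, n => ⟨0, by ring, by rw [Nat.add_zero, card_isoFrame_zero, pow_zero, one_mul, mul_one]⟩
  | k + 1, n => by
    obtain ⟨e, he, hc⟩ := card_sp_frame k n
    refine ⟨e + (2 * n + k + 1), by linarith, ?_⟩
    show Nat.card (symplecticGroup (Fin (n + k + 1)) F) = _ * _ * Nat.card (IsoFrame F (sympForm (n + k + 1) F) (k + 1))
    have hsucc : Nat.card (symplecticGroup (Fin (n + k + 1)) F) =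
        Fintype.card F ^ (2 * (n + k) + 1) * (Fintype.card F ^ (2 * (n + k + 1)) - 1) *
          Nat.card (symplecticGroup (Fin (n + k)) F) := by
      rw [card_sp, card_sp, Finset.prod_range_succ, show (n + k + 1) ^ 2 = 2 * (n + k) + 1 + (n + k) ^ 2 by ring,
        pow_add]
      ring
    rw [hsucc, hc, card_spFrame_succ, show 2 * (n + k) + 1 = (2 * n + k + 1) + k by ring, pow_add, pow_add]
    ring

theorem card_sp_setwise [Fintype F] {m k : ℕ} (hk : k ≤ m) (f₀ : IsoFrame F (sympForm m F) k)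
    (S : Subgroup (symplecticGroup (Fin m) F)) (Y : Set (IsoFrame F (sympForm m F) k))
    (hS : ∀ g, g ∈ S ↔ ∀ f : IsoFrame F (sympForm m F) k, (∀ i, f.1 i = g.1 *ᵥ f₀.1 i) → f ∈ Y) :
    ∃ e : ℕ, 2 * e = k * (k + 1) + 4 * k * (m - k) ∧
      Nat.card S = Fintype.card F ^ e * Nat.card (symplecticGroup (Fin (m - k)) F) * Nat.card Y := by
  classical
  obtain ⟨n, rfl⟩ := Nat.exists_eq_add_of_le' hk
  rw [Nat.add_sub_cancel]
  obtain ⟨e, he, hc⟩ := card_sp_frame (F := F) k n
  refine ⟨e, he, ?_⟩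
  let a : symplecticGroup (Fin (n + k)) F → IsoFrame F (sympForm (n + k) F) k := fun g =>
    ⟨fun i => g.1 *ᵥ f₀.1 i, f₀.2.1.map' g.1.mulVecLin (LinearMap.ker_eq_bot.2 (sp_mulVec_injective g)),
      fun i j => (sp_form g _ _).trans (f₀.2.2 i j)⟩
  let P : Subgroup (symplecticGroup (Fin (n + k)) F) :=
    { carrier := {g | ∀ i, g.1 *ᵥ f₀.1 i = f₀.1 i}
      one_mem' := fun i => one_mulVec _
      mul_mem' := fun {x y} hx hy i => by rw [Submonoid.coe_mul, ← mulVec_mulVec, hy i, hx i]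
      inv_mem' := fun {x} hx i => by conv_lhs => rw [← hx i, sp_inv_mulVec] }
  have hP : ∀ g h, a g = a h ↔ g⁻¹ * h ∈ P := fun g h => by
    constructor
    · intro e i
      have he' : g.1 *ᵥ f₀.1 i = h.1 *ᵥ f₀.1 i := congrFun (congrArg Subtype.val e) i
      rw [Submonoid.coe_mul, ← mulVec_mulVec, ← he']
      exact sp_inv_mulVec g _
    · intro e
      refine Subtype.ext (funext fun i => ?_)
      show g.1 *ᵥ f₀.1 i = h.1 *ᵥ f₀.1 i
      conv_lhs => rw [← e i, Submonoid.coe_mul, ← mulVec_mulVec, sp_mulVec_inv]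
  have hsurj : Function.Surjective a := fun f => by
    obtain ⟨g, hg⟩ := exists_spFrame_map f₀ f
    exact ⟨g, Subtype.ext (funext hg)⟩
  have h := card_mul_card_of_orbit a P hP hsurj S Y fun g =>
    (hS g).trans ⟨fun h => h (a g) fun i => rfl, fun h f hf => (Subtype.ext (funext hf) : f = a g) ▸ h⟩
  haveI : Finite (IsoFrame F (sympForm (n + k) F) k) := inferInstance
  haveI : Nonempty (IsoFrame F (sympForm (n + k) F) k) := ⟨f₀⟩
  refine Nat.eq_of_mul_eq_mul_right (Nat.card_pos (α := IsoFrame F (sympForm (n + k) F) k)) ?_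
  rw [h, hc]
  ring

theorem card_sp_parabolic [Fintype F] {q : ℕ} (hF : Fintype.card F = q) (m k : ℕ) (hk : k ≤ m)
    (W : Submodule F (Fin m ⊕ Fin m → F)) (hWk : Module.finrank F W = k)
    (hW : ∀ u ∈ W, ∀ v ∈ W, sympForm m F u v = 0) :
    Nat.card ↥(stabilizing (spToMat m F) (W : Set (Fin m ⊕ Fin m → F))) =
      q ^ (k * (k + 1) / 2 + 2 * k * (m - k)) * (q ^ ((m - k) ^ 2) * ∏ i ∈ Finset.range (m - k),
        (q ^ (2 * (i + 1)) - 1)) * ∏ i : Fin k, (q ^ k - q ^ (i : ℕ)) := by
  classical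
  let b := Module.finBasisOfFinrankEq F W hWk
  let f₀ : IsoFrame F (sympForm m F) k :=
    ⟨fun i => (b i : Fin m ⊕ Fin m → F), b.linearIndependent.map' W.subtype W.ker_subtype,
      fun i j => hW _ (b i).2 _ (b j).2⟩
  obtain ⟨e, he, h⟩ := card_sp_setwise hk f₀ (stabilizing (spToMat m F) (W : Set (Fin m ⊕ Fin m → F)))
    {f | ∀ i, f.1 i ∈ W} (fun g => ⟨fun hg f hf i => by
      rw [hf]; exact (hg _).1 (b i).2, fun hg => by
      have h1 : ∀ i, g.1 *ᵥ (b i : Fin m ⊕ Fin m → F) ∈ W := hg ⟨fun i => g.1 *ᵥ f₀.1 i,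
        f₀.2.1.map' g.1.mulVecLin (LinearMap.ker_eq_bot.2 (sp_mulVec_injective g)),
        fun i j => (sp_form g _ _).trans (f₀.2.2 i j)⟩ fun i => rfl
      let L : W →ₗ[F] W := b.constr F fun i => ⟨_, h1 i⟩
      have hL : ∀ x : W, (L x : Fin m ⊕ Fin m → F) = g.1 *ᵥ x.1 := fun x =>
        LinearMap.congr_fun (b.ext (f₁ := W.subtype ∘ₗ L) (f₂ := g.1.mulVecLin ∘ₗ W.subtype) fun i => by simp [L]) x
      have hLs : Function.Surjective L := LinearMap.surjective_of_injective fun x y e =>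
        Subtype.ext (sp_mulVec_injective g (by
          show g.1 *ᵥ x.1 = g.1 *ᵥ y.1
          rw [← hL, ← hL, e]))
      intro v
      refine ⟨fun hv => (hL ⟨v, hv⟩) ▸ (L ⟨v, hv⟩).2, fun hv => ?_⟩
      obtain ⟨x, hx⟩ := hLs ⟨_, hv⟩
      have : g.1 *ᵥ x.1 = g.1 *ᵥ v := (hL x).symm.trans (congrArg Subtype.val hx)
      exact sp_mulVec_injective g this ▸ x.2⟩)
  have he2 : 2 * (k * (k + 1) / 2) = k * (k + 1) := Nat.mul_div_cancel' (Nat.even_mul_succ_self k).two_dvd
  have hexp : e = k * (k + 1) / 2 + 2 * k * (m - k) := by linarith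
  rw [h, card_frames_in _ hW hWk, card_sp, hexp, hF]

theorem card_sp_borel [Fintype F] {q : ℕ} (hF : Fintype.card F = q) (m : ℕ) :
    Nat.card ↥(⨅ k : Fin m, stabilizing (spToMat m F) {v : Fin m ⊕ Fin m → F |
      (∀ i : Fin m, (k : ℕ) < (i : ℕ) → v (Sum.inl i) = 0) ∧ ∀ i : Fin m, v (Sum.inr i) = 0}) =
      q ^ (m ^ 2) * (q - 1) ^ m := by
  classical
  let U : Fin m → Submodule F (Fin m ⊕ Fin m → F) := fun k =>
    { carrier := {v | (∀ i : Fin m, (k : ℕ) < (i : ℕ) → v (Sum.inl i) = 0) ∧ ∀ i : Fin m, v (Sum.inr i) = 0}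
      zero_mem' := by simp
      add_mem' := fun {x y} hx hy => ⟨fun i hi => by simp [hx.1 i hi, hy.1 i hi], fun i => by simp [hx.2 i, hy.2 i]⟩
      smul_mem' := fun c x hx => ⟨fun i hi => by simp [hx.1 i hi], fun i => by simp [hx.2 i]⟩ }
  have hiso : ∀ x y : Fin m ⊕ Fin m → F, (∀ i, x (Sum.inr i) = 0) → (∀ i, y (Sum.inr i) = 0) →
      sympForm m F x y = 0 := fun x y hx hy => by simp [sympForm_eq, hx, hy]
  have hE : ∀ i j : Fin m, i ≤ j → (Pi.single (Sum.inl i) 1 : Fin m ⊕ Fin m → F) ∈ U j := fun i j hij =>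
    ⟨fun l hl => by
      have : l ≠ i := fun e => absurd (e ▸ hl) (not_lt.2 (Fin.le_def.1 hij))
      simp [this], fun l => by simp⟩
  let f₀ : IsoFrame F (sympForm m F) m :=
    ⟨fun i => Pi.single (Sum.inl i) 1, (Pi.linearIndependent_single_one (Fin m ⊕ Fin m) F).comp _ Sum.inl_injective,
      fun i j => hiso _ _ (fun l => by simp) (fun l => by simp)⟩
  obtain ⟨e, he, h⟩ := card_sp_setwise le_rfl f₀ (⨅ k : Fin m, stabilizing (spToMat m F) (U k : Set (Fin m ⊕ Fin m → F)))
    {f | ∀ i, f.1 i ∈ U i} (fun g => by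
    constructor
    · intro hg f hf i
      rw [hf]
      exact (Subgroup.mem_iInf.1 hg i _).1 (hE i i le_rfl)
    · intro hg
      have h1 : ∀ i, g.1 *ᵥ f₀.1 i ∈ U i := hg ⟨fun i => g.1 *ᵥ f₀.1 i,
        f₀.2.1.map' g.1.mulVecLin (LinearMap.ker_eq_bot.2 (sp_mulVec_injective g)),
        fun i j => (sp_form g _ _).trans (f₀.2.2 i j)⟩ fun i => rfl
      refine Subgroup.mem_iInf.2 fun k => ?_
      have hmem : ∀ x ∈ U k, g.1 *ᵥ x ∈ U k := fun x hx => by
        rw [show x = ∑ i : Fin m, x (Sum.inl i) • (Pi.single (Sum.inl i) 1 : Fin m ⊕ Fin m → F) by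
          funext l
          rcases l with l | l
          · simp [Finset.sum_apply, Pi.single_apply, Finset.sum_ite_eq]
          · simp [Finset.sum_apply, hx.2 l], ← mulVecLin_apply, map_sum]
        refine Submodule.sum_mem _ fun i _ => ?_
        rw [map_smul, mulVecLin_apply]
        by_cases hik : i ≤ k
        · exact Submodule.smul_mem _ _ ⟨fun l hl => (h1 i).1 l (lt_of_le_of_lt (Fin.le_def.1 hik) hl), (h1 i).2⟩
        · rw [hx.1 i (not_le.1 hik), zero_smul]
          exact zero_mem _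
      let L : U k →ₗ[F] U k :=
        LinearMap.codRestrict (U k) (g.1.mulVecLin ∘ₗ (U k).subtype) fun x => hmem x.1 x.2
      have hLs : Function.Surjective L := LinearMap.surjective_of_injective fun x y e =>
        Subtype.ext (sp_mulVec_injective g (congrArg Subtype.val e))
      intro v
      refine ⟨hmem v, fun hv => ?_⟩
      obtain ⟨x, hx⟩ := hLs ⟨_, hv⟩
      exact sp_mulVec_injective g (congrArg Subtype.val hx) ▸ x.2)
  have hY : Nat.card {f : IsoFrame F (sympForm m F) m | ∀ i, f.1 i ∈ U i} =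
      ∏ i : Fin m, (q ^ (i : ℕ) * (q - 1)) := by
    let ext : (Fin m → F) →ₗ[F] (Fin m ⊕ Fin m → F) :=
      { toFun := fun c => Sum.elim c 0
        map_add' := fun c d => by funext l; rcases l with l | l <;> simp
        map_smul' := fun t c => by funext l; rcases l with l | l <;> simp }
    have hext : Function.Injective ext := fun c d h => funext fun l => congrFun h (Sum.inl l)
    have hLI : ∀ v : Fin m → (Fin m ⊕ Fin m → F), (∀ i, v i ∈ U i) →
        (LinearIndependent F v ↔ ∀ i, v i (Sum.inl i) ≠ 0) := fun v hv => by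
      let M : Matrix (Fin m) (Fin m) F := Matrix.of fun i j => v i (Sum.inl j)
      have hvM : v = ext ∘ M.row := funext fun i => funext fun l => by
        rcases l with l | l
        · rfl
        · exact (hv i).2 l
      have hd : M.det = ∏ i, v i (Sum.inl i) := Matrix.det_of_lowerTriangular M fun i j hij =>
        (hv i).1 j (Fin.lt_def.1 (OrderDual.toDual_lt_toDual.1 hij))
      rw [hvM, ext.linearIndependent_iff (LinearMap.ker_eq_bot.2 hext), Matrix.linearIndependent_rows_iff_isUnit,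
        Matrix.isUnit_iff_isUnit_det, hd, isUnit_iff_ne_zero, Finset.prod_ne_zero_iff, ← hvM]
      simp
    have e1 : {f : IsoFrame F (sympForm m F) m | ∀ i, f.1 i ∈ U i} ≃
        ((i : Fin m) → (({j : Fin m // j < i} → F) × {x : F // x ≠ 0})) :=
      { toFun := fun f i => (fun j => f.1.1 i (Sum.inl j.1), ⟨f.1.1 i (Sum.inl i), (hLI _ f.2).1 f.1.2.1 i⟩)
        invFun := fun c =>
          have hmem : ∀ i, (Sum.elim (fun j => if hj : j < i then (c i).1 ⟨j, hj⟩ else if j = i then (c i).2.1 else 0)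
              0 : Fin m ⊕ Fin m → F) ∈ U i := fun i => ⟨fun l hl => by
            have h1 : ¬ l < i := not_lt.2 (Fin.le_def.2 hl.le)
            have h2 : l ≠ i := fun e => by rw [e] at hl; exact lt_irrefl _ hl
            simp [h1, h2], fun l => rfl⟩
          ⟨⟨fun i => Sum.elim (fun j => if hj : j < i then (c i).1 ⟨j, hj⟩ else if j = i then (c i).2.1 else 0) 0,
            (hLI _ hmem).2 (fun i => by simp [(c i).2.2]),
            fun i j => hiso _ _ (hmem i).2 (hmem j).2⟩, hmem⟩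
        left_inv := fun f => by
          refine Subtype.ext (Subtype.ext (funext fun i => funext fun l => ?_))
          rcases l with l | l
          · show (if hl : l < i then f.1.1 i (Sum.inl l) else if l = i then f.1.1 i (Sum.inl i) else 0) = _
            split_ifs with h1 h2
            · rfl
            · rw [h2]
            · exact ((f.2 i).1 l (Fin.lt_def.1 (lt_of_le_of_ne (not_lt.1 h1) (Ne.symm h2)))).symm
          · exact ((f.2 i).2 l).symm
        right_inv := fun c => by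
          funext i
          refine Prod.ext (funext fun j => ?_) (Subtype.ext ?_)
          · simp [j.2]
          · simp }
    rw [Nat.card_congr e1, Nat.card_pi]
    refine Finset.prod_congr rfl fun i _ => ?_
    rw [Nat.card_prod, Nat.card_fun, Nat.card_eq_fintype_card (α := F), hF,
      Nat.card_eq_fintype_card (α := {j : Fin m // j < i}), Fintype.card_subtype,
      Finset.filter_gt_eq_Iio, Fin.card_Iio, Nat.card_eq_fintype_card, Fintype.card_subtype_compl,
      Fintype.card_subtype_eq, hF]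
  have hexp : e + ∑ i : Fin m, (i : ℕ) = m ^ 2 := by
    have h2 := Finset.sum_range_id_mul_two m
    rw [Finset.sum_range] at h2
    rw [Nat.sub_self, Nat.mul_zero, add_zero] at he
    rcases m with _ | m <;> simp at h2 ⊢ <;> nlinarith
  rw [show (⨅ k : Fin m, stabilizing (spToMat m F) {v : Fin m ⊕ Fin m → F |
      (∀ i : Fin m, (k : ℕ) < (i : ℕ) → v (Sum.inl i) = 0) ∧ ∀ i : Fin m, v (Sum.inr i) = 0}) =
    ⨅ k : Fin m, stabilizing (spToMat m F) (U k : Set (Fin m ⊕ Fin m → F)) from rfl, h, hY, hF, Nat.sub_self, card_sp,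
    Finset.prod_mul_distrib, Finset.prod_const, Finset.card_univ, Fintype.card_fin, Finset.prod_pow_eq_pow_sum,
    ← hexp, pow_add]
  simp
  ring

end CfsgLib.Classical
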