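/-
A faithful representation of `Sp_{2n}` over a finite field has degree at least `2n` in every characteristic.
-/
import Mathlib

set_option autoImplicit false

namespace CfsgLib.Classical.SpDegree

open Matrix

variable {F : Type*} [Field F] {n : ℕ}

/-- The block embedding of `SL₂^n` into `Sp_{2n}`. -/
def blockHom : (Fin n → SpecialLinearGroup (Fin 2) F) →* Matrix.symplecticGroup (Fin n) F where
  toFun f :=
    ⟨fromBlocks (diagonal fun i => f i 0 0) (diagonal fun i => f i 0 1) (diagonal fun i => f i 1 0)
      (diagonal fun i => f i 1 1), by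
      rw [SymplecticGroup.mem_iff]
      have hd : ∀ i, f i 0 0 * f i 1 1 - f i 0 1 * f i 1 0 = 1 := fun i => by
        have := (f i).2
        rwa [Matrix.det_fin_two] at this
      rw [J, fromBlocks_transpose, fromBlocks_multiply, fromBlocks_multiply]
      congr 1 <;> simp [diagonal_mul_diagonal, ← diagonal_add, ← diagonal_neg] <;>
        (ext i j; by_cases h : i = j <;> simp [h, Matrix.one_apply]) <;>
        first | (linear_combination hd j) | (linear_combination -(hd j)) | ring⟩
  map_one' := by
    apply Subtype.ext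
    show fromBlocks _ _ _ _ = (1 : Matrix (Fin n ⊕ Fin n) (Fin n ⊕ Fin n) F)
    simp [← fromBlocks_one]
  map_mul' f g := by
    apply Subtype.ext
    show fromBlocks _ _ _ _ = fromBlocks _ _ _ _ * fromBlocks _ _ _ _
    rw [fromBlocks_multiply]
    congr 1 <;> simp [diagonal_mul_diagonal, diagonal_add, Matrix.mul_apply, Fin.sum_univ_two]

/-- A permutation of the blocks. -/
def permElem (π : Equiv.Perm (Fin n)) : Matrix.symplecticGroup (Fin n) F :=
  ⟨fromBlocks (π.toPEquiv.toMatrix) 0 0 (π.toPEquiv.toMatrix), by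
    rw [SymplecticGroup.mem_iff, J, fromBlocks_transpose, fromBlocks_multiply, fromBlocks_multiply]
    have e : (π.toPEquiv.toMatrix : Matrix (Fin n) (Fin n) F) * (π.toPEquiv.toMatrix : Matrix (Fin n) (Fin n) F)ᵀ
        = 1 := by
      rw [← PEquiv.toMatrix_symm, ← PEquiv.toMatrix_trans, PEquiv.self_trans_symm]
      ext i j
      simp [PEquiv.toMatrix_apply, PEquiv.ofSet, Matrix.one_apply, Equiv.toPEquiv]
    congr 1 <;> simp only [Matrix.mul_zero, Matrix.zero_mul, Matrix.transpose_zero, add_zero, zero_add, Matrix.mul_neg,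
      Matrix.neg_mul, Matrix.mul_one, e, neg_zero]⟩

theorem permElem_mul (π : Equiv.Perm (Fin n)) (f : Fin n → SpecialLinearGroup (Fin 2) F) :
    permElem π * blockHom f = blockHom (f ∘ π) * permElem π := by
  apply Subtype.ext
  show fromBlocks _ _ _ _ * fromBlocks _ _ _ _ = fromBlocks _ _ _ _ * fromBlocks _ _ _ _
  rw [fromBlocks_multiply, fromBlocks_multiply]
  congr 1 <;> simp <;> ext i j <;>
    simp [Matrix.mul_diagonal, Matrix.diagonal_mul, PEquiv.toMatrix_apply] <;>
    split_ifs with h <;> first | (subst h; simp) | simp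

theorem blockHom_injective : Function.Injective (blockHom (F := F) (n := n)) := by
  intro f g h
  have h' := congrArg Subtype.val h
  funext i
  apply Subtype.ext
  ext a b
  fin_cases a <;> fin_cases b
  · simpa [blockHom] using congrFun (congrFun h' (Sum.inl i)) (Sum.inl i)
  · simpa [blockHom] using congrFun (congrFun h' (Sum.inl i)) (Sum.inr i)
  · simpa [blockHom] using congrFun (congrFun h' (Sum.inr i)) (Sum.inl i)
  · simpa [blockHom] using congrFun (congrFun h' (Sum.inr i)) (Sum.inr i)

/-- The inverted element, with its defining relation in any faithful image. -/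
theorem exists_inverted_rel [Fintype F] {M : Type*} [Ring M] {φ : SpecialLinearGroup (Fin 2) F →* M}
    (hφ : Function.Injective φ) :
    ∃ (t s : SpecialLinearGroup (Fin 2) F) (c : ℤ), s * t = t⁻¹ * s ∧ (c : F) * c ≠ 4 ∧
      ∃ B : M, B ≠ 0 ∧ (φ t * φ t - c • φ t + 1) * B = 0 := by
  by_cases h3 : (3 : F) = 0
  · obtain ⟨a, b, hab⟩ : ∃ a b : F, a * a + b * b = -1 := by
      have hodd : Fintype.card F % 2 = 1 := by
        apply FiniteField.odd_card_of_char_ne_two
        intro h2
        have : CharP F 2 := h2 ▸ ringChar.charP F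
        exact one_ne_zero (α := F) (by linear_combination h3 - CharTwo.two_eq_zero (R := F))
      obtain ⟨a, b, h⟩ := FiniteField.exists_root_sum_quadratic
        (f := (Polynomial.X ^ 2 + Polynomial.C 1 : Polynomial F)) (g := (Polynomial.X ^ 2 : Polynomial F))
        (by rw [Polynomial.degree_X_pow_add_C (by norm_num)]; rfl) (by simp) hodd
      exact ⟨a, b, by simp at h; linear_combination h⟩
    obtain ⟨t, ht⟩ : ∃ t : SpecialLinearGroup (Fin 2) F, (t : Matrix (Fin 2) (Fin 2) F) = !![0, -1; 1, 0] :=
      ⟨⟨!![0, -1; 1, 0], by simp [Matrix.det_fin_two_of]⟩, rfl⟩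
    have h4 : t * t * t * t = 1 := by
      apply Subtype.ext
      rw [Matrix.SpecialLinearGroup.coe_one]
      simp [Matrix.SpecialLinearGroup.coe_mul, ht, Matrix.mul_fin_two, ← Matrix.one_fin_two]
    obtain ⟨s, hs⟩ : ∃ s : SpecialLinearGroup (Fin 2) F, (s : Matrix (Fin 2) (Fin 2) F) = !![a, b; b, -a] :=
      ⟨⟨!![a, b; b, -a], by rw [Matrix.det_fin_two_of]; linear_combination -hab⟩, rfl⟩
    refine ⟨t, s, 0, ?_, ?_,
      φ t * φ t - 1, ?_, ?_⟩
    · apply Subtype.ext
      rw [Matrix.SpecialLinearGroup.coe_mul, Matrix.SpecialLinearGroup.coe_mul, Matrix.SpecialLinearGroup.coe_inv, ht, hs]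
      simp [Matrix.adjugate_fin_two, Matrix.mul_fin_two]
    · intro h
      apply one_ne_zero (α := F)
      simp at h
      linear_combination -h3 - h
    · intro h
      rw [sub_eq_zero, ← map_mul, ← map_one φ] at h
      have := congrArg (fun g : SpecialLinearGroup (Fin 2) F => g.1 0 0) (hφ h)
      simp [Matrix.SpecialLinearGroup.coe_mul, ht, Matrix.mul_fin_two] at this
      exact one_ne_zero (α := F) (by linear_combination h3 + this)
    · rw [zero_smul, sub_zero]
      calc (φ t * φ t + 1) * (φ t * φ t - 1) = φ t * φ t * φ t * φ t - 1 := by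
            noncomm_ring
        _ = 0 := by rw [← map_mul, ← map_mul, ← map_mul, h4, map_one, sub_self]
  · obtain ⟨a, b, hab⟩ : ∃ a b : F, a * a + a * b + b * b = -1 := by
      by_cases h2 : (2 : F) = 0
      · exact ⟨1, 0, by linear_combination h2⟩
      · have hodd : Fintype.card F % 2 = 1 := by
          apply FiniteField.odd_card_of_char_ne_two
          intro hr
          have : CharP F 2 := hr ▸ ringChar.charP F
          exact h2 CharTwo.two_eq_zero
        obtain ⟨x, y, h⟩ := FiniteField.exists_root_sum_quadratic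
          (f := (Polynomial.X ^ 2 + Polynomial.C 4 : Polynomial F)) (g := (Polynomial.C 3 * Polynomial.X ^ 2 : Polynomial F))
          (by rw [Polynomial.degree_X_pow_add_C (by norm_num)]; rfl)
          (by rw [Polynomial.degree_C_mul_X_pow 2 h3]; rfl) hodd
        refine ⟨(x - y) / 2, y, ?_⟩
        simp at h
        field_simp
        linear_combination h
    obtain ⟨t, ht⟩ : ∃ t : SpecialLinearGroup (Fin 2) F, (t : Matrix (Fin 2) (Fin 2) F) = !![0, -1; 1, -1] :=
      ⟨⟨!![0, -1; 1, -1], by simp [Matrix.det_fin_two_of]⟩, rfl⟩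
    have h4 : t * t * t = 1 := by
      apply Subtype.ext
      rw [Matrix.SpecialLinearGroup.coe_one]
      simp [Matrix.SpecialLinearGroup.coe_mul, ht, Matrix.mul_fin_two, ← Matrix.one_fin_two]
    obtain ⟨s, hs⟩ : ∃ s : SpecialLinearGroup (Fin 2) F, (s : Matrix (Fin 2) (Fin 2) F) = !![a, b; a + b, -a] :=
      ⟨⟨!![a, b; a + b, -a], by rw [Matrix.det_fin_two_of]; linear_combination -hab⟩, rfl⟩
    refine ⟨t, s, -1, ?_, ?_,
      φ t - 1, ?_, ?_⟩
    · apply Subtype.ext
      rw [Matrix.SpecialLinearGroup.coe_mul, Matrix.SpecialLinearGroup.coe_mul, Matrix.SpecialLinearGroup.coe_inv, ht, hs]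
      simp [Matrix.adjugate_fin_two, Matrix.mul_fin_two]
      ring_nf
      try simp
    · intro h
      apply h3
      simp at h
      linear_combination -h
    · intro h
      rw [sub_eq_zero, ← map_one φ] at h
      have := congrArg (fun g : SpecialLinearGroup (Fin 2) F => g.1 0 0) (hφ h)
      simp [ht] at this
    · calc (φ t * φ t - (-1 : ℤ) • φ t + 1) * (φ t - 1) = φ t * φ t * φ t - 1 := by
            noncomm_ring
        _ = 0 := by rw [← map_mul, ← map_mul, h4, map_one, sub_self]

/-- Vectors with distinct joint eigenvalues are linearly independent. -/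
theorem weights_card_le {K V ι : Type*} [Field K] [AddCommGroup V] [Module K V] [FiniteDimensional K V]
    (T : ι → Module.End K V) (S : Finset (ι → K))
    (hS : ∀ w ∈ S, ∃ v : V, v ≠ 0 ∧ ∀ i, T i v = w i • v) : S.card ≤ Module.finrank K V := by
  classical
  choose! v hv0 hv using hS
  have key : ∀ A : Finset (ι → K), A ⊆ S → ∀ c : (ι → K) → K, ∑ w ∈ A, c w • v w = 0 → ∀ w ∈ A, c w = 0 := by
    intro A
    induction A using Finset.induction with
    | empty => intro _ c _ w hw; simp at hw
    | @insert a B haB ih =>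
      intro hsub c hc
      have hBS : B ⊆ S := (Finset.subset_insert a B).trans hsub
      have haS : a ∈ S := hsub (Finset.mem_insert_self a B)
      rw [Finset.sum_insert haB] at hc
      have hB : ∀ w ∈ B, c w = 0 := by
        intro w hw
        by_contra hcw
        have hwa : w = a := by
          funext i
          have h1 : ∑ u ∈ B, (c u * (u i - a i)) • v u = 0 := by
            have := congrArg (fun x => T i x - a i • x) hc
            simp only [map_add, map_smul, map_sum, hv a haS, smul_add, Finset.smul_sum, map_zero,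
              smul_zero, sub_zero] at this
            rw [Finset.sum_congr rfl (fun u hu => by rw [hv u (hBS hu)])] at this
            rw [← this, add_sub_add_comm, smul_comm (c a), sub_self, zero_add, ← Finset.sum_sub_distrib]
            refine Finset.sum_congr rfl fun u _ => ?_
            module
          have := ih hBS (fun u => c u * (u i - a i)) h1 w hw
          simpa [hcw, sub_eq_zero] using this
        exact haB (hwa ▸ hw)
      have ha : c a = 0 := by
        rw [Finset.sum_eq_zero (fun w hw => by rw [hB w hw, zero_smul]), add_zero] at hc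
        exact (smul_eq_zero.1 hc).resolve_right (hv0 a haS)
      intro w hw
      rcases Finset.mem_insert.1 hw with rfl | hw
      · exact ha
      · exact hB w hw
  have hli : LinearIndependent K (fun w : S => v w.1) := by
    rw [Fintype.linearIndependent_iff]
    intro c hc w
    let c' : (ι → K) → K := fun u => if h : u ∈ S then c ⟨u, h⟩ else 0
    have h1 : ∑ u ∈ S, c' u • v u = 0 := by
      rw [← Finset.sum_coe_sort, ← hc]
      exact Finset.sum_congr rfl fun u _ => by simp [c', u.2]
    have := key S subset_rfl c' h1 w.1 w.2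
    simpa [c', w.2] using this
  simpa using hli.fintype_card_le_finrank

/-- A joint eigenvector of commuting endomorphisms with prescribed first eigenvalue. -/
theorem exists_joint_eigen {K V ι : Type*} [Field K] [IsAlgClosed K] [AddCommGroup V] [Module K V]
    [FiniteDimensional K V] [Fintype ι] (T : ι → Module.End K V) (hcomm : ∀ i j, Commute (T i) (T j))
    (j : ι) (z : K) (hz : ∃ v, v ≠ 0 ∧ T j v = z • v) :
    ∃ (w : ι → K) (v : V), v ≠ 0 ∧ w j = z ∧ ∀ i, T i v = w i • v := by
  classical
  suffices h : ∀ A : Finset ι, ∃ (w : ι → K) (W : Submodule K V), W ≠ ⊥ ∧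
      (∀ i, ∀ v ∈ W, T i v ∈ W) ∧ (∀ v ∈ W, T j v = z • v) ∧ ∀ i ∈ A, ∀ v ∈ W, T i v = w i • v by
    obtain ⟨w, W, hW, -, hj, hA⟩ := h Finset.univ
    obtain ⟨v, hv, hv0⟩ := Submodule.exists_mem_ne_zero_of_ne_bot hW
    refine ⟨Function.update w j z, v, hv0, Function.update_self .., fun i => ?_⟩
    by_cases hi : i = j
    · subst hi; simpa using hj v hv
    · rw [Function.update_of_ne hi]; exact hA i (Finset.mem_univ i) v hv
  intro A
  induction A using Finset.induction with
  | empty =>
    refine ⟨fun _ => 0, (T j).eigenspace z, ?_, ?_, ?_, by simp⟩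
    · obtain ⟨v, hv0, hv⟩ := hz
      exact fun h => hv0 ((Submodule.eq_bot_iff _).1 h v (Module.End.mem_eigenspace_iff.2 hv))
    · intro i v hv
      rw [Module.End.mem_eigenspace_iff] at hv ⊢
      have := LinearMap.congr_fun (hcomm j i).eq v
      simp only [Module.End.mul_apply] at this
      rw [this, hv, map_smul]
    · intro v hv; exact Module.End.mem_eigenspace_iff.1 hv
  | @insert a B haB ih =>
    obtain ⟨w, W, hW, hinv, hj, hB⟩ := ih
    have : Nontrivial W := Submodule.nontrivial_iff_ne_bot.2 hW
    obtain ⟨μ, hμ⟩ := Module.End.exists_eigenvalue ((T a).restrict (hinv a))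
    obtain ⟨u, hu⟩ := hμ.exists_hasEigenvector
    refine ⟨Function.update w a μ, W ⊓ (T a).eigenspace μ, ?_, ?_, fun v hv => hj v hv.1, ?_⟩
    · intro h
      apply hu.2
      apply Subtype.ext
      refine (Submodule.eq_bot_iff _).1 h (u : V) ⟨u.2, Module.End.mem_eigenspace_iff.2 ?_⟩
      exact congrArg Subtype.val hu.apply_eq_smul
    · intro i v hv
      refine ⟨hinv i v hv.1, Module.End.mem_eigenspace_iff.2 ?_⟩
      have := LinearMap.congr_fun (hcomm a i).eq v
      simp only [Module.End.mul_apply] at this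
      rw [this, Module.End.mem_eigenspace_iff.1 hv.2, map_smul]
    · intro i hi v hv
      rcases Finset.mem_insert.1 hi with rfl | hi
      · simpa using Module.End.mem_eigenspace_iff.1 hv.2
      · rw [Function.update_of_ne (fun h => haB (by rw [← h]; exact hi))]
        exact hB i hi v hv.1

theorem two_mul_le_choose_mul {n k : ℕ} (hk : 1 ≤ k) (hkn : k ≤ n) : 2 * n ≤ n.choose k * 2 ^ k := by
  have h2 : ∀ m : ℕ, 2 * m ≤ 2 ^ m := by
    intro m
    induction m with
    | zero => simp
    | succ m ih =>
      rcases m with _ | m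
      · simp
      · have : 2 ≤ 2 ^ (m + 1) := le_trans (by norm_num) (Nat.pow_le_pow_right (by norm_num) (Nat.succ_pos m))
        rw [pow_succ 2 (m + 1)]; omega
  rcases eq_or_lt_of_le hkn with rfl | hlt
  · simpa using h2 k
  · have hch : ∀ m j : ℕ, 1 ≤ j → j < m → m ≤ m.choose j := by
      intro m
      induction m with
      | zero => intro j _ h; omega
      | succ m ih =>
        intro j hj hjm
        obtain ⟨j, rfl⟩ : ∃ i, j = i + 1 := ⟨j - 1, by omega⟩
        rw [Nat.choose_succ_succ']
        rcases Nat.eq_zero_or_pos j with rfl | hj0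
        · simp <;> omega
        · have := ih j hj0 (by omega)
          have : 0 < m.choose (j + 1) := Nat.choose_pos (by omega)
          omega
    calc 2 * n ≤ 2 ^ k * n := Nat.mul_le_mul_right n (by
            calc 2 = 2 ^ 1 := rfl
              _ ≤ 2 ^ k := Nat.pow_le_pow_right (by norm_num) hk)
      _ ≤ _ := by rw [mul_comm]; exact Nat.mul_le_mul_right _ (hch n k hk hlt)

/-- The degree of a faithful representation. -/
theorem two_mul_le_degree [Fintype F] {d : ℕ}
    (ρ : ↥(Matrix.symplecticGroup (Fin n) F) →* GL (Fin d) F) (hρ : Function.Injective ρ) : 2 * n ≤ d := by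
  classical
  rcases Nat.eq_zero_or_pos n with hn | hn
  · omega
  let K := AlgebraicClosure F
  let φ : F →+* K := algebraMap F K
  let R : ↥(Matrix.symplecticGroup (Fin n) F) →* Module.End K (Fin d → K) :=
    ((Matrix.toLinAlgEquiv' (R := K) (n := Fin d)).toMulEquiv.toMonoidHom.comp
      (φ.mapMatrix.toMonoidHom)).comp ((Units.coeHom _).comp ρ)
  have hR : Function.Injective R := by
    intro a b h
    apply hρ
    apply Units.ext
    apply Matrix.map_injective φ.injective
    exact Matrix.toLinAlgEquiv'.injective h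
  let j0 : Fin n := ⟨0, hn⟩
  let ψ : SpecialLinearGroup (Fin 2) F →* Module.End K (Fin d → K) :=
    R.comp (blockHom.comp (MonoidHom.mulSingle (fun _ : Fin n => SpecialLinearGroup (Fin 2) F) j0))
  have hψ : Function.Injective ψ :=
    fun a b h => Pi.mulSingle_injective j0 (blockHom_injective (hR h))
  obtain ⟨t, s, c, hst, hc, B, hB0, hB⟩ := exists_inverted_rel hψ
  obtain ⟨u, hu0, hu⟩ : ∃ u, u ≠ 0 ∧ (ψ t * ψ t - c • ψ t + 1) u = 0 := by
    obtain ⟨x, hx⟩ : ∃ x, B x ≠ 0 := by
      by_contra h
      push Not at h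
      exact hB0 (LinearMap.ext h)
    exact ⟨B x, hx, LinearMap.congr_fun hB x⟩
  obtain ⟨ζ0, hζ0⟩ := IsAlgClosed.exists_root
    (Polynomial.C (1 : K) * Polynomial.X ^ 2 + Polynomial.C (-(c : K)) * Polynomial.X + Polynomial.C 1)
    (by rw [Polynomial.degree_quadratic one_ne_zero]; decide)
  simp [Polynomial.IsRoot] at hζ0
  have hdisc : ∀ z : K, z * z - (c : K) * z + 1 = 0 → z * z ≠ 1 := by
    intro z hz hz1
    apply hc
    apply φ.injective
    simp only [map_mul, map_intCast, map_ofNat]
    have h2c : (c : K) * z = 2 := by linear_combination -hz + hz1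
    linear_combination ((c : K) * z + 2) * h2c - (c : K) * c * hz1
  obtain ⟨ζ, v0, hv0, hζ, hv0e⟩ : ∃ (ζ : K) (v : Fin d → K), v ≠ 0 ∧ ζ * ζ - (c : K) * ζ + 1 = 0 ∧
      ψ t v = ζ • v := by
    have hcu : ∀ x : Fin d → K, (c • ψ t) x = (c : K) • ψ t x := fun x => by
      rw [LinearMap.smul_apply, ← Int.cast_smul_eq_zsmul K]
    simp only [LinearMap.add_apply, LinearMap.sub_apply, Module.End.mul_apply, Module.End.one_apply, hcu] at hu
    by_cases hw : ψ t u - ζ0 • u = 0
    · exact ⟨ζ0, u, hu0, by linear_combination hζ0, sub_eq_zero.1 hw⟩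
    · refine ⟨(c : K) - ζ0, ψ t u - ζ0 • u, hw, by linear_combination hζ0, ?_⟩
      have hTT : ψ t (ψ t u) = (c : K) • ψ t u - u := by linear_combination (norm := module) hu
      rw [map_sub, map_smul, hTT]
      have h1 : ((c : K) - ζ0) * ζ0 = 1 := by linear_combination -hζ0
      linear_combination (norm := module) congrArg (fun a : K => a • u) h1
  set T : Fin n → Module.End K (Fin d → K) := fun i => R (blockHom (Pi.mulSingle i t)) with hT
  have hcomm : ∀ i j, Commute (T i) (T j) := by
    intro i j
    simp only [hT]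
    refine ((Commute.map ?_ blockHom).map R)
    rcases eq_or_ne i j with rfl | hij
    · exact Commute.refl _
    · exact Pi.mulSingle_commute (f := fun _ : Fin n => SpecialLinearGroup (Fin 2) F) hij t t
  obtain ⟨w, v, hv, hwj, hwv⟩ := exists_joint_eigen T hcomm j0 ζ ⟨v0, hv0, hv0e⟩
  have hζ0' : ζ ≠ 0 := by rintro rfl; simp at hζ
  have hζne : ζ ≠ ζ⁻¹ := fun h => hdisc ζ hζ (by
    calc ζ * ζ = ζ * ζ⁻¹ := by rw [← h]
      _ = 1 := mul_inv_cancel₀ hζ0')
  -- weights are closed under signed permutations
  have hclosed : ∀ (π : Equiv.Perm (Fin n)) (A : Finset (Fin n)),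
      ∃ x : Fin d → K, x ≠ 0 ∧ ∀ i, T i x = (if i ∈ A then (w (π i))⁻¹ else w (π i)) • x := by
    intro π A
    set fA : Fin n → SpecialLinearGroup (Fin 2) F := fun i => if i ∈ A then s else 1
    set g := blockHom fA * permElem π
    refine ⟨R g v, ?_, ?_⟩
    · intro h
      apply hv
      have := congrArg (R g⁻¹) h
      rwa [← Module.End.mul_apply, ← map_mul, inv_mul_cancel, map_one, Module.End.one_apply, map_zero] at this
    intro i
    have hrel : blockHom (Pi.mulSingle i t) * g =
        g * blockHom (Pi.mulSingle (π i) (if i ∈ A then t⁻¹ else t)) := by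
      have e1 : Pi.mulSingle i t * fA = fA * Pi.mulSingle i (if i ∈ A then t⁻¹ else t) := by
        funext k
        simp only [Pi.mul_apply]
        by_cases hk : k = i
        · subst hk
          simp only [Pi.mulSingle_eq_same, fA]
          split_ifs with h
          · calc t * s = t * (s * t) * t⁻¹ := by group
              _ = s * t⁻¹ := by rw [hst]; group
          · simp
        · simp [Pi.mulSingle_eq_of_ne hk]
      have e2 : (Pi.mulSingle (π i) (if i ∈ A then t⁻¹ else t) : Fin n → SpecialLinearGroup (Fin 2) F) ∘ π =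
          Pi.mulSingle i (if i ∈ A then t⁻¹ else t) := by
        funext k
        simp only [Function.comp_apply, Pi.mulSingle_apply, π.injective.eq_iff]
      simp only [g, mul_assoc, permElem_mul, e2]
      rw [← mul_assoc, ← mul_assoc, ← map_mul, ← map_mul, e1]
    have hact : R (blockHom (Pi.mulSingle (π i) (if i ∈ A then t⁻¹ else t))) v =
        (if i ∈ A then (w (π i))⁻¹ else w (π i)) • v := by
      split_ifs with h
      · have hw' := hwv (π i)
        have hinv : R (blockHom (Pi.mulSingle (π i) t⁻¹)) * T (π i) = 1 := by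
          simp only [hT]
          rw [← map_mul, ← map_mul, ← Pi.mulSingle_mul, inv_mul_cancel, Pi.mulSingle_one, map_one, map_one]
        have h' := LinearMap.congr_fun hinv v
        rw [Module.End.mul_apply, hw', map_smul, Module.End.one_apply] at h'
        have hwne : w (π i) ≠ 0 := by
          intro h0
          rw [h0, zero_smul] at h'
          exact hv h'.symm
        calc _ = (w (π i))⁻¹ • (w (π i) • R (blockHom (Pi.mulSingle (π i) t⁻¹)) v) := by
              rw [smul_smul, inv_mul_cancel₀ hwne, one_smul]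
          _ = _ := by rw [h']
      · exact hwv (π i)
    calc T i (R g v) = R (blockHom (Pi.mulSingle i t) * g) v :=
          (LinearMap.congr_fun (map_mul R _ _) v).symm
      _ = _ := by rw [hrel, map_mul, Module.End.mul_apply, hact, map_smul]
  set S : Finset (Fin n) := Finset.univ.filter fun i => w i = ζ ∨ w i = ζ⁻¹ with hS
  let k := S.card
  have hk : 1 ≤ k := Finset.card_pos.2 ⟨j0, by simp [hS, hwj]⟩
  let P : Finset (Σ _ : Finset (Fin n), Finset (Fin n)) :=
    (Finset.univ.powersetCard k).sigma fun U => U.powerset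
  have hP : P.card = n.choose k * 2 ^ k := by
    simp only [P, Finset.card_sigma, Finset.card_powerset]
    rw [Finset.sum_congr rfl (fun U hU => by rw [(Finset.mem_powersetCard.1 hU).2]), Finset.sum_const,
      Finset.card_powersetCard, Finset.card_univ, Fintype.card_fin, smul_eq_mul]
  have hperm : ∀ p ∈ P, ∃ π : Equiv.Perm (Fin n), p.1.map π.toEmbedding = S := by
    intro p hp
    obtain ⟨hp1, -⟩ := Finset.mem_sigma.1 hp
    have hc' : p.1.card = S.card := (Finset.mem_powersetCard.1 hp1).2
    let e := Finset.equivOfCardEq hc'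
    refine ⟨e.extendSubtype, Finset.eq_of_subset_of_card_le ?_ (by rw [Finset.card_map, hc'])⟩
    intro x hx
    obtain ⟨y, hy, rfl⟩ := Finset.mem_map.1 hx
    exact e.extendSubtype_mem y hy
  choose! π hπ using hperm
  let W : (Σ _ : Finset (Fin n), Finset (Fin n)) → Fin n → K := fun p i =>
    if i ∈ p.1 then (if i ∈ p.2 then ζ else ζ⁻¹) else w (π p i)
  have hWmem : ∀ p ∈ P, ∀ i, (W p i = ζ ∨ W p i = ζ⁻¹ ↔ i ∈ p.1) := by
    intro p hp i
    have hiS : π p i ∈ S ↔ i ∈ p.1 := by
      rw [← hπ p hp]; simp
    simp only [W]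
    split_ifs with h1 h2 <;> simp [h1]
    rw [← hiS, hS] at h1
    simpa using h1
  have hinj : Set.InjOn W P := by
    intro p hp q hq hpq
    obtain ⟨hp1, hp2⟩ := Finset.mem_sigma.1 (Finset.mem_coe.1 hp)
    obtain ⟨hq1, hq2⟩ := Finset.mem_sigma.1 (Finset.mem_coe.1 hq)
    have h1 : p.1 = q.1 := by
      ext i
      rw [← hWmem p hp i, ← hWmem q hq i, hpq]
    obtain ⟨U, A⟩ := p
    obtain ⟨U', A'⟩ := q
    simp only at h1
    subst h1
    congr 1
    ext i
    by_cases hi : i ∈ U
    · have := congrFun hpq i
      simp only [W, hi, if_true] at this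
      by_cases hA : i ∈ A <;> by_cases hA' : i ∈ A' <;> simp [hA, hA', hζne, hζne.symm] at this ⊢
    · exact iff_of_false (fun h => hi (Finset.mem_powerset.1 hp2 h)) (fun h => hi (Finset.mem_powerset.1 hq2 h))
  have hle := weights_card_le T (P.image W) (by
    intro x hx
    obtain ⟨p, hp, rfl⟩ := Finset.mem_image.1 hx
    obtain ⟨x, hx0, hx⟩ := hclosed (π p)
      (p.1.filter fun i => (i ∈ p.2 ∧ w (π p i) ≠ ζ) ∨ (i ∉ p.2 ∧ w (π p i) = ζ))
    refine ⟨x, hx0, fun i => (hx i).trans ?_⟩
    congr 1
    have hiS : π p i ∈ S ↔ i ∈ p.1 := by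
      rw [← hπ p hp]; simp
    by_cases hi : i ∈ p.1
    · have hw' : w (π p i) = ζ ∨ w (π p i) = ζ⁻¹ := by
        have := hiS.2 hi
        simpa [hS] using this
      rcases hw' with h | h <;> by_cases hA : i ∈ p.2 <;> simp [W, hi, hA, h, hζne.symm] <;>
        first | exact inv_inv ζ | exact (inv_inv ζ).symm
    · simp [W, hi])
  rw [Finset.card_image_of_injOn hinj, hP, Module.finrank_fin_fun] at hle
  exact (two_mul_le_choose_mul hk (by simpa using S.card_le_univ)).trans hle

end CfsgLib.Classical.SpDegree
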