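/-
Regular unipotent elements of symplectic groups in odd characteristic.
-/
import Cfsg.Agent.Lib.Classical.RegularUnipotentClasses
import Cfsg.Agent.Lib.Classical.AltBasis

set_option autoImplicit false

namespace CfsgLib.Classical.SpRegular

open Polynomial

variable {F : Type*} [Field F] {n : ℕ}

/-- Extension of a finite sequence by zero. -/
def seqExt (c : Fin n → F) (i : ℕ) : F := if h : i < n then c ⟨i, h⟩ else 0

/-- The coefficients of `P(-X) P(X)`. -/
def sgnConv (c : Fin n → F) (l : ℕ) : F :=
  ∑ i ∈ Finset.range (l + 1), (-1) ^ i * seqExt c i * seqExt c (l - i)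

theorem sgnConv_odd (h2 : (2 : F) ≠ 0) (c : Fin n → F) {l : ℕ} (hl : Odd l) : sgnConv c l = 0 := by
  have h : sgnConv c l = - sgnConv c l := by
    conv_lhs => rw [sgnConv, ← Finset.sum_range_reflect]
    rw [sgnConv, ← Finset.sum_neg_distrib]
    refine Finset.sum_congr rfl fun j hj => ?_
    have hj' : j ≤ l := by have := Finset.mem_range.1 hj; omega
    rw [show l + 1 - 1 - j = l - j by omega, Nat.sub_sub_self hj']
    have hs : ((-1 : F)) ^ (l - j) = -(-1) ^ j := by
      have h1 : ((-1 : F)) ^ (l - j) * (-1) ^ j = -1 := by rw [← pow_add, Nat.sub_add_cancel hj', hl.neg_one_pow]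
      have h2' : ((-1 : F)) ^ j * (-1) ^ j = 1 := by rw [← pow_add, ← two_mul, pow_mul]; simp
      calc ((-1 : F)) ^ (l - j) = ((-1 : F)) ^ (l - j) * ((-1) ^ j * (-1) ^ j) := by rw [h2', mul_one]
        _ = _ := by rw [← mul_assoc, h1, neg_one_mul]
    rw [hs]; ring
  have : (2 : F) * sgnConv c l = 0 := by rw [two_mul]; exact eq_neg_iff_add_eq_zero.1 h
  exact (mul_eq_zero.1 this).resolve_left h2

theorem seqExt_snoc_lt (c : Fin n → F) (x : F) {i : ℕ} (hi : i < n) :
    seqExt (Fin.snoc c x : Fin (n + 1) → F) i = seqExt c i := by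
  rw [seqExt, seqExt, dif_pos hi, dif_pos (Nat.lt_succ_of_lt hi)]
  exact Fin.snoc_castSucc (α := fun _ => F) x c ⟨i, hi⟩

theorem seqExt_snoc_last (c : Fin n → F) (x : F) : seqExt (Fin.snoc c x : Fin (n + 1) → F) n = x := by
  rw [seqExt, dif_pos (Nat.lt_succ_self n)]
  exact Fin.snoc_last (α := fun _ => F) x c

theorem sgnConv_snoc_lt (c : Fin n → F) (x : F) {l : ℕ} (hl : l < n) :
    sgnConv (Fin.snoc c x : Fin (n + 1) → F) l = sgnConv c l := by
  refine Finset.sum_congr rfl fun i hi => ?_
  have := Finset.mem_range.1 hi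
  rw [seqExt_snoc_lt c x (by omega), seqExt_snoc_lt c x (by omega)]

variable [Fintype F]

/-- The number of solutions of `P(-X) P(X) = d` modulo `X ^ n`. -/
theorem card_solutions (h2 : (2 : F) ≠ 0) (d : ℕ → F) (hodd : ∀ l, Odd l → d l = 0) {a : F} (ha : a ≠ 0)
    (hd : d 0 = a ^ 2) : ∀ n, 1 ≤ n → Nat.card {c : Fin n → F // ∀ l < n, sgnConv c l = d l} =
      2 * Fintype.card F ^ (n / 2) := by
  classical
  intro n hn
  induction n with
  | zero => omega
  | succ n ih =>
    rcases Nat.eq_zero_or_pos n with rfl | hpos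
    · have e : {c : Fin 1 → F // ∀ l < 1, sgnConv c l = d l} ≃ {x : F // x ∈ ({a, -a} : Finset F)} :=
        (Equiv.funUnique (Fin 1) F).subtypeEquiv fun c => by
          simp only [Nat.lt_one_iff, forall_eq, sgnConv, Finset.range_one, Finset.sum_singleton, zero_add,
            Finset.mem_insert, Finset.mem_singleton, Equiv.funUnique_apply]
          rw [show seqExt c 0 = c default from dif_pos Nat.one_pos, hd, pow_zero, one_mul, ← sq, sq_eq_sq_iff_eq_or_eq_neg]
      rw [Nat.card_congr e, Nat.card_eq_fintype_card, Fintype.card_coe, Finset.card_pair]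
      · simp
      · intro h
        exact ha ((mul_eq_zero.1 (show (2 : F) * a = 0 by rw [two_mul]; exact eq_neg_iff_add_eq_zero.1 h)).resolve_left h2)
    · specialize ih hpos
      let T := {c : Fin n → F // ∀ l < n, sgnConv c l = d l}
      let rest : T → F := fun c => ∑ i ∈ Finset.range (n - 1), (-1) ^ (i + 1) * seqExt c.1 (i + 1) * seqExt c.1 (n - (i + 1))
      have hn' : ∀ (c : T) (x : F), sgnConv (Fin.snoc c.1 x : Fin (n + 1) → F) n =
          rest c + (1 + (-1) ^ n) * seqExt c.1 0 * x := by
        intro c x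
        simp only [sgnConv, rest]
        obtain ⟨k, hk⟩ : ∃ k, n = k + 1 := ⟨n - 1, by omega⟩
        rw [Finset.sum_range_succ, seqExt_snoc_last, Nat.sub_self, seqExt_snoc_lt c.1 x hpos]
        conv_lhs => rw [show Finset.range n = Finset.range (k + 1) by rw [hk]]
        rw [Finset.sum_range_succ', Nat.sub_zero, seqExt_snoc_last, seqExt_snoc_lt c.1 x hpos,
          show n - 1 = k by omega]
        rw [Finset.sum_congr rfl fun i hi => by
          have := Finset.mem_range.1 hi
          rw [seqExt_snoc_lt c.1 x (show i + 1 < n by omega), seqExt_snoc_lt c.1 x (show n - (i + 1) < n by omega)]]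
        ring
      have e : {c : Fin (n + 1) → F // ∀ l < n + 1, sgnConv c l = d l} ≃
          Σ c : T, {x : F // rest c + (1 + (-1) ^ n) * seqExt c.1 0 * x = d n} :=
        { toFun := fun c => ⟨⟨Fin.init c.1, fun l hl => by
              rw [← sgnConv_snoc_lt (Fin.init c.1) (c.1 (Fin.last n)) hl, Fin.snoc_init_self]
              exact c.2 l (Nat.lt_succ_of_lt hl)⟩, c.1 (Fin.last n), by
              rw [← hn', Fin.snoc_init_self]; exact c.2 n (Nat.lt_succ_self n)⟩
          invFun := fun s => ⟨Fin.snoc s.1.1 s.2.1, fun l hl => by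
              rcases Nat.lt_succ_iff_lt_or_eq.1 hl with h | rfl
              · rw [sgnConv_snoc_lt _ _ h]; exact s.1.2 l h
              · rw [hn']; exact s.2.2⟩
          left_inv := fun c => Subtype.ext (Fin.snoc_init_self c.1)
          right_inv := fun s => by
            obtain ⟨⟨c, hc⟩, ⟨x, hx⟩⟩ := s
            exact Sigma.subtype_ext (Subtype.ext (Fin.init_snoc (α := fun _ => F) x c)) (Fin.snoc_last (α := fun _ => F) x c) }
      rw [Nat.card_congr e, Nat.card_sigma]
      rcases Nat.even_or_odd n with hev | ho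
      · have h1 : ∀ c : T, Nat.card {x : F // rest c + (1 + (-1) ^ n) * seqExt c.1 0 * x = d n} = 1 := by
          intro c
          have h0 : seqExt c.1 0 ≠ 0 := by
            intro h0
            have := c.2 0 hpos
            rw [sgnConv, Finset.range_one, Finset.sum_singleton, Nat.sub_zero, h0, mul_zero, hd] at this
            exact pow_ne_zero 2 ha this.symm
          have hk : (1 + (-1 : F) ^ n) * seqExt c.1 0 ≠ 0 := by
            rw [hev.neg_one_pow, one_add_one_eq_two]; exact mul_ne_zero h2 h0
          rw [Nat.card_eq_one_iff_exists]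
          refine ⟨⟨(d n - rest c) / ((1 + (-1) ^ n) * seqExt c.1 0), by rw [mul_div_cancel₀ _ hk]; ring⟩, fun y => Subtype.ext ?_⟩
          rw [eq_div_iff hk]
          linear_combination y.2
        rw [Finset.sum_congr rfl fun c _ => h1 c, Finset.sum_const, Finset.card_univ, smul_eq_mul, mul_one,
          ← Nat.card_eq_fintype_card, ih]
        obtain ⟨j, rfl⟩ := hev
        rw [show (j + j + 1) / 2 = (j + j) / 2 by omega]
      · have h1 : ∀ c : T, Nat.card {x : F // rest c + (1 + (-1) ^ n) * seqExt c.1 0 * x = d n} = Fintype.card F := by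
          intro c
          have hz : (1 + (-1 : F) ^ n) = 0 := by rw [ho.neg_one_pow, add_neg_cancel]
          have hr : rest c = d n := by
            have := sgnConv_odd h2 (Fin.snoc c.1 0 : Fin (n + 1) → F) ho
            rw [hn', mul_zero, add_zero] at this
            rw [this, hodd n ho]
          rw [← Nat.card_eq_fintype_card]
          exact Nat.card_congr (Equiv.subtypeUnivEquiv fun x => by rw [hz, hr]; ring)
        rw [Finset.sum_congr rfl fun c _ => h1 c, Finset.sum_const, Finset.card_univ, smul_eq_mul,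
          ← Nat.card_eq_fintype_card, ih]
        obtain ⟨j, rfl⟩ := ho
        rw [show (2 * j + 1 + 1) / 2 = j + 1 by omega, show (2 * j + 1) / 2 = j by omega, pow_succ, mul_assoc]

/-! ### A skew regular nilpotent endomorphism -/

section Skew

omit [Fintype F]

variable {V : Type*} [AddCommGroup V] [Module F V] (y : Module.End F V)

/-- The polynomial with given coefficients. -/
noncomputable def seqPoly (c : Fin n → F) : F[X] := ∑ i ∈ Finset.range n, C (seqExt c i) * X ^ i

/-- The polynomial with alternating signs. -/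
noncomputable def seqPolyNeg (c : Fin n → F) : F[X] := ∑ i ∈ Finset.range n, C ((-1) ^ i * seqExt c i) * X ^ i

theorem coeff_seqPoly (c : Fin n → F) (l : ℕ) : (seqPoly c).coeff l = seqExt c l := by
  rw [seqPoly, finset_sum_coeff]
  simp only [coeff_C_mul_X_pow, Finset.sum_ite_eq, Finset.mem_range]
  unfold seqExt
  by_cases h : l < n <;> simp [h]

theorem coeff_seqPolyNeg (c : Fin n → F) (l : ℕ) : (seqPolyNeg c).coeff l = (-1) ^ l * seqExt c l := by
  rw [seqPolyNeg, finset_sum_coeff]
  simp only [coeff_C_mul_X_pow, Finset.sum_ite_eq, Finset.mem_range]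
  unfold seqExt
  by_cases h : l < n <;> simp [h]

theorem coeff_seqPolyNeg_mul (c : Fin n → F) (l : ℕ) : (seqPolyNeg c * seqPoly c).coeff l = sgnConv c l := by
  rw [coeff_mul, Finset.Nat.sum_antidiagonal_eq_sum_range_succ
    (fun i j => (seqPolyNeg c).coeff i * (seqPoly c).coeff j)]
  simp only [coeff_seqPoly, coeff_seqPolyNeg]
  rfl

variable {y}

theorem aeval_eq_iff (hy : y ^ n = 0) {e : V} (he : LinearIndependent F fun i : Fin n => (y ^ (i : ℕ)) e) (P Q : F[X]) :
    aeval y P = aeval y Q ↔ ∀ l < n, P.coeff l = Q.coeff l := by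
  obtain ⟨N, hN1, hN2⟩ : ∃ N, n ≤ N ∧ (P - Q).natDegree < N := ⟨n + (P - Q).natDegree + 1, by omega, by omega⟩
  have hsum : aeval y (P - Q) = ∑ l ∈ Finset.range n, (P - Q).coeff l • y ^ l := by
    rw [aeval_eq_sum_range' hN2]
    refine (Finset.sum_subset (Finset.range_subset_range.2 hN1) fun l _ hl => ?_).symm
    obtain ⟨j, rfl⟩ := Nat.exists_eq_add_of_le (not_lt.1 fun h => hl (Finset.mem_range.2 h))
    rw [pow_add, hy, zero_mul, smul_zero]
  rw [← sub_eq_zero, ← map_sub, hsum]
  constructor
  · intro h l hl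
    have h' := congrArg (fun f : Module.End F V => f e) h
    simp only [LinearMap.coe_sum, Finset.sum_apply, LinearMap.smul_apply, LinearMap.zero_apply] at h'
    rw [← Fin.sum_univ_eq_sum_range (fun l => (P - Q).coeff l • (y ^ l) e)] at h'
    have := Fintype.linearIndependent_iff.1 he (fun i : Fin n => (P - Q).coeff i) h' ⟨l, hl⟩
    simpa [sub_eq_zero] using this
  · intro h
    exact Finset.sum_eq_zero fun l hl => by rw [coeff_sub, h l (Finset.mem_range.1 hl), sub_self, zero_smul]

theorem seqPoly_inj (hy : y ^ n = 0) {e : V} (he : LinearIndependent F fun i : Fin n => (y ^ (i : ℕ)) e) :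
    Function.Injective fun c : Fin n → F => aeval y (seqPoly c) := fun c c' h => funext fun i => by
  have := (aeval_eq_iff hy he _ _).1 h i i.2
  rw [coeff_seqPoly, coeff_seqPoly, seqExt, seqExt, dif_pos i.2, dif_pos i.2] at this
  exact this

theorem commutant_eq [FiniteDimensional F V] (hn : Module.finrank F V = n) (hn1 : 1 ≤ n) (hy : y ^ n = 0) {e : V}
    (he : LinearIndependent F fun i : Fin n => (y ^ (i : ℕ)) e) {g : Module.End F V} (hg : g * y = y * g) :
    ∃ c : Fin n → F, g = aeval y (seqPoly c) := by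
  haveI : Nonempty (Fin n) := ⟨⟨0, hn1⟩⟩
  let b := basisOfLinearIndependentOfCardEqFinrank he (by rw [hn, Fintype.card_fin])
  have hb : ∀ i : Fin n, b i = (y ^ (i : ℕ)) e := fun i => by simp [b]
  refine ⟨fun i => b.repr (g e) i, b.ext fun j => ?_⟩
  have hcy : Commute g y := hg
  have hcj : Commute (aeval y (seqPoly fun i => b.repr (g e) i)) (y ^ (j : ℕ)) := by
    have h : Commute (aeval y (seqPoly fun i => b.repr (g e) i)) (aeval y (X ^ (j : ℕ) : F[X])) := (Commute.all _ _).map (aeval y)
    rwa [map_pow, aeval_X] at h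
  rw [hb, ← Module.End.mul_apply, (hcy.pow_right _).eq, ← Module.End.mul_apply, hcj.eq, Module.End.mul_apply,
    Module.End.mul_apply]
  congr 1
  conv_lhs => rw [← b.sum_repr (g e)]
  rw [seqPoly, map_sum, LinearMap.coe_sum, Finset.sum_apply, ← Fin.sum_univ_eq_sum_range
    (fun l => (aeval y (C (seqExt (fun i => b.repr (g e) i) l) * X ^ l)) e)]
  refine Finset.sum_congr rfl fun i _ => ?_
  rw [map_mul, aeval_C, map_pow, aeval_X, Module.End.mul_apply, Module.algebraMap_end_apply, hb, seqExt, dif_pos i.2]

variable (B : LinearMap.BilinForm F V) (hB : ∀ u v, B (y u) v = - B u (y v))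
include hB

theorem skew_pow (i : ℕ) (u v : V) : B ((y ^ i) u) v = (-1) ^ i * B u ((y ^ i) v) := by
  induction i generalizing v with
  | zero => simp
  | succ i ih =>
    rw [show (y ^ (i + 1)) u = y ((y ^ i) u) by rw [pow_succ', Module.End.mul_apply], hB, ih,
      show (y ^ (i + 1)) v = (y ^ i) (y v) by rw [pow_succ, Module.End.mul_apply]]
    ring

theorem adjoint_seqPoly (c : Fin n → F) (u v : V) :
    B (aeval y (seqPoly c) u) v = B u (aeval y (seqPolyNeg c) v) := by
  have hterm : ∀ (k : F) (i : ℕ) (w : V), aeval y (C k * X ^ i : F[X]) w = k • (y ^ i) w := fun k i w => by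
    rw [map_mul, aeval_C, map_pow, aeval_X, Module.End.mul_apply, Module.algebraMap_end_apply]
  simp only [seqPoly, seqPolyNeg, map_sum, LinearMap.coe_sum, Finset.sum_apply, hterm, map_smul,
    LinearMap.smul_apply, skew_pow B hB, smul_eq_mul]
  exact Finset.sum_congr rfl fun i _ => by simp only [seqExt]; ring

variable [Fintype F] [FiniteDimensional F V] (hn : Module.finrank F V = n) (hn1 : 1 ≤ n) (hy : y ^ n = 0)
  (h1 : Module.finrank F (LinearMap.ker y) ≤ 1) (hBn : ∀ u, (∀ v, B u v = 0) → u = 0)
  (h2 : (2 : F) ≠ 0)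
include hn hn1 hy h1 hBn h2

theorem exists_indep : ∃ e : V, LinearIndependent F fun i : Fin n => (y ^ (i : ℕ)) e := by
  obtain ⟨b, hb⟩ := RegularNilpotent.exists_cyclic_basis hn hn1 h1 hy
  refine ⟨b ⟨0, hn1⟩, ?_⟩
  rw [← funext hb]
  exact b.linearIndependent

omit [Fintype F] in
theorem isometry_iff (c : Fin n → F) (d : F[X]) {e : V} (he : LinearIndependent F fun i : Fin n => (y ^ (i : ℕ)) e) :
    (∀ u v, B (aeval y (seqPoly c) u) (aeval y (seqPoly c) v) = B u (aeval y d v)) ↔ ∀ l < n, sgnConv c l = d.coeff l := by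
  have h : (∀ u v, B (aeval y (seqPoly c) u) (aeval y (seqPoly c) v) = B u (aeval y d v)) ↔
      aeval y (seqPolyNeg c * seqPoly c) = aeval y d := by
    constructor
    · intro h
      refine LinearMap.ext fun v => sub_eq_zero.1 ?_
      apply hBn
      intro w
      have e1 : ∀ u, B u (aeval y (seqPolyNeg c * seqPoly c) v - aeval y d v) = 0 := fun u => by
        rw [map_sub, map_mul, Module.End.mul_apply, ← adjoint_seqPoly B hB, h, sub_self]
      by_contra hne
      exact hne (by
        have hk : ∀ z, (∀ u, B u z = 0) → B z w = 0 := by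
          intro z hz
          have hz0 : z = 0 := by
            by_contra hz0
            let T : V →ₗ[F] V →ₗ[F] F := B
            have hinj : Function.Injective T := by
              rw [← LinearMap.ker_eq_bot, Submodule.eq_bot_iff]
              intro a ha
              exact hBn a fun v => by rw [show B a = 0 from LinearMap.mem_ker.1 ha]; rfl
            have hsurj : Function.Surjective T :=
              (LinearMap.injective_iff_surjective_of_finrank_eq_finrank (Subspace.dual_finrank_eq).symm).1 hinj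
            obtain ⟨φ, hφ⟩ := Module.Projective.exists_dual_ne_zero F hz0
            obtain ⟨a, ha⟩ := hsurj φ
            exact hφ (ha ▸ hz a)
          rw [hz0, map_zero, LinearMap.zero_apply]
        exact hk _ e1)
    · intro h u v
      rw [adjoint_seqPoly B hB, ← Module.End.mul_apply, ← map_mul, h]
  rw [h, aeval_eq_iff hy he]
  simp only [coeff_seqPolyNeg_mul]

/-- Isometries in the commutant, twisted by `d`. -/
theorem card_isometries (d : F[X]) (hodd : ∀ l, Odd l → d.coeff l = 0) {a : F} (ha : a ≠ 0) (hd : d.coeff 0 = a ^ 2) :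
    Nat.card {g : Module.End F V // g * y = y * g ∧ ∀ u v, B (g u) (g v) = B u (aeval y d v)} =
      2 * Fintype.card F ^ (n / 2) := by
  obtain ⟨e, he⟩ := exists_indep B hB hn hn1 hy h1 hBn h2
  rw [← card_solutions h2 (fun l => d.coeff l) hodd ha hd n hn1]
  symm
  refine Nat.card_congr (Equiv.ofBijective (fun c => ⟨aeval y (seqPoly c.1), ?_, ?_⟩) ⟨?_, ?_⟩)
  · have h : Commute (aeval y (seqPoly c.1)) (aeval y (X : F[X])) := (Commute.all _ _).map (aeval y)
    rwa [aeval_X] at h
  · exact (isometry_iff B hB hn hn1 hy h1 hBn h2 c.1 d he).2 c.2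
  · intro c c' h
    exact Subtype.ext (seqPoly_inj hy he (congrArg Subtype.val h))
  · rintro ⟨g, hg, hgB⟩
    obtain ⟨c, rfl⟩ := commutant_eq hn hn1 hy he hg
    exact ⟨⟨c, (isometry_iff B hB hn hn1 hy h1 hBn h2 c d he).1 hgB⟩, rfl⟩

/-- Self-adjoint elements of the commutant are even. -/
theorem selfAdjoint_even {h : Module.End F V} (hh : h * y = y * h) (hs : ∀ u v, B (h u) v = B u (h v)) :
    ∃ d : F[X], aeval y d = h ∧ ∀ l, Odd l → d.coeff l = 0 := by
  obtain ⟨e, he⟩ := exists_indep B hB hn hn1 hy h1 hBn h2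
  obtain ⟨c, rfl⟩ := commutant_eq hn hn1 hy he hh
  refine ⟨seqPoly c, rfl, fun l hl => ?_⟩
  rw [coeff_seqPoly]
  by_cases hln : l < n
  · have he' : aeval y (seqPolyNeg c) = aeval y (seqPoly c) := by
      refine LinearMap.ext fun v => ?_
      by_contra hne
      obtain ⟨u, hu⟩ : ∃ u, B u (aeval y (seqPolyNeg c) v - aeval y (seqPoly c) v) ≠ 0 := by
        by_contra hc
        push Not at hc
        have hinj : Function.Injective (B : V →ₗ[F] V →ₗ[F] F) := by
          rw [← LinearMap.ker_eq_bot, Submodule.eq_bot_iff]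
          intro a ha
          exact hBn a fun v => by rw [show B a = 0 from LinearMap.mem_ker.1 ha]; rfl
        obtain ⟨φ, hφ⟩ := Module.Projective.exists_dual_ne_zero F (sub_ne_zero.2 hne)
        obtain ⟨a, ha⟩ := (LinearMap.injective_iff_surjective_of_finrank_eq_finrank (Subspace.dual_finrank_eq).symm).1 hinj φ
        exact hφ (ha ▸ hc a)
      exact hu (by rw [map_sub, ← adjoint_seqPoly B hB, hs, sub_self])
    have h' := (aeval_eq_iff hy he _ _).1 he' l hln
    rw [coeff_seqPoly, coeff_seqPolyNeg, hl.neg_one_pow] at h'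
    have : (2 : F) * seqExt c l = 0 := by linear_combination -h'
    exact (mul_eq_zero.1 this).resolve_left h2
  · exact dif_neg hln

omit [Fintype F] in
theorem coeff_zero_eq_mul {P Q : F[X]} (hPQ : aeval y P = aeval y Q) : P.coeff 0 = Q.coeff 0 := by
  obtain ⟨b, hb⟩ := RegularNilpotent.exists_cyclic_basis hn hn1 h1 hy
  refine (aeval_eq_iff hy (e := b ⟨0, hn1⟩) ?_ P Q).1 hPQ 0 (by omega)
  rw [← funext hb]
  exact b.linearIndependent

end Skew

end CfsgLib.Classical.SpRegular
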