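/-
Centralisers and classes of regular unipotent symplectic matrices in odd characteristic.
-/
import Cfsg.Agent.Lib.Classical.SpRegularUnipotent
import Cfsg.Agent.Lib.Classical.SpBasic
import Cfsg.Agent.Lib.Classical.SymBilin

set_option autoImplicit false

namespace CfsgLib.Classical.SpRegular

open Matrix Polynomial CfsgLib.Classical Cfsg

variable {F : Type*} [Field F] [Fintype F] {m : ℕ}

local notation "MM" => Matrix (Fin m ⊕ Fin m) (Fin m ⊕ Fin m) F
local notation "VV" => (Fin m ⊕ Fin m → F)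

/-- A regular unipotent symplectic matrix. -/
def RegUni (u : Matrix.symplecticGroup (Fin m) F) : Prop :=
  ((u : MM) - 1) ^ (2 * m) = 0 ∧ ((u : MM) - 1).rank = 2 * m - 1

/-- The endomorphism of a matrix. -/
noncomputable abbrev endOf : MM ≃ₐ[F] Module.End F VV := Matrix.toLinAlgEquiv'

omit [Fintype F] in
theorem endOf_apply (M : MM) (x : VV) : endOf M x = M *ᵥ x := Matrix.toLinAlgEquiv'_apply M x

/-- The skew endomorphism attached to a group element. -/
noncomputable def skewOf (u : Matrix.symplecticGroup (Fin m) F) : Module.End F VV :=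
  endOf ((u : MM) - ((u⁻¹ : Matrix.symplecticGroup (Fin m) F) : MM))

theorem skewOf_spec (h2 : (2 : F) ≠ 0) {u : Matrix.symplecticGroup (Fin m) F} (hu : RegUni u) (hm : 1 ≤ m) :
    (∀ x z, spBilin m F (skewOf u x) z = - spBilin m F x (skewOf u z)) ∧ (skewOf u) ^ (2 * m) = 0 ∧
      Module.finrank F (LinearMap.ker (skewOf u)) ≤ 1 ∧ Commute (endOf (u : MM)) (skewOf u) := by
  obtain ⟨hn, hr⟩ := hu
  set U : MM := (u : MM) with hU
  set U' : MM := ((u⁻¹ : Matrix.symplecticGroup (Fin m) F) : MM) with hU'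
  have hUU' : U * U' = 1 := by rw [hU, hU', ← Submonoid.coe_mul, mul_inv_cancel, OneMemClass.coe_one]
  have hU'U : U' * U = 1 := by rw [hU, hU', ← Submonoid.coe_mul, inv_mul_cancel, OneMemClass.coe_one]
  have hc : Commute U U' := hUU'.trans hU'U.symm
  have hfac : U - U' = (U - 1) * (1 + U') := by
    rw [mul_add, mul_one, sub_mul, hUU', one_mul]; abel
  have hunit : IsUnit (1 + U') := by
    have e : (1 : MM) + U' = U' * ((U - 1) + algebraMap F MM 2) := by
      rw [mul_add, mul_sub, hU'U, mul_one, map_ofNat, mul_two]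
      abel
    rw [e]
    refine IsUnit.mul (IsUnit.of_mul_eq_one U hU'U) ?_
    exact IsNilpotent.isUnit_add_right_of_commute ⟨2 * m, hn⟩
      ((isUnit_iff_ne_zero.2 h2).map (algebraMap F MM)) (Algebra.commute_algebraMap_right _ _)
  refine ⟨?_, ?_, ?_, ?_⟩
  · intro x z
    simp only [skewOf, map_sub, LinearMap.sub_apply, endOf_apply, spBilin_apply]
    have h1 : ∀ (s : Matrix.symplecticGroup (Fin m) F) a b, sympForm m F ((s : MM) *ᵥ a) b =
        sympForm m F a (((s⁻¹ : Matrix.symplecticGroup (Fin m) F) : MM) *ᵥ b) := fun s a b => by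
      conv_lhs => rw [← sp_mulVec_inv s b]
      exact sp_form s _ _
    rw [h1 u, h1 u⁻¹, inv_inv]
    ring
  · have hcom : Commute (U - 1) (1 + U') := (Commute.one_right (U - 1)).add_right (Commute.sub_left hc (Commute.one_left _))
    show (endOf (U - U')) ^ (2 * m) = 0
    rw [← map_pow, hfac, hcom.mul_pow, hn, zero_mul, map_zero]
  · have hrank : (U - U').rank = 2 * m - 1 := by
      rw [hfac, Matrix.rank_mul_eq_left_of_isUnit_det _ _ ((Matrix.isUnit_iff_isUnit_det _).1 hunit), hr]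
    have hk : LinearMap.ker (skewOf u) = LinearMap.ker (U - U').mulVecLin := rfl
    have h := LinearMap.finrank_range_add_finrank_ker (U - U').mulVecLin
    rw [Module.finrank_fintype_fun_eq_card, show Module.finrank F (LinearMap.range (U - U').mulVecLin) = 2 * m - 1 from hrank] at h
    rw [hk]
    simp at h
    omega
  · exact ((Commute.refl U).sub_right hc).map endOf.toAlgHom

variable (h2 : (2 : F) ≠ 0) (hm : 1 ≤ m)
include h2 hm

omit [Fintype F] in
theorem finrank_VV : Module.finrank F VV = 2 * m := by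
  rw [Module.finrank_fintype_fun_eq_card, Fintype.card_sum, Fintype.card_fin, two_mul]

theorem commute_iff {u : Matrix.symplecticGroup (Fin m) F} (hu : RegUni u) (g : Module.End F VV) :
    g * skewOf u = skewOf u * g ↔ g * endOf (u : MM) = endOf (u : MM) * g := by
  obtain ⟨hskew, hy, h1, hc⟩ := skewOf_spec h2 hu hm
  obtain ⟨e, he⟩ := exists_indep _ hskew (finrank_VV h2 hm) (by omega) hy h1 (fun x h => sympForm_nondeg h) h2
  constructor
  · intro hg
    obtain ⟨c, hcu⟩ := commutant_eq (finrank_VV h2 hm) (by omega) hy he hc.eq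
    obtain ⟨c', rfl⟩ := commutant_eq (finrank_VV h2 hm) (by omega) hy he hg
    rw [hcu]
    exact ((Commute.all (seqPoly c') (seqPoly c)).map (aeval (skewOf u))).eq
  · intro hg
    have h' : Commute g (endOf ((u⁻¹ : Matrix.symplecticGroup (Fin m) F) : MM)) := by
      let U : (Module.End F VV)ˣ := ⟨endOf (u : MM), endOf ((u⁻¹ : Matrix.symplecticGroup (Fin m) F) : MM),
        by rw [← map_mul, ← Submonoid.coe_mul, mul_inv_cancel, OneMemClass.coe_one, map_one],
        by rw [← map_mul, ← Submonoid.coe_mul, inv_mul_cancel, OneMemClass.coe_one, map_one]⟩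
      exact Commute.units_inv_right (u := U) hg
    rw [skewOf, map_sub]
    exact (Commute.sub_right hg h').eq

theorem card_centralizer_regular {u : Matrix.symplecticGroup (Fin m) F} (hu : RegUni u) :
    Nat.card (Subgroup.centralizer ({u} : Set (Matrix.symplecticGroup (Fin m) F))) = 2 * Fintype.card F ^ m := by
  obtain ⟨hskew, hy, h1, hc⟩ := skewOf_spec h2 hu hm
  have h := card_isometries (spBilin m F) hskew (finrank_VV h2 hm) (by omega) hy h1 (fun x h => sympForm_nondeg h) h2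
    (C 1) (fun l hl => by rw [coeff_C, if_neg (by rintro rfl; simp at hl)])
    one_ne_zero (by simp)
  rw [show 2 * m / 2 = m by omega] at h
  rw [← h]
  refine Nat.card_congr (Equiv.ofBijective (fun s => ⟨endOf ((s : Matrix.symplecticGroup (Fin m) F) : MM), ?_, ?_⟩) ⟨?_, ?_⟩)
  · rw [commute_iff h2 hm hu, ← map_mul, ← map_mul, ← Submonoid.coe_mul, ← Submonoid.coe_mul,
      Subgroup.mem_centralizer_singleton_iff.1 s.2]
  · intro x z
    simp only [endOf_apply, spBilin_apply, aeval_C, map_one, Module.End.one_apply]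
    exact sp_form _ _ _
  · intro s t hst
    exact Subtype.ext (Subtype.ext (endOf.injective (congrArg Subtype.val hst)))
  · rintro ⟨g, hg, hgB⟩
    obtain ⟨G, rfl⟩ := endOf.surjective g
    have hG : G ∈ Matrix.symplecticGroup (Fin m) F := mem_sp_iff.2 fun x z => by
      simpa [endOf_apply] using hgB x z
    refine ⟨⟨⟨G, hG⟩, Subgroup.mem_centralizer_singleton_iff.2 (Subtype.ext (endOf.injective ?_))⟩, rfl⟩
    show endOf (G * (u : MM)) = endOf ((u : MM) * G)
    rw [map_mul, map_mul]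
    exact (commute_iff h2 hm hu _).1 hg

/-- The comparison of two regular unipotent elements. -/
theorem isConj_iff_square {u v : Matrix.symplecticGroup (Fin m) F} (hu : RegUni u) (P : VV ≃ₗ[F] VV)
    (hP : ∀ x, P ((u : MM) *ᵥ x) = (v : MM) *ᵥ P x) :
    ∃ d : F[X], (∀ x z, sympForm m F (P x) (P z) = spBilin m F x (aeval (skewOf u) d z)) ∧
      (IsConj u v ↔ ∃ a : F, a ≠ 0 ∧ d.coeff 0 = a ^ 2) := by
  classical
  obtain ⟨hskew, hy, h1, hc⟩ := skewOf_spec h2 hu hm
  have hBn : ∀ x, (∀ z, spBilin m F x z = 0) → x = 0 := fun x h => sympForm_nondeg h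
  obtain ⟨h, hh⟩ : ∃ h : Module.End F VV, ∀ x z, spBilin m F (h x) z = sympForm m F (P x) (P z) :=
    ⟨((spBilin m F).toDual spBilin_nondegenerate).symm.toLinearMap ∘ₗ (spBilin m F).compl₁₂ P.toLinearMap P.toLinearMap,
      fun x z => LinearMap.BilinForm.apply_toDual_symm_apply (hB := spBilin_nondegenerate) _ z⟩
  have hsymm : ∀ x z, spBilin m F (h x) z = spBilin m F x (h z) := fun x z => by
    rw [hh, spBilin_apply _ (h z), sympForm_swap (h z) x, ← spBilin_apply (h z), hh, ← sympForm_swap]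
  have huniq : ∀ f g : Module.End F VV, (∀ x z, spBilin m F (f x) z = spBilin m F (g x) z) → f = g := fun f g hfg =>
    LinearMap.ext fun x => sub_eq_zero.1 (hBn _ fun z => by rw [map_sub, LinearMap.sub_apply, hfg, sub_self])
  have hcomm : h * endOf (u : MM) = endOf (u : MM) * h := huniq _ _ fun x z => by
    rw [Module.End.mul_apply, Module.End.mul_apply, hh, endOf_apply, endOf_apply]
    conv_rhs => rw [← sp_mulVec_inv u z]
    rw [spBilin_apply, sp_form, ← spBilin_apply (h x), hh]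
    conv_lhs => rw [← sp_mulVec_inv u z]
    rw [hP, hP, sp_form]
  obtain ⟨d, hd, hdodd⟩ := selfAdjoint_even _ hskew (finrank_VV h2 hm) (by omega) hy h1 hBn h2
    ((commute_iff h2 hm hu h).2 hcomm) hsymm
  have hform : ∀ x z, sympForm m F (P x) (P z) = spBilin m F x (aeval (skewOf u) d z) := fun x z => by
    rw [hd, ← hsymm, hh]
  refine ⟨d, hform, ?_, ?_⟩
  · intro hconj
    obtain ⟨s, hs⟩ := isConj_iff.1 hconj
    obtain ⟨e, he⟩ := exists_indep _ hskew (finrank_VV h2 hm) (by omega) hy h1 hBn h2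
    let g : Module.End F VV := endOf ((s⁻¹ : Matrix.symplecticGroup (Fin m) F) : MM) * P.toLinearMap
    have hgu : g * endOf (u : MM) = endOf (u : MM) * g := LinearMap.ext fun x => by
      simp only [g, Module.End.mul_apply, endOf_apply, LinearEquiv.coe_coe, hP]
      rw [mulVec_mulVec, mulVec_mulVec, ← Submonoid.coe_mul, ← Submonoid.coe_mul]
      congr 2
      rw [← hs]; group
    obtain ⟨c, hcg⟩ := commutant_eq (finrank_VV h2 hm) (by omega) hy he ((commute_iff h2 hm hu g).2 hgu)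
    have hd' := (isometry_iff _ hskew (finrank_VV h2 hm) (by omega) hy h1 hBn h2 c d he).1 (fun x z => by
      rw [← hcg, ← hform]
      simp only [g, Module.End.mul_apply, endOf_apply, LinearEquiv.coe_coe, spBilin_apply]
      exact sp_form _ _ _) 0 (by omega)
    rw [sgnConv, Finset.range_one, Finset.sum_singleton, pow_zero, one_mul, Nat.sub_zero, ← sq] at hd'
    refine ⟨seqExt c 0, fun h0 => ?_, hd'.symm⟩
    have hz : (aeval (skewOf u) (seqPoly c)) ((skewOf u ^ (2 * m - 1)) e) = 0 := by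
      have hq : ∃ Q, seqPoly c = Q * X := ⟨(seqPoly c).divX, by
        conv_lhs => rw [← divX_mul_X_add (seqPoly c), coeff_seqPoly, h0, C_0, add_zero]⟩
      obtain ⟨Q, hQ⟩ := hq
      rw [hQ, map_mul, aeval_X, Module.End.mul_apply, ← Module.End.mul_apply (skewOf u), ← pow_succ',
        show 2 * m - 1 + 1 = 2 * m by omega, hy, LinearMap.zero_apply, map_zero]
    rw [← hcg] at hz
    simp only [g, Module.End.mul_apply, endOf_apply, LinearEquiv.coe_coe] at hz
    have hz' := P.map_eq_zero_iff.1 (sp_mulVec_injective s⁻¹ (hz.trans (mulVec_zero _).symm))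
    exact he.ne_zero ⟨2 * m - 1, by omega⟩ hz'
  · rintro ⟨a, ha, hda⟩
    have hcard := card_isometries _ hskew (finrank_VV h2 hm) (by omega) hy h1 hBn h2 d hdodd ha hda
    obtain ⟨⟨g, hgy, hgB⟩⟩ := (Nat.card_pos_iff.1 (hcard ▸ by positivity :
      0 < Nat.card {g : Module.End F VV // g * skewOf u = skewOf u * g ∧ ∀ x z, spBilin m F (g x) (g z) = spBilin m F x (aeval (skewOf u) d z)})).1
    have hginj : Function.Injective g := by
      intro x x' e
      apply P.injective
      refine sub_eq_zero.1 (sympForm_nondeg fun w => ?_)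
      obtain ⟨w, rfl⟩ := P.surjective w
      rw [← map_sub, hform, ← hgB, map_sub, e, sub_self, map_zero, LinearMap.zero_apply]
    let G : VV ≃ₗ[F] VV := LinearEquiv.ofBijective g ⟨hginj, LinearMap.injective_iff_surjective.1 hginj⟩
    have hG : ∀ x, G x = g x := fun x => rfl
    have hgu : ∀ x, g ((u : MM) *ᵥ x) = (u : MM) *ᵥ g x := fun x => by
      have := congrArg (fun f : Module.End F VV => f x) ((commute_iff h2 hm hu g).1 hgy)
      simpa [endOf_apply] using this
    let S : Module.End F VV := P.toLinearMap ∘ₗ G.symm.toLinearMap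
    have hS : ∀ x, LinearMap.toMatrix' S *ᵥ x = P (G.symm x) := fun x => LinearMap.toMatrix'_mulVec _ x
    have hmem : LinearMap.toMatrix' S ∈ Matrix.symplecticGroup (Fin m) F := mem_sp_iff.2 fun x z => by
      rw [hS, hS, hform, ← hgB, ← hG, ← hG, LinearEquiv.apply_symm_apply, LinearEquiv.apply_symm_apply, spBilin_apply]
    refine isConj_iff.2 ⟨⟨_, hmem⟩, ?_⟩
    rw [mul_inv_eq_iff_eq_mul]
    refine sp_ext fun x => ?_
    rw [Submonoid.coe_mul, Submonoid.coe_mul, ← mulVec_mulVec, ← mulVec_mulVec, hS, hS, ← hP]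
    congr 1
    rw [LinearEquiv.symm_apply_eq, hG, hgu, ← hG, LinearEquiv.apply_symm_apply]

theorem exists_intertwiner {u v : Matrix.symplecticGroup (Fin m) F} (hu : RegUni u) (hv : RegUni v) :
    ∃ P : VV ≃ₗ[F] VV, ∀ x, P ((u : MM) *ᵥ x) = (v : MM) *ᵥ P x := by
  obtain ⟨P, hP⟩ := RegularNilpotent.exists_similar (n := 2 * m) (by simp; omega) (by omega) hu.1 hu.2 hv.1 hv.2
  have hP' : (P : MM) * (u : MM) = (v : MM) * (P : MM) := by
    rwa [Matrix.mul_sub, Matrix.sub_mul, Matrix.mul_one, Matrix.one_mul, sub_left_inj] at hP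
  refine ⟨LinearEquiv.ofBijective (Matrix.toLin' (P : MM))
    (Finite.injective_iff_bijective.1 (Matrix.mulVec_injective_iff_isUnit.2 P.isUnit)), fun x => ?_⟩
  show (P : MM) *ᵥ ((u : MM) *ᵥ x) = (v : MM) *ᵥ ((P : MM) *ᵥ x)
  rw [mulVec_mulVec, mulVec_mulVec, hP']

omit [Fintype F] in
/-- A skew regular nilpotent map exists. -/
theorem exists_skew_regular : ∃ y : Module.End F VV, (∀ x z, spBilin m F (y x) z = - spBilin m F x (y z)) ∧
    y ^ (2 * m) = 0 ∧ Module.finrank F (LinearMap.ker y) ≤ 1 := by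
  classical
  let n := 2 * m
  let N : Module.End F (Fin n → F) :=
    { toFun := fun x i => if h : 0 < (i : ℕ) then x ⟨(i : ℕ) - 1, by omega⟩ else 0
      map_add' := fun x z => funext fun i => by simp only [Pi.add_apply]; split_ifs <;> simp
      map_smul' := fun a x => funext fun i => by simp only [Pi.smul_apply, RingHom.id_apply]; split_ifs <;> simp }
  let B : LinearMap.BilinForm F (Fin n → F) := LinearMap.mk₂ F (fun x z => ∑ i : Fin n, (-1) ^ (i : ℕ) * x i * z i.rev)
    (fun x x' z => by simp [mul_add, add_mul, Finset.sum_add_distrib]) (fun a x z => by simp [Finset.mul_sum]; congr; ext; ring)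
    (fun x z z' => by simp [mul_add, Finset.sum_add_distrib]) (fun a x z => by simp [Finset.mul_sum]; congr; ext; ring)
  have hBx : ∀ x z, B x z = ∑ i : Fin n, (-1) ^ (i : ℕ) * x i * z i.rev := fun x z => rfl
  have hrev : ∀ i : Fin n, ((-1 : F)) ^ (i.rev : ℕ) = -(-1) ^ (i : ℕ) := fun i => by
    have hr : (i.rev : ℕ) + (i : ℕ) + 1 = 2 * m := by rw [Fin.val_rev]; omega
    have h1 : ((-1 : F)) ^ ((i.rev : ℕ) + (i : ℕ) + 1) = 1 := by rw [hr, pow_mul]; simp
    have h2' : ((-1 : F)) ^ (i : ℕ) * (-1) ^ (i : ℕ) = 1 := by rw [← pow_add, ← two_mul, pow_mul]; simp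
    rw [pow_succ, pow_add] at h1
    linear_combination (-(-1 : F) ^ (i : ℕ)) * h1 - ((-1 : F) ^ (i.rev : ℕ)) * h2'
  have hBA : B.IsAlt := by
    intro x
    have hneg : B x x = - B x x := by
      conv_lhs => rw [hBx, ← Equiv.sum_comp Fin.revPerm]
      rw [hBx, ← Finset.sum_neg_distrib]
      refine Finset.sum_congr rfl fun i _ => ?_
      simp only [Fin.revPerm_apply, Fin.rev_rev, hrev]
      ring
    have : (2 : F) * B x x = 0 := by linear_combination hneg
    exact (mul_eq_zero.1 this).resolve_left h2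
  have hBn : ∀ x, (∀ z, B x z = 0) → x = 0 := fun x hx => funext fun i => by
    have := hx (Pi.single i.rev 1)
    rw [hBx, Finset.sum_eq_single i (fun j _ hj => by
      rw [Pi.single_eq_of_ne (fun e => hj (Fin.rev_injective e)), mul_zero]) (by simp), Pi.single_eq_same, mul_one] at this
    exact (mul_eq_zero.1 this).resolve_left (pow_ne_zero _ (by simp))
  have hNskew : ∀ x z, B (N x) z = - B x (N z) := by
    have hr : ∀ (b : Fin n) (x : Fin n → F), B x (Pi.single b 1) = (-1) ^ (b.rev : ℕ) * x b.rev := fun b x => by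
      rw [hBx, Finset.sum_eq_single b.rev (fun j _ hj => by
        rw [Pi.single_eq_of_ne (fun e => hj (by rw [← e, Fin.rev_rev])), mul_zero]) (by simp), Fin.rev_rev, Pi.single_eq_same, mul_one]
    have hl : ∀ (a : Fin n) (z : Fin n → F), B (Pi.single a 1) z = (-1) ^ (a : ℕ) * z a.rev := fun a z => by
      rw [hBx, Finset.sum_eq_single a (fun j _ hj => by rw [Pi.single_eq_of_ne hj, mul_zero, zero_mul]) (by simp),
        Pi.single_eq_same, mul_one]
    have hbil : B.comp N LinearMap.id = -(B.comp LinearMap.id N) := by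
      refine LinearMap.BilinForm.ext_basis (Pi.basisFun F (Fin n)) fun a b => ?_
      simp only [Pi.basisFun_apply, LinearMap.BilinForm.comp_apply, LinearMap.id_apply, LinearMap.neg_apply, hr, hl]
      have hN : ∀ (a i : Fin n), N (Pi.single a 1) i = if (a : ℕ) + 1 = (i : ℕ) then 1 else 0 := fun a i => by
        show (if h : 0 < (i : ℕ) then (Pi.single a (1 : F) : Fin n → F) ⟨(i : ℕ) - 1, by omega⟩ else 0) = _
        by_cases h0 : 0 < (i : ℕ)
        · rw [dif_pos h0, Pi.single_apply]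
          exact if_congr (by rw [Fin.ext_iff]; simp only; omega) rfl rfl
        · rw [dif_neg h0, if_neg (by omega)]
      rw [hN, hN]
      simp only [Fin.val_rev]
      by_cases hab : (a : ℕ) + 1 = n - ((b : ℕ) + 1)
      · rw [if_pos hab, if_pos (by omega), ← hab, pow_succ]; ring
      · rw [if_neg hab, if_neg (by omega)]; ring
    intro x z
    exact congrArg (fun D : LinearMap.BilinForm F (Fin n → F) => D x z) hbil
  have hNnil : N ^ n = 0 := by
    have hkk : ∀ (k : ℕ) (v : Fin n → F) (i : Fin n), (i : ℕ) < k → (N ^ k) v i = 0 := by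
      intro k
      induction k with
      | zero => intro v i h; omega
      | succ k ih =>
        intro v i h
        rw [pow_succ', Module.End.mul_apply]
        show (if h : 0 < (i : ℕ) then _ else 0) = 0
        split_ifs with h0
        · exact ih v _ (by show (i : ℕ) - 1 < k; omega)
        · rfl
    exact LinearMap.ext fun v => funext fun i => hkk n v i i.2
  have hNker : Module.finrank F (LinearMap.ker N) ≤ 1 := by
    refine (Submodule.finrank_mono (t := Submodule.span F {Pi.single (⟨n - 1, by omega⟩ : Fin n) (1 : F)}) ?_).trans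
      ((finrank_span_singleton (by simp)).le)
    intro v hv
    rw [LinearMap.mem_ker] at hv
    rw [Submodule.mem_span_singleton]
    refine ⟨v ⟨n - 1, by omega⟩, funext fun i => ?_⟩
    rw [Pi.smul_apply, Pi.single_apply, smul_eq_mul]
    split_ifs with hi
    · rw [hi, mul_one]
    · have hlt : (i : ℕ) + 1 < n := by
        have : (i : ℕ) ≠ n - 1 := fun e => hi (Fin.ext e)
        omega
      have h' : (if h : 0 < ((⟨(i : ℕ) + 1, hlt⟩ : Fin n) : ℕ) then v ⟨(i : ℕ) + 1 - 1, by omega⟩ else 0) = (0 : F) :=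
        congrFun hv ⟨(i : ℕ) + 1, hlt⟩
      rw [dif_pos (Nat.succ_pos _)] at h'
      simpa using h'.symm
  obtain ⟨k, hk, e, he⟩ := exists_symp_equiv B hBA hBn
  rw [Module.finrank_fintype_fun_eq_card, Fintype.card_fin] at hk
  obtain rfl : k = m := by omega
  refine ⟨e.symm.toLinearMap.comp (N.comp e.toLinearMap), fun x z => ?_, ?_, ?_⟩
  · simp only [LinearMap.comp_apply, LinearEquiv.coe_coe, spBilin_apply, ← he, LinearEquiv.apply_symm_apply, hNskew]
  · have hp : ∀ j : ℕ, ∀ x, ((e.symm.toLinearMap.comp (N.comp e.toLinearMap)) ^ j) x = e.symm ((N ^ j) (e x)) := by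
      intro j
      induction j with
      | zero => intro x; simp
      | succ j ih => intro x; rw [pow_succ', pow_succ', Module.End.mul_apply, Module.End.mul_apply, ih]; simp
    exact LinearMap.ext fun x => by rw [hp, hNnil]; simp
  · rw [LinearMap.ker_comp, Submodule.comap_comp]
    have hk' : Submodule.comap e.toLinearMap (Submodule.comap N (LinearMap.ker e.symm.toLinearMap)) =
        (LinearMap.ker N).map e.symm.toLinearMap := by
      rw [LinearEquiv.ker, Submodule.comap_bot, Submodule.map_equiv_eq_comap_symm, LinearEquiv.symm_symm]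
    rw [hk', LinearEquiv.finrank_map_eq]
    exact hNker

theorem exists_regular : ∃ u : Matrix.symplecticGroup (Fin m) F, RegUni u := by
  obtain ⟨y, hskew, hy, h1⟩ := exists_skew_regular (F := F) h2 hm
  obtain ⟨Y, rfl⟩ := endOf.surjective y
  have hY : Y ^ (2 * m) = 0 := endOf.injective (by rw [map_pow, hy, map_zero])
  obtain ⟨W, hW⟩ : IsUnit (1 - Y) := IsNilpotent.isUnit_one_sub ⟨2 * m, hY⟩
  have hWY : Commute (W⁻¹ : MMˣ).val Y := by
    have : Commute (W : MM) Y := by rw [hW]; exact (Commute.one_left Y).sub_left (Commute.refl Y)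
    exact this.units_inv_left
  obtain ⟨U, hU⟩ : ∃ U : MM, U = (1 + Y) * (W⁻¹ : MMˣ).val := ⟨_, rfl⟩
  have hmem : U ∈ Matrix.symplecticGroup (Fin m) F := mem_sp_iff.2 fun x z => by
    have hsk : ∀ a b, sympForm m F (Y *ᵥ a) b = - sympForm m F a (Y *ᵥ b) := fun a b => by
      simpa [endOf_apply] using hskew a b
    have hid : ∀ a b, sympForm m F ((1 + Y) *ᵥ a) ((1 + Y) *ᵥ b) = sympForm m F ((1 - Y) *ᵥ a) ((1 - Y) *ᵥ b) := fun a b => by
      simp only [add_mulVec, sub_mulVec, one_mulVec, sympForm_add_left, sympForm_add_right, sympForm_sub_left,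
        sympForm_sub_right, hsk]
      ring
    rw [hU, ← mulVec_mulVec, ← mulVec_mulVec, hid, ← hW, mulVec_mulVec, mulVec_mulVec, Units.mul_inv, one_mulVec, one_mulVec]
  have hsub : U - 1 = Y * ((2 : F) • (W⁻¹ : MMˣ).val) := by
    have : U - 1 = ((1 + Y) - (W : MM)) * (W⁻¹ : MMˣ).val := by rw [sub_mul, Units.mul_inv, hU]
    rw [this, hW, show (1 + Y) - (1 - Y) = (2 : F) • Y by rw [two_smul]; abel, smul_mul_assoc, mul_smul_comm]
  refine ⟨⟨U, hmem⟩, ?_, ?_⟩
  · show (U - 1) ^ (2 * m) = 0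
    rw [hsub, ((hWY.symm).smul_right (2 : F)).mul_pow, hY, zero_mul]
  · show (U - 1).rank = 2 * m - 1
    have hunit : IsUnit ((2 : F) • (W⁻¹ : MMˣ).val) := by
      rw [Algebra.smul_def]
      exact ((isUnit_iff_ne_zero.2 h2).map (algebraMap F MM)).mul (W⁻¹).isUnit
    rw [hsub, Matrix.rank_mul_eq_left_of_isUnit_det _ _ ((Matrix.isUnit_iff_isUnit_det _).1 hunit)]
    have hk : LinearMap.ker Y.mulVecLin = LinearMap.ker (endOf Y) := rfl
    have h := LinearMap.finrank_range_add_finrank_ker Y.mulVecLin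
    rw [finrank_VV h2 hm] at h
    have hlow := RegularNilpotent.finrank_ker_pow (finrank_VV h2 hm) h1 hy 1 (by omega)
    rw [pow_one, ← hk] at hlow
    show Module.finrank F (LinearMap.range Y.mulVecLin) = 2 * m - 1
    omega

/-- There are two classes. -/
theorem card_classes_regular :
    Nat.card {C : ConjClasses (Matrix.symplecticGroup (Fin m) F) // ∃ u : Matrix.symplecticGroup (Fin m) F,
      ConjClasses.mk u = C ∧ RegUni u} = 2 := by
  classical
  obtain ⟨u, hu⟩ := exists_regular (F := F) h2 hm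
  obtain ⟨ε, hε⟩ := FiniteField.exists_nonsquare (F := F) (fun h => h2 (by
    haveI := ringChar.of_eq h; exact CharP.cast_eq_zero F 2))
  have hε0 : ε ≠ 0 := fun h => hε (h ▸ IsSquare.zero)
  obtain ⟨hskew, hy, h1, hc⟩ := skewOf_spec h2 hu hm
  -- a similitude
  let sc : F → MM := fun t => Matrix.diagonal (Sum.elim (fun _ => t) (fun _ => 1))
  have hsc : ∀ s t : F, sc s * sc t = sc (s * t) := fun s t => by
    show Matrix.diagonal _ * Matrix.diagonal _ = _
    rw [Matrix.diagonal_mul_diagonal]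
    exact congrArg _ (funext fun i => by cases i <;> simp)
  have hsc1 : sc 1 = 1 := by
    show Matrix.diagonal _ = 1
    rw [← Matrix.diagonal_one]; exact congrArg _ (funext fun i => by cases i <;> simp)
  have hscB : ∀ t x z, sympForm m F (sc t *ᵥ x) (sc t *ᵥ z) = t * sympForm m F x z := fun t x z => by
    simp only [sc, sympForm_eq, Matrix.mulVec_diagonal, Finset.mul_sum, Sum.elim_inl, Sum.elim_inr]
    exact Finset.sum_congr rfl fun i _ => by ring
  have hconjmem : ∀ (w : Matrix.symplecticGroup (Fin m) F) (t : F), t ≠ 0 →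
      sc t * (w : MM) * sc t⁻¹ ∈ Matrix.symplecticGroup (Fin m) F := fun w t ht => mem_sp_iff.2 fun x z => by
    rw [← mulVec_mulVec, ← mulVec_mulVec, ← mulVec_mulVec, ← mulVec_mulVec, hscB, sp_form, hscB, ← mul_assoc,
      mul_inv_cancel₀ ht, one_mul]
  have hreg : ∀ (w : Matrix.symplecticGroup (Fin m) F) (t : F) (ht : t ≠ 0), RegUni w → RegUni ⟨_, hconjmem w t ht⟩ := by
    intro w t ht hw
    let T : MMˣ := ⟨sc t, sc t⁻¹, by rw [hsc, mul_inv_cancel₀ ht, hsc1], by rw [hsc, inv_mul_cancel₀ ht, hsc1]⟩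
    have e : sc t * (w : MM) * sc t⁻¹ - 1 = (T : MM) * ((w : MM) - 1) * (T⁻¹ : MMˣ).val := by
      show _ = sc t * ((w : MM) - 1) * sc t⁻¹
      rw [mul_sub, sub_mul, mul_one, hsc, mul_inv_cancel₀ ht, hsc1]
    refine ⟨?_, ?_⟩
    · show (sc t * (w : MM) * sc t⁻¹ - 1) ^ (2 * m) = 0
      rw [e, Units.conj_pow, hw.1, mul_zero, zero_mul]
    · show (sc t * (w : MM) * sc t⁻¹ - 1).rank = 2 * m - 1
      rw [e, Matrix.rank_mul_eq_left_of_isUnit_det _ _ ((Matrix.isUnit_iff_isUnit_det _).1 T⁻¹.isUnit),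
        Matrix.rank_mul_eq_right_of_isUnit_det _ _ ((Matrix.isUnit_iff_isUnit_det _).1 T.isUnit), hw.2]
  let u' : Matrix.symplecticGroup (Fin m) F := ⟨_, hconjmem u ε hε0⟩
  have hu' : RegUni u' := hreg u ε hε0 hu
  let P₀ : ∀ t : F, t ≠ 0 → (VV ≃ₗ[F] VV) := fun t ht => LinearEquiv.ofLinear (Matrix.toLin' (sc t)) (Matrix.toLin' (sc t⁻¹))
    (by rw [← Matrix.toLin'_mul, hsc, mul_inv_cancel₀ ht, hsc1, Matrix.toLin'_one])
    (by rw [← Matrix.toLin'_mul, hsc, inv_mul_cancel₀ ht, hsc1, Matrix.toLin'_one])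
  have hne : ¬ IsConj u u' := by
    obtain ⟨d, hd, hiff⟩ := isConj_iff_square (v := u') h2 hm hu (P₀ ε hε0) (fun x => by
      show sc ε *ᵥ ((u : MM) *ᵥ x) = (sc ε * (u : MM) * sc ε⁻¹) *ᵥ (sc ε *ᵥ x)
      rw [mulVec_mulVec, mulVec_mulVec, mul_assoc (sc ε * (u : MM)), hsc, inv_mul_cancel₀ hε0, hsc1, mul_one])
    rw [hiff]
    rintro ⟨a, ha, hda⟩
    have hconst : aeval (skewOf u) d = aeval (skewOf u) (C ε) := by
      refine LinearMap.ext fun z => ?_
      by_contra hne
      obtain ⟨w, hw⟩ := exists_sympForm_ne_zero (sub_ne_zero.2 hne)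
      apply hw
      rw [sympForm_swap, sympForm_sub_right, ← spBilin_apply, ← hd]
      simp only [aeval_C, Module.algebraMap_end_apply, sympForm_smul_right]
      show -(sympForm m F (sc ε *ᵥ w) (sc ε *ᵥ z) - _) = 0
      rw [hscB, sub_self, neg_zero]
    have h0 := coeff_zero_eq_mul _ hskew (finrank_VV h2 hm) (by omega) hy h1 (fun x h => sympForm_nondeg h) h2 hconst
    rw [coeff_C_zero, hda] at h0
    exact hε ⟨a, by rw [← h0]; ring⟩
  rw [Nat.card_eq_two_iff]
  refine ⟨⟨ConjClasses.mk u, u, rfl, hu⟩, ⟨ConjClasses.mk u', u', rfl, hu'⟩, fun h => hne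
    (ConjClasses.mk_eq_mk_iff_isConj.1 (congrArg Subtype.val h)), ?_⟩
  rw [Set.eq_univ_iff_forall]
  rintro ⟨C0, w, rfl, hw⟩
  simp only [Set.mem_insert_iff, Set.mem_singleton_iff, Subtype.mk.injEq, ConjClasses.mk_eq_mk_iff_isConj]
  obtain ⟨P, hP⟩ := exists_intertwiner h2 hm hu hw
  obtain ⟨d, hd, hiff⟩ := isConj_iff_square h2 hm hu P hP
  by_cases hsq : ∃ a : F, a ≠ 0 ∧ d.coeff 0 = a ^ 2
  · exact Or.inl (hiff.2 hsq).symm
  right
  -- twist by the similitude
  have hεi : ε⁻¹ ≠ 0 := inv_ne_zero hε0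
  let w' : Matrix.symplecticGroup (Fin m) F := ⟨_, hconjmem w ε⁻¹ hεi⟩
  obtain ⟨d', hd', hiff'⟩ := isConj_iff_square (v := w') h2 hm hu (P.trans (P₀ ε⁻¹ hεi)) (fun x => by
    show sc ε⁻¹ *ᵥ P ((u : MM) *ᵥ x) = (sc ε⁻¹ * (w : MM) * sc ε⁻¹⁻¹) *ᵥ (sc ε⁻¹ *ᵥ P x)
    rw [hP, mulVec_mulVec, mulVec_mulVec, mul_assoc (sc ε⁻¹ * (w : MM)), hsc, inv_mul_cancel₀ hεi, hsc1, mul_one])
  have hd0 : d'.coeff 0 = ε⁻¹ * d.coeff 0 := by
    have he : aeval (skewOf u) d' = aeval (skewOf u) (C ε⁻¹ * d) := by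
      refine LinearMap.ext fun z => ?_
      by_contra hne
      obtain ⟨x, hx⟩ := exists_sympForm_ne_zero (sub_ne_zero.2 hne)
      apply hx
      rw [sympForm_swap, sympForm_sub_right, ← spBilin_apply, ← hd']
      simp only [map_mul, aeval_C, Module.End.mul_apply, Module.algebraMap_end_apply, sympForm_smul_right]
      rw [← spBilin_apply x, ← hd]
      show -(sympForm m F (sc ε⁻¹ *ᵥ P x) (sc ε⁻¹ *ᵥ P z) - _) = 0
      rw [hscB, sub_self, neg_zero]
    have := coeff_zero_eq_mul _ hskew (finrank_VV h2 hm) (by omega) hy h1 (fun x h => sympForm_nondeg h) h2 he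
    rwa [coeff_C_mul] at this
  have hd00 : d.coeff 0 ≠ 0 := by
    intro h0
    obtain ⟨e, he⟩ := exists_indep _ hskew (finrank_VV h2 hm) (by omega) hy h1 (fun x h => sympForm_nondeg h) h2
    have hz : aeval (skewOf u) d ((skewOf u ^ (2 * m - 1)) e) = 0 := by
      conv_lhs => rw [← divX_mul_X_add d, h0, C_0, add_zero]
      rw [map_mul, aeval_X, Module.End.mul_apply, ← Module.End.mul_apply (skewOf u), ← pow_succ',
        show 2 * m - 1 + 1 = 2 * m by omega, hy, LinearMap.zero_apply, map_zero]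
    refine he.ne_zero ⟨2 * m - 1, by omega⟩ (P.map_eq_zero_iff.1 (sympForm_nondeg fun x => ?_))
    obtain ⟨x, rfl⟩ := P.surjective x
    rw [sympForm_swap, hd, hz, map_zero, neg_zero]
  have hsq' : ∃ a : F, a ≠ 0 ∧ d'.coeff 0 = a ^ 2 := by
    have hns : ¬ IsSquare (d.coeff 0) := fun ⟨a, ha⟩ => hsq ⟨a, fun h => hd00 (by rw [ha, h, mul_zero]), by rw [ha]; ring⟩
    have hεns : ¬ IsSquare (ε⁻¹) := by rwa [isSquare_inv]
    obtain ⟨a, ha⟩ := isSquare_mul_of_not_isSquare h2 hεns hns
    refine ⟨a, fun h => ?_, by rw [hd0, ha]; ring⟩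
    exact mul_ne_zero hεi hd00 (by rw [ha, h, mul_zero])
  obtain ⟨s, hs⟩ := isConj_iff.1 (hiff'.2 hsq')
  have hsmem : sc ε * (s : MM) * sc ε⁻¹ ∈ Matrix.symplecticGroup (Fin m) F := hconjmem s ε hε0
  refine (isConj_iff.2 ⟨⟨_, hsmem⟩, ?_⟩ : IsConj u' w).symm
  rw [mul_inv_eq_iff_eq_mul]
  apply Subtype.ext
  have hsu : (s : MM) * (u : MM) = (sc ε⁻¹ * (w : MM) * sc ε⁻¹⁻¹) * (s : MM) :=
    congrArg Subtype.val (mul_inv_eq_iff_eq_mul.1 hs)
  show sc ε * (s : MM) * sc ε⁻¹ * (sc ε * (u : MM) * sc ε⁻¹) = (w : MM) * (sc ε * (s : MM) * sc ε⁻¹)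
  calc sc ε * (s : MM) * sc ε⁻¹ * (sc ε * (u : MM) * sc ε⁻¹)
      = sc ε * ((s : MM) * (sc ε⁻¹ * sc ε) * (u : MM)) * sc ε⁻¹ := by simp only [mul_assoc]
    _ = sc ε * ((sc ε⁻¹ * (w : MM) * sc ε⁻¹⁻¹) * (s : MM)) * sc ε⁻¹ := by
        rw [hsc, inv_mul_cancel₀ hε0, hsc1, mul_one, hsu]
    _ = (sc ε * sc ε⁻¹) * (w : MM) * (sc ε * (s : MM) * sc ε⁻¹) := by rw [inv_inv]; simp only [mul_assoc]
    _ = _ := by rw [hsc, mul_inv_cancel₀ hε0, hsc1, one_mul]

end CfsgLib.Classical.SpRegular
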