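/-
Classes of elements of odd prime order in symplectic and orthogonal groups.
-/
import Cfsg.Agent.Lib.Classical.SelfDualBlocks
import Cfsg.Agent.Lib.Classical.QuadSign
import Cfsg.Agent.Lib.Classical.QuadPOmega
import Cfsg.Agent.Lib.Classical.SemisimpleConjugacy
import Cfsg.Agent.Lib.Classical.SpBasic
import Cfsg.Agent.Lib.Classical.GLPrimeClassData
import Cfsg.Agent.Lib.Classical.GUPrimeClasses

set_option autoImplicit false

namespace CfsgLib.Classical.SpOPrime

open Polynomial CfsgLib.Classical CfsgLib.Classical.Primary CfsgLib.Classical.InvIdx CfsgLib.Classical.SDBlock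
  CfsgLib.Classical.QuadSign

universe u

variable {F : Type u} [Field F] [Fintype F] {r t i : ℕ} {P : Option (Fin t) → F[X]}
variable {V : Type u} [AddCommGroup V] [Module F V]

omit [Fintype F] in
theorem card_classes_congr {G H : Type*} [Group G] [Group H] (e : G ≃* H) (r : ℕ) :
    Nat.card {C : ConjClasses G // ∃ g : G, ConjClasses.mk g = C ∧ orderOf g = r} =
      Nat.card {C : ConjClasses H // ∃ g : H, ConjClasses.mk g = C ∧ orderOf g = r} := by
  refine Nat.card_eq_of_bijective (fun C => ⟨ConjClasses.map e.toMonoidHom C.1, by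
    obtain ⟨g, hg, ho⟩ := C.2
    exact ⟨e g, by rw [← hg]; rfl, by rw [MulEquiv.orderOf_eq, ho]⟩⟩) ⟨?_, ?_⟩
  · intro x y hxy
    obtain ⟨g, hg, -⟩ := x.2
    obtain ⟨h, hh, -⟩ := y.2
    have hv := congrArg Subtype.val hxy
    simp only [← hg, ← hh] at hv
    have h1 := e.symm.toMonoidHom.map_isConj (ConjClasses.mk_eq_mk_iff_isConj.1 hv)
    refine Subtype.ext ?_
    rw [← hg, ← hh]
    exact ConjClasses.mk_eq_mk_iff_isConj.2 (by simpa using h1)
  · rintro ⟨C, g, rfl, ho⟩
    exact ⟨⟨ConjClasses.mk (e.symm g), e.symm g, rfl, by rw [MulEquiv.orderOf_eq, ho]⟩, Subtype.ext (congrArg ConjClasses.mk (e.apply_symm_apply g))⟩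

variable (hD : Data F r i t P)
include hD

omit [Fintype F] in
theorem dvd_kd [FiniteDimensional F V] (A : Module.End F V) (j : Fin t) : i ∣ kd P A (some j) := by
  haveI : Fact (Irreducible (P (some j))) := ⟨hD.irred _⟩
  have h := natDegree_dvd_finrank (P (some j)) (A.restrict (ker_invariant A (P (some j)))) (aeval_restrict_ker _ _)
  rwa [hD.deg] at h

omit [Fintype F] in
theorem kd_one [FiniteDimensional F V] (j : Fin t) : kd P (1 : Module.End F V) (some j) = 0 := by
  have h1 : (P (some j)).eval 1 ≠ 0 := fun h => by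
    obtain ⟨u, v, huv⟩ := hD.coprime (show (none : Option (Fin t)) ≠ some j from nofun)
    have := congrArg (Polynomial.eval (1 : F)) huv
    simp [hD.zero, h] at this
  rw [kd, show (1 : Module.End F V) = algebraMap F _ 1 from (map_one _).symm, aeval_algebraMap_apply_eq_algebraMap_eval,
    LinearMap.ker_eq_bot.2 fun x y e => ?_, finrank_bot]
  simp only [Module.algebraMap_end_apply] at e
  exact smul_right_injective V h1 e

omit [Fintype F] in
theorem kd_sum [FiniteDimensional F V] {A : Module.End F V} (hA : A ^ r = 1) :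
    kd P A none + ∑ j, kd P A (some j) = Module.finrank F V := by
  classical
  haveI : ∀ o, Fact (Irreducible (P o)) := fun o => ⟨hD.irred o⟩
  rw [← Fintype.sum_option (kd P A)]
  exact finrank_sum P hD.coprime A (aeval_prod_eq_zero hD hA)

omit [Fintype F] in
theorem similar_of_kd [FiniteDimensional F V] {A B : Module.End F V} (hA : A ^ r = 1) (hB : B ^ r = 1)
    (h : ∀ j, kd P A (some j) = kd P B (some j)) : ∃ e : V ≃ₗ[F] V, ∀ v, e (A v) = B (e v) := by
  classical
  haveI : ∀ o, Fact (Irreducible (P o)) := fun o => ⟨hD.irred o⟩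
  refine similar_of_finrank P hD.coprime A B (aeval_prod_eq_zero hD hA) (aeval_prod_eq_zero hD hB) fun o => ?_
  rcases o with _ | j
  · have h1 := kd_sum hD hA
    have h2 := kd_sum hD hB
    rw [Finset.sum_congr rfl fun j _ => h j] at h1
    show kd P A none = kd P B none
    omega
  · exact h j

omit [Fintype F] in
theorem card_classes_gen (hi : 0 < i) [FiniteDimensional F V] {G : Type*} [Group G] (ρ : G →* Module.End F V)
    (hρ : Function.Injective ρ)
    (hconj : ∀ a b : G, a ^ r = 1 → b ^ r = 1 → (∃ e : V ≃ₗ[F] V, ∀ x, e (ρ a x) = ρ b (e x)) → IsConj a b)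
    (sel : (Fin t → ℕ) → Prop) (hsel : ∀ a : G, a ^ r = 1 → sel fun j => kd P (ρ a) (some j) / i)
    (hreal : ∀ b, sel b → ∃ a : G, a ^ r = 1 ∧ ∀ j, kd P (ρ a) (some j) = i * b j) :
    Nat.card {C : ConjClasses G // ∃ g : G, ConjClasses.mk g = C ∧ orderOf g = r} =
      Nat.card {b : Fin t → ℕ // b ≠ 0 ∧ sel b} := by
  classical
  choose a ha hak using hreal
  have hinv : ∀ g h : G, IsConj g h → ∀ o, kd P (ρ g) o = kd P (ρ h) o := by
    intro g h hc o
    obtain ⟨c, rfl⟩ := isConj_iff.1 hc
    let e : V ≃ₗ[F] V := LinearEquiv.ofLinear (ρ c) (ρ c⁻¹)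
      (by rw [← Module.End.mul_eq_comp, ← map_mul, mul_inv_cancel, map_one]; rfl)
      (by rw [← Module.End.mul_eq_comp, ← map_mul, inv_mul_cancel, map_one]; rfl)
    refine kd_of_intertwine _ _ e (fun x => ?_) o
    show (ρ c * ρ g) x = (ρ (c * g * c⁻¹) * ρ c) x
    rw [← map_mul, ← map_mul, inv_mul_cancel_right]
  have hord : ∀ b : {b : Fin t → ℕ // b ≠ 0 ∧ sel b}, orderOf (a b.1 b.2.2) = r := fun b => by
    haveI := Fact.mk hD.prime
    refine orderOf_eq_prime (ha _ _) fun h => b.2.1 (funext fun j => ?_)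
    have h2 := hak b.1 b.2.2 j
    rw [h, map_one, kd_one hD] at h2
    exact (mul_eq_zero.1 h2.symm).resolve_left hi.ne'
  symm
  refine Nat.card_congr (Equiv.ofBijective (fun b => (⟨ConjClasses.mk (a b.1 b.2.2), _, rfl, hord b⟩ :
    {C : ConjClasses G // ∃ g : G, ConjClasses.mk g = C ∧ orderOf g = r})) ⟨?_, ?_⟩)
  · intro b b' h
    refine Subtype.ext (funext fun j => ?_)
    have h1 := hinv _ _ (ConjClasses.mk_eq_mk_iff_isConj.1 (congrArg Subtype.val h)) (some j)
    rw [hak, hak] at h1
    exact Nat.eq_of_mul_eq_mul_left hi h1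
  · rintro ⟨C, g, rfl, hg⟩
    have hg1 : g ^ r = 1 := hg ▸ pow_orderOf_eq_one g
    obtain ⟨b, hb⟩ : ∃ b : Fin t → ℕ, b = fun j => kd P (ρ g) (some j) / i := ⟨_, rfl⟩
    have hbj : ∀ j, i * b j = kd P (ρ g) (some j) := fun j => by rw [hb]; exact Nat.mul_div_cancel' (dvd_kd hD _ j)
    have hρg : ρ g ^ r = 1 := by rw [← map_pow, hg1, map_one]
    have hb0 : b ≠ 0 := fun h0 => by
      have hz : ∀ j, kd P (ρ g) (some j) = kd P (1 : Module.End F V) (some j) := fun j => by
        rw [← hbj, h0, Pi.zero_apply, mul_zero, kd_one hD]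
      obtain ⟨e, he⟩ := similar_of_kd hD hρg (one_pow r) hz
      have h1 : ρ g = 1 := LinearMap.ext fun v => e.injective (he v)
      rw [← map_one ρ] at h1
      rw [hρ h1, orderOf_one] at hg
      exact hD.prime.ne_one hg.symm
    have hs : sel b := hb ▸ hsel g hg1
    refine ⟨⟨b, hb0, hs⟩, Subtype.ext (ConjClasses.mk_eq_mk_iff_isConj.2 (hconj _ _ (ha _ _) hg1 ?_))⟩
    exact similar_of_kd hD (by rw [← map_pow, ha, map_one]) hρg fun j => by rw [hak, hbj]

omit hD [Fintype F] in
theorem tuple_induction (δ : Fin t → Fin t) (hδ : ∀ j, δ (δ j) = j) (M : (Fin t → ℕ) → Prop) (h0 : M 0)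
    (hadd : ∀ a b, M a → M b → M (a + b)) (hpair : ∀ j, δ j ≠ j → M (Pi.single j 1 + Pi.single (δ j) 1))
    (hself : ∀ j, δ j = j → M (Pi.single j 1)) : ∀ b, (∀ j, b (δ j) = b j) → M b := by
  classical
  intro b
  induction hn : ∑ j, b j using Nat.strong_induction_on generalizing b with
  | _ n ih =>
    intro hb
    by_cases hb0 : b = 0
    · rw [hb0]; exact h0
    obtain ⟨j, hj⟩ : ∃ j, 0 < b j := by
      by_contra hc; push Not at hc; exact hb0 (funext fun j => Nat.le_zero.1 (hc j))
    by_cases hjj : δ j = j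
    · have he : b = Function.update b j (b j - 1) + Pi.single j 1 := funext fun k => by
        rcases eq_or_ne k j with rfl | h
        · simp; omega
        · simp [h]
      have hs := congrArg (fun c : Fin t → ℕ => ∑ k, c k) he
      simp [Finset.sum_add_distrib] at hs
      rw [he]
      refine hadd _ _ (ih (∑ k, Function.update b j (b j - 1) k) (by omega) _ rfl fun k => ?_) (hself j hjj)
      rcases eq_or_ne k j with rfl | h
      · rw [hjj]
      · have h' : δ k ≠ j := fun e => h (by rw [← hδ k, e, hjj])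
        simp [h, h', hb k]
    · let c : Fin t → ℕ := fun k => if k = j ∨ k = δ j then b k - 1 else b k
      have he : b = c + (Pi.single j 1 + Pi.single (δ j) 1) := funext fun k => by
        have hbj : b (δ j) = b j := hb j
        by_cases h1 : k = j
        · subst h1; simp [c, Ne.symm hjj]; omega
        · by_cases h2 : k = δ j
          · subst h2; simp [c, h1]; omega
          · simp [c, h1, h2]
      have hs := congrArg (fun c : Fin t → ℕ => ∑ k, c k) he
      simp [Finset.sum_add_distrib] at hs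
      rw [he]
      refine hadd _ _ (ih (∑ k, c k) (by omega) _ rfl fun k => ?_) (hpair j hjj)
      have h1 : δ k = j ↔ k = δ j := ⟨fun e => by rw [← e, hδ], fun e => by rw [e, hδ]⟩
      have h2 : δ k = δ j ↔ k = j := ⟨fun e => by rw [← hδ k, e, hδ], fun e => by rw [e]⟩
      simp only [c, h1, h2, or_comm, hb k]

variable (δ : Option (Fin t) → Option (Fin t)) (hδ : ∀ l o, P o ∣ (P l).comp (X ^ (r - 1)) ↔ o = δ l)
  (hδ0 : ∀ o, δ (δ o) = o) (δ' : Fin t → Fin t) (hδ' : ∀ j, δ (some j) = some (δ' j))

omit hD [Fintype F] in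
include hδ0 hδ' in
theorem prime_invol (j : Fin t) : δ' (δ' j) = j := Option.some_injective _ (by rw [← hδ', ← hδ', hδ0])

omit hD [Fintype F] in
include hδ0 hδ' in
theorem pair_kd_eq {k : Fin t} (j : Fin t) :
    (if some k = some j then i else 0) + (if δ (some k) = some j then i else 0) =
      i * (Pi.single j 1 + Pi.single (δ' j) 1 : Fin t → ℕ) k := by
  classical
  have h : δ (some k) = some j ↔ k = δ' j := by
    rw [hδ', Option.some_inj]
    exact ⟨fun e => by rw [← e, prime_invol δ hδ0 δ' hδ'], fun e => by rw [e, prime_invol δ hδ0 δ' hδ']⟩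
  simp only [h, Option.some_inj, Pi.add_apply, Pi.single_apply]
  split_ifs <;> simp <;> ring

include hδ hδ0 hδ'

theorem exists_alt_model (hi : 0 < i) : ∀ b : Fin t → ℕ, (∀ j, b (δ' j) = b j) →
    ∃ (W : Type u) (_ : AddCommGroup W) (_ : Module F W) (_ : FiniteDimensional F W) (A : Module.End F W)
      (B : LinearMap.BilinForm F W), A ^ r = 1 ∧ Module.finrank F W = i * ∑ j, b j ∧
      (∀ j, kd P A (some j) = i * b j) ∧ (∀ x y, B (A x) (A y) = B x y) ∧ B.IsAlt ∧ ∀ x, (∀ y, B x y = 0) → x = 0 := by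
  classical
  refine tuple_induction δ' (prime_invol δ hδ0 δ' hδ') _ ?_ ?_ ?_ ?_
  · exact ⟨Fin 0 → F, _, _, inferInstance, 1, 0, one_pow _, by simp, fun j => by rw [kd_one hD]; simp, by simp, by simp [LinearMap.IsAlt],
      fun x _ => Subsingleton.elim _ _⟩
  · rintro a b ⟨W, _, _, _, A, B, hA, hW, hk, hB, hBa, hBn⟩ ⟨W', _, _, _, A', B', hA', hW', hk', hB', hBa', hBn'⟩
    refine ⟨W × W', _, _, inferInstance, A.prodMap A',
      B.compl₁₂ (LinearMap.fst F W W') (LinearMap.fst F W W') + B'.compl₁₂ (LinearMap.snd F W W') (LinearMap.snd F W W'),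
      ?_, ?_, fun j => by rw [kd_prodMap, hk, hk', Pi.add_apply, mul_add], fun x y => ?_, fun x => ?_, fun x hx => ?_⟩
    · rw [prodMap_pow, hA, hA']; rfl
    · rw [Module.finrank_prod, hW, hW']; simp [Finset.sum_add_distrib, mul_add]
    · simp [hB, hB']
    · simp [hBa x.1, hBa' x.2]
    · exact Prod.ext (hBn _ fun y => by simpa using hx (y, 0)) (hBn' _ fun y => by simpa using hx (0, y))
  · intro j hj
    obtain ⟨A, hA, -, hA2, hk⟩ := exists_pair_block hD δ hδ j
    refine ⟨(Fin i → F) × Module.Dual F (Fin i → F), _, _, inferInstance, A,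
      (LinearMap.id (R := F)).compl₁₂ (LinearMap.snd F (Fin i → F) (Module.Dual F (Fin i → F))) (LinearMap.fst F (Fin i → F) _) -
        ((LinearMap.id (R := F)).compl₁₂ (LinearMap.snd F (Fin i → F) (Module.Dual F (Fin i → F))) (LinearMap.fst F (Fin i → F) _)).flip,
      hA, ?_, fun k => by rw [hk, pair_kd_eq δ hδ0 δ' hδ'], fun x y => ?_, fun x => ?_, fun x hx => ?_⟩
    · rw [Module.finrank_prod, Subspace.dual_finrank_eq]
      simp [Finset.sum_add_distrib, mul_add, mul_two]
    · simp [hA2]
    · simp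
    · have h1 : x.2 = 0 := LinearMap.ext fun v => by simpa using hx (v, 0)
      refine Prod.ext ((Module.forall_dual_apply_eq_zero_iff F x.1).1 fun f => ?_) h1
      simpa [h1] using hx (0, f)
  · intro j hj
    obtain ⟨A, C, hA, hC, hn, hk⟩ := exists_self_block hD hi δ hδ hδ0 j (by rw [hδ', hj]) (-1 : F)
    refine ⟨Fin i → F, _, _, inferInstance, A, C - C.flip, hA, by simp, fun k => ?_, fun x y => by simp [hC], fun x => by simp,
      fun x hx => hn x fun y => by simpa [sub_eq_add_neg] using hx y⟩
    rw [hk]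
    simp [Pi.single_apply]

/-- The sign of the realisation without fixed space. -/
def tupleSign (i : ℕ) (b : Fin t → ℕ) : ℤ := if Even i then (-1) ^ ∑ j, b j else 1

omit hD [Fintype F] hδ hδ0 hδ' in
theorem polar_prod {W W' : Type u} [AddCommGroup W] [Module F W] [AddCommGroup W'] [Module F W']
    {Q : QuadraticForm F W} {Q' : QuadraticForm F W'} (h : PolarNondeg Q) (h' : PolarNondeg Q') : PolarNondeg (Q.prod Q') := by
  intro v hv
  refine Prod.ext (h _ fun w => ?_) (h' _ fun w => ?_)
  · simpa [QuadraticMap.polar] using hv (w, 0)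
  · simpa [QuadraticMap.polar] using hv (0, w)

theorem exists_quad_model (hi : 0 < i) {q : ℕ} (hq : Fintype.card F = q) (hord : orderOf (q : ZMod r) = i) :
    ∀ b : Fin t → ℕ, (∀ j, b (δ' j) = b j) →
    ∃ (W : Type u) (_ : AddCommGroup W) (_ : Module F W) (_ : FiniteDimensional F W) (A : Module.End F W)
      (Q : QuadraticForm F W) (k : ℕ), A ^ r = 1 ∧ Module.finrank F W = 2 * k ∧ i * ∑ j, b j = 2 * k ∧
      (∀ j, kd P A (some j) = i * b j) ∧ (∀ x, Q (A x) = Q x) ∧ PolarNondeg Q ∧ HasSign Q k (tupleSign i b) := by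
  classical
  refine tuple_induction δ' (prime_invol δ hδ0 δ' hδ') _ ?_ ?_ ?_ ?_
  · exact ⟨Fin 0 → F, _, _, inferInstance, 1, 0, 0, one_pow _, by simp, by simp, fun j => by rw [kd_one hD]; simp, by simp,
      fun x _ => Subsingleton.elim _ _, by simpa [tupleSign] using hasSign_zero (0 : QuadraticForm F (Fin 0 → F))⟩
  · rintro a b ⟨W, _, _, _, A, Q, k, hA, hW, hs, hk, hQ, hQn, hQs⟩ ⟨W', _, _, _, A', Q', k', hA', hW', hs', hk', hQ', hQn', hQs'⟩
    haveI : Finite W := Module.finite_of_finite F
    haveI : Finite W' := Module.finite_of_finite F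
    refine ⟨W × W', _, _, inferInstance, A.prodMap A', Q.prod Q', k + k',
      ?_, by rw [Module.finrank_prod, hW, hW', mul_add], ?_, fun j => by rw [kd_prodMap, hk, hk', Pi.add_apply, mul_add],
      fun x => by simp [hQ, hQ'], polar_prod hQn hQn', ?_⟩
    · rw [prodMap_pow, hA, hA']; rfl
    · simp only [Pi.add_apply, Finset.sum_add_distrib, mul_add, hs, hs']
    · have h : tupleSign i (a + b) = tupleSign i a * tupleSign i b := by
        simp only [tupleSign, Pi.add_apply, Finset.sum_add_distrib, pow_add]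
        split_ifs <;> simp
      rw [h]
      exact hasSign_prod hQs hQs'
  · intro j hj
    obtain ⟨A, hA, hA1, -, hk⟩ := exists_pair_block hD δ hδ j
    haveI : Finite (Fin i → F) := inferInstance
    let Q : QuadraticForm F ((Fin i → F) × Module.Dual F (Fin i → F)) :=
      LinearMap.BilinMap.toQuadraticMap
        ((LinearMap.id (R := F)).compl₁₂ (LinearMap.snd F (Fin i → F) (Module.Dual F (Fin i → F))) (LinearMap.fst F (Fin i → F) _))
    have hQ : ∀ x, Q x = x.2 x.1 := fun x => rfl
    refine ⟨(Fin i → F) × Module.Dual F (Fin i → F), _, _, inferInstance, A, Q, i, hA, ?_, ?_,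
      fun k => by rw [hk, pair_kd_eq δ hδ0 δ' hδ'], fun x => by rw [hQ, hQ, hA1], fun x hx => ?_, ?_⟩
    · rw [Module.finrank_prod, Subspace.dual_finrank_eq]; simp; ring
    · simp [Finset.sum_add_distrib]; ring
    · have h1 : x.2 = 0 := LinearMap.ext fun v => by simpa [QuadraticMap.polar, hQ] using hx (v, 0)
      refine Prod.ext ((Module.forall_dual_apply_eq_zero_iff F x.1).1 fun f => ?_) h1
      simpa [QuadraticMap.polar, hQ, h1] using hx (0, f)
    · have hodd : ¬ Even i := fun he => hj (Option.some_injective _ (by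
        rw [← hδ']; exact ((hδ (some j) (some j)).1 ((fixed_iff hD hq hord hi j).2 he)).symm))
      rw [tupleSign, if_neg hodd]
      exact hasSign_of_pairing Q hQ (by simp)
  · intro j hj
    obtain ⟨A, C, hA, hC, hn, hk⟩ := exists_self_block hD hi δ hδ hδ0 j (by rw [hδ', hj]) (1 : F)
    have heven : Even i := (fixed_iff hD hq hord hi j).1 ((hδ _ _).2 (by rw [hδ', hj]))
    obtain ⟨k, rfl⟩ := heven.two_dvd
    let Q : QuadraticForm F (Fin (2 * k) → F) := LinearMap.BilinMap.toQuadraticMap C
    have hQA : ∀ x, Q (A x) = Q x := fun x => hC x x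
    have hQn : PolarNondeg Q := fun x hx => hn x fun y => by
      have h := hx y
      rw [LinearMap.BilinMap.polar_toQuadraticMap] at h
      simpa using h
    obtain ⟨ε, hε, hsg⟩ := exists_hasSign k Q hQn (by simp)
    refine ⟨Fin (2 * k) → F, _, _, inferInstance, A, Q, k, hA, by simp, by simp, fun l => ?_, hQA, hQn, ?_⟩
    · rw [hk]; simp [Pi.single_apply]
    · have he : tupleSign (2 * k) (Pi.single j 1 : Fin t → ℕ) = -1 := by simp [tupleSign]
      rw [he]
      rcases hε with rfl | rfl
      swap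
      · exact hsg
      exfalso
      have hk0 : 0 < k := by omega
      obtain ⟨e, he'⟩ := exists_isometry_of_hasSign k Q (qPlus k F) 1 hQn (polarNondeg_qPlus k) (by simp) (by simp; omega) hsg (hasSign_qPlus k)
      have hinvA : Function.Bijective A := by
        have hl : Function.Injective A := fun x y e => by
          have := congrArg (A ^ (r - 1) : Module.End F (Fin (2 * k) → F)) e
          rwa [← Module.End.mul_apply, ← Module.End.mul_apply, ← pow_succ, Nat.sub_add_cancel hD.prime.one_le, hA] at this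
        exact Finite.injective_iff_bijective.1 hl
      let a : qAut Q := ⟨LinearEquiv.ofBijective A hinvA, hQA⟩
      have hpow : ∀ n : ℕ, (a ^ n).1.toLinearMap = A ^ n := fun n => by
        induction n with
        | zero => rfl
        | succ n ih => rw [pow_succ, pow_succ, ← ih]; rfl
      haveI := Fact.mk hD.prime
      have ho : orderOf a = r := by
        refine orderOf_eq_prime (qAut_ext fun v => ?_) fun h1 => ?_
        · exact congrArg (fun f : Module.End F (Fin (2 * k) → F) => f v) ((hpow r).trans hA)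
        · have hA1 : A = 1 := by
            have := hpow 1
            rw [pow_one, pow_one, h1] at this
            exact this.symm
          have h2 := hk (some j)
          rw [hA1, kd_one hD, if_pos rfl] at h2
          omega
      haveI : Finite (qAut Q) := finite_qAut Q
      have hdvd : r ∣ Nat.card (qAut (qExt k (0 : QuadraticForm F (Fin 0 → F)))) := by
        rw [← card_qAut_qPlus, ← Nat.card_congr (qAutCongr e he').toEquiv, ← ho]
        exact orderOf_dvd_natCard a
      obtain ⟨k', rfl⟩ := Nat.exists_eq_add_of_le' hk0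
      rw [card_qAut_plus, hq] at hdvd
      have hp := hD.prime.prime
      have hz : ∀ n, 1 ≤ n → n < 2 * (k' + 1) → ¬ r ∣ q ^ n - 1 := fun n hn1 hn2 h => by
        have h1 : (q : ZMod r) ^ n = 1 := by
          rw [← Nat.cast_pow, ← Nat.cast_one, ZMod.natCast_eq_natCast_iff]
          exact ((Nat.modEq_iff_dvd' (Nat.one_le_pow _ _ (hq ▸ Fintype.card_pos))).2 h).symm
        have := Nat.le_of_dvd (by omega) (hord ▸ orderOf_dvd_of_pow_eq_one h1)
        omega
      rcases hp.dvd_or_dvd hdvd with h | h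
      · rcases hp.dvd_or_dvd h with h | h
        · rcases hp.dvd_or_dvd h with h | h
          · exact hD.ne_two ((Nat.prime_dvd_prime_iff_eq hD.prime Nat.prime_two).1 h)
          · have h0 : (q : ZMod r) = 0 := (ZMod.natCast_eq_zero_iff _ _).2 (hp.dvd_of_dvd_pow h)
            have h1 : (q : ZMod r) ^ (2 * (k' + 1)) = 1 := hord ▸ pow_orderOf_eq_one _
            rw [h0, zero_pow (by omega)] at h1
            exact zero_ne_one h1
        · exact hz _ (by omega) (by omega) h
      · obtain ⟨l, hl, h'⟩ := (Prime.dvd_finset_prod_iff hp _).1 h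
        rw [Finset.mem_range] at hl
        exact hz _ (by omega) (by omega) h'

end CfsgLib.Classical.SpOPrime
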