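/-
Counting the classes of elements of odd prime order in symplectic and orthogonal groups.
-/
import Cfsg.Agent.Lib.Classical.SpOrthPrimeClasses
import Cfsg.Agent.Lib.Classical.QuadBases

set_option autoImplicit false

namespace CfsgLib.Classical.SpOCount

open Polynomial CfsgLib.Classical CfsgLib.Classical.Primary CfsgLib.Classical.InvIdx CfsgLib.Classical.SDBlock
  CfsgLib.Classical.QuadSign CfsgLib.Classical.SpOPrime

universe u

variable {F : Type u} [Field F] [Fintype F] {r t i : ℕ} {P : Option (Fin t) → F[X]}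

omit [Fintype F] in
theorem exists_setup [Fintype F] {p q : ℕ} [Fact p.Prime] [CharP F p] (hF : Fintype.card F = q)
    (hr : r.Prime) (hr2 : r ≠ 2) (hrp : r ≠ p) (hi : i = orderOf (q : ZMod r)) (ht : t * i = r - 1) :
    0 < i ∧ ∃ (P : Option (Fin t) → F[X]) (δ : Option (Fin t) → Option (Fin t)) (δ' : Fin t → Fin t),
      Data F r i t P ∧ (∀ l o, P o ∣ (P l).comp (X ^ (r - 1)) ↔ o = δ l) ∧ (∀ o, δ (δ o) = o) ∧
      (∀ j, δ (some j) = some (δ' j)) ∧ (∀ j, δ' (δ' j) = j) ∧ ∀ j, δ' j = j ↔ Even i := by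
  obtain ⟨hi0, P, hP0, hirr, hdeg, hco, hprod⟩ := GLPrimeData.exists_factors hF r i t hr hrp hi ht
  have hrF : (r : F) ≠ 0 := fun h =>
    hrp ((Nat.prime_dvd_prime_iff_eq Fact.out hr).1 ((CharP.cast_eq_zero_iff F p r).1 h)).symm
  have hD : Data F r i t P := ⟨hr, hr2, hrF, hP0, hirr, hdeg, hco, hprod⟩
  obtain ⟨δ, hn, hδ0, hδ⟩ := InvIdx.exists_inv hD
  have hs : ∀ j, ∃ k, δ (some j) = some k := fun j => by
    rcases h : δ (some j) with _ | k
    · have := congrArg δ h; rw [hδ0, hn] at this; cases this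
    · exact ⟨k, rfl⟩
  choose δ' hδ' using hs
  refine ⟨hi0, P, δ, δ', hD, hδ, hδ0, hδ', prime_invol δ hδ0 δ' hδ', fun j => ?_⟩
  rw [← fixed_iff hD hF hi.symm hi0 j, hδ, hδ', Option.some_inj, eq_comm]

omit [Fintype F] in
theorem card_sel (δ' : Fin t → Fin t) (h2 : ∀ j, δ' (δ' j) = j) (hfix : ∀ j, δ' j = j ↔ Even i) (N : ℕ) :
    Nat.card {b : Fin t → ℕ // b ≠ 0 ∧ ((∀ j, b (δ' j) = b j) ∧ ∑ j, b j ≤ N)} =
      if Odd i then (N / 2 + t / 2).choose (t / 2) - 1 else (N + t).choose t - 1 := by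
  split_ifs with h
  · rw [← GUPrime.card_invariant_tuples δ' h2 (fun j e => Nat.not_even_iff_odd.2 h ((hfix j).1 e)) N]
    exact Nat.card_congr (Equiv.subtypeEquivRight fun b => by tauto)
  · have hall : ∀ j, δ' j = j := fun j => (hfix j).2 (Nat.not_odd_iff_even.1 h)
    let A := {c : Fin t → ℕ // ∑ j, c j ≤ N}
    haveI : Finite A := Nat.finite_of_card_ne_zero (by rw [GLPrimeData.card_tuples]; exact (Nat.choose_pos (Nat.le_add_left _ _)).ne')
    let z : A := ⟨0, by simp⟩
    let e : {b : Fin t → ℕ // b ≠ 0 ∧ ((∀ j, b (δ' j) = b j) ∧ ∑ j, b j ≤ N)} ≃ ↥(({z} : Set A)ᶜ) :=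
      { toFun := fun c => ⟨⟨c.1, c.2.2.2⟩, fun h => c.2.1 (congrArg Subtype.val h)⟩
        invFun := fun c => ⟨c.1.1, fun h => c.2 (Subtype.ext h), fun j => by rw [hall j], c.1.2⟩
        left_inv := fun c => rfl
        right_inv := fun c => rfl }
    rw [Nat.card_congr e, Nat.card_coe_set_eq, Set.ncard_compl, Set.ncard_singleton, GLPrimeData.card_tuples]

variable (hi : 0 < i) (hD : Data F r i t P) (δ : Option (Fin t) → Option (Fin t))
  (hδ : ∀ l o, P o ∣ (P l).comp (X ^ (r - 1)) ↔ o = δ l) (hδ0 : ∀ o, δ (δ o) = o) (δ' : Fin t → Fin t)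
  (hδ' : ∀ j, δ (some j) = some (δ' j))
variable {V : Type u} [AddCommGroup V] [Module F V] [FiniteDimensional F V]

omit [Fintype F] in
include hi hD hδ hδ' in
theorem sel_basic {A : Module.End F V} (hA : A ^ r = 1) (B : LinearMap.BilinForm F V)
    (hAB : ∀ x y, B (A x) (A y) = B x y) (hB : ∀ x, (∀ y, B x y = 0) → x = 0) :
    (∀ j, kd P A (some (δ' j)) / i = kd P A (some j) / i) ∧ ∑ j, kd P A (some j) / i ≤ Module.finrank F V / i := by
  refine ⟨fun j => by rw [← hδ', ← kd_symm hD δ hδ hA B hAB hB], ?_⟩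
  have h := kd_sum hD hA
  rw [Nat.le_div_iff_mul_le hi, Finset.sum_mul, Finset.sum_congr rfl fun j _ => Nat.div_mul_cancel (dvd_kd hD A j)]
  omega

omit [Fintype F] [FiniteDimensional F V] in
theorem qAut_polar_end {Q : QuadraticForm F V} {A : Module.End F V} (h : ∀ x, Q (A x) = Q x) (x y : V) :
    QuadraticMap.polarBilin Q (A x) (A y) = QuadraticMap.polarBilin Q x y := by
  simp [QuadraticMap.polar, ← map_add, h]

/-- The action as endomorphisms. -/
def actHom (Q : QuadraticForm F V) : qAut Q →* Module.End F V where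
  toFun a := a.1.toLinearMap
  map_one' := rfl
  map_mul' _ _ := rfl

omit [Fintype F] [FiniteDimensional F V] in
theorem actHom_inj (Q : QuadraticForm F V) : Function.Injective (actHom Q) :=
  fun a b h => qAut_ext fun v => congrArg (fun f : Module.End F V => f v) h

include hD in
theorem quad_conj (Q : QuadraticForm F V) (hQ : PolarNondeg Q) (a b : qAut Q) (ha : a ^ r = 1) (_hb : b ^ r = 1)
    (h : ∃ e : V ≃ₗ[F] V, ∀ x, e (actHom Q a x) = actHom Q b (e x)) : IsConj a b := by
  obtain ⟨e, he⟩ := h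
  have hA : (a.1.toLinearMap : Module.End F V) ^ r = 1 := by
    show actHom Q a ^ r = 1
    rw [← map_pow, ha, map_one]
  obtain ⟨g, hgQ, hgA⟩ := SemiConj.exists_quad_intertwine Q hQ hD.cast_ne (hD.prime.odd_of_ne_two hD.ne_two) a.1 b.1 e he hA
    (fun v => a.2 v) (fun v => b.2 v)
  exact isConj_iff.2 ⟨⟨g, hgQ⟩, by rw [mul_inv_eq_iff_eq_mul]; exact qAut_ext fun v => hgA v⟩

omit [Fintype F] in
include hD in
/-- An isometry of a similar space gives an element of the orthogonal group. -/
theorem transport (Q : QuadraticForm F V) {W : Type u} [AddCommGroup W] [Module F W] [FiniteDimensional F W]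
    (Q' : QuadraticForm F W) (A : Module.End F W) (hA : A ^ r = 1) (hQA : ∀ x, Q' (A x) = Q' x)
    (e : V ≃ₗ[F] W) {c : F} (hc : c ≠ 0) (he : ∀ x, Q' (e x) = c * Q x) :
    ∃ a : qAut Q, a ^ r = 1 ∧ ∀ o, kd P (actHom Q a) o = kd P A o := by
  have hinv : ∀ x, A ((A ^ (r - 1)) x) = x := inv_apply hD.prime.pos hA
  have hinv' : ∀ x, (A ^ (r - 1)) (A x) = x := fun x => by
    rw [← Module.End.mul_apply, ← pow_succ, Nat.sub_add_cancel hD.prime.one_le, hA]; rfl
  let Ae : W ≃ₗ[F] W := LinearEquiv.ofLinear A (A ^ (r - 1)) (LinearMap.ext hinv) (LinearMap.ext hinv')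
  let a : qAut Q := ⟨e.trans (Ae.trans e.symm), fun v => mul_left_cancel₀ hc (by
    rw [← he, ← he, LinearEquiv.trans_apply, LinearEquiv.trans_apply, LinearEquiv.apply_symm_apply]
    exact hQA _)⟩
  have hpow : ∀ (n : ℕ) v, e ((a ^ n).1 v) = (A ^ n) (e v) := fun n => by
    induction n with
    | zero => intro v; rfl
    | succ n ih =>
      intro v
      rw [pow_succ, Subgroup.coe_mul, LinearEquiv.mul_apply, ih, pow_succ, Module.End.mul_apply]
      exact congrArg (A ^ n) (e.apply_symm_apply (A (e v)))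
  refine ⟨a, qAut_ext fun v => e.injective (by rw [hpow, hA]; rfl), fun o => kd_of_intertwine _ A e (fun x => ?_) o⟩
  have := hpow 1 x
  rwa [pow_one, pow_one] at this

include hD in
/-- Without fixed vectors the invariant form is unique up to isometry. -/
theorem isometric_of_fpf (Q Q₂ : QuadraticForm F V) (hQ : PolarNondeg Q) (hQ₂ : PolarNondeg Q₂) (A : Module.End F V)
    (hA : A ^ r = 1) (hfix : kd P A none = 0) (hQA : ∀ x, Q (A x) = Q x) (hQA₂ : ∀ x, Q₂ (A x) = Q₂ x) :
    ∃ z : V ≃ₗ[F] V, ∀ x, Q (z x) = Q₂ x := by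
  have hinj : Function.Injective (A - 1 : Module.End F V) := by
    rw [← LinearMap.ker_eq_bot, ← Submodule.finrank_eq_zero (R := F)]
    simpa [kd, hD.zero] using hfix
  have hinj2 : Function.Injective (A ^ 2 - 1 : Module.End F V) := by
    intro x y e
    obtain ⟨k, hk⟩ := hD.prime.odd_of_ne_two hD.ne_two
    have e' : A (A (x - y)) = x - y := by
      simp [pow_two] at e
      simp only [map_sub]
      linear_combination (norm := module) e
    have hpow : ∀ j : ℕ, (A ^ (2 * j)) (x - y) = x - y := fun j => by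
      induction j with
      | zero => simp
      | succ j ih => rw [mul_add, pow_add, Module.End.mul_apply, mul_one, pow_two, Module.End.mul_apply, e', ih]
    have hfix' : A (x - y) = x - y :=
      calc A (x - y) = A ((A ^ (2 * k)) (x - y)) := by rw [hpow]
        _ = (A ^ (2 * k + 1)) (x - y) := by rw [pow_succ', Module.End.mul_apply]
        _ = x - y := by rw [← hk, hA]; rfl
    refine hinj ?_
    simp only [LinearMap.sub_apply, Module.End.one_apply]
    rw [map_sub] at hfix'
    linear_combination (norm := module) hfix'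
  obtain ⟨z, hzA, hzz⟩ := SemiConj.twin_no_fixed A (QuadraticMap.polarBilin Q) (QuadraticMap.polarBilin Q₂) 1 hD.prime.pos hA
    (fun x y => by simp [QuadraticMap.polar_comm]) (fun x y => by simp [QuadraticMap.polar_comm])
    (qAut_polar_end hQA) (qAut_polar_end hQA₂) (PolarNondeg.nondegenerate hQ) hQ₂ hinj2
  refine ⟨z, fun x => ?_⟩
  obtain ⟨w, rfl⟩ := LinearMap.injective_iff_surjective.1 hinj x
  have hadd : ∀ a b, Q (z (a + b)) - Q₂ (a + b) = (Q (z a) - Q₂ a) + (Q (z b) - Q₂ b) := fun a b => by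
    have h1 := hzz a b
    simp only [QuadraticMap.polarBilin_apply_apply, QuadraticMap.polar] at h1
    rw [map_add z]
    linear_combination h1
  have h := hadd ((A - 1 : Module.End F V) w) w
  rw [LinearMap.sub_apply, Module.End.one_apply, sub_add_cancel, hzA, hQA, hQA₂] at h
  rw [LinearMap.sub_apply, Module.End.one_apply]
  linear_combination -h

include hi hD hδ hδ0 hδ'

theorem card_sp (hfix : ∀ j, δ' j = j ↔ Even i) (m : ℕ) :
    Nat.card {C : ConjClasses ↥(Matrix.symplecticGroup (Fin m) F) // ∃ g : Matrix.symplecticGroup (Fin m) F,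
      ConjClasses.mk g = C ∧ orderOf g = r} =
      if Odd i then (2 * m / i / 2 + t / 2).choose (t / 2) - 1 else (2 * m / i + t).choose t - 1 := by
  classical
  rw [← card_sel δ' (prime_invol δ hδ0 δ' hδ') hfix]
  let ρ : Matrix.symplecticGroup (Fin m) F →* Module.End F (Fin m ⊕ Fin m → F) :=
    { toFun := fun g => Matrix.toLinAlgEquiv' g.1
      map_one' := map_one _
      map_mul' := fun g h => map_mul Matrix.toLinAlgEquiv' g.1 h.1 }
  have hρa : ∀ g v, ρ g v = Matrix.mulVec g.1 v := fun g v => rfl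
  refine card_classes_gen hD hi ρ (fun g h e => sp_ext fun v => by rw [← hρa, e, hρa]) ?_ _ ?_ ?_
  · rintro a b ha hb ⟨e, he⟩
    have hA : ρ a ^ r = 1 := by rw [← map_pow, ha, map_one]
    obtain ⟨z, hzA, hzz⟩ := SemiConj.twin_alt (ρ a) (spBilin m F) ((spBilin m F).compl₁₂ e.toLinearMap e.toLinearMap) hD.cast_ne hA
      (fun x y => sp_form a x y) (fun x y => by simp only [LinearMap.compl₁₂_apply, LinearEquiv.coe_coe, he]; exact sp_form b _ _)
      spBilin_isAlt (fun x h => sympForm_nondeg h) (fun x => sympForm_self (e x))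
      (fun x h => e.map_eq_zero_iff.1 (sympForm_nondeg fun w => by
        obtain ⟨w, rfl⟩ := e.surjective w
        exact h w))
    let g : (Fin m ⊕ Fin m → F) →ₗ[F] (Fin m ⊕ Fin m → F) := e.toLinearMap ∘ₗ z.symm.toLinearMap
    have hg : ∀ v, Matrix.mulVec (LinearMap.toMatrix' g) v = e (z.symm v) := fun v => LinearMap.toMatrix'_mulVec _ v
    have hmem : LinearMap.toMatrix' g ∈ Matrix.symplecticGroup (Fin m) F := mem_sp_iff.2 fun x y => by
      rw [hg, hg]
      have := hzz (z.symm x) (z.symm y)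
      rw [LinearEquiv.apply_symm_apply, LinearEquiv.apply_symm_apply] at this
      exact this.symm
    refine isConj_iff.2 ⟨⟨_, hmem⟩, mul_inv_eq_iff_eq_mul.2 (sp_ext fun v => ?_)⟩
    simp only [Submonoid.coe_mul, ← Matrix.mulVec_mulVec, hg]
    rw [← hρa a, ← hρa b, ← he]
    congr 1
    rw [LinearEquiv.symm_apply_eq]
    have := hzA (z.symm v)
    rw [LinearEquiv.apply_symm_apply] at this
    exact this.symm
  · intro a ha
    have h := sel_basic hi hD δ hδ δ' hδ' (A := ρ a) (by rw [← map_pow, ha, map_one]) (spBilin m F) (fun x y => sp_form a x y)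
      (fun x h => sympForm_nondeg h)
    rwa [Module.finrank_pi, Fintype.card_sum, Fintype.card_fin, ← two_mul] at h
  · rintro b ⟨hb, hle⟩
    obtain ⟨W, _, _, _, A, B, hA, hW, hk, hB, hBa, hBn⟩ := exists_alt_model hD δ hδ hδ0 δ' hδ' hi b hb
    obtain ⟨k, hk2, -⟩ := exists_symp_equiv B hBa hBn
    have hkm : k ≤ m := by
      have := (Nat.le_div_iff_mul_le hi).1 hle
      rw [mul_comm] at this
      omega
    let B' : LinearMap.BilinForm F (W × (Fin (m - k) ⊕ Fin (m - k) → F)) :=
      B.compl₁₂ (LinearMap.fst F W _) (LinearMap.fst F W _) + (spBilin (m - k) F).compl₁₂ (LinearMap.snd F W _) (LinearMap.snd F W _)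
    let A' := A.prodMap (1 : Module.End F (Fin (m - k) ⊕ Fin (m - k) → F))
    have hA' : A' ^ r = 1 := by rw [prodMap_pow, hA, one_pow]; rfl
    obtain ⟨m', hm', e, he⟩ := exists_symp_equiv B' (fun x => by simp [B', hBa x.1, spBilin_isAlt x.2])
      (fun x hx => Prod.ext (hBn _ fun y => by simpa [B'] using hx (y, 0))
        (sympForm_nondeg fun y => by
          have h1 := hx (0, y)
          simp [B'] at h1
          exact h1))
    rw [Module.finrank_prod, Module.finrank_pi, Fintype.card_sum, Fintype.card_fin, hk2] at hm'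
    obtain rfl : m' = m := by omega
    have hB' : ∀ x y, B' (A' x) (A' y) = B' x y := fun x y => by simp [B', A', hB]
    let g : Module.End F (Fin m' ⊕ Fin m' → F) := e.symm.toLinearMap ∘ₗ A' ∘ₗ e.toLinearMap
    have hg : ∀ v, Matrix.mulVec (LinearMap.toMatrix' g) v = e.symm (A' (e v)) := fun v => LinearMap.toMatrix'_mulVec _ v
    have hmem : LinearMap.toMatrix' g ∈ Matrix.symplecticGroup (Fin m') F := mem_sp_iff.2 fun x y => by
      rw [hg, hg, ← he, LinearEquiv.apply_symm_apply, LinearEquiv.apply_symm_apply, hB', he]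
    have hpow : ∀ (n : ℕ) v, e ((ρ ⟨_, hmem⟩ ^ n) v) = (A' ^ n) (e v) := fun n => by
      induction n with
      | zero => intro v; rfl
      | succ n ih =>
        intro v
        rw [pow_succ, Module.End.mul_apply, ih, pow_succ, Module.End.mul_apply, hρa, hg, LinearEquiv.apply_symm_apply]
    refine ⟨⟨_, hmem⟩, sp_ext fun v => e.injective ?_, fun j => ?_⟩
    · rw [← hρa, map_pow, hpow, hA']
      simp
    · rw [kd_of_intertwine _ A' e (fun x => by rw [hρa, hg, LinearEquiv.apply_symm_apply]), kd_prodMap, hk, kd_one hD, add_zero]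

theorem card_qAut_odd (h2 : (2 : F) ≠ 0) {q : ℕ} (hq : Fintype.card F = q) (hord : orderOf (q : ZMod r) = i)
    (hfix : ∀ j, δ' j = j ↔ Even i) (m : ℕ) :
    Nat.card {C : ConjClasses (qAut (qExt m (qLine F))) // ∃ g : qAut (qExt m (qLine F)), ConjClasses.mk g = C ∧ orderOf g = r} =
      if Odd i then ((2 * m + 1) / i / 2 + t / 2).choose (t / 2) - 1 else ((2 * m + 1) / i + t).choose t - 1 := by
  classical
  rw [← card_sel δ' (prime_invol δ hδ0 δ' hδ') hfix]
  have hQ : PolarNondeg (qExt m (qLine F)) := polarNondeg_qExt (polarNondeg_qLine h2) m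
  have hn : Module.finrank F ((Fin m ⊕ Fin m) ⊕ Unit → F) = 2 * m + 1 := by simp; omega
  refine card_classes_gen hD hi (actHom _) (actHom_inj _) (quad_conj hD _ hQ) _ ?_ ?_
  · intro a ha
    have h := sel_basic hi hD δ hδ δ' hδ' (A := actHom _ a) (by rw [← map_pow, ha, map_one])
      (QuadraticMap.polarBilin (qExt m (qLine F))) (qAut_polar_end fun x => a.2 x) hQ
    rwa [hn] at h
  · rintro b ⟨hb, hle⟩
    obtain ⟨W, _, _, _, A, Q, k, hA, hW, hs, hk, hQA, hQn, -⟩ := exists_quad_model hD δ hδ hδ0 δ' hδ' hi hq hord b hb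
    have hkm : k ≤ m := by
      have := (Nat.le_div_iff_mul_le hi).1 hle
      rw [mul_comm] at this
      omega
    let Q' := Q.prod (qExt (m - k) (qLine F))
    let A' := A.prodMap (1 : Module.End F ((Fin (m - k) ⊕ Fin (m - k)) ⊕ Unit → F))
    obtain ⟨c, e, hc, he⟩ := exists_similar_line h2 m Q' (polar_prod hQn (polarNondeg_qExt (polarNondeg_qLine h2) _))
      (by rw [Module.finrank_prod, hW]; simp; omega)
    obtain ⟨a, ha, hka⟩ := transport hD (qExt m (qLine F)) Q' A' (by rw [prodMap_pow, hA, one_pow]; rfl)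
      (fun x => by simp [Q', A', hQA]) e hc he
    exact ⟨a, ha, fun j => by rw [hka, kd_prodMap, hk, kd_one hD, add_zero]⟩

theorem card_qAut_even {q : ℕ} (hq : Fintype.card F = q) (hord : orderOf (q : ZMod r) = i)
    (hfix : ∀ j, δ' j = j ↔ Even i) (m : ℕ) (hm : 1 ≤ m) (Q : QuadraticForm F V) (hQ : PolarNondeg Q)
    (hV : Module.finrank F V = 2 * m) (ε : ℤ) (hε : ε = 1 ∨ ε = -1) (hs : HasSign Q m ε) (N : ℕ)
    (hN : N = if i ∣ 2 * m ∧ (if Even i then (-1 : ℤ) ^ (2 * m / i) else 1) ≠ ε then 2 * m / i - 1 else 2 * m / i) :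
    Nat.card {C : ConjClasses (qAut Q) // ∃ g : qAut Q, ConjClasses.mk g = C ∧ orderOf g = r} =
      if Odd i then (N / 2 + t / 2).choose (t / 2) - 1 else (N + t).choose t - 1 := by
  classical
  rw [← card_sel δ' (prime_invol δ hδ0 δ' hδ') hfix]
  have hNle : N ≤ 2 * m / i := by
    rw [hN]
    by_cases h : i ∣ 2 * m ∧ (if Even i then (-1 : ℤ) ^ (2 * m / i) else 1) ≠ ε
    · rw [if_pos h]; exact Nat.sub_le _ _
    · rw [if_neg h]
  refine card_classes_gen hD hi (actHom Q) (actHom_inj Q) (quad_conj hD Q hQ) _ ?_ ?_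
  · intro a ha
    have hA : actHom Q a ^ r = 1 := by rw [← map_pow, ha, map_one]
    obtain ⟨h1, h2⟩ := sel_basic hi hD δ hδ δ' hδ' hA (QuadraticMap.polarBilin Q) (qAut_polar_end fun x => a.2 x) hQ
    rw [hV] at h2
    refine ⟨h1, ?_⟩
    rw [hN]
    by_cases hbad : i ∣ 2 * m ∧ (if Even i then (-1 : ℤ) ^ (2 * m / i) else 1) ≠ ε
    swap
    · rw [if_neg hbad]; exact h2
    rw [if_pos hbad]
    obtain ⟨b, hb⟩ : ∃ b : Fin t → ℕ, b = fun j => kd P (actHom Q a) (some j) / i := ⟨_, rfl⟩
    by_contra hlt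
    beta_reduce at hlt
    have hsum : ∑ j, b j = 2 * m / i := by
      rw [hb]
      show ∑ j, kd P (actHom Q a) (some j) / i = _
      omega
    have hfull : i * ∑ j, b j = 2 * m := by rw [hsum, Nat.mul_div_cancel' hbad.1]
    obtain ⟨W, _, _, _, A, Q', k, hA', hW, hs', hk, hQA, hQn, hsg⟩ :=
      exists_quad_model hD δ hδ hδ0 δ' hδ' hi hq hord b (by rw [hb]; exact h1)
    obtain rfl : k = m := by omega
    have hbk : ∀ j, i * b j = kd P (actHom Q a) (some j) := fun j => by rw [hb]; exact Nat.mul_div_cancel' (dvd_kd hD _ j)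
    let f : V ≃ₗ[F] W := LinearEquiv.ofFinrankEq V W (by rw [hV, hW])
    let A2 : Module.End F V := f.symm.toLinearMap ∘ₗ A ∘ₗ f.toLinearMap
    have hA2 : ∀ (n : ℕ) x, f ((A2 ^ n) x) = (A ^ n) (f x) := fun n => by
      induction n with
      | zero => intro x; rfl
      | succ n ih => intro x; rw [pow_succ, Module.End.mul_apply, ih, pow_succ, Module.End.mul_apply]; exact congrArg (A ^ n) (f.apply_symm_apply _)
    have hA2r : A2 ^ r = 1 := LinearMap.ext fun x => f.injective (by rw [hA2, hA']; rfl)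
    have hkA2 : ∀ o, kd P A2 o = kd P A o := fun o =>
      kd_of_intertwine A2 A f (fun x => by have := hA2 1 x; rwa [pow_one, pow_one] at this) o
    obtain ⟨e, he⟩ := similar_of_kd hD hA hA2r fun j => by rw [hkA2, hk, hbk]
    have hfix0 : kd P (actHom Q a) none = 0 := by
      have h := kd_sum hD hA
      rw [← Finset.sum_congr rfl (fun j _ => hbk j), ← Finset.mul_sum, hfull, hV] at h
      omega
    have heA : ∀ x, f (e (actHom Q a x)) = A (f (e x)) := fun x => by
      have := hA2 1 (e x)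
      rw [pow_one, pow_one] at this
      rw [he, this]
    obtain ⟨z, hz⟩ := isometric_of_fpf hD Q (Q'.comp (e.trans f).toLinearMap) hQ
      (fun v hv => (e.trans f).map_eq_zero_iff.1 (hQn _ fun w => by
        obtain ⟨w, rfl⟩ := (e.trans f).surjective w
        have := hv w
        simpa [QuadraticMap.polar] using this))
      (actHom Q a) hA hfix0 (fun x => a.2 x) (fun x => by
        show Q' (f (e (actHom Q a x))) = Q' (f (e x))
        rw [heA, hQA])
    have hsign : HasSign Q k (tupleSign i b) :=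
      hasSign_congr ((e.trans f).symm.trans z) (fun v => by
        rw [LinearEquiv.trans_apply, hz]
        exact congrArg Q' ((e.trans f).apply_symm_apply v)) hsg
    apply hbad.2
    rw [← hasSign_unique hsign hs, tupleSign, hsum]
  · rintro b ⟨hb, hle⟩
    obtain ⟨W, _, _, _, A, Q', k, hA, hW, hs', hk, hQA, hQn, hsg⟩ := exists_quad_model hD δ hδ hδ0 δ' hδ' hi hq hord b hb
    have hle' : ∑ j, b j ≤ 2 * m / i := hle.trans hNle
    have hkm : k ≤ m := by
      have := (Nat.le_div_iff_mul_le hi).1 hle'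
      rw [mul_comm] at this
      omega
    haveI : Finite W := Module.finite_of_finite F
    rcases hkm.eq_or_lt with rfl | hlt
    · have hdvd : i ∣ 2 * k := ⟨_, hs'.symm⟩
      have hsum : ∑ j, b j = 2 * k / i := by rw [← hs', Nat.mul_div_cancel_left _ hi]
      have hsgn : tupleSign i b = ε := by
        by_contra hne
        rw [tupleSign, hsum] at hne
        rw [hN, if_pos ⟨hdvd, hne⟩, ← hsum] at hle
        have hpos : 0 < ∑ j, b j := Nat.pos_of_ne_zero fun h0 => by rw [h0] at hs'; omega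
        omega
      obtain ⟨e, he⟩ := exists_isometry_of_hasSign k Q Q' ε hQ hQn hV hW hs (hsgn ▸ hsg)
      obtain ⟨a, ha, hka⟩ := transport hD Q Q' A hA hQA e one_ne_zero (fun x => by rw [one_mul, he])
      exact ⟨a, ha, fun j => by rw [hka, hk]⟩
    · obtain ⟨d, hd⟩ : ∃ d, m = k + (d + 1) := ⟨m - k - 1, by omega⟩
      obtain ⟨ζ, hζ⟩ := exists_anisotropic_one (F := F)
      have hab : BinAniso (1 : F) ζ := fun z₁ z₂ h => by
        by_cases h2 : z₂ = 0
        · subst h2; exact ⟨by simpa using h, rfl⟩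
        · exact absurd (by field_simp; linear_combination h) (hζ (z₁ / z₂))
      have hts : tupleSign i b = 1 ∨ tupleSign i b = -1 := by
        unfold tupleSign; split_ifs
        · exact neg_one_pow_eq_or ℤ _
        · exact Or.inl rfl
      obtain ⟨U, _, _, _, R, hU, hR, hRs⟩ : ∃ (U : Type u) (_ : AddCommGroup U) (_ : Module F U) (_ : FiniteDimensional F U)
          (R : QuadraticForm F U), Module.finrank F U = 2 * (d + 1) ∧ PolarNondeg R ∧ HasSign R (d + 1) (ε * tupleSign i b) := by
        by_cases h : ε * tupleSign i b = 1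
        · exact ⟨Fin (d + 1) ⊕ Fin (d + 1) → F, _, _, inferInstance, qPlus (d + 1) F, by simp; omega, polarNondeg_qPlus _, h ▸ hasSign_qPlus _⟩
        · have h' : ε * tupleSign i b = -1 := by
            rcases hε with e | e <;> rcases hts with e' | e' <;> simp [e, e'] at h ⊢
          exact ⟨(Fin d ⊕ Fin d) ⊕ Fin 2 → F, _, _, inferInstance, qExt d (qBin 1 ζ), by simp; omega,
            polarNondeg_qExt (polarNondeg_qBin hab) _, h' ▸ hasSign_qExt_qBin hab d⟩
      haveI : Finite U := Module.finite_of_finite F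
      have hsp : HasSign (Q'.prod R) m ε := by
        have := hasSign_prod hsg hRs
        rwa [← hd, show tupleSign i b * (ε * tupleSign i b) = ε by rcases hts with e | e <;> rw [e] <;> ring] at this
      obtain ⟨e, he⟩ := exists_isometry_of_hasSign m Q (Q'.prod R) ε hQ (polar_prod hQn hR) hV
        (by rw [Module.finrank_prod, hW, hU]; omega) hs hsp
      obtain ⟨a, ha, hka⟩ := transport hD Q (Q'.prod R) (A.prodMap (1 : Module.End F U)) (by rw [prodMap_pow, hA, one_pow]; rfl)
        (fun x => by simp [hQA]) e one_ne_zero (fun x => by rw [one_mul, he])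
      exact ⟨a, ha, fun j => by rw [hka, kd_prodMap, hk, kd_one hD, add_zero]⟩

end CfsgLib.Classical.SpOCount
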