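/-
Symplectic matrices with prescribed characteristic polynomial and the classes of symplectic elements of order prime
to the characteristic.
-/
import Cfsg.Agent.Lib.Classical.AltBasis
import Cfsg.Agent.Lib.Classical.SpBasic
import Cfsg.Agent.Lib.KnownSimple.SemisimpleClasses.Classes
import Cfsg.Agent.S2389

set_option autoImplicit false

namespace CfsgLib.Classical.SpSemisimple

open Matrix Polynomial CfsgLib.Classical

universe u

variable {F : Type u} [Field F]

theorem det_sp {m : ℕ} (g : ↥(Matrix.symplecticGroup (Fin m) F)) :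
    (g : Matrix (Fin m ⊕ Fin m) (Fin m ⊕ Fin m) F).det = 1 := SymplecticGroup.det_eq_one g.2

theorem reverse_charpoly_sp {m : ℕ} (g : ↥(Matrix.symplecticGroup (Fin m) F)) :
    (g : Matrix (Fin m ⊕ Fin m) (Fin m ⊕ Fin m) F).charpoly.reverse = (g : Matrix (Fin m ⊕ Fin m) (Fin m ⊕ Fin m) F).charpoly := by
  obtain ⟨A, hA⟩ := g
  obtain ⟨J, hJ⟩ : ∃ J, J = Matrix.J (Fin m) F := ⟨_, rfl⟩
  have hJJ : J * J = -1 := hJ ▸ Matrix.J_squared (Fin m) F
  have hm : A * J * Aᵀ = J := hJ ▸ SymplecticGroup.mem_iff.1 hA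
  have h1 : A * (-(J * Aᵀ * J)) = 1 := by
    rw [mul_neg, ← mul_assoc, ← mul_assoc, hm, hJJ, neg_neg]
  have hu : IsUnit J := IsUnit.of_mul_eq_one (-J) (by rw [mul_neg, hJJ, neg_neg])
  obtain ⟨Ju, hJu⟩ := hu
  have hJi : (↑Ju : Matrix (Fin m ⊕ Fin m) (Fin m ⊕ Fin m) F)⁻¹ = -J := Matrix.inv_eq_right_inv (by rw [hJu, mul_neg, hJJ, neg_neg])
  have h2 : A⁻¹.charpoly = A.charpoly := by
    rw [Matrix.inv_eq_right_inv h1, ← mul_neg, ← hJi, ← hJu, Matrix.charpoly_units_conj, charpoly_transpose]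
  rw [charpoly_inv _ (IsUnit.of_mul_eq_one _ h1), ← reverse_charpoly, show A.det = 1 from det_sp ⟨A, hA⟩,
    Ring.inverse_one, map_one, mul_one, Fintype.card_sum, Fintype.card_fin, ← two_mul, pow_mul, neg_one_sq,
    one_pow, one_mul] at h2
  exact h2

/-- A symplectic matrix with prescribed palindromic characteristic polynomial. -/
theorem exists_sp_charpoly {n : ℕ} (hn : 0 < n) {P : F[X]} (hP : P.Monic) (hd : P.natDegree = 2 * n)
    (h0 : P.coeff 0 = 1) (hrev : P.reverse = P) :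
    ∃ g : ↥(Matrix.symplecticGroup (Fin n) F), (g : Matrix (Fin n ⊕ Fin n) (Fin n ⊕ Fin n) F).charpoly = P := by
  classical
  obtain ⟨pb, hpb⟩ : ∃ pb : PowerBasis F (AdjoinRoot P), pb = AdjoinRoot.powerBasis' hP := ⟨_, rfl⟩
  haveI : FiniteDimensional F (AdjoinRoot P) := pb.finite
  obtain ⟨r, hrdef⟩ : ∃ r, r = AdjoinRoot.root P := ⟨_, rfl⟩
  obtain ⟨ri, hri⟩ : ∃ ri, ri = -AdjoinRoot.mk P P.divX := ⟨_, rfl⟩
  have hrr : r * ri = 1 := by
    have h1 := congrArg (AdjoinRoot.mk P) (X_mul_divX_add P)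
    rw [map_add, map_mul, AdjoinRoot.mk_self, AdjoinRoot.mk_X, h0, map_one, map_one, ← hrdef] at h1
    rw [hri]
    linear_combination -h1
  letI : Invertible r := ⟨ri, by rw [mul_comm]; exact hrr, hrr⟩
  let σ : AdjoinRoot P →ₐ[F] AdjoinRoot P := AdjoinRoot.liftAlgHom P (Algebra.ofId F (AdjoinRoot P)) ri (by
    have h1 := (eval₂_reverse_eq_zero_iff (algebraMap F (AdjoinRoot P)) r P).2 (by
      rw [hrdef, AdjoinRoot.algebraMap_eq, AdjoinRoot.eval₂_root])
    rw [hrev, show ⅟r = ri from rfl] at h1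
    exact h1)
  have σr : σ r = ri := by rw [hrdef]; exact AdjoinRoot.liftAlgHom_root _ _ _ _
  have σri : σ ri = r := by
    have h := congrArg σ hrr
    rw [map_mul, σr, map_one, mul_comm] at h
    exact left_inv_eq_right_inv h (by rw [mul_comm]; exact hrr)
  have hσσ : ∀ x, σ (σ x) = x := fun x => by
    have h : σ.comp σ = AlgHom.id F _ := AdjoinRoot.algHom_ext (by
      rw [AlgHom.comp_apply, AlgHom.id_apply, ← hrdef, σr, σri])
    exact congrArg (fun f : AdjoinRoot P →ₐ[F] AdjoinRoot P => f x) h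
  let ψ : AdjoinRoot P →ₗ[F] F := (Polynomial.lcoeff F (2 * n - 1)).comp (AdjoinRoot.modByMonicHom hP)
  have hψ : ∀ f : F[X], f.degree < P.degree → ψ (AdjoinRoot.mk P f) = f.coeff (2 * n - 1) := fun f hf => by
    show ((AdjoinRoot.modByMonicHom hP) (AdjoinRoot.mk P f)).coeff _ = _
    rw [AdjoinRoot.modByMonicHom_mk, (modByMonic_eq_self_iff hP).2 hf]
  have hPdeg : P.degree = ((2 * n : ℕ) : WithBot ℕ) := by rw [degree_eq_natDegree hP.ne_zero, hd]
  have hψpow : ∀ i < 2 * n, ψ (r ^ i) = if i = 2 * n - 1 then 1 else 0 := fun i hi => by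
    rw [hrdef, ← AdjoinRoot.mk_X, ← map_pow, hψ _ (by rw [hPdeg, degree_X_pow]; exact_mod_cast hi), coeff_X_pow]
    exact if_congr eq_comm rfl rfl
  have hψri : ψ ri = -1 := by
    rw [hri, map_neg, hψ, coeff_divX, show 2 * n - 1 + 1 = P.natDegree by omega, hP.coeff_natDegree]
    exact degree_divX_lt hP.ne_zero
  let φ : AdjoinRoot P →ₗ[F] F := ψ.comp (LinearMap.mulLeft F (r ^ (n - 1)))
  have hφ : ∀ x, φ x = ψ (r ^ (n - 1) * x) := fun x => rfl
  have hspan : ∀ (L : AdjoinRoot P →ₗ[F] F), (∀ i < 2 * n, L (r ^ i) = 0) → ∀ x, L x = 0 := fun L hL x => by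
    have hb : L = 0 := pb.basis.ext fun i => by
      rw [PowerBasis.coe_basis, LinearMap.zero_apply]
      have hgen : pb.gen = r := by rw [hpb, hrdef]; rfl
      have hdim : pb.dim = 2 * n := by rw [hpb]; exact hd
      rw [hgen]
      exact hL _ (by have := i.isLt; omega)
    rw [hb, LinearMap.zero_apply]
  have hanti : ∀ x, φ (σ x) = -φ x := by
    intro x
    have h := hspan ((φ.comp σ.toLinearMap + φ).comp (LinearMap.mulLeft F (ri ^ (n - 1)))) (fun i hi => by
      simp only [LinearMap.comp_apply, LinearMap.mulLeft_apply, LinearMap.add_apply, AlgHom.toLinearMap_apply]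
      rw [hφ, hφ, map_mul σ, map_pow σ, map_pow σ, σr, σri, ← mul_assoc, ← pow_add, ← mul_assoc (r ^ (n - 1)) (ri ^ (n - 1)),
        ← mul_pow r ri, hrr, one_pow, one_mul, hψpow i hi]
      rcases (by omega : i ≤ 2 * n - 2 ∨ i = 2 * n - 1) with hi' | hi'
      · have e : r ^ (n - 1 + (n - 1)) * ri ^ i = r ^ (2 * n - 2 - i) := by
          rw [show n - 1 + (n - 1) = 2 * n - 2 - i + i by omega, pow_add, mul_assoc, ← mul_pow, hrr, one_pow, mul_one]
        rw [e, hψpow _ (by omega), if_neg (by omega), if_neg (by omega), add_zero]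
      · have e : r ^ (n - 1 + (n - 1)) * ri ^ i = ri := by
          rw [hi', show 2 * n - 1 = (n - 1 + (n - 1)) + 1 by omega, pow_succ ri, ← mul_assoc, ← mul_pow, hrr, one_pow,
            one_mul]
        rw [e, hψri, if_pos hi', neg_add_cancel]) (r ^ (n - 1) * x)
    simp only [LinearMap.comp_apply, LinearMap.mulLeft_apply, LinearMap.add_apply, AlgHom.toLinearMap_apply,
      ← mul_assoc, ← mul_pow, mul_comm ri r, hrr, one_pow, one_mul] at h
    exact eq_neg_of_add_eq_zero_left h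
  let B : LinearMap.BilinForm F (AdjoinRoot P) := LinearMap.mk₂ F (fun a b => φ (σ a * b))
    (fun a a' b => by rw [map_add, add_mul, map_add]) (fun c a b => by rw [map_smul, smul_mul_assoc, map_smul])
    (fun a b b' => by rw [mul_add, map_add]) (fun c a b => by rw [mul_smul_comm, map_smul])
  have hB : ∀ a b, B a b = φ (σ a * b) := fun a b => rfl
  have hBsw : ∀ a b, B b a = -B a b := fun a b => by
    rw [hB, hB, ← hanti, map_mul σ, hσσ, mul_comm]
  have hφ1 : φ 1 = 0 := by rw [hφ, mul_one, hψpow _ (by omega), if_neg (by omega)]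
  have hAlt : B.IsAlt := by
    intro a
    obtain ⟨f, rfl⟩ := AdjoinRoot.mk_surjective a
    show B (AdjoinRoot.mk P f) (AdjoinRoot.mk P f) = 0
    induction f using Polynomial.induction_on' with
    | add f g hf hg =>
      rw [map_add, LinearMap.map_add₂, map_add, map_add, hf, hg, hBsw (AdjoinRoot.mk P f) (AdjoinRoot.mk P g)]
      ring
    | monomial i c =>
      have e : AdjoinRoot.mk P (monomial i c) = c • r ^ i := by
        rw [← C_mul_X_pow_eq_monomial, map_mul, map_pow, AdjoinRoot.mk_X, ← hrdef, Algebra.smul_def,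
          AdjoinRoot.algebraMap_eq, AdjoinRoot.mk_C]
      rw [e, hB, map_smul σ, map_pow σ, σr, smul_mul_smul_comm, ← mul_pow, mul_comm ri r, hrr, one_pow, map_smul, hφ1,
        smul_zero]
  have hnd : ∀ a, (∀ b, B a b = 0) → a = 0 := by
    intro a ha
    obtain ⟨z, hz⟩ : ∃ z, z = r ^ (n - 1) * σ a := ⟨_, rfl⟩
    have hzb : ∀ b, ψ (z * b) = 0 := fun b => by
      have := ha b
      rw [hB, hφ, ← mul_assoc] at this
      rw [hz]; exact this
    have hz0 : z = 0 := by
      obtain ⟨f, hf⟩ := AdjoinRoot.mk_surjective z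
      obtain ⟨g, hgdef⟩ : ∃ g, g = f %ₘ P := ⟨_, rfl⟩
      have hgz : AdjoinRoot.mk P g = z := by
        rw [← hf, hgdef]
        refine AdjoinRoot.mk_eq_mk.2 ⟨-(f /ₘ P), ?_⟩
        linear_combination modByMonic_add_div f P
      by_contra hne
      have hg0 : g ≠ 0 := fun e => hne (by rw [← hgz, e, map_zero])
      have hgd : g.natDegree < 2 * n := by
        have h := degree_modByMonic_lt f hP
        rw [← hgdef, hPdeg, degree_eq_natDegree hg0] at h
        exact_mod_cast h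
      have h := hzb (r ^ (2 * n - 1 - g.natDegree))
      rw [← hgz, hrdef, ← AdjoinRoot.mk_X, ← map_pow, ← map_mul, hψ _ ?_] at h
      · have h' : g.coeff g.natDegree = 0 := by
          rw [← coeff_mul_X_pow g (2 * n - 1 - g.natDegree) g.natDegree,
            show g.natDegree + (2 * n - 1 - g.natDegree) = 2 * n - 1 by omega]
          exact h
        exact hg0 (leadingCoeff_eq_zero.1 h')
      · rw [hPdeg, degree_mul, degree_X_pow, degree_eq_natDegree hg0, ← Nat.cast_add]
        exact_mod_cast (by omega : g.natDegree + (2 * n - 1 - g.natDegree) < 2 * n)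
    have h2 : σ a = 0 := by
      have := congrArg (fun x => ri ^ (n - 1) * x) hz0
      simpa [hz, ← mul_assoc, ← mul_pow, mul_comm ri r, hrr] using this
    rw [← hσσ a, h2, map_zero]
  obtain ⟨m, hm, e, he⟩ := exists_symp_equiv B hAlt hnd
  have hfin : Module.finrank F (AdjoinRoot P) = 2 * n := by rw [pb.finrank, hpb]; exact hd
  obtain rfl : m = n := by omega
  let L : Module.End F (AdjoinRoot P) := Algebra.lmul F (AdjoinRoot P) r
  let T : Module.End F (Fin m ⊕ Fin m → F) := e.symm.toLinearMap ∘ₗ L ∘ₗ e.toLinearMap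
  have hT : ∀ v, LinearMap.toMatrix' T *ᵥ v = e.symm (r * e v) := fun v => LinearMap.toMatrix'_mulVec _ v
  have hmem : LinearMap.toMatrix' T ∈ Matrix.symplecticGroup (Fin m) F := mem_sp_iff.2 fun u v => by
    rw [hT, hT, ← he, ← he, LinearEquiv.apply_symm_apply, LinearEquiv.apply_symm_apply, hB, hB, map_mul σ, σr,
      mul_mul_mul_comm, mul_comm ri r, hrr, one_mul]
  refine ⟨⟨_, hmem⟩, ?_⟩
  show (LinearMap.toMatrix' T).charpoly = P
  rw [← LinearMap.toMatrix_eq_toMatrix', LinearMap.charpoly_toMatrix, show T = e.symm.conj L from rfl,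
    LinearEquiv.charpoly_conj, ← LinearMap.charpoly_toMatrix L pb.basis, ← Algebra.leftMulMatrix_apply,
    show r = pb.gen by rw [hpb, hrdef]; rfl, charpoly_leftMulMatrix, hpb]
  show minpoly F (AdjoinRoot.root P) = P
  rw [AdjoinRoot.minpoly_root hP.ne_zero, hP.leadingCoeff, inv_one, map_one, mul_one]

variable [Fintype F] (p : ℕ) [Fact p.Prime] [CharP F p]

/-- The semisimple part has the same characteristic polynomial. -/
theorem exists_coprime_charpoly {n : ℕ} (g : ↥(Matrix.symplecticGroup (Fin n) F)) :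
    ∃ s : ↥(Matrix.symplecticGroup (Fin n) F), (orderOf s).Coprime p ∧
      (s : Matrix (Fin n ⊕ Fin n) (Fin n ⊕ Fin n) F).charpoly = (g : Matrix (Fin n ⊕ Fin n) (Fin n ⊕ Fin n) F).charpoly := by
  haveI : Finite ↥(Matrix.symplecticGroup (Fin n) F) := Finite.of_injective _ Subtype.val_injective
  obtain ⟨f, hp, hf⟩ := FiniteField.card F p
  obtain ⟨N, hN⟩ : ∃ N, N = orderOf g := ⟨_, rfl⟩
  have hN0 : N ≠ 0 := hN ▸ (orderOf_pos g).ne'
  refine ⟨g ^ (Fintype.card F ^ N), ?_, ?_⟩
  · refine (Nat.coprime_ordCompl hp hN0).symm.coprime_dvd_left (orderOf_dvd_of_pow_eq_one ?_)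
    rw [← pow_mul, ← orderOf_dvd_iff_pow_eq_one, ← hN]
    conv_lhs => rw [← Nat.ordProj_mul_ordCompl_eq_self N p]
    refine Nat.mul_dvd_mul_right ?_ _
    rw [hf, ← pow_mul]
    refine pow_dvd_pow p ?_
    have h1 : p ^ (N.factorization p) ≤ N := Nat.ordProj_le p hN0
    have h2 := (Nat.lt_pow_self (n := N.factorization p) hp.one_lt).le
    exact le_trans (h2.trans h1) (Nat.le_mul_of_pos_left _ f.pos)
  · suffices h : ∀ t, ((g ^ (Fintype.card F ^ t) : ↥(Matrix.symplecticGroup (Fin n) F)) :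
        Matrix (Fin n ⊕ Fin n) (Fin n ⊕ Fin n) F).charpoly = (g : Matrix (Fin n ⊕ Fin n) (Fin n ⊕ Fin n) F).charpoly from h N
    intro t
    induction t with
    | zero => rw [pow_zero, pow_one]
    | succ t ih => rw [pow_succ, pow_mul, SubmonoidClass.coe_pow, FiniteField.Matrix.charpoly_pow_card, ih]

theorem sp_card_classes {n : ℕ} (hn : 0 < n) :
    Nat.card {c : ConjClasses ↥(Matrix.symplecticGroup (Fin n) F) //
      ∃ g : ↥(Matrix.symplecticGroup (Fin n) F), ConjClasses.mk g = c ∧ (orderOf g).Coprime p} = Fintype.card F ^ n := by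
  classical
  let S := {P : F[X] // P.Monic ∧ P.natDegree = 2 * n ∧ P.coeff 0 = 1 ∧ P.reverse = P}
  have hcd : ∀ g : ↥(Matrix.symplecticGroup (Fin n) F),
      (g : Matrix (Fin n ⊕ Fin n) (Fin n ⊕ Fin n) F).charpoly.natDegree = 2 * n ∧
      (g : Matrix (Fin n ⊕ Fin n) (Fin n ⊕ Fin n) F).charpoly.coeff 0 = 1 := fun g => by
    refine ⟨by rw [charpoly_natDegree_eq_dim, Fintype.card_sum, Fintype.card_fin, two_mul], ?_⟩
    have h := det_eq_sign_charpoly_coeff (g : Matrix (Fin n ⊕ Fin n) (Fin n ⊕ Fin n) F)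
    rw [det_sp, Fintype.card_sum, Fintype.card_fin, ← two_mul, pow_mul, neg_one_sq, one_pow, one_mul] at h
    exact h.symm
  have e1 : Nat.card {c : ConjClasses ↥(Matrix.symplecticGroup (Fin n) F) //
      ∃ g : ↥(Matrix.symplecticGroup (Fin n) F), ConjClasses.mk g = c ∧ (orderOf g).Coprime p} = Nat.card S := by
    refine Nat.card_congr (Equiv.ofBijective
      (fun C => ⟨(C.2.choose : Matrix (Fin n ⊕ Fin n) (Fin n ⊕ Fin n) F).charpoly, Matrix.charpoly_monic _,
        (hcd _).1, (hcd _).2, reverse_charpoly_sp _⟩) ⟨fun C D hCD => Subtype.ext ?_, ?_⟩)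
    · have h := congrArg Subtype.val hCD
      rw [← C.2.choose_spec.1, ← D.2.choose_spec.1, ConjClasses.mk_eq_mk_iff_isConj]
      exact Cfsg.Agent.S2389.result p n _ _ C.2.choose_spec.2 D.2.choose_spec.2 h
    · rintro ⟨P, hP, hd, h0, hrev⟩
      obtain ⟨g₀, hg₀⟩ := exists_sp_charpoly hn hP hd h0 hrev
      obtain ⟨s, hs, hsc⟩ := exists_coprime_charpoly p g₀
      refine ⟨⟨ConjClasses.mk s, s, rfl, hs⟩, Subtype.ext ?_⟩
      have hex : ∃ g' : ↥(Matrix.symplecticGroup (Fin n) F), ConjClasses.mk g' = ConjClasses.mk s ∧ (orderOf g').Coprime p :=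
        ⟨s, rfl, hs⟩
      obtain ⟨c, hc⟩ := (Matrix.symplecticGroup (Fin n) F).subtype.map_isConj
        (ConjClasses.mk_eq_mk_iff_isConj.1 hex.choose_spec.1)
      show (hex.choose : Matrix (Fin n ⊕ Fin n) (Fin n ⊕ Fin n) F).charpoly = P
      rw [← hg₀, ← hsc, ← Matrix.charpoly_units_conj c (hex.choose : Matrix (Fin n ⊕ Fin n) (Fin n ⊕ Fin n) F)]
      congr 1
      have hc' : (c : Matrix (Fin n ⊕ Fin n) (Fin n ⊕ Fin n) F) * hex.choose = s * c := hc
      rw [hc', mul_assoc, ← Matrix.coe_units_inv, Units.mul_inv, mul_one]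
  rw [e1, show Fintype.card F ^ n = Nat.card (Fin n → F) by
    rw [Nat.card_fun, Nat.card_fin, Nat.card_eq_fintype_card]]
  have hsym : ∀ P : S, ∀ j ≤ 2 * n, P.1.coeff (2 * n - j) = P.1.coeff j := fun P j hj => by
    conv_rhs => rw [← P.2.2.2.2]
    rw [coeff_reverse, P.2.2.1, revAt_le hj]
  refine Nat.card_congr (Equiv.ofBijective (fun P i => P.1.coeff ((i : ℕ) + 1)) ⟨?_, ?_⟩)
  · intro P Q h
    refine Subtype.ext (Polynomial.ext fun j => ?_)
    have key : ∀ j ≤ n, P.1.coeff j = Q.1.coeff j := fun j hj => by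
      rcases j with _ | j
      · rw [P.2.2.2.1, Q.2.2.2.1]
      · exact congrFun h ⟨j, by omega⟩
    rcases le_or_gt j n with hj | hj
    · exact key j hj
    rcases le_or_gt j (2 * n) with hj2 | hj2
    · rw [← hsym P j hj2, ← hsym Q j hj2, key _ (by omega)]
    · rw [coeff_eq_zero_of_natDegree_lt (by rw [P.2.2.1]; exact hj2),
        coeff_eq_zero_of_natDegree_lt (by rw [Q.2.2.1]; exact hj2)]
  · intro v
    obtain ⟨w, hw⟩ : ∃ w : ℕ → F, ∀ j, w j = if h : 0 < min j (2 * n - j) then v ⟨min j (2 * n - j) - 1, by omega⟩ else 1 :=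
      ⟨_, fun j => rfl⟩
    obtain ⟨P, hPdef⟩ : ∃ P : F[X], P = ∑ j ∈ Finset.range (2 * n + 1), C (w j) * X ^ j := ⟨_, rfl⟩
    have hco : ∀ j, P.coeff j = if j ≤ 2 * n then w j else 0 := fun j => by
      simp only [hPdef, finsetSum_coeff, coeff_C_mul_X_pow, Finset.sum_ite_eq, Finset.mem_range]
      exact if_congr (by omega) rfl rfl
    have htop : P.coeff (2 * n) = 1 := by rw [hco, if_pos le_rfl, hw, dif_neg (by omega)]
    have hd : P.natDegree = 2 * n := natDegree_eq_of_le_of_coeff_ne_zero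
      (natDegree_le_iff_coeff_eq_zero.2 fun j hj => by rw [hco, if_neg (by omega)]) (by rw [htop]; exact one_ne_zero)
    have hmon : P.Monic := by rw [Monic, leadingCoeff, hd, htop]
    have h0 : P.coeff 0 = 1 := by rw [hco, if_pos (by omega), hw, dif_neg (by omega)]
    have hrev : P.reverse = P := by
      refine Polynomial.ext fun j => ?_
      rw [coeff_reverse, hd]
      rcases le_or_gt j (2 * n) with hj | hj
      · rw [revAt_le hj, hco, hco, if_pos (by omega), if_pos hj, hw, hw]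
        simp only [show min (2 * n - j) (2 * n - (2 * n - j)) = min j (2 * n - j) by omega]
      · rw [revAt_eq_self_of_lt hj]
    refine ⟨⟨P, hmon, hd, h0, hrev⟩, funext fun i => ?_⟩
    show P.coeff ((i : ℕ) + 1) = v i
    rw [hco, if_pos (by omega), hw, dif_pos (by omega)]
    congr 1
    exact Fin.ext (by show min ((i : ℕ) + 1) (2 * n - ((i : ℕ) + 1)) - 1 = (i : ℕ); omega)

end CfsgLib.Classical.SpSemisimple
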