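import Cfsg.Agent.Lib.Classical.GLSylowLargePrime
import Cfsg.Agent.Lib.Classical.SpOrder
import Cfsg.Agent.Lib.KnownSimple.Spectra.SpAdjacency

/-!
Sylow `r`-subgroups of `Sp(2n, q)` for odd `r > n` are homocyclic.
-/

set_option autoImplicit false
set_option linter.style.haveILetI false

namespace CfsgLib.Classical.SpLargePrime

open CfsgLib.PrimeGraphPSL CfsgLib.Classical.GLLargePrime Matrix

variable {F : Type*} [Field F] [Fintype F] {q r : ℕ} [hr : Fact r.Prime]

/-- Half order. -/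
def half (d : ℕ) : ℕ := if Odd d then d else d / 2

theorem half_spec {d : ℕ} (hd : 0 < d) :
    1 ≤ half d ∧ (∀ i, d ∣ 2 * i ↔ half d ∣ i) ∧
      (Odd d ∧ half d = d ∨ Even d ∧ 2 * half d = d) := by
  unfold half
  split_ifs with h
  · exact ⟨hd, fun i => ⟨fun hi => (Nat.coprime_two_right.2 h).dvd_of_dvd_mul_left hi, fun hi => hi.mul_left 2⟩,
      Or.inl ⟨h, rfl⟩⟩
  · rw [Nat.not_odd_iff_even] at h
    have h2 := Nat.mul_div_cancel' h.two_dvd
    refine ⟨by omega, fun i => ?_, Or.inr ⟨h, h2⟩⟩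
    conv_lhs => rw [← h2]
    exact mul_dvd_mul_iff_left two_ne_zero

theorem padic_sq_sub_one (hq : 2 ≤ q) (hrq : ¬ r ∣ q) (hr2 : r ≠ 2) {i : ℕ} (hi : 1 ≤ i) (hir : i < r) :
    padicValNat r (q ^ (2 * i) - 1) =
      if half (orderOf (q : ZMod r)) ∣ i then padicValNat r (q ^ orderOf (q : ZMod r) - 1) else 0 := by
  set d := orderOf (q : ZMod r) with hd
  have hd0 : 0 < d := orderOf_natCast_pos hr.out hrq
  obtain ⟨hh1, hdiv, hh⟩ := half_spec hd0
  split_ifs with h
  · obtain ⟨t, ht⟩ := h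
    have ht0 : t ≠ 0 := fun e => by rw [e, mul_zero] at ht; omega
    have htr : ¬ r ∣ t := fun h' => by
      have := Nat.le_of_dvd (Nat.pos_of_ne_zero ht0) h'
      have : t ≤ i := ht ▸ Nat.le_mul_of_pos_left t hh1
      omega
    -- reduce to `q ^ d`
    obtain ⟨u, hu, hur⟩ : ∃ u, 2 * i = d * u ∧ ¬ r ∣ u := by
      rcases hh with ⟨-, h1⟩ | ⟨-, h1⟩
      · refine ⟨2 * t, by rw [ht, h1]; ring, fun h' => ?_⟩
        rcases hr.out.dvd_mul.1 h' with h'' | h''
        · exact hr2 ((Nat.prime_dvd_prime_iff_eq hr.out Nat.prime_two).1 h'')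
        · exact htr h''
      · exact ⟨t, by rw [ht, ← mul_assoc, h1], htr⟩
    have hx : 2 ≤ q ^ d := le_trans hq (Nat.le_self_pow hd0.ne' q)
    have hS : (∑ j ∈ Finset.range u, (q ^ d) ^ j) * (q ^ d - 1) = q ^ (2 * i) - 1 := by
      rw [Nat.geomSum_eq hx, Nat.div_mul_cancel (Nat.sub_one_dvd_pow_sub_one _ u), ← pow_mul, ← hu]
    have hndvd : ¬ r ∣ ∑ j ∈ Finset.range u, (q ^ d) ^ j := by
      rw [← ZMod.natCast_eq_zero_iff, Nat.cast_sum]
      simp only [Nat.cast_pow, hd, pow_orderOf_eq_one, one_pow, Finset.sum_const, Finset.card_range,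
        nsmul_eq_mul, mul_one]
      rw [ZMod.natCast_eq_zero_iff]
      exact hur
    rw [← hS, padicValNat.mul (fun e => hndvd (by rw [e]; exact dvd_zero r)) (by omega),
      padicValNat.eq_zero_of_not_dvd hndvd, zero_add]
  · exact padicValNat.eq_zero_of_not_dvd fun h' =>
      h ((hdiv i).1 ((orderOf_natCast_dvd_iff (by omega : 1 ≤ q)).2 h'))

theorem padic_card_sp (hq : Fintype.card F = q) {n : ℕ} (hrn : n < r) (hrq : ¬ r ∣ q) (hr2 : r ≠ 2) :
    padicValNat r (Nat.card (symplecticGroup (Fin n) F)) =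
      n / half (orderOf (q : ZMod r)) * padicValNat r (q ^ orderOf (q : ZMod r) - 1) := by
  have hq2 : 2 ≤ q := hq ▸ Fintype.one_lt_card
  have hne : ∀ j, 1 ≤ j → q ^ (2 * j) - 1 ≠ 0 := fun j hj => by
    have := Nat.one_lt_pow (n := 2 * j) (by omega) (by omega : 1 < q)
    omega
  have key : ∀ m : ℕ, m < r → padicValNat r (∏ i ∈ Finset.range m, (q ^ (2 * (i + 1)) - 1)) =
      m / half (orderOf (q : ZMod r)) * padicValNat r (q ^ orderOf (q : ZMod r) - 1) := by
    intro m hm
    induction m with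
    | zero => simp
    | succ m ih =>
      rw [Finset.prod_range_succ, padicValNat.mul (Finset.prod_ne_zero_iff.2 fun j _ => hne _ (by omega))
        (hne _ (by omega)), ih (by omega), padic_sq_sub_one hq2 hrq hr2 (by omega) hm, Nat.succ_div]
      split_ifs <;> ring
  rw [CfsgLib.Classical.card_sp, hq, padicValNat.mul (pow_ne_zero _ (by omega))
    (Finset.prod_ne_zero_iff.2 fun j _ => hne _ (by omega)),
    padicValNat.eq_zero_of_not_dvd (fun h => hrq (hr.out.dvd_of_dvd_pow h)), zero_add, key n hrn]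

omit [Fintype F] in
theorem exists_block_sp {C : Type*} [CommGroup C] {η : ℕ} (ι : C →* symplecticGroup (Fin η) F)
    (hι : Function.Injective ι) :
    ∀ a : ℕ, ∃ f : (Fin a → C) →* symplecticGroup (Fin (η * a)) F, Function.Injective f
  | 0 => ⟨1, fun x y _ => Subsingleton.elim x y⟩
  | a + 1 => by
    obtain ⟨f, hf⟩ := exists_block_sp ι hι a
    refine ⟨(CfsgLib.KnownSimple.spSum (show η + η * a = η * (a + 1) by ring)).comp
      ((ι.comp (Pi.evalMonoidHom _ 0)).prod (f.comp (MonoidHom.pi fun i : Fin a => Pi.evalMonoidHom _ i.succ))),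
      fun x y h => ?_⟩
    have h' := CfsgLib.KnownSimple.spSum_injective _ h
    funext i
    induction i using Fin.cases with
    | zero => exact hι (congrArg Prod.fst h')
    | succ j => exact congrFun (hf (congrArg Prod.snd h')) j

theorem sp_sylow (hq : Fintype.card F = q) (n : ℕ) (hrn : n < r) (hrq : ¬ r ∣ q) (hr2 : r ≠ 2)
    (P : Sylow r (symplecticGroup (Fin n) F)) :
    Nonempty (↥(P : Subgroup (symplecticGroup (Fin n) F)) ≃*
      (Fin ((Finset.Icc 1 n).filter (fun i => orderOf (q : ZMod r) ∣ 2 * i)).card →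
        Multiplicative (ZMod (r ^ padicValNat r (q ^ orderOf (q : ZMod r) - 1))))) := by
  have hq2 : 2 ≤ q := hq ▸ Fintype.one_lt_card
  set d := orderOf (q : ZMod r) with hd
  have hd0 : 0 < d := orderOf_natCast_pos hr.out hrq
  obtain ⟨hh1, hdiv, hh⟩ := half_spec hd0
  have hcount : ((Finset.Icc 1 n).filter (fun i => d ∣ 2 * i)).card = n / half d := by
    rw [← Nat.Ioc_filter_dvd_card_eq_div]
    congr 1
    ext i
    simp [hdiv, Nat.lt_iff_add_one_le]
  rw [hcount]
  set e := padicValNat r (q ^ d - 1) with he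
  have hN : r ^ e ∣ q ^ half d - 1 ∨ r ^ e ∣ q ^ half d + 1 := by
    have hdvd : r ^ e ∣ q ^ d - 1 := pow_padicValNat_dvd
    rcases hh with ⟨-, h1⟩ | ⟨-, h1⟩
    · left; rwa [h1]
    · right
      have hfac : q ^ d - 1 = (q ^ half d + 1) * (q ^ half d - 1) := by
        rw [← Nat.sq_sub_sq, one_pow, ← pow_mul, mul_comm (half d), h1]
      have hnd : ¬ r ∣ q ^ half d - 1 := fun h => by
        have h2 := Nat.le_of_dvd (by omega) ((orderOf_natCast_dvd_iff (by omega : 1 ≤ q)).2 h)
        omega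
      rw [hfac] at hdvd
      exact ((hr.out.coprime_iff_not_dvd.2 hnd).pow_left _).dvd_of_dvd_mul_right hdvd
  obtain ⟨Y, hY⟩ := CfsgLib.Spectra.exists_sp_of_dvd (F := F) hh1 (hq.symm ▸ hN)
  let iso : Multiplicative (ZMod (r ^ e)) ≃* Subgroup.zpowers Y :=
    mulEquivOfCyclicCardEq (by simp [Nat.card_zpowers, hY])
  obtain ⟨f, hf⟩ := exists_block_sp ((Subgroup.zpowers Y).subtype.comp iso.toMonoidHom)
    (Subtype.val_injective.comp iso.injective) (n / half d)
  have hle : half d * (n / half d) ≤ n := Nat.mul_div_le n _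
  refine sylow_equiv_of_injective
    ((CfsgLib.KnownSimple.spSum (show half d * (n / half d) + (n - half d * (n / half d)) = n by omega)).comp
      (f.prod 1)) (fun x y h => ?_) ?_ P
  · exact hf (congrArg Prod.fst (CfsgLib.KnownSimple.spSum_injective _ h))
  · rw [padic_card_sp hq hrn hrq hr2, Nat.card_pi, Finset.prod_const, Finset.card_univ, Fintype.card_fin,
      Nat.card_eq_fintype_card, Fintype.card_multiplicative, ZMod.card, ← pow_mul, mul_comm]

end CfsgLib.Classical.SpLargePrime
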