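/-
The normaliser of the diagonal torus of the symplectic group.
-/
import Cfsg.Agent.Lib.Classical.SpFrames
import Cfsg.Agent.Lib.Classical.SpSimple

set_option autoImplicit false

namespace CfsgLib.Classical

open Matrix Cfsg

variable {F : Type*} [Field F] {m : ℕ}

local notation "I" => Fin m ⊕ Fin m
local notation "ee" i:max => (Pi.single i (1 : F) : Fin m ⊕ Fin m → F)

/-- The sign of a basis vector. -/
def idxSign (F : Type*) [Field F] (i : I) : F := Sum.elim (fun _ => -1) (fun _ => 1) i

theorem sympForm_basis (i j : I) :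
    sympForm m F (ee i) (ee j) = if j = i.swap then idxSign F i else 0 := by
  rcases j with j | j
  · rw [sympForm_single_inl]
    rcases i with i | i <;> simp [idxSign, Pi.single_apply, Sum.swap, eq_comm]
  · rw [sympForm_single_inr]
    rcases i with i | i <;> simp [idxSign, Pi.single_apply, Sum.swap, eq_comm, apply_ite]

/-- The diagonal torus. -/
def spDiag (m : ℕ) (F : Type*) [Field F] : Subgroup (symplecticGroup (Fin m) F) :=
  ⨅ i : Fin m ⊕ Fin m, stabilizing (spToMat m F)
    ((Submodule.span F {(Pi.single i (1 : F) : Fin m ⊕ Fin m → F)} : Submodule F (Fin m ⊕ Fin m → F)) :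
      Set (Fin m ⊕ Fin m → F))

theorem mem_spDiag (g : symplecticGroup (Fin m) F) :
    g ∈ spDiag m F ↔ ∀ i, ∃ c : F, g.1 *ᵥ ee i = c • ee i := by
  constructor
  · intro h i
    obtain ⟨c, hc⟩ := Submodule.mem_span_singleton.1 ((Subgroup.mem_iInf.1 h i _).1 (Submodule.mem_span_singleton_self _))
    exact ⟨c, hc.symm⟩
  · intro h
    refine Subgroup.mem_iInf.2 fun i v => ?_
    obtain ⟨c, hc⟩ := h i
    have hc0 : c ≠ 0 := fun e => by
      rw [e, zero_smul] at hc
      have := sp_mulVec_injective g (hc.trans (mulVec_zero _).symm)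
      simpa using congrFun this i
    constructor
    · intro hv
      obtain ⟨t, rfl⟩ := Submodule.mem_span_singleton.1 hv
      show g.1 *ᵥ (t • ee i) ∈ Submodule.span F {ee i}
      rw [mulVec_smul, hc, smul_smul]
      exact Submodule.smul_mem _ _ (Submodule.mem_span_singleton_self _)
    · intro hv
      obtain ⟨t, ht⟩ := Submodule.mem_span_singleton.1 (hv : g.1 *ᵥ v ∈ Submodule.span F {ee i})
      have : g.1 *ᵥ ((t / c) • ee i) = g.1 *ᵥ v := by rw [mulVec_smul, hc, smul_smul, div_mul_cancel₀ _ hc0, ht]; rfl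
      rw [← sp_mulVec_injective g this]
      exact Submodule.smul_mem _ _ (Submodule.mem_span_singleton_self _)

theorem exists_spMonomial (π : Equiv.Perm I) (c : I → F) (hπ : ∀ i, π i.swap = (π i).swap)
    (hc : ∀ i, c i * c i.swap * idxSign F (π i) = idxSign F i) :
    ∃ g : symplecticGroup (Fin m) F, ∀ i, g.1 *ᵥ ee i = c i • ee (π i) := by
  let f : (I → F) →ₗ[F] (I → F) := (Pi.basisFun F I).constr F fun i => c i • ee (π i)
  have hf : ∀ i, f (ee i) = c i • ee (π i) := fun i => by
    have h := (Pi.basisFun F I).constr_basis F (fun i => c i • ee (π i)) i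
    rwa [Pi.basisFun_apply] at h
  have hform : (spBilin m F).compl₁₂ f f = spBilin m F := by
    refine LinearMap.BilinForm.ext_basis (Pi.basisFun F I) fun i j => ?_
    rw [LinearMap.compl₁₂_apply, Pi.basisFun_apply, Pi.basisFun_apply, hf, hf, spBilin_apply, spBilin_apply,
      sympForm_smul_left, sympForm_smul_right, sympForm_basis, sympForm_basis]
    by_cases h : j = i.swap
    · subst h
      rw [if_pos (hπ i), if_pos rfl, ← mul_assoc]
      exact hc i
    · rw [if_neg h, if_neg (fun e => h (π.injective (e.trans (hπ i).symm))), mul_zero, mul_zero]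
  obtain ⟨g, hg⟩ := spMk_exists f fun u v => LinearMap.congr_fun (LinearMap.congr_fun hform u) v
  exact ⟨g, fun i => by rw [hg, hf]⟩

theorem exists_spDiag (x : Fin m → Fˣ) :
    ∃ g : symplecticGroup (Fin m) F, ∀ i, g.1 *ᵥ ee i =
      Sum.elim (fun k => (x k : F)) (fun k => ((x k)⁻¹ : Fˣ)) i • ee i := by
  obtain ⟨g, hg⟩ := exists_spMonomial (F := F) (1 : Equiv.Perm I)
    (Sum.elim (fun k => (x k : F)) fun k => ((x k)⁻¹ : Fˣ)) (fun i => rfl)
    (fun i => by rcases i with i | i <;> simp)
  exact ⟨g, hg⟩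

theorem card_spDiag [Fintype F] : Nat.card (spDiag m F) = (Fintype.card F - 1) ^ m := by
  classical
  choose D hD using exists_spDiag (F := F) (m := m)
  have hbij : Function.Bijective (fun x => (⟨D x, (mem_spDiag _).2 fun i => ⟨_, hD x i⟩⟩ : spDiag m F)) := by
    refine ⟨fun x y h => funext fun k => Units.ext ?_, fun ⟨g, hg⟩ => ?_⟩
    · have h1 := hD x (Sum.inl k)
      rw [show D x = D y from congrArg Subtype.val h, hD y] at h1
      simpa using (congrFun h1 (Sum.inl k)).symm
    · choose c hc using (mem_spDiag g).1 hg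
      have hcc : ∀ i, c i * c i.swap = 1 := fun i => by
        have h := sp_form g (ee i) (ee i.swap)
        rw [hc, hc, sympForm_smul_left, sympForm_smul_right, sympForm_basis, if_pos rfl, ← mul_assoc] at h
        exact mul_right_cancel₀ (by rcases i with i | i <;> simp [idxSign]) (h.trans (one_mul _).symm)
      refine ⟨fun k => Units.mkOfMulEqOne _ _ (hcc (Sum.inl k)), Subtype.ext (Subtype.ext
        (Matrix.ext_of_mulVec_single fun i => ?_))⟩
      show (D _).1 *ᵥ ee i = g.1 *ᵥ ee i
      rw [hD, hc]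
      rcases i with k | k <;> rfl
  rw [← Nat.card_eq_of_bijective _ hbij, Nat.card_fun, Nat.card_units, Nat.card_fin, Nat.card_eq_fintype_card]

/-- Permutations commuting with the pairing. -/
abbrev PairPerm (m : ℕ) : Type := {π : Equiv.Perm (Fin m ⊕ Fin m) // ∀ i, π i.swap = (π i).swap}

theorem card_pairPerm : Nat.card (PairPerm m) = 2 ^ m * m.factorial := by
  let idx : I → Fin m := Sum.elim id id
  let place : Bool → Fin m → I := fun b k => if b then Sum.inr k else Sum.inl k
  have hidx : ∀ a c : I, idx a = idx c → a = c ∨ a = c.swap := fun a c h => by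
    rcases a with a | a <;> rcases c with c | c <;> simp [idx] at h <;> simp [h]
  let e : PairPerm m ≃ (Fin m → Bool) × Equiv.Perm (Fin m) :=
    { toFun := fun π => (fun k => (π.1 (Sum.inl k)).isRight,
        Equiv.ofBijective (fun k => idx (π.1 (Sum.inl k))) (Finite.injective_iff_bijective.1 fun a c h => by
          rcases hidx _ _ h with h1 | h1
          · exact Sum.inl_injective (π.1.injective h1)
          · rw [← π.2] at h1
            exact absurd (π.1.injective h1) (by simp)))
      invFun := fun p => ⟨Equiv.ofBijective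
          (Sum.elim (fun k => place (p.1 k) (p.2 k)) fun k => place (!p.1 k) (p.2 k))
          (Finite.injective_iff_bijective.1 fun a c h => by
            rcases a with a | a <;> rcases c with c | c <;> simp only [Sum.elim_inl, Sum.elim_inr, place] at h <;>
              · split_ifs at h with h1 h2 <;> simp at h <;>
                first
                | (subst h; rfl)
                | (exfalso; subst h; simp_all)),
        fun i => by rcases i with k | k <;> by_cases hb : p.1 k <;> simp [place, hb]⟩
      left_inv := fun π => by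
        refine Subtype.ext (Equiv.ext fun i => ?_)
        rcases i with k | k <;> simp [place, idx]
        · rcases h : π.1 (Sum.inl k) with j | j <;> simp
        · rw [show (Sum.inr k : I) = (Sum.inl k : I).swap from rfl, π.2]
          rcases h : π.1 (Sum.inl k) with j | j <;> simp
      right_inv := fun p => by
        refine Prod.ext (funext fun k => ?_) (Equiv.ext fun k => ?_) <;> by_cases hb : p.1 k <;> simp [place, idx, hb] }
  rw [Nat.card_congr e, Nat.card_prod, Nat.card_fun, Nat.card_perm, Nat.card_fin, Nat.card_eq_fintype_card,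
    Fintype.card_bool]

theorem exists_separating [Fintype F] (hq : 4 ≤ Fintype.card F) {j l : I} (h : j ≠ l) :
    ∃ t ∈ spDiag m F, ∃ a b : F, a ≠ b ∧ t.1 *ᵥ ee j = a • ee j ∧ t.1 *ᵥ ee l = b • ee l := by
  classical
  obtain ⟨x, hx, hx2⟩ := exists_sq_ne_one_of_four_le hq
  have hx1 : x ≠ 1 := fun e => hx2 (by rw [e, one_pow])
  have hxi : x ≠ x⁻¹ := fun e => hx2 (by rw [pow_two]; nth_rw 2 [e]; rw [mul_inv_cancel₀ hx])
  let k₀ : Fin m := Sum.elim id id j
  obtain ⟨t, ht⟩ := exists_spDiag (F := F) (Function.update (1 : Fin m → Fˣ) k₀ (Units.mk0 x hx))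
  refine ⟨t, (mem_spDiag t).2 fun i => ⟨_, ht i⟩, _, _, ?_, ht j, ht l⟩
  rcases j with j | j <;> rcases l with l | l <;>
    simp only [k₀, Sum.elim_inl, Sum.elim_inr, id_eq, Function.update_self]
  · rw [Function.update_of_ne (fun e => h (by rw [e]))]; simpa using hx1
  · rcases eq_or_ne l j with rfl | hl
    · simpa using hxi
    · simpa [Function.update_of_ne hl] using hx1
  · rcases eq_or_ne l j with rfl | hl
    · simpa using hxi.symm
    · simpa [Function.update_of_ne hl, inv_eq_one] using hx1
  · rw [Function.update_of_ne (fun e => h (by rw [e]))]; simpa [inv_eq_one] using hx1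

theorem card_sp_torus_normalizer [Fintype F] {q : ℕ} (hF : Fintype.card F = q) (hq : 4 ≤ q) (m : ℕ) :
    Nat.card ↥(Subgroup.normalizer ((spDiag m F : Subgroup (symplecticGroup (Fin m) F)) :
      Set (symplecticGroup (Fin m) F))) = 2 ^ m * Nat.factorial m * (q - 1) ^ m := by
  classical
  set T := spDiag m F with hT
  set N := Subgroup.normalizer (T : Set (symplecticGroup (Fin m) F)) with hN
  -- elements of the normaliser permute the lines
  have hmono : ∀ g : N, ∀ i, ∃ j, ∃ c : F, c ≠ 0 ∧ g.1.1 *ᵥ (Pi.single i (1 : F) : Fin m ⊕ Fin m → F) =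
      c • (Pi.single j (1 : F) : Fin m ⊕ Fin m → F) := by
    intro g i
    set v := g.1.1 *ᵥ (Pi.single i (1 : F) : Fin m ⊕ Fin m → F) with hv
    have heig : ∀ t ∈ T, ∃ μ : F, t.1 *ᵥ v = μ • v := fun t ht => by
      have hs : g.1⁻¹ * t * g.1 ∈ T := by
        have h := (Subgroup.mem_normalizer_iff.1 (inv_mem g.2) t).1 ht
        simpa using h
      obtain ⟨μ, hμ⟩ := (mem_spDiag _).1 hs i
      refine ⟨μ, ?_⟩
      have h := congrArg (fun w => g.1.1 *ᵥ w) hμ
      simp only [mulVec_smul, Submonoid.coe_mul, ← mulVec_mulVec, sp_mulVec_inv] at h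
      exact h
    obtain ⟨j, hj⟩ : ∃ j, v j ≠ 0 := by
      by_contra hc
      push Not at hc
      have : v = g.1.1 *ᵥ (0 : Fin m ⊕ Fin m → F) := by rw [mulVec_zero]; exact funext hc
      simpa using congrFun (sp_mulVec_injective g.1 this) i
    refine ⟨j, v j, hj, funext fun l => ?_⟩
    rcases eq_or_ne l j with rfl | hlj
    · simp
    · rw [Pi.smul_apply, Pi.single_eq_of_ne hlj, smul_zero]
      by_contra hl
      obtain ⟨t, ht, a, b, hab, hta, htb⟩ := exists_separating (F := F) (hF ▸ hq) hlj.symm
      obtain ⟨μ, hμ⟩ := heig t ht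
      choose d hd using (mem_spDiag t).1 ht
      have hcoord : ∀ r, (t.1 *ᵥ v) r = d r * v r := fun r => by
        conv_lhs => rw [← (Pi.basisFun F (Fin m ⊕ Fin m)).sum_repr v]
        simp only [← mulVecLin_apply, map_sum, map_smul, Pi.basisFun_repr, Pi.basisFun_apply]
        simp only [mulVecLin_apply, hd, Finset.sum_apply, Pi.smul_apply, smul_eq_mul]
        rw [Finset.sum_eq_single r (fun x _ hx => by simp [hx.symm]) (by simp)]
        simp [mul_comm]
      have h1 := hcoord j
      have h2 := hcoord l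
      rw [hμ, Pi.smul_apply, smul_eq_mul] at h1 h2
      have ea : d j = a := by simpa using congrFun ((hd j).symm.trans hta) j
      have eb : d l = b := by simpa using congrFun ((hd l).symm.trans htb) l
      rw [ea] at h1
      rw [eb] at h2
      exact hab ((mul_right_cancel₀ hj h1).symm.trans (mul_right_cancel₀ hl h2))
  choose p c hc0 hpc using hmono
  have hsingle : ∀ (i j : Fin m ⊕ Fin m) (a : F), a ≠ 0 → ∀ b : F,
      a • (Pi.single i (1 : F) : Fin m ⊕ Fin m → F) = b • (Pi.single j (1 : F) : Fin m ⊕ Fin m → F) → i = j := by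
    intro i j a ha b h
    by_contra hij
    simpa [hij, ha] using congrFun h i
  have hpinj : ∀ g, Function.Injective (p g) := fun g i i' e => by
    refine hsingle i i' (c g i') (hc0 g i') (c g i) (sp_mulVec_injective g.1 ?_)
    show g.1.1 *ᵥ _ = g.1.1 *ᵥ _
    rw [mulVec_smul, mulVec_smul, hpc, hpc, e, smul_smul, smul_smul, mul_comm]
  have hswap : ∀ g i, p g i.swap = (p g i).swap := fun g i => by
    have h := sp_form g.1 (Pi.single i (1 : F) : Fin m ⊕ Fin m → F) (Pi.single i.swap (1 : F))
    rw [hpc, hpc, sympForm_smul_left, sympForm_smul_right, sympForm_basis, sympForm_basis, if_pos rfl] at h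
    by_contra hne
    rw [if_neg hne, mul_zero, mul_zero] at h
    rcases i with i | i <;> simp [idxSign] at h
  let a : N → PairPerm m := fun g =>
    ⟨Equiv.ofBijective (p g) (Finite.injective_iff_bijective.1 (hpinj g)), hswap g⟩
  have ha : ∀ g g', a g = a g' ↔ g⁻¹ * g' ∈ T.subgroupOf N := fun g g' => by
    rw [Subgroup.mem_subgroupOf, mem_spDiag]
    constructor
    · intro e i
      have e' : p g i = p g' i := congrArg (fun π : PairPerm m => π.1 i) e
      refine ⟨c g' i * (c g i)⁻¹, sp_mulVec_injective g.1 ?_⟩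
      show g.1.1 *ᵥ _ = g.1.1 *ᵥ _
      rw [Subgroup.coe_mul, Subgroup.coe_inv, Submonoid.coe_mul, ← mulVec_mulVec, sp_mulVec_inv, mulVec_smul, hpc,
        hpc, e', smul_smul, inv_mul_cancel_right₀ (hc0 g i)]
    · intro e
      refine Subtype.ext (Equiv.ext fun i => ?_)
      obtain ⟨d, hd⟩ := e i
      have h := congrArg (fun w => g.1.1 *ᵥ w) hd
      simp only [Subgroup.coe_mul, Subgroup.coe_inv, Submonoid.coe_mul, ← mulVec_mulVec, sp_mulVec_inv, mulVec_smul,
        hpc, smul_smul] at h
      exact (hsingle _ _ _ (hc0 g' i) _ h).symm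
  have hsurj : Function.Surjective a := fun π => by
    let w : Fin m ⊕ Fin m → F := Sum.elim (fun _ => 1) fun k => -idxSign F (π.1 (Sum.inl k))
    have hs : ∀ j : Fin m ⊕ Fin m, idxSign F j * idxSign F j = 1 ∧ idxSign F j.swap = -idxSign F j := fun j => by
      rcases j with j | j <;> simp [idxSign]
    obtain ⟨g, hg⟩ := exists_spMonomial (F := F) π.1 w π.2 fun i => by
      rcases i with k | k
      · simp [w, (hs _).1, idxSign]
        simpa [idxSign] using (hs (π.1 (Sum.inl k))).1
      · rw [show (Sum.inr k : Fin m ⊕ Fin m) = (Sum.inl k : Fin m ⊕ Fin m).swap from rfl, π.2, (hs _).2]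
        simp [w, idxSign]
        simpa [idxSign] using (hs (π.1 (Sum.inl k))).1
    have hw : ∀ i, w i ≠ 0 := fun i => by
      rcases i with k | k
      · simp [w]
      · rcases h : π.1 (Sum.inl k) with j | j <;> simp [w, h, idxSign]
    have hfwd : ∀ t ∈ T, g * t * g⁻¹ ∈ T := fun t ht => (mem_spDiag _).2 fun j => by
      obtain ⟨i, rfl⟩ := π.1.surjective j
      obtain ⟨d, hd⟩ := (mem_spDiag t).1 ht i
      refine ⟨d, ?_⟩
      have hinv : g⁻¹.1 *ᵥ (Pi.single (π.1 i) (1 : F) : Fin m ⊕ Fin m → F) = (w i)⁻¹ • Pi.single i (1 : F) := by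
        refine sp_mulVec_injective g ?_
        show g.1 *ᵥ _ = g.1 *ᵥ _
        rw [sp_mulVec_inv, mulVec_smul, hg, smul_smul, inv_mul_cancel₀ (hw i), one_smul]
      rw [Submonoid.coe_mul, Submonoid.coe_mul, ← mulVec_mulVec, ← mulVec_mulVec, hinv, mulVec_smul, hd, smul_smul,
        mulVec_smul, hg, smul_smul]
      congr 1
      field_simp [hw i]
    have hgN : g ∈ N := Subgroup.mem_normalizer_fintype hfwd
    refine ⟨⟨g, hgN⟩, Subtype.ext (Equiv.ext fun i => ?_)⟩
    exact hsingle _ _ _ (hc0 ⟨g, hgN⟩ i) _ ((hpc ⟨g, hgN⟩ i).symm.trans (hg i))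
  have h := card_orbit_fibre a (T.subgroupOf N) ha Set.univ fun y _ => hsurj y
  rw [Nat.card_congr (Equiv.subtypeUnivEquiv fun g => Set.mem_univ (a g)), Nat.card_univ, card_pairPerm,
    Nat.card_congr (Subgroup.subgroupOfEquivOfLe Subgroup.le_normalizer).toEquiv, card_spDiag, hF] at h
  exact h

end CfsgLib.Classical
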