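/-
The symplectic group over a finite field is generated by two elements.

One generator is a transvection times a commuting element of order prime to the characteristic,
the other a short root element times the signed cycle of the coordinates.
-/
import Cfsg.Agent.Lib.Classical.SpBasic

set_option autoImplicit false
set_option linter.unusedSectionVars false

namespace CfsgLib.Classical.SpTwoGen

open Matrix Cfsg CfsgLib.Classical

variable {F : Type*} [Field F] {m : ℕ}

/-- The first half of the coordinate basis. -/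
def eV (i : Fin m) : Fin m ⊕ Fin m → F := Pi.single (Sum.inl i) 1

/-- The second half of the coordinate basis. -/
def fV (i : Fin m) : Fin m ⊕ Fin m → F := Pi.single (Sum.inr i) 1

theorem form_eV (v : Fin m ⊕ Fin m → F) (i : Fin m) : sympForm m F v (eV i) = v (Sum.inr i) :=
  sympForm_single_inl v i

theorem form_fV (v : Fin m ⊕ Fin m → F) (i : Fin m) : sympForm m F v (fV i) = - v (Sum.inl i) :=
  sympForm_single_inr v i

theorem form_eV_left (v : Fin m ⊕ Fin m → F) (i : Fin m) :
    sympForm m F (eV i) v = - v (Sum.inr i) := by rw [sympForm_swap, form_eV]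

theorem form_fV_left (v : Fin m ⊕ Fin m → F) (i : Fin m) :
    sympForm m F (fV i) v = v (Sum.inl i) := by rw [sympForm_swap, form_fV, neg_neg]

/-- All transvections along the vector lie in the subgroup. -/
def Full (K : Subgroup (symplecticGroup (Fin m) F)) (v : Fin m ⊕ Fin m → F) : Prop :=
  ∀ t, spT v t ∈ K

variable {K : Subgroup (symplecticGroup (Fin m) F)}

theorem Full.move {v : Fin m ⊕ Fin m → F} (h : Full K v) {g : symplecticGroup (Fin m) F}
    (hg : g ∈ K) : Full K (g.1 *ᵥ v) := fun t => by
  rw [← spT_conj]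
  exact mul_mem (mul_mem hg (h t)) (inv_mem hg)

theorem Full.smul {v : Fin m ⊕ Fin m → F} (h : Full K v) (a : F) : Full K (a • v) := fun t => by
  rw [spT_smul]; exact h _

theorem full_zero : Full K (0 : Fin m ⊕ Fin m → F) := fun t => by
  rw [show spT (0 : Fin m ⊕ Fin m → F) t = 1 from sp_ext fun x => by simp [spT_apply]]
  exact one_mem K

theorem Full.line {u v : Fin m ⊕ Fin m → F} (hv : Full K v) (hu : Full K u)
    (h : sympForm m F v u ≠ 0) (t : F) : Full K (v + t • u) := by
  have := hv.move (hu (t / sympForm m F v u))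
  rwa [spT_apply, div_mul_cancel₀ _ h] at this

theorem Full.comb {u v : Fin m ⊕ Fin m → F} (hv : Full K v) (hu : Full K u)
    (h : sympForm m F v u ≠ 0) (s t : F) : Full K (s • v + t • u) := by
  by_cases hs : s = 0
  · rw [hs, zero_smul, zero_add]; exact hu.smul t
  · have := (hv.line hu h (t / s)).smul s
    rwa [smul_add, smul_smul, mul_div_cancel₀ _ hs] at this

theorem spTGroup_le_of_full {S : Set (Fin m ⊕ Fin m → F)} (h : ∀ v ∈ S, Full K v) :
    spTGroup S ≤ K := (Subgroup.closure_le K).2 (by
  rintro _ ⟨v, hv, c, rfl⟩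
  exact h v hv c)

/-- Vectors supported on the first `k` planes. -/
def below (m : ℕ) (F : Type*) [Field F] (k : ℕ) : Submodule F (Fin m ⊕ Fin m → F) :=
  coordPerp (Finset.univ.filter fun i : Fin m => k ≤ i.val)

theorem mem_below {k : ℕ} {v : Fin m ⊕ Fin m → F} :
    v ∈ below m F k ↔ ∀ i : Fin m, k ≤ i.val → v (Sum.inl i) = 0 ∧ v (Sum.inr i) = 0 := by
  constructor
  · intro h i hi
    exact h i (Finset.mem_filter.2 ⟨Finset.mem_univ _, hi⟩)
  · intro h i hi
    exact h i (Finset.mem_filter.1 hi).2

theorem eV_mem_below {k : ℕ} {i : Fin m} (h : i.val < k) : (eV i : _ → F) ∈ below m F k :=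
  mem_below.2 fun j hj => by
    have : j ≠ i := fun e => by rw [e] at hj; omega
    simp [eV, this]

theorem fV_mem_below {k : ℕ} {i : Fin m} (h : i.val < k) : (fV i : _ → F) ∈ below m F k :=
  mem_below.2 fun j hj => by
    have : j ≠ i := fun e => by rw [e] at hj; omega
    simp [fV, this]

theorem exists_partner {k : ℕ} {a : Fin m ⊕ Fin m → F} (ha : a ∈ below m F k) (h0 : a ≠ 0) :
    ∃ z ∈ below m F k, sympForm m F a z ≠ 0 := by
  obtain ⟨j, hj⟩ := Function.ne_iff.1 h0
  rcases j with i | i
  · have hi : i.val < k := by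
      by_contra h
      exact hj ((mem_below.1 ha i (not_lt.1 h)).1)
    exact ⟨fV i, fV_mem_below hi, by rw [form_fV]; simpa using hj⟩
  · have hi : i.val < k := by
      by_contra h
      exact hj ((mem_below.1 ha i (not_lt.1 h)).2)
    exact ⟨eV i, eV_mem_below hi, by rw [form_eV]; simpa using hj⟩

/-- One more plane. -/
theorem full_below_succ {k : ℕ} (hk : k < m) (hk0 : 1 ≤ k) (hP : ∀ v ∈ below m F k, Full K v)
    (hf : Full K (fV ⟨k, hk⟩ : _ → F)) {p : Fin m ⊕ Fin m → F} (hp : p ∈ below m F k) (hp0 : p ≠ 0)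
    (hu : Full K (p + eV ⟨k, hk⟩))
    (hc : 2 ≤ k ∨ (∃ c : F, c ≠ 0 ∧ c ≠ -1) ∨ Full K (eV ⟨k, hk⟩ : _ → F)) :
    ∀ v ∈ below m F (k + 1), Full K v := by
  classical
  set i : Fin m := ⟨k, hk⟩ with hi
  have hperp : ∀ a ∈ below m F k, sympForm m F a (eV i) = 0 ∧ sympForm m F a (fV i) = 0 := fun a ha => by
    rw [form_eV, form_fV, (mem_below.1 ha i le_rfl).1, (mem_below.1 ha i le_rfl).2, neg_zero]
    exact ⟨rfl, rfl⟩
  have hperp' : ∀ a ∈ below m F k, sympForm m F (eV i) a = 0 ∧ sympForm m F (fV i) a = 0 := fun a ha => by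
    rw [sympForm_swap, (hperp a ha).1, sympForm_swap a (fV i), (hperp a ha).2, neg_zero]
    exact ⟨rfl, rfl⟩
  have hfe : sympForm m F (fV i) (eV i : _ → F) = 1 := by rw [form_eV]; simp [fV]
  have hff : sympForm m F (fV i) (fV i : _ → F) = 0 := sympForm_self _
  have hee : sympForm m F (eV i) (eV i : _ → F) = 0 := sympForm_self _
  have hef : sympForm m F (eV i) (fV i : _ → F) = -1 := by rw [sympForm_swap, hfe]
  -- transitivity on the first component
  have htrans : ∀ a a' : Fin m ⊕ Fin m → F, a ∈ below m F k → a' ∈ below m F k → a ≠ 0 → a' ≠ 0 →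
      ∀ s t : F, Full K (a + (s • eV i + t • fV i)) → Full K (a' + (s • eV i + t • fV i)) := by
    intro a a' ha ha' h0 h0' s t h
    obtain ⟨g, hg, hga⟩ :=
      exists_spTGroup_move (below m F k) ha ha' (exists_partner ha h0) (exists_partner ha' h0')
    have h' := h.move (spTGroup_le_of_full hP hg)
    rwa [mulVec_add, mulVec_add, mulVec_smul, mulVec_smul, hga,
      spTGroup_fix (fun v hv => (hperp' v hv).1) hg, spTGroup_fix (fun v hv => (hperp' v hv).2) hg] at h'
  have hue : ∀ a ∈ below m F k, a ≠ 0 → Full K (a + eV i) := fun a ha h0 => by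
    have := htrans p a hp ha hp0 h0 1 0 (by simpa using hu)
    simpa using this
  have he : Full K (eV i : _ → F) := by
    rcases hc with hc | hc | hc
    case inr.inr => exact hc
    all_goals
      obtain ⟨a, d, ha, hd, ha0, hd0, had, hadB⟩ : ∃ a d : Fin m ⊕ Fin m → F,
          a ∈ below m F k ∧ d ∈ below m F k ∧ a ≠ 0 ∧ d ≠ 0 ∧ d + a ≠ 0 ∧ sympForm m F d a = 0 := by
        first
        | (obtain ⟨c, hc0, hc1⟩ := hc
           refine ⟨eV ⟨0, by omega⟩, c • eV ⟨0, by omega⟩, eV_mem_below (show 0 < k by omega),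
             Submodule.smul_mem _ _ (eV_mem_below (show 0 < k by omega)), ?_, ?_, ?_, ?_⟩
           · intro h; simpa [eV] using congrFun h (Sum.inl ⟨0, by omega⟩)
           · intro h; exact hc0 (by simpa [eV] using congrFun h (Sum.inl ⟨0, by omega⟩))
           · intro h
             refine hc1 (eq_neg_of_add_eq_zero_left ?_)
             simpa [eV] using congrFun h (Sum.inl ⟨0, by omega⟩)
           · rw [sympForm_smul_left, sympForm_self, mul_zero])
        | (refine ⟨eV ⟨0, by omega⟩, eV ⟨1, by omega⟩, eV_mem_below (show 0 < k by omega),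
             eV_mem_below (show 1 < k by omega), ?_, ?_, ?_, ?_⟩
           · intro h; simpa [eV] using congrFun h (Sum.inl ⟨0, by omega⟩)
           · intro h; simpa [eV] using congrFun h (Sum.inl ⟨1, by omega⟩)
           · intro h; simpa [eV, Fin.ext_iff] using congrFun h (Sum.inl ⟨1, by omega⟩)
           · rw [form_eV]; simp [eV])
      have hu1 := hue a ha ha0
      have h1 : Full K (a + (eV i + fV i)) := by
        have h := hf.line hu1 (by rw [sympForm_add_right, (hperp' a ha).2, zero_add, hfe]; exact one_ne_zero) 1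
        rwa [one_smul, show fV i + (a + eV i) = a + (eV i + fV i) by abel] at h
      have h2 : Full K ((d + a) + (eV i + fV i)) := by
        have := htrans a (d + a) ha (add_mem hd ha) ha0 had 1 1 (by simpa using h1)
        simpa using this
      have h3 : Full K (d + fV i) := by
        have hB : sympForm m F ((d + a) + (eV i + fV i)) (a + eV i) ≠ 0 := by
          simp only [sympForm_add_left, sympForm_add_right, sympForm_self, hadB, (hperp' a ha).1,
            (hperp' a ha).2, (hperp d hd).1, (hperp a ha).1, hfe, zero_add, add_zero]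
          exact one_ne_zero
        have h := h2.line hu1 hB (-1)
        rwa [neg_one_smul, show (d + a) + (eV i + fV i) + -(a + eV i) = d + fV i by abel] at h
      have h4 : Full K (-fV i + eV i) := by
        have hB : sympForm m F (d + eV i) (d + fV i) ≠ 0 := by
          simp only [sympForm_add_left, sympForm_add_right, sympForm_self, (hperp' d hd).1,
            (hperp d hd).2, hef, zero_add, add_zero]
          exact neg_ne_zero.2 one_ne_zero
        have h := (hue d hd hd0).line h3 hB (-1)
        rwa [neg_one_smul, show (d + eV i) + -(d + fV i) = -fV i + eV i by abel] at h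
      have hB : sympForm m F (-fV i + eV i) (fV i : _ → F) ≠ 0 := by
        rw [sympForm_add_left, hef, ← neg_one_smul F (fV i), sympForm_smul_left, hff, mul_zero, zero_add]
        exact neg_ne_zero.2 one_ne_zero
      have h5 := h4.line hf hB 1
      rwa [one_smul, show -fV i + eV i + fV i = eV i by abel] at h5
  -- the plane
  set W := coordPerp (F := F) (Finset.univ.filter fun j : Fin m => j ≠ i) with hW
  have hWmem : ∀ v, v ∈ W → v = v (Sum.inl i) • eV i + v (Sum.inr i) • fV i := by
    intro v hv
    funext j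
    rcases j with j | j
    · by_cases hj : j = i
      · subst hj; simp [eV, fV]
      · simp [eV, fV, hj, (hv j (by simp [hj])).1]
    · by_cases hj : j = i
      · subst hj; simp [eV, fV]
      · simp [eV, fV, hj, (hv j (by simp [hj])).2]
  have heW : (eV i : _ → F) ∈ W := fun j hj => by
    have hj' : j ≠ i := (Finset.mem_filter.1 hj).2
    simp [eV, hj']
  have hfW : (fV i : _ → F) ∈ W := fun j hj => by
    have hj' : j ≠ i := (Finset.mem_filter.1 hj).2
    simp [fV, hj']
  have hWfull : ∀ v ∈ W, Full K v := fun v hv => by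
    rw [hWmem v hv]
    exact he.comb hf (by rw [hef]; exact neg_ne_zero.2 one_ne_zero) _ _
  intro v hv
  set y : Fin m ⊕ Fin m → F := v (Sum.inl i) • eV i + v (Sum.inr i) • fV i with hy
  set a := v - y with hadef
  have ha : a ∈ below m F k := by
    refine mem_below.2 fun j hj => ?_
    by_cases hji : j = i
    · subst hji; simp [hadef, hy, eV, fV]
    · have hj' : k + 1 ≤ j.val := by
        rcases Nat.lt_or_ge k j.val with h | h
        · exact h
        · exact absurd (Fin.ext (show j.val = k by omega)) hji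
      simp [hadef, hy, eV, fV, hji, (mem_below.1 hv j hj').1, (mem_below.1 hv j hj').2]
  have hyW : y ∈ W := W.add_mem (W.smul_mem _ heW) (W.smul_mem _ hfW)
  have hv' : v = a + y := by rw [hadef, sub_add_cancel]
  rw [hv']
  by_cases ha0 : a = 0
  · rw [ha0, zero_add]; exact hWfull y hyW
  by_cases hy0 : y = 0
  · rw [hy0, add_zero]; exact hP a ha
  have hpar : ∃ z ∈ W, sympForm m F y z ≠ 0 := by
    by_cases hl : v (Sum.inl i) = 0
    · refine ⟨eV i, heW, fun h => hy0 ?_⟩
      rw [form_eV] at h
      have hr : v (Sum.inr i) = 0 := by simpa [hy, eV, fV] using h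
      rw [hy, hl, hr, zero_smul, zero_smul, zero_add]
    · refine ⟨fV i, hfW, fun h => hl ?_⟩
      rw [form_fV, neg_eq_zero] at h
      simpa [hy, eV, fV] using h
  obtain ⟨g, hg, hgy⟩ := exists_spTGroup_move W heW hyW
    ⟨fV i, hfW, by rw [hef]; exact neg_ne_zero.2 one_ne_zero⟩ hpar
  have hga : g.1 *ᵥ a = a := spTGroup_fix (fun w hw => by
    rw [hWmem w hw, sympForm_add_right, sympForm_smul_right, sympForm_smul_right, (hperp a ha).1,
      (hperp a ha).2, mul_zero, mul_zero, add_zero]) hg
  have h := (hue a ha ha0).move (spTGroup_le_of_full hWfull hg)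
  rwa [mulVec_add, hga, hgy] at h

/-- A transvection with a non-zero coefficient, moved by all scalars, gives all of them. -/
theorem full_of_scalars [Finite F] {v : Fin m ⊕ Fin m → F} {c : F} (hc : spT v c ∈ K) (hc0 : c ≠ 0)
    (hh : ∀ x : F, x ≠ 0 → ∃ g ∈ K, g.1 *ᵥ v = x • v) : Full K v := by
  have hsq : ∀ x : F, spT v (c * x ^ 2) ∈ K := by
    intro x
    by_cases hx : x = 0
    · rw [hx, zero_pow (by norm_num), mul_zero, spT_zero]; exact one_mem K
    obtain ⟨g, hg, hgv⟩ := hh x hx
    have h := mul_mem (mul_mem hg hc) (inv_mem hg)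
    rwa [spT_conj, hgv, spT_smul] at h
  intro t
  by_cases h2 : (2 : F) = 0
  · haveI : CharP F 2 := CharTwo.of_one_ne_zero_of_two_eq_zero one_ne_zero h2
    haveI := Fintype.ofFinite F
    obtain ⟨r, hr⟩ := FiniteField.isSquare_of_char_two (ringChar.eq F 2) (t / c)
    have := hsq r
    rwa [sq, ← hr, mul_div_cancel₀ _ hc0] at this
  · have := mul_mem (hsq ((t / c + 1) / 2)) (inv_mem (hsq ((t / c - 1) / 2)))
    rw [spT_inv, spT_mul] at this
    convert this using 2
    field_simp
    ring

/-- The signed cycle. -/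
def wLin (m : ℕ) (F : Type*) [Field F] : (Fin m ⊕ Fin m → F) →ₗ[F] (Fin m ⊕ Fin m → F) where
  toFun v := Sum.elim (fun i => if i.val = 0 then -v (Sum.inr ((finRotate m).symm i))
      else v (Sum.inl ((finRotate m).symm i)))
    (fun i => if i.val = 0 then v (Sum.inl ((finRotate m).symm i))
      else v (Sum.inr ((finRotate m).symm i)))
  map_add' u v := by
    funext j
    rcases j with i | i <;> by_cases h : i.val = 0 <;> simp [h, add_comm]
  map_smul' a v := by
    funext j
    rcases j with i | i <;> by_cases h : i.val = 0 <;> simp [h]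

/-- The signed cycle as a group element. -/
noncomputable def wSp (m : ℕ) (F : Type*) [Field F] : symplecticGroup (Fin m) F :=
  ⟨LinearMap.toMatrix' (wLin m F), mem_sp_iff.2 fun u v => by
    rw [LinearMap.toMatrix'_mulVec, LinearMap.toMatrix'_mulVec, sympForm_eq, sympForm_eq]
    refine Fintype.sum_equiv (finRotate m).symm _ _ fun i => ?_
    simp only [wLin, LinearMap.coe_mk, AddHom.coe_mk, Sum.elim_inl, Sum.elim_inr]
    split_ifs <;> ring⟩

theorem wSp_apply (v : Fin m ⊕ Fin m → F) : (wSp m F).1 *ᵥ v = wLin m F v :=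
  LinearMap.toMatrix'_mulVec _ _

theorem rotate_symm_val {i : Fin m} :
    ((finRotate m).symm i).val = if i.val = 0 then m - 1 else i.val - 1 := by
  obtain ⟨n, rfl⟩ : ∃ n, m = n + 1 := ⟨m - 1, by have := i.isLt; omega⟩
  have h : finRotate (n + 1) ((finRotate (n + 1)).symm i) = i := Equiv.apply_symm_apply _ _
  set j := (finRotate (n + 1)).symm i with hj
  have h' := congrArg Fin.val h
  rw [coe_finRotate] at h'
  have := j.isLt
  split_ifs at h' with hl
  · rw [if_pos h'.symm]
    have := congrArg Fin.val hl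
    simp at this
    omega
  · rw [if_neg (by omega)]; omega

theorem rotate_symm_eq {i j : Fin m} :
    (finRotate m).symm i = j ↔ (if i.val = 0 then m - 1 else i.val - 1) = j.val := by
  rw [← rotate_symm_val, Fin.ext_iff]

theorem wSp_eV {k : ℕ} (hk : k + 1 < m) :
    (wSp m F).1 *ᵥ eV ⟨k, by omega⟩ = eV ⟨k + 1, hk⟩ := by
  rw [wSp_apply]
  funext j
  rcases j with i | i
  · by_cases h : i.val = 0
    · simp [wLin, eV, h, Fin.ext_iff]
    · simp only [wLin, LinearMap.coe_mk, AddHom.coe_mk, Sum.elim_inl, if_neg h, eV, Pi.single_apply,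
        Sum.inl.injEq, rotate_symm_eq]
      refine if_congr ?_ rfl rfl
      rw [Fin.ext_iff]
      show i.val - 1 = k ↔ i.val = k + 1
      omega
  · by_cases h : i.val = 0
    · simp only [wLin, LinearMap.coe_mk, AddHom.coe_mk, Sum.elim_inr, if_pos h, eV, Pi.single_apply,
        Sum.inl.injEq, rotate_symm_eq, reduceCtorEq, if_false]
      rw [if_neg]
      show ¬ m - 1 = k
      omega
    · simp [wLin, eV, h]

theorem wSp_fV {k : ℕ} (hk : k + 1 < m) :
    (wSp m F).1 *ᵥ fV ⟨k, by omega⟩ = fV ⟨k + 1, hk⟩ := by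
  rw [wSp_apply]
  funext j
  rcases j with i | i
  · by_cases h : i.val = 0
    · simp only [wLin, LinearMap.coe_mk, AddHom.coe_mk, Sum.elim_inl, if_pos h, fV, Pi.single_apply,
        Sum.inr.injEq, rotate_symm_eq, reduceCtorEq, if_false]
      rw [if_neg, neg_zero]
      show ¬ m - 1 = k
      omega
    · simp [wLin, fV, h]
  · by_cases h : i.val = 0
    · simp [wLin, fV, h, Fin.ext_iff]
    · simp only [wLin, LinearMap.coe_mk, AddHom.coe_mk, Sum.elim_inr, if_neg h, fV, Pi.single_apply,
        Sum.inr.injEq, rotate_symm_eq]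
      refine if_congr ?_ rfl rfl
      rw [Fin.ext_iff]
      show i.val - 1 = k ↔ i.val = k + 1
      omega

theorem wSp_fV_last (hm : 1 ≤ m) :
    (wSp m F).1 *ᵥ fV ⟨m - 1, by omega⟩ = -eV ⟨0, by omega⟩ := by
  rw [wSp_apply]
  funext j
  rcases j with i | i
  · by_cases h : i.val = 0
    · simp only [wLin, LinearMap.coe_mk, AddHom.coe_mk, Sum.elim_inl, if_pos h, fV, eV, Pi.neg_apply,
        Pi.single_apply, Sum.inr.injEq, Sum.inl.injEq, rotate_symm_eq]
      rw [if_pos (show i = ⟨0, by omega⟩ from Fin.ext h)]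
      rw [if_pos trivial]
    · simp [wLin, fV, eV, h, Fin.ext_iff]
  · by_cases h : i.val = 0
    · simp [wLin, fV, eV, h, Fin.ext_iff]
    · simp only [wLin, LinearMap.coe_mk, AddHom.coe_mk, Sum.elim_inr, if_neg h, fV, Pi.single_apply,
        Sum.inr.injEq, rotate_symm_eq, Pi.neg_apply, eV, reduceCtorEq, if_false, neg_zero]
      rw [if_neg]
      have := i.isLt
      show ¬ i.val - 1 = m - 1
      omega

/-- The short root element. -/
noncomputable def xSp (hm : 2 ≤ m) : symplecticGroup (Fin m) F :=
  spT (eV ⟨0, by omega⟩ + fV ⟨1, by omega⟩) 1 * spT (eV ⟨0, by omega⟩) (-1) *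
    spT (fV ⟨1, by omega⟩) (-1)

theorem xSp_apply (hm : 2 ≤ m) (v : Fin m ⊕ Fin m → F) :
    (xSp (F := F) hm).1 *ᵥ v =
      v + sympForm m F v (eV ⟨0, by omega⟩) • fV ⟨1, by omega⟩ +
        sympForm m F v (fV ⟨1, by omega⟩) • eV ⟨0, by omega⟩ := by
  have hpr : sympForm m F (eV ⟨0, by omega⟩) (fV ⟨1, by omega⟩ : _ → F) = 0 := by
    rw [form_fV]; simp [eV]
  have hrp : sympForm m F (fV ⟨1, by omega⟩) (eV ⟨0, by omega⟩ : _ → F) = 0 := by
    rw [sympForm_swap, hpr, neg_zero]
  rw [xSp, Submonoid.coe_mul, Submonoid.coe_mul, ← mulVec_mulVec, ← mulVec_mulVec, spT_apply, spT_apply,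
    spT_apply]
  simp only [sympForm_add_left, sympForm_add_right, sympForm_smul_left, sympForm_self, hrp, hpr,
    mul_zero, add_zero, smul_add, one_mul]
  module

theorem exists_two_generators [Finite F] (hm : 2 ≤ m) :
    ∃ a b : symplecticGroup (Fin m) F, Subgroup.closure ({a, b} : Set (symplecticGroup (Fin m) F)) = ⊤ := by
  classical
  haveI := Fintype.ofFinite F
  set z0 : Fin m := ⟨0, by omega⟩ with hz0
  set i1 : Fin m := ⟨1, by omega⟩ with hi1
  have h01 : z0 ≠ i1 := by simp [hz0, hi1]
  have hq : 2 ≤ Fintype.card F := Fintype.one_lt_card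
  obtain ⟨g, N, hN0, hgN, hge, hgK⟩ : ∃ (g : symplecticGroup (Fin m) F) (N : ℕ), (N : F) ≠ 0 ∧ g ^ N = 1 ∧
      g.1 *ᵥ eV z0 = eV z0 ∧
      ∀ K : Subgroup (symplecticGroup (Fin m) F), g ∈ K → spT (fV i1) 1 ∈ K →
        Full K (fV i1 : _ → F) ∧ ((∃ c : F, c ≠ 0 ∧ c ≠ -1) ∨ Full K (eV i1 : _ → F)) := by
    by_cases h3 : ∃ c : F, c ≠ 0 ∧ c ≠ -1
    · obtain ⟨ζ, hζ⟩ := IsCyclic.exists_generator (α := Fˣ)
      let d : Fin m ⊕ Fin m → F :=
        Sum.elim (fun j => if j = i1 then (ζ : F) else 1) (fun j => if j = i1 then ((ζ⁻¹ : Fˣ) : F) else 1)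
      let g : symplecticGroup (Fin m) F := ⟨Matrix.diagonal d, mem_sp_iff.2 fun u v => by
        rw [sympForm_eq, sympForm_eq]
        refine Finset.sum_congr rfl fun j _ => ?_
        simp only [mulVec_diagonal, d, Sum.elim_inl, Sum.elim_inr]
        by_cases hj : j = i1
        · simp only [if_pos hj]
          linear_combination (u (Sum.inr j) * v (Sum.inl j) - u (Sum.inl j) * v (Sum.inr j)) * ζ.inv_mul
        · simp [if_neg hj]⟩
      have hpow : ∀ n : ℕ, (g ^ n).1 = Matrix.diagonal (d ^ n) := fun n => by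
        rw [SubmonoidClass.coe_pow, Matrix.diagonal_pow]
      refine ⟨g, Fintype.card F - 1, ?_, ?_, ?_, ?_⟩
      · rw [Nat.cast_sub (by omega), FiniteField.cast_card_eq_zero, Nat.cast_one, zero_sub]
        exact neg_ne_zero.2 one_ne_zero
      · refine Subtype.ext ?_
        rw [hpow, Submonoid.coe_one, ← Matrix.diagonal_one]
        congr 1
        funext j
        rw [Pi.pow_apply]
        refine FiniteField.pow_card_sub_one_eq_one _ ?_
        rcases j with j | j <;> by_cases hj : j = i1 <;> simp [d, hj]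
      · funext j
        show (Matrix.diagonal d *ᵥ eV z0) j = _
        rw [mulVec_diagonal]
        rcases j with j | j
        · by_cases hj : j = i1
          · simp [eV, d, hj, h01.symm]
          · simp [d, hj]
        · simp [eV]
      · intro K hg hT
        refine ⟨full_of_scalars hT one_ne_zero fun x hx => ?_, Or.inl h3⟩
        obtain ⟨n, hn⟩ := (mem_powers_iff_mem_zpowers).2 (hζ (Units.mk0 x hx)⁻¹)
        refine ⟨g ^ n, pow_mem hg n, ?_⟩
        funext j
        rw [hpow, mulVec_diagonal, Pi.pow_apply, Pi.smul_apply]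
        rcases j with j | j
        · simp [fV]
        · by_cases hj : j = i1
          · subst hj
            have hn' : ζ ^ n = (Units.mk0 x hx)⁻¹ := hn
            have : ((ζ⁻¹ : Fˣ) : F) ^ n = x := by
              rw [← Units.val_pow_eq_pow_val, inv_pow, hn', inv_inv]; rfl
            simpa [fV, d] using this
          · simp [fV, hj]
    · push Not at h3
      have h11 : (1 : F) = -1 := h3 1 one_ne_zero
      have h2 : (2 : F) = 0 := by linear_combination h11
      haveI : CharP F 2 := CharTwo.of_one_ne_zero_of_two_eq_zero one_ne_zero h2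
      have hone : ∀ x : F, x ≠ 0 → x = 1 := fun x hx => (h3 x hx).trans h11.symm
      set g : symplecticGroup (Fin m) F := spT (eV i1) 1 * spT (fV i1) 1 with hg
      have hfe : sympForm m F (fV i1) (eV i1 : _ → F) = 1 := by rw [form_eV]; simp [fV]
      have hef : sympForm m F (eV i1) (fV i1 : _ → F) = 1 := by
        rw [sympForm_swap, hfe, ← h11]
      have hgap : ∀ x, g.1 *ᵥ x = x + sympForm m F x (fV i1) • fV i1 +
          (sympForm m F x (eV i1) + sympForm m F x (fV i1)) • eV i1 := by
        intro x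
        rw [hg, Submonoid.coe_mul, ← mulVec_mulVec, spT_apply, spT_apply, sympForm_add_left,
          sympForm_smul_left, hfe, one_mul, one_mul, mul_one]
      refine ⟨g, 3, ?_, ?_, ?_, ?_⟩
      · rw [show ((3 : ℕ) : F) = 2 + 1 by norm_num, h2, zero_add]; exact one_ne_zero
      · refine sp_ext fun x => ?_
        rw [pow_succ, pow_two, Submonoid.coe_mul, Submonoid.coe_mul, ← mulVec_mulVec, ← mulVec_mulVec,
          Submonoid.coe_one, one_mulVec, hgap, hgap, hgap]
        simp only [sympForm_add_left, sympForm_smul_left, sympForm_self, hfe, hef, mul_one, mul_zero]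
        funext j
        simp only [Pi.add_apply, Pi.smul_apply, smul_eq_mul]
        linear_combination (4 * sympForm m F x (fV i1) * fV i1 j + 6 * sympForm m F x (fV i1) * eV i1 j +
          2 * sympForm m F x (eV i1) * fV i1 j + 4 * sympForm m F x (eV i1) * eV i1 j) * h2
      · have a1 : sympForm m F (eV z0) (fV i1 : _ → F) = 0 := by rw [form_fV]; simp [eV, h01]
        have a2 : sympForm m F (eV z0) (eV i1 : _ → F) = 0 := by rw [form_eV]; simp [eV]
        rw [hgap, a1, a2]
        simp
      · intro K hg hT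
        have hf : Full K (fV i1 : _ → F) := full_of_scalars hT one_ne_zero fun x hx =>
          ⟨1, one_mem K, by rw [hone x hx, one_smul, Submonoid.coe_one, one_mulVec]⟩
        refine ⟨hf, Or.inr ?_⟩
        have h := hf.move hg
        rw [hgap, sympForm_self, hfe, zero_smul, add_zero, add_zero, one_smul] at h
        have h' := h.line hf (by rw [sympForm_add_left, sympForm_self, zero_add, hef]; exact one_ne_zero) (-1)
        rwa [neg_one_smul, show fV i1 + eV i1 + -fV i1 = (eV i1 : _ → F) by abel] at h'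
  set t0 : symplecticGroup (Fin m) F := spT (eV z0) 1 with ht0
  set a := t0 * g with ha
  set b := xSp (F := F) hm * wSp m F with hb
  refine ⟨a, b, ?_⟩
  set K := Subgroup.closure ({a, b} : Set (symplecticGroup (Fin m) F)) with hK
  have haK : a ∈ K := Subgroup.subset_closure (by simp)
  have hbK : b ∈ K := Subgroup.subset_closure (by simp)
  have hcomm : Commute t0 g := by
    have h := spT_conj g (eV z0) 1
    rw [hge, mul_inv_eq_iff_eq_mul] at h
    exact h.symm
  have hTpow : ∀ n : ℕ, t0 ^ n = spT (eV z0) (n : F) := by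
    intro n
    induction n with
    | zero => rw [pow_zero, Nat.cast_zero, spT_zero]
    | succ n ih => rw [pow_succ, ih, spT_mul, Nat.cast_succ]
  have hTN : spT (eV z0) (N : F) ∈ K := by
    have := pow_mem haK N
    rwa [ha, hcomm.mul_pow, hgN, mul_one, hTpow] at this
  have ht0K : t0 ∈ K := by
    obtain ⟨p, hp⟩ := CharP.exists F
    obtain ⟨n', hprime, -⟩ := FiniteField.card F p
    haveI : Fact p.Prime := ⟨hprime⟩
    haveI : Algebra (ZMod p) F := ZMod.algebra F p
    obtain ⟨M, hM⟩ : ∃ M : ℕ, (N : F) * (M : F) = 1 := by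
      refine ⟨(((N : ZMod p))⁻¹).val, ?_⟩
      have hN' : (N : ZMod p) ≠ 0 := fun h => hN0 (by
        have := congrArg (algebraMap (ZMod p) F) h
        rwa [map_natCast, map_zero] at this)
      have := congrArg (algebraMap (ZMod p) F) (mul_inv_cancel₀ hN')
      rwa [map_mul, map_natCast, map_one, ← ZMod.natCast_zmod_val ((N : ZMod p)⁻¹), map_natCast] at this
    have h := pow_mem hTN M
    have e : spT (eV z0) (N : F) ^ M = t0 := by
      rw [← hTpow, ← pow_mul, hTpow, Nat.cast_mul, hM]
    rwa [e] at h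
  have hgK' : g ∈ K := by
    have := mul_mem (inv_mem ht0K) haK
    rwa [ha, inv_mul_cancel_left] at this
  have bapp : ∀ v, b.1 *ᵥ v = (xSp (F := F) hm).1 *ᵥ ((wSp m F).1 *ᵥ v) := fun v => by
    rw [hb, Submonoid.coe_mul, mulVec_mulVec]
  have bf : ∀ k, ∀ hk : k + 1 < m, b.1 *ᵥ fV ⟨k, by omega⟩ = fV ⟨k + 1, hk⟩ := fun k hk => by
    rw [bapp, wSp_fV hk, xSp_apply, form_eV, form_fV]
    simp [fV, Fin.ext_iff]
  have bfl : b.1 *ᵥ fV ⟨m - 1, by omega⟩ = -eV z0 := by
    rw [bapp, wSp_fV_last (by omega), mulVec_neg, xSp_apply, form_eV, form_fV]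
    simp [eV, hz0, Fin.ext_iff]
  have be : ∀ k, ∀ hk : k + 1 < m, 1 ≤ k → b.1 *ᵥ eV ⟨k, by omega⟩ = eV ⟨k + 1, hk⟩ := fun k hk h1 => by
    rw [bapp, wSp_eV hk, xSp_apply, form_eV, form_fV]
    simp [eV, Pi.single_apply, Fin.ext_iff, show ¬ k = 0 by omega]
  have be0 : b.1 *ᵥ eV z0 = eV i1 - eV z0 := by
    rw [bapp, hz0, wSp_eV (by omega : 0 + 1 < m), xSp_apply, form_eV, form_fV]
    simp [eV, hz0, hi1, sub_eq_add_neg]
  have back : ∀ (v : Fin m ⊕ Fin m → F) (c : F), spT (b.1 *ᵥ v) c ∈ K → spT v c ∈ K := fun v c h => by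
    have := mul_mem (mul_mem (inv_mem hbK) h) hbK
    rwa [← spT_conj, show b⁻¹ * (b * spT v c * b⁻¹) * b = spT v c by group] at this
  have hTf : ∀ j, ∀ hj : j < m, spT (fV ⟨m - 1 - j, by omega⟩) 1 ∈ K := by
    intro j
    induction j with
    | zero =>
      intro hj
      refine back _ _ ?_
      show spT (b.1 *ᵥ fV ⟨m - 1, by omega⟩) 1 ∈ K
      rw [bfl, ← neg_one_smul F (eV z0), spT_smul, neg_one_sq, mul_one]
      exact ht0K
    | succ j ih =>
      intro hj
      refine back _ _ ?_
      rw [bf _ (by omega)]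
      have := ih (by omega)
      simpa [show m - 1 - (j + 1) + 1 = m - 1 - j by omega] using this
  obtain ⟨hf1, hcase⟩ := hgK K hgK' (by
    have := hTf (m - 2) (by omega)
    simpa [hi1, show m - 1 - (m - 2) = 1 by omega] using this)
  have hf : ∀ k, ∀ hk : k < m, Full K (fV ⟨k, hk⟩ : _ → F) := by
    intro k
    induction k with
    | zero =>
      intro hk t
      refine back _ _ ?_
      rw [bf 0 (by omega)]
      exact hf1 t
    | succ k ih =>
      intro hk
      have := (ih (by omega)).move hbK
      rwa [bf k hk] at this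
  have he0 : Full K (eV z0 : _ → F) := by
    have := ((hf (m - 1) (by omega)).move hbK).smul (-1)
    rwa [bfl, neg_one_smul, neg_neg] at this
  -- the orbit of the first basis vector
  have horb : ∀ k, ∀ hk : k + 1 < m, ∃ c, Full K c ∧ c ≠ 0 ∧ c ∈ below m F (k + 1) ∧
      b.1 *ᵥ c = eV ⟨k + 1, hk⟩ - c := by
    intro k
    induction k with
    | zero =>
      intro hk
      refine ⟨eV z0, he0, fun h => ?_, eV_mem_below (show 0 < 0 + 1 by omega), be0⟩
      simpa [eV] using congrFun h (Sum.inl z0)
    | succ k ih =>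
      intro hk
      obtain ⟨c, hc, hc0, hcb, hbc⟩ := ih (by omega)
      refine ⟨eV ⟨k + 1, by omega⟩ - c, hbc ▸ hc.move hbK, fun h => ?_,
        sub_mem (eV_mem_below (show k + 1 < k + 1 + 1 by omega))
          (mem_below.2 fun i hi => mem_below.1 hcb i (by omega)), ?_⟩
      · have := congrFun h (Sum.inl ⟨k + 1, by omega⟩)
        simp [eV, (mem_below.1 hcb ⟨k + 1, by omega⟩ le_rfl).1] at this
      · rw [mulVec_sub, be (k + 1) hk (by omega), hbc]
  have hall : ∀ k, k + 1 ≤ m → ∀ v ∈ below m F (k + 1), Full K v := by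
    intro k
    induction k with
    | zero =>
      intro _ v hv
      have e : v = v (Sum.inl z0) • eV z0 + v (Sum.inr z0) • fV z0 := by
        funext j
        rcases j with j | j <;> by_cases hj : j = z0
        · subst hj; simp [eV, fV]
        · have h1 : 0 + 1 ≤ j.val := by
            rcases Nat.eq_zero_or_pos j.val with h | h
            · exact absurd (Fin.ext h) hj
            · omega
          simp [eV, fV, hj, (mem_below.1 hv j h1).1]
        · subst hj; simp [eV, fV]
        · have h1 : 0 + 1 ≤ j.val := by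
            rcases Nat.eq_zero_or_pos j.val with h | h
            · exact absurd (Fin.ext h) hj
            · omega
          simp [eV, fV, hj, (mem_below.1 hv j h1).2]
      rw [e]
      exact he0.comb (hf 0 (by omega)) (by rw [form_fV]; simp [eV, hz0]) _ _
    | succ k ih =>
      intro hk
      obtain ⟨c, hc, hc0, hcb, hbc⟩ := horb k hk
      refine full_below_succ (p := -c) (by omega) (by omega) (ih (by omega)) (hf _ (by omega))
        (neg_mem hcb) (neg_ne_zero.2 hc0) ?_ ?_
      · have := hc.move hbK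
        rwa [hbc, sub_eq_neg_add] at this
      · rcases hcase with h | h
        · exact Or.inr (Or.inl h)
        · by_cases hk2 : 2 ≤ k + 1
          · exact Or.inl hk2
          · obtain rfl : k = 0 := by omega
            exact Or.inr (Or.inr h)
  refine eq_top_iff.2 ?_
  rw [← spTGroup_univ]
  refine spTGroup_le_of_full fun v _ => hall (m - 1) (by omega) v (mem_below.2 fun i hi => ?_)
  have := i.isLt
  omega

end CfsgLib.Classical.SpTwoGen
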