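/-
Spinor norms of isometries acting as a quadratic torus element or as minus one on a non-degenerate subspace.
-/
import Cfsg.Agent.Lib.Classical.SpinorCriterion
import Cfsg.Agent.Lib.Classical.QuadDisc
import Cfsg.Agent.Lib.Classical.QuadBridge

set_option autoImplicit false

namespace CfsgLib.Classical.SpinTorus

open QuadraticMap CfsgLib.Classical CfsgLib.Classical.Spin

universe u v

variable {F : Type u} [Field F] [Fintype F] {V : Type v} [AddCommGroup V] [Module F V] [FiniteDimensional F V]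
  (Q : QuadraticForm F V) (θ : qAut Q →* ℤˣ) (hθ : ∀ (x : V) (hx : Q x ≠ 0), θ (qRefl Q hx) = sqSign (Q x))
include hθ

/-- An isometry without eigenvalues in the field, satisfying a quadratic equation on a subspace. -/
theorem exists_quadratic_part (h2 : (2 : F) ≠ 0) {a : F} (ha : ¬ IsSquare (a * a - 4)) (Z : Module.End F V)
    (hZ : ∀ x, Q (Z x) = Q x) : ∀ (d : ℕ) (U : Submodule F V), Module.finrank F U = d → (∀ x ∈ U, Z x ∈ U) →
    (∀ x ∈ U, Z (Z x) = a • Z x - x) → (∀ x ∈ U, (∀ y ∈ U, polar Q x y = 0) → x = 0) →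
    ∃ (j : ℕ) (h : qAut Q), d = 2 * j ∧ (∀ x ∈ U, h.1 x = Z x) ∧
      (∀ x, (∀ y ∈ U, polar Q x y = 0) → h.1 x = x) ∧ θ h = sqSign ((2 + a) ^ j) := by
  intro d
  induction d using Nat.strong_induction_on with
  | _ d ih =>
  intro U hd hinv hquad hnd
  rcases eq_or_ne U ⊥ with rfl | hU
  · refine ⟨0, 1, by rw [← hd, finrank_bot], fun x hx => ?_, fun x _ => rfl, by rw [map_one, pow_zero, sqSign_one]⟩
    rw [(Submodule.mem_bot F).1 hx]
    exact (map_zero _).trans (map_zero Z).symm
  obtain ⟨v, hvU, hv⟩ : ∃ v ∈ U, Q v ≠ 0 := by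
    by_contra hcon
    push Not at hcon
    refine hU (Submodule.eq_bot_iff _ |>.2 fun x hx => hnd x hx fun y hy => ?_)
    simp [polar, hcon _ (U.add_mem hx hy), hcon _ hx, hcon _ hy]
  obtain ⟨z, hz⟩ : ∃ z, z = Z v := ⟨_, rfl⟩
  have hzU : z ∈ U := hz ▸ hinv v hvU
  have hZp : ∀ x y, polar Q (Z x) (Z y) = polar Q x y := fun x y => by
    simp only [polar, ← map_add, hZ]
  have hzz : Z z = a • z - v := by rw [hz]; exact hquad v hvU
  have hQz : Q z = Q v := hz ▸ hZ v
  have hvz : polar Q v z = a * Q v := by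
    have h1 : polar Q v z = polar Q z (a • z - v) := by
      conv_lhs => rw [← hZp, ← hz, hzz]
    rw [polar_sub_right, polar_smul_right, quad_polar_self, hQz, smul_eq_mul, polar_comm Q z v] at h1
    exact mul_left_cancel₀ h2 (by linear_combination h1)
  have hzv : polar Q z v = a * Q v := by rw [polar_comm]; exact hvz
  have ha4 : (4 : F) - a * a ≠ 0 := fun h => ha ⟨0, by linear_combination -h⟩
  have ha2 : (2 : F) - a ≠ 0 := fun h => ha4 (by linear_combination (2 + a) * h)
  have hadd : ∀ x y, Q (x + y) = Q x + Q y + polar Q x y := fun x y => by simp only [polar]; ring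
  have h4 : (4 : F) ≠ 0 := by rw [show (4 : F) = 2 * 2 by norm_num]; exact mul_ne_zero h2 h2
  have ha4' : (4 : F) - a ^ 2 ≠ 0 := by rw [_root_.sq]; exact ha4
  have hquadv : ∀ (s t : F), Q (s • z + t • v) = (s * s + t * t + a * s * t) * Q v := fun s t => by
    rw [hadd, QuadraticMap.map_smul, QuadraticMap.map_smul, polar_smul_left, polar_smul_right, hzv,
      hQz]
    simp only [smul_eq_mul]
    ring
  obtain ⟨dv, hdv⟩ : ∃ dv, dv = z - v := ⟨_, rfl⟩
  obtain ⟨w, hw⟩ : ∃ w, w = z - (a / 2) • v := ⟨_, rfl⟩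
  have hQd : Q dv = (2 - a) * Q v := by
    rw [hdv, show z - v = (1 : F) • z + (-1 : F) • v by rw [one_smul, neg_one_smul, sub_eq_add_neg], hquadv]
    ring
  have hQw : Q w = ((4 - a * a) / 4) * Q v := by
    have h4 : (4 : F) ≠ 0 := by
      rw [show (4 : F) = 2 * 2 by norm_num]; exact mul_ne_zero h2 h2
    rw [hw, show z - (a / 2) • v = (1 : F) • z + (-(a / 2)) • v by rw [one_smul, neg_smul, sub_eq_add_neg], hquadv]
    field_simp
    ring
  have hd0 : Q dv ≠ 0 := by rw [hQd]; exact mul_ne_zero ha2 hv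
  have hw0 : Q w ≠ 0 := by
    rw [hQw]
    refine mul_ne_zero (div_ne_zero ha4 ?_) hv
    rw [show (4 : F) = 2 * 2 by norm_num]; exact mul_ne_zero h2 h2
  have hvw : polar Q v w = 0 := by
    rw [hw, polar_sub_right, polar_smul_right, quad_polar_self, hvz, smul_eq_mul]
    field_simp
    ring
  have hRw : ∀ x, (qRefl Q hw0).1 x = x - ((Q w)⁻¹ * polar Q x w) • w := fun x => qRefl_apply Q hw0 x
  obtain ⟨P, hP⟩ : ∃ P : qAut Q, P = qRefl Q hd0 * qRefl Q hw0 := ⟨_, rfl⟩
  have hRd : ∀ x, (qRefl Q hd0).1 x = x - (((2 - a) * Q v)⁻¹ * (polar Q x z - polar Q x v)) • (z - v) := fun x => by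
    rw [qRefl_apply, hQd, hdv, polar_sub_right]
  have hPv : P.1 v = z := by
    rw [hP, qAut_mul_apply, hRw, hvw, mul_zero, zero_smul, sub_zero, hRd, hvz, quad_polar_self,
      show ((2 - a) * Q v)⁻¹ * (a * Q v - 2 * Q v) = -1 by field_simp; ring, neg_one_smul, sub_neg_eq_add,
      add_sub_cancel]
  have hPz : P.1 z = Z z := by
    have h1 : (qRefl Q hw0).1 z = a • v - z := by
      rw [qRefl_apply]
      have : polar Q z w = 2 * Q w := by
        rw [← quad_polar_self, hw, polar_sub_left Q z, polar_smul_left]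
        rw [show polar Q v (z - (a / 2) • v) = 0 from hw ▸ hvw, smul_zero, sub_zero]
      rw [this, show (Q w)⁻¹ * (2 * Q w) = 2 by field_simp, hw, smul_sub, smul_smul,
        show 2 * (a / 2) = a by field_simp, two_smul]
      abel
    have hRv : (qRefl Q hd0).1 v = z := by
      rw [hRd, hvz, quad_polar_self, show ((2 - a) * Q v)⁻¹ * (a * Q v - 2 * Q v) = -1 by field_simp; ring,
        neg_one_smul, sub_neg_eq_add, add_sub_cancel]
    have hRz : (qRefl Q hd0).1 z = v := by
      rw [hRd, hzv, quad_polar_self, hQz, show ((2 - a) * Q v)⁻¹ * (2 * Q v - a * Q v) = 1 by field_simp,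
        one_smul, sub_sub_cancel]
    rw [hP, qAut_mul_apply, h1, map_sub, map_smul, hRv, hRz, hzz]
  have hPfix : ∀ x, polar Q x v = 0 → polar Q x z = 0 → P.1 x = x := fun x h1 h3 => by
    rw [hP, qAut_mul_apply, hRw,
      show polar Q x w = 0 by rw [hw, polar_sub_right, polar_smul_right, h1, h3, smul_zero, sub_zero], mul_zero,
      zero_smul, sub_zero, hRd, h1, h3, sub_zero, mul_zero, zero_smul, sub_zero]
  have hθP : θ P = sqSign (2 + a) := by
    rw [hP, map_mul, hθ, hθ, ← sqSign_mul hd0 hw0, hQd, hQw]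
    have e : (2 - a) * Q v * ((4 - a * a) / 4 * Q v) = (2 + a) * (((2 - a) * Q v / 2) * ((2 - a) * Q v / 2)) := by
      field_simp
      ring
    have hne : ((2 : F) - a) * Q v / 2 ≠ 0 := div_ne_zero (mul_ne_zero ha2 hv) h2
    rw [e, sqSign_mul (fun h => ha4 (by linear_combination (2 - a) * h)) (mul_ne_zero hne hne),
      sqSign_eq_one.2 ⟨_, rfl⟩, mul_one]
  -- split off the plane
  let U' : Submodule F V := U ⊓ LinearMap.ker (QuadraticMap.polarBilin Q v) ⊓ LinearMap.ker (QuadraticMap.polarBilin Q z)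
  have hU' : ∀ x, x ∈ U' ↔ x ∈ U ∧ polar Q v x = 0 ∧ polar Q z x = 0 := fun x => by
    simp [U', and_assoc]
  have hsplit : ∀ x ∈ U, ∃ s t : F, ∃ x' ∈ U', x = s • v + t • z + x' := fun x hx => by
    refine ⟨(2 * polar Q v x - a * polar Q z x) / ((4 - a * a) * Q v),
      (2 * polar Q z x - a * polar Q v x) / ((4 - a * a) * Q v), _, ?_, (add_sub_cancel _ x).symm⟩
    refine (hU' _).2 ⟨U.sub_mem hx (U.add_mem (U.smul_mem _ hvU) (U.smul_mem _ hzU)), ?_, ?_⟩
    · rw [polar_sub_right, polar_add_right, polar_smul_right, polar_smul_right, hvz, quad_polar_self]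
      simp only [smul_eq_mul]
      field_simp
      ring
    · rw [polar_sub_right, polar_add_right, polar_smul_right, polar_smul_right, hzv, quad_polar_self, hQz]
      simp only [smul_eq_mul]
      field_simp
      ring
  let L : Submodule F V := Submodule.span F {v, z}
  have hLU : L ⊔ U' = U := by
    refine le_antisymm (sup_le (Submodule.span_le.2 ?_) fun x hx => ((hU' x).1 hx).1) fun x hx => ?_
    · rintro y (rfl | rfl)
      · exact hvU
      · exact hzU
    · obtain ⟨s, t, x', hx', rfl⟩ := hsplit x hx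
      exact Submodule.add_mem_sup (Submodule.mem_span_pair.2 ⟨s, t, rfl⟩) hx'
  have hindep : ∀ s t : F, polar Q v (s • v + t • z) = 0 → polar Q z (s • v + t • z) = 0 → s = 0 ∧ t = 0 := by
    intro s t h1 h3
    rw [polar_add_right, polar_smul_right, polar_smul_right, hvz, quad_polar_self] at h1
    rw [polar_add_right, polar_smul_right, polar_smul_right, hzv, quad_polar_self, hQz] at h3
    simp only [smul_eq_mul] at h1 h3
    have e1 : s * ((4 - a * a) * Q v) = 0 := by linear_combination 2 * h1 - a * h3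
    have e2 : t * ((4 - a * a) * Q v) = 0 := by linear_combination 2 * h3 - a * h1
    exact ⟨(mul_eq_zero.1 e1).resolve_right (mul_ne_zero ha4 hv),
      (mul_eq_zero.1 e2).resolve_right (mul_ne_zero ha4 hv)⟩
  have hdisj : L ⊓ U' = ⊥ := by
    refine (Submodule.eq_bot_iff _).2 fun x hx => ?_
    obtain ⟨s, t, rfl⟩ := Submodule.mem_span_pair.1 hx.1
    obtain ⟨-, h1, h3⟩ := (hU' _).1 hx.2
    obtain ⟨rfl, rfl⟩ := hindep s t h1 h3
    simp
  have hL2 : Module.finrank F L = 2 := by
    have hli : LinearIndependent F ![v, z] := LinearIndependent.pair_iff.2 fun s t h =>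
      hindep s t (by rw [h]; simp [polar]) (by rw [h]; simp [polar])
    have := finrank_span_eq_card hli
    rwa [Matrix.range_cons, Matrix.range_cons, Matrix.range_empty, Set.union_empty, Set.singleton_union,
      Fintype.card_fin] at this
  have hdim : Module.finrank F U' + 2 = d := by
    have h := Submodule.finrank_sup_add_finrank_inf_eq L U'
    rw [hLU, hdisj, finrank_bot, hd, hL2] at h
    omega
  have hinv' : ∀ x ∈ U', Z x ∈ U' := fun x hx => by
    obtain ⟨hxU, h1, h3⟩ := (hU' x).1 hx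
    have e : polar Q z (Z x) = 0 := by rw [hz, hZp]; exact h1
    refine (hU' _).2 ⟨hinv x hxU, ?_, e⟩
    have e2 : polar Q (Z z) (Z x) = 0 := by rw [hZp]; exact h3
    rw [hzz, polar_sub_left, polar_smul_left, e, smul_zero, zero_sub, neg_eq_zero] at e2
    exact e2
  obtain ⟨j, h, hj, hhU, hhfix, hhθ⟩ := ih (Module.finrank F U') (by omega) U' rfl hinv'
    (fun x hx => hquad x ((hU' x).1 hx).1) (fun x hx hperp => by
      obtain ⟨hxU, h1, h3⟩ := (hU' x).1 hx
      refine hnd x hxU fun y hy => ?_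
      obtain ⟨s, t, y', hy', rfl⟩ := hsplit y hy
      rw [polar_add_right, polar_add_right, polar_smul_right, polar_smul_right, polar_comm Q x v, h1,
        polar_comm Q x z, h3, hperp y' hy', smul_zero, smul_zero, add_zero, add_zero])
  refine ⟨j + 1, P * h, by omega, fun x hx => ?_, fun x hx => ?_, ?_⟩
  · obtain ⟨s, t, x', hx', rfl⟩ := hsplit x hx
    have hperp : ∀ y ∈ U', polar Q v y = 0 ∧ polar Q z y = 0 := fun y hy => ((hU' y).1 hy).2
    simp only [qAut_mul_apply, map_add, map_smul, hhfix v fun y hy => (hperp y hy).1,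
      hhfix z fun y hy => (hperp y hy).2, hhU x' hx', hPv, hPz, ← hz]
    rw [hPfix (Z x') ?_ ?_]
    · rw [polar_comm]; exact (hperp _ (hinv' x' hx')).1
    · rw [polar_comm]; exact (hperp _ (hinv' x' hx')).2
  · rw [qAut_mul_apply, hhfix x fun y hy => hx y ((hU' y).1 hy).1, hPfix x (hx v hvU) (hx z hzU)]
  · rw [map_mul, hθP, hhθ, pow_succ', sqSign_mul]
    · exact fun h => ha4 (by linear_combination (2 - a) * h)
    · exact pow_ne_zero _ fun h => ha4 (by linear_combination (2 - a) * h)

omit [Fintype F] hθ in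
theorem restrict_nondeg_flip {U : Submodule F V} (hnd : ∀ x ∈ U, (∀ y ∈ U, polar Q x y = 0) → x = 0) :
    ∀ x : U, (∀ y : U, (QuadraticMap.polarBilin Q).domRestrict₁₂ U U x y = 0) → x = 0 := fun x hx =>
  Subtype.ext (hnd x x.2 fun y hy => hx ⟨y, hy⟩)

/-- Minus one on a non-degenerate subspace. -/
theorem exists_neg_part (h2 : (2 : F) ≠ 0) (U : Submodule F V)
    (hnd : ∀ x ∈ U, (∀ y ∈ U, polar Q x y = 0) → x = 0) :
    ∃ (e : Module.Basis (Fin (Module.finrank F U)) F U) (h : qAut Q), (∀ i, Q (e i : V) ≠ 0) ∧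
      (∀ i j, i ≠ j → polar Q (e i : V) (e j : V) = 0) ∧ (∀ x ∈ U, h.1 x = -x) ∧
      (∀ x, (∀ y ∈ U, polar Q x y = 0) → h.1 x = x) ∧ θ h = sqSign (∏ i, Q (e i : V)) := by
  classical
  haveI : Invertible (2 : F) := invertibleOfNonzero h2
  let B : LinearMap.BilinForm F U := (QuadraticMap.polarBilin Q).domRestrict₁₂ U U
  obtain ⟨e, he⟩ := LinearMap.BilinForm.exists_orthogonal_basis (B := B) ⟨fun x y => polar_comm Q (x : V) (y : V)⟩
  have horth : ∀ i j, i ≠ j → polar Q (e i : V) (e j : V) = 0 := fun i j hij => he hij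
  have hne : ∀ i, Q (e i : V) ≠ 0 := fun i h => e.ne_zero i (restrict_nondeg_flip Q hnd (e i) fun y => by
    show polar Q (e i : V) (y : V) = 0
    have hl : (QuadraticMap.polarBilin Q (e i : V)).comp U.subtype = 0 := e.ext fun j => by
      rcases eq_or_ne i j with rfl | hij
      · show polar Q (e i : V) (e i : V) = 0
        rw [quad_polar_self, h, mul_zero]
      · exact horth i j hij
    exact LinearMap.congr_fun hl y)
  obtain ⟨h, hh, hψ⟩ := exists_refl_family Q θ (fun i => (e i : V)) hne horth Finset.univ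
  refine ⟨e, h, hne, horth, fun x hx => ?_, fun x hx => ?_, ?_⟩
  · have hl : (h.1 : V →ₗ[F] V).comp U.subtype = -U.subtype := e.ext fun j => by
      show h.1 (e j : V) = -(e j : V)
      rw [hh, Finset.sum_eq_single j (fun b _ hb => by rw [horth j b (Ne.symm hb), mul_zero, zero_smul]) (by simp),
        quad_polar_self, show (Q (e j : V))⁻¹ * (2 * Q (e j : V)) = 2 by
          field_simp [hne j], two_smul]
      abel
    exact LinearMap.congr_fun hl ⟨x, hx⟩
  · rw [hh, Finset.sum_eq_zero (fun i _ => by rw [hx _ (e i).2, mul_zero, zero_smul]), sub_zero]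
  · rw [hψ, Finset.prod_congr rfl fun i _ => hθ _ (hne i)]
    have key : ∀ s : Finset (Fin (Module.finrank F U)), ∏ i ∈ s, sqSign (Q (e i : V)) = sqSign (∏ i ∈ s, Q (e i : V)) := by
      intro s
      induction s using Finset.induction_on with
      | empty => simp [sqSign_one]
      | insert i s hi ih => rw [Finset.prod_insert hi, Finset.prod_insert hi, ih,
          sqSign_mul (hne i) (Finset.prod_ne_zero_iff.2 fun j _ => hne j)]
    exact key _

end CfsgLib.Classical.SpinTorus
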