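/-
The odd orthogonal group has no element of order `p (q ^ k + 1)` in dimension `2k + 3`.
-/
import Cfsg.Agent.Lib.Classical.SpinorTorus
import Cfsg.Agent.Lib.Classical.SemisimpleConjugacy
import Cfsg.Agent.Lib.Classical.QuadSign
import Cfsg.Agent.Lib.Classical.SpOrthPrimeCounts
import Cfsg.Agent.Lib.PrimeGraphPSL.HalfTorus

set_option autoImplicit false

namespace CfsgLib.Classical.SpecBC

open QuadraticMap CfsgLib.Classical CfsgLib.Classical.Spin CfsgLib.Classical.SpinTorus CfsgLib.Classical.SpOCount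

universe u

variable {F : Type u} [Field F] [Fintype F] {V : Type u} [AddCommGroup V] [Module F V] [FiniteDimensional F V]

/-- A fixed point free element of prime order `r` divides the count of non-zero vectors. -/
theorem dvd_finrank {r e : ℕ} (hr : r.Prime) (he : orderOf ((Fintype.card F : ℕ) : ZMod r) = e)
    (T : Module.End F V) (hT : T ^ r = 1) (hfix : ∀ x, T x = x → x = 0) : e ∣ Module.finrank F V := by
  classical
  haveI := Fact.mk hr
  haveI : Finite V := Module.finite_of_finite F
  haveI := Fintype.ofFinite V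
  obtain ⟨σ, hσ⟩ : ∃ σ : Equiv.Perm V, ∀ x, σ x = T x := by
    have hbij : Function.Bijective T := by
      refine Finite.injective_iff_bijective.1 fun x y h => ?_
      have : ∀ z, (T ^ (r - 1)) (T z) = z := fun z => by
        rw [← Module.End.mul_apply, ← pow_succ, Nat.sub_add_cancel hr.one_le, hT, Module.End.one_apply]
      rw [← this x, h, this]
    exact ⟨Equiv.ofBijective T hbij, fun x => rfl⟩
  have hσr : σ ^ r ^ 1 = 1 := by
    rw [pow_one]
    refine Equiv.ext fun x => ?_
    have h : ∀ j, (σ ^ j) x = (T ^ j) x := fun j => by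
      induction j with
      | zero => rfl
      | succ j ih => rw [pow_succ', pow_succ', Equiv.Perm.mul_apply, ih, hσ, Module.End.mul_apply]
    rw [h, hT]
    rfl
  have h := Equiv.Perm.card_compl_support_modEq hσr
  have e1 : σ.supportᶜ = {0} := by
    ext x
    simp only [Finset.mem_compl, Equiv.Perm.mem_support, not_not, Finset.mem_singleton, hσ]
    exact ⟨hfix x, fun h => by rw [h, map_zero]⟩
  rw [e1, Finset.card_singleton, Module.card_eq_pow_finrank (K := F) (V := V), ← ZMod.natCast_eq_natCast_iff,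
    Nat.cast_one, Nat.cast_pow] at h
  rw [← he]
  exact orderOf_dvd_of_pow_eq_one h.symm

/-- A semisimple isometry commuting with a non-trivial unipotent one of a three dimensional space. -/
theorem scalar_of_commute_unipotent {p : ℕ} [Fact p.Prime] [CharP F p] (hp : p ≠ 2)
    (B : LinearMap.BilinForm F V) (hBs : ∀ x y, B x y = B y x) (hBn : ∀ x, (∀ y, B x y = 0) → x = 0)
    (h3 : Module.finrank F V = 3) (S U : Module.End F V) (hSB : ∀ x y, B (S x) (S y) = B x y)
    (hUB : ∀ x y, B (U x) (U y) = B x y) (hU : U ^ p = 1) (hU1 : U ≠ 1) (hc : S * U = U * S) {N : ℕ} (hS : S ^ N = 1)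
    (hN : N.Coprime p) : ∃ μ : F, (μ = 1 ∨ μ = -1) ∧ ∀ x, S x = μ • x := by
  classical
  haveI : Nontrivial V := Module.nontrivial_of_finrank_pos (R := F) (by omega)
  haveI : CharP (Module.End F V) p :=
    charP_of_injective_algebraMap (FaithfulSMul.algebraMap_injective F (Module.End F V)) p
  have h2 : (2 : F) ≠ 0 := fun h => hp ((Nat.prime_dvd_prime_iff_eq (Fact.out : p.Prime) Nat.prime_two).1
    ((CharP.cast_eq_zero_iff F p 2).1 (by exact_mod_cast h)))
  obtain ⟨M, hM⟩ : ∃ M, M = U - 1 := ⟨_, rfl⟩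
  have hMa : ∀ x, U x = x + M x := fun x => by rw [hM]; simp
  have hM0 : M ≠ 0 := fun h => hU1 (sub_eq_zero.1 (hM ▸ h))
  have hMp : M ^ p = 0 := by
    rw [hM, sub_pow_char_of_commute (p := p) (Commute.one_right U), one_pow, hU, sub_self]
  have hM3 : M ^ 3 = 0 := by
    have h := LinearMap.aeval_self_charpoly M
    rw [(LinearMap.charpoly_eq_X_pow_iff M).2 (fun x => ⟨p, by rw [hMp]; rfl⟩), Polynomial.aeval_X_pow, h3] at h
    exact h
  by_cases hM2 : M ^ 2 = 0
  · exfalso
    have hMM : ∀ x, M (M x) = 0 := fun x => by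
      rw [← Module.End.mul_apply, ← pow_two, hM2]; rfl
    have hiso : ∀ x y, B (M x) (M y) = 0 := fun x y => by
      have h := hUB x (M y)
      rw [hMa, hMa, hMM, add_zero, map_add, LinearMap.add_apply] at h
      linear_combination h
    have hxM : ∀ x, B x (M x) = 0 := fun x => by
      have h := hUB x x
      rw [hMa] at h
      simp only [map_add, LinearMap.add_apply, hiso, hBs (M x) x, add_zero] at h
      exact mul_left_cancel₀ h2 (by linear_combination h)
    have hle : LinearMap.range M ≤ LinearMap.ker M := by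
      rintro _ ⟨x, rfl⟩; exact hMM x
    have hr1 : Module.finrank F (LinearMap.range M) = 1 := by
      have := LinearMap.finrank_range_add_finrank_ker M
      have := Submodule.finrank_mono hle
      have : Module.finrank F (LinearMap.range M) ≠ 0 := fun h => hM0 (LinearMap.range_eq_bot.1 (Submodule.finrank_eq_zero.1 h))
      omega
    obtain ⟨⟨e, he⟩, he0, hspan⟩ := finrank_eq_one_iff'.1 hr1
    obtain ⟨y, hy⟩ : ∃ y, B y e ≠ 0 := by
      by_contra hcon
      push Not at hcon
      exact he0 (Subtype.ext (hBn e fun y => by rw [hBs]; exact hcon y))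
    obtain ⟨x, hx⟩ : ∃ x, M x ≠ 0 := by
      by_contra hcon
      push Not at hcon
      exact hM0 (LinearMap.ext hcon)
    have key : ∀ z, M z = 0 ∨ B z e = 0 := fun z => by
      obtain ⟨c, hc⟩ := hspan ⟨M z, z, rfl⟩
      have hMz : M z = c • e := (congrArg Subtype.val hc).symm
      rcases eq_or_ne c 0 with rfl | hc0
      · exact Or.inl (by rw [hMz, zero_smul])
      · refine Or.inr ?_
        have h := hxM z
        rw [hMz, map_smul, smul_eq_mul] at h
        exact (mul_eq_zero.1 h).resolve_left hc0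
    have hxe := (key x).resolve_left hx
    have hy0 := (key y).resolve_right hy
    rcases key (x + y) with h | h
    · rw [map_add, hy0, add_zero] at h; exact hx h
    · rw [map_add, LinearMap.add_apply, hxe, zero_add] at h; exact hy h
  obtain ⟨x, hx⟩ : ∃ x, (M ^ 2) x ≠ 0 := by
    by_contra hcon
    push Not at hcon
    exact hM2 (LinearMap.ext hcon)
  have hx3 : M ((M ^ 2) x) = 0 := by rw [← Module.End.mul_apply, ← pow_succ', hM3]; rfl
  have hli : LinearIndependent F ![x, M x, (M ^ 2) x] := by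
    rw [Fintype.linearIndependent_iff]
    intro g hg
    simp only [Fin.sum_univ_three, Matrix.cons_val_zero, Matrix.cons_val_one, Matrix.cons_val_two, Matrix.tail_cons,
      Matrix.head_cons] at hg
    have e2 : M (M x) = (M ^ 2) x := by rw [pow_two]; rfl
    have h1 := congrArg M hg
    simp only [map_add, map_smul, map_zero, e2, hx3, smul_zero, add_zero] at h1
    have h1' := congrArg M h1
    simp only [map_add, map_smul, map_zero, e2, hx3, smul_zero, add_zero] at h1'
    have g0 : g 0 = 0 := (smul_eq_zero.1 h1').resolve_right hx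
    rw [g0, zero_smul, zero_add] at h1 hg
    have g1 : g 1 = 0 := (smul_eq_zero.1 h1).resolve_right hx
    rw [g1, zero_smul, zero_add] at hg
    intro i
    fin_cases i <;> first | exact g0 | exact g1 | exact (smul_eq_zero.1 hg).resolve_right hx
  let b := basisOfLinearIndependentOfCardEqFinrank hli (by rw [h3]; rfl)
  have hb : ∀ i, b i = ![x, M x, (M ^ 2) x] i := fun i => by simp [b]
  have hcM : Commute S M := hM ▸ ((show Commute S U from hc).sub_right (Commute.one_right S))
  obtain ⟨g, hg⟩ : ∃ g : Fin 3 → F, S x = g 0 • x + g 1 • M x + g 2 • (M ^ 2) x :=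
    ⟨b.equivFun (S x), by
      conv_lhs => rw [← b.sum_equivFun (S x)]
      simp [Fin.sum_univ_three, hb]⟩
  obtain ⟨R, hR⟩ : ∃ R, R = g 1 • M + g 2 • M ^ 2 := ⟨_, rfl⟩
  have hSR : S = algebraMap F (Module.End F V) (g 0) + R := by
    refine b.ext fun i => ?_
    have hSM : ∀ (j : ℕ) y, S ((M ^ j) y) = (M ^ j) (S y) := fun j y =>
      congrArg (fun f : Module.End F V => f y) (hcM.pow_right j).eq
    have e2 : ∀ j l y, (M ^ j) ((M ^ l) y) = (M ^ (j + l)) y := fun j l y => by rw [pow_add]; rfl
    have hbi : ∃ j : ℕ, b i = (M ^ j) x := ⟨i, by rw [hb]; fin_cases i <;> simp [pow_one]⟩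
    obtain ⟨j, hj⟩ := hbi
    rw [hj, hSM, hg, hR]
    simp only [map_add, map_smul, LinearMap.add_apply, LinearMap.smul_apply, Module.algebraMap_end_apply]
    conv_lhs => rw [show M x = (M ^ 1) x by rw [pow_one], e2, e2]
    conv_rhs => rw [show M ((M ^ j) x) = (M ^ 1) ((M ^ j) x) by rw [pow_one], e2, e2]
    rw [add_comm j 1, add_comm j 2, add_assoc]
  have hRp : R ^ p = 0 := by
    have hR' : R = M * (g 1 • 1 + g 2 • M) := by rw [hR, mul_add, mul_smul_comm, mul_one, mul_smul_comm, ← pow_two]
    have hMR : Commute M (g 1 • 1 + g 2 • M) :=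
      ((Commute.one_right M).smul_right (g 1)).add_right ((Commute.refl M).smul_right (g 2))
    rw [hR', hMR.mul_pow, hMp, zero_mul]
  have hSp : S ^ p = algebraMap F (Module.End F V) (g 0 ^ p) := by
    rw [hSR, add_pow_char_of_commute (p := p) (Algebra.commute_algebraMap_left _ _), hRp, add_zero, map_pow]
  obtain ⟨j, hj⟩ : ∃ j, S = (S ^ p) ^ j := by
    rcases Nat.lt_or_ge 1 N with hN1 | hN1
    · obtain ⟨j, hj⟩ := Nat.exists_mul_mod_eq_one_of_coprime (n := p) (k := N) hN.symm hN1
      exact ⟨j, by rw [← pow_mul, ← Nat.div_add_mod (p * j) N, hj.2, pow_add, pow_mul, hS, one_pow, one_mul, pow_one]⟩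
    · have hS1 : S = 1 := by
        interval_cases N
        · exact absurd ((Nat.coprime_zero_left p).1 hN) (Fact.out : p.Prime).ne_one
        · rwa [pow_one] at hS
      exact ⟨0, by rw [pow_zero, hS1]⟩
  obtain ⟨μ, hμ⟩ : ∃ μ, ∀ y, S y = μ • y := ⟨(g 0 ^ p) ^ j, fun y => by
    conv_lhs => rw [hj, hSp, ← map_pow, Module.algebraMap_end_apply]⟩
  refine ⟨μ, ?_, hμ⟩
  obtain ⟨z, hz⟩ := exists_ne (0 : V)
  obtain ⟨w, hw⟩ : ∃ w, B z w ≠ 0 := by
    by_contra hcon
    push Not at hcon
    exact hz (hBn z hcon)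
  have h := hSB z w
  simp only [hμ, map_smul, LinearMap.smul_apply, smul_eq_mul, ← mul_assoc] at h
  exact mul_self_eq_one_iff.1 (mul_right_cancel₀ hw (h.trans (one_mul _).symm))

/-- Determinants split along a decomposition. -/
theorem det_of_isCompl {A B : Submodule F V} (h : IsCompl A B) (f : Module.End F V) (hA : ∀ x ∈ A, f x ∈ A)
    (hB : ∀ x ∈ B, f x ∈ B) : LinearMap.det f = LinearMap.det (f.restrict hA) * LinearMap.det (f.restrict hB) := by
  let e := Submodule.prodEquivOfIsCompl A B h
  have he : e.symm.conj f = LinearMap.prodMap (f.restrict hA) (f.restrict hB) := by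
    refine LinearMap.ext fun y => ?_
    rw [LinearEquiv.conj_apply_apply, LinearEquiv.symm_symm, LinearEquiv.symm_apply_eq]
    obtain ⟨a, b⟩ := y
    show f ((a : V) + b) = ((f.restrict hA a : A) : V) + ((f.restrict hB b : B) : V)
    rw [map_add, LinearMap.restrict_coe_apply, LinearMap.restrict_coe_apply]
  have h1 : LinearMap.det (e.symm.conj f) = LinearMap.det f := by
    rw [LinearEquiv.conj_apply, LinearMap.comp_assoc]
    exact LinearMap.det_conj _ _
  rw [← h1, he, LinearMap.det_prodMap]

variable (Q : QuadraticForm F V)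

theorem det_eq_one_of_commutator {g : qAut Q} (hg : g ∈ commutator (qAut Q)) : LinearMap.det (g.1 : V →ₗ[F] V) = 1 := by
  have := Abelianization.commutator_subset_ker ((LinearEquiv.det (R := F) (M := V)).comp (qAut Q).subtype) hg
  simpa using congrArg Units.val (MonoidHom.mem_ker.1 this)

theorem no_element (hQ : PolarNondeg Q) {p : ℕ} [Fact p.Prime] [CharP F p] (hp : p ≠ 2) {k : ℕ} (hk : 2 ≤ k)
    (hdim : Module.finrank F V = 2 * k + 3) {y : qAut Q} (hy : y ∈ commutator (qAut Q))
    (hord : orderOf y = p * (Fintype.card F ^ k + 1)) : False := by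
  classical
  obtain ⟨q, hqdef⟩ : ∃ q, q = Fintype.card F := ⟨_, rfl⟩
  rw [← hqdef] at hord
  have hq1 : 1 < q := hqdef ▸ Fintype.one_lt_card
  obtain ⟨f, hpp, hf⟩ := FiniteField.card F p
  have h2 : (2 : F) ≠ 0 := fun h => hp ((Nat.prime_dvd_prime_iff_eq (Fact.out : p.Prime) Nat.prime_two).1
    ((CharP.cast_eq_zero_iff F p 2).1 (by exact_mod_cast h)))
  have hqodd : Odd q := hqdef ▸ odd_card_of_two_ne_zero h2
  have hq0 : (q : F) = 0 := hqdef ▸ FiniteField.cast_card_eq_zero F
  obtain ⟨N, hNdef⟩ : ∃ N, N = q ^ k + 1 := ⟨_, rfl⟩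
  rw [← hNdef] at hord
  have hNp : N.Coprime p := by
    rw [hNdef, Nat.coprime_comm, Nat.Prime.coprime_iff_not_dvd hpp, ← CharP.cast_eq_zero_iff F p, Nat.cast_add,
      Nat.cast_pow, hq0, zero_pow (by omega), zero_add, Nat.cast_one]
    exact one_ne_zero
  obtain ⟨r, hr, hrdvd, hrmin⟩ := CfsgLib.PrimeGraphPSL.exists_primitive (n := 2 * k) (by omega) hqodd hq1
  haveI := Fact.mk hr
  have hord2 : orderOf ((q : ℕ) : ZMod r) = 2 * k := by
    refine (orderOf_eq_iff (by omega)).2 ⟨?_, fun j hj hj0 h => hrmin j hj0 hj ?_⟩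
    · rw [← ZMod.natCast_eq_zero_iff, Nat.cast_sub (Nat.one_le_pow _ _ (by omega)), sub_eq_zero, Nat.cast_pow,
        Nat.cast_one] at hrdvd
      exact hrdvd
    · rw [← ZMod.natCast_eq_zero_iff, Nat.cast_sub (Nat.one_le_pow _ _ (by omega)), sub_eq_zero, Nat.cast_pow,
        Nat.cast_one]
      exact h
  have hrN : r ∣ N := by
    have hfac : q ^ (2 * k) - 1 = (q ^ k - 1) * N := by
      rw [hNdef, mul_comm 2 k, pow_mul, mul_comm, ← Nat.sq_sub_sq, one_pow]
    rw [hfac] at hrdvd
    exact (hr.dvd_mul.1 hrdvd).resolve_left (hrmin k (by omega) (by omega))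
  have hr2 : r ≠ 2 := fun h => by
    subst h
    exact hrmin 1 le_rfl (by omega) (by
      obtain ⟨c, hc⟩ := hqodd
      exact ⟨c, by rw [pow_one]; omega⟩)
  have hrp : (r : F) ≠ 0 := fun h => by
    have := (Nat.prime_dvd_prime_iff_eq hpp hr).1 ((CharP.cast_eq_zero_iff F p r).1 h)
    exact (Nat.Prime.coprime_iff_not_dvd hpp).1 hNp.symm (this ▸ hrN)
  -- the commuting parts
  obtain ⟨s, hs⟩ : ∃ s, s = y ^ p := ⟨_, rfl⟩
  obtain ⟨u, hu⟩ : ∃ u, u = y ^ N := ⟨_, rfl⟩
  have hNpos : 0 < N := by omega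
  have hso : orderOf s = N := by
    rw [hs, orderOf_pow_of_dvd hpp.ne_zero (hord ▸ dvd_mul_right p N), hord, Nat.mul_div_cancel_left _ hpp.pos]
  have huo : orderOf u = p := by
    rw [hu, orderOf_pow_of_dvd hNpos.ne' (hord ▸ dvd_mul_left N p), hord, Nat.mul_div_cancel _ hNpos]
  have hsmem : s ∈ commutator (qAut Q) := hs ▸ pow_mem hy p
  obtain ⟨T', hT'⟩ : ∃ T', T' = s ^ (N / r) := ⟨_, rfl⟩
  obtain ⟨S, hS⟩ : ∃ S, S = actHom Q s := ⟨_, rfl⟩
  obtain ⟨U, hU⟩ : ∃ U, U = actHom Q u := ⟨_, rfl⟩
  obtain ⟨T, hT⟩ : ∃ T, T = actHom Q T' := ⟨_, rfl⟩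
  have hTS : T = S ^ (N / r) := by rw [hT, hT', map_pow, hS]
  have hact : ∀ (g : qAut Q) x y, QuadraticMap.polarBilin Q (actHom Q g x) (actHom Q g y) = QuadraticMap.polarBilin Q x y :=
    fun g => qAut_polar_end fun x => g.2 x
  have hQact : ∀ (g : qAut Q) x, Q (actHom Q g x) = Q x := fun g x => g.2 x
  have hT'o : orderOf T' = r := by
    rw [hT', orderOf_pow_of_dvd (Nat.div_pos (Nat.le_of_dvd hNpos hrN) hr.pos).ne' (by rw [hso]; exact Nat.div_dvd_of_dvd hrN), hso,
      Nat.div_div_self hrN hNpos.ne']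
  have hTr : T ^ r = 1 := by rw [hT, ← map_pow, ← hT'o, pow_orderOf_eq_one, map_one]
  have hSU : S * U = U * S := by
    rw [hS, hU, ← map_mul, ← map_mul, hs, hu, ← pow_add, ← pow_add, add_comm]
  have hST : S * T = T * S := by rw [hTS, ← pow_succ', ← pow_succ]
  have hUT : U * T = T * U := by rw [hTS]; exact (Commute.pow_right (Commute.symm hSU) _).eq
  let W := LinearMap.range (T - 1)
  let W' := LinearMap.ker (T - 1)
  have hC : IsCompl W W' := SemiConj.isCompl_range_ker hTr hrp
  have hTp : ∀ x y, QuadraticMap.polarBilin Q (T x) (T y) = QuadraticMap.polarBilin Q x y := hT ▸ hact T'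
  have horth : ∀ a ∈ W, ∀ b ∈ W', polar Q a b = 0 ∧ polar Q b a = 0 := fun a ha b hb =>
    SemiConj.orth_ker_range hTp ha hb
  have hinvW : ∀ A : Module.End F V, A * T = T * A → (∀ x ∈ W, A x ∈ W) ∧ ∀ x ∈ W', A x ∈ W' := by
    intro A hA
    have hA' : ∀ x, A ((T - 1) x) = (T - 1) (A x) := fun x => by
      have := congrArg (fun f : Module.End F V => f x) hA
      simp only [Module.End.mul_apply] at this
      simp [this]
    refine ⟨?_, fun x hx => ?_⟩
    · rintro _ ⟨w, rfl⟩; exact ⟨A w, (hA' w).symm⟩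
    · rw [LinearMap.mem_ker] at hx ⊢; rw [← hA', hx, map_zero]
  obtain ⟨hSW, hSW'⟩ := hinvW S hST
  obtain ⟨hUW, hUW'⟩ := hinvW U hUT
  obtain ⟨hTW, -⟩ := hinvW T rfl
  have hndW : ∀ x ∈ W, (∀ y ∈ W, polar Q x y = 0) → x = 0 := fun x hx h => hQ x fun w => by
    obtain ⟨a, ha, b, hb, rfl⟩ := Submodule.mem_sup.1 (show w ∈ W ⊔ W' by rw [hC.sup_eq_top]; trivial)
    rw [polar_add_right, h a ha, (horth x hx b hb).1, add_zero]
  have hndW' : ∀ x ∈ W', (∀ y ∈ W', polar Q x y = 0) → x = 0 := fun x hx h => hQ x fun w => by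
    obtain ⟨a, ha, b, hb, rfl⟩ := Submodule.mem_sup.1 (show w ∈ W ⊔ W' by rw [hC.sup_eq_top]; trivial)
    rw [polar_add_right, h b hb, (horth a ha x hx).2, add_zero]
  let TW : Module.End F W := T.restrict hTW
  have hTWfix : ∀ x : W, TW x = x → x = 0 := fun x hx => Subtype.ext ((Submodule.disjoint_def.1 hC.disjoint) x x.2 (by
    rw [LinearMap.mem_ker, LinearMap.sub_apply, Module.End.one_apply, sub_eq_zero]
    exact congrArg Subtype.val hx))
  have hTWr : TW ^ r = 1 := LinearMap.ext fun x => Subtype.ext (by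
    rw [Module.End.pow_restrict, LinearMap.restrict_coe_apply, hTr]; rfl)
  have hW2k : Module.finrank F W = 2 * k := by
    have hdvd : 2 * k ∣ Module.finrank F W := dvd_finrank hr (hqdef ▸ hord2) TW hTWr hTWfix
    have hne : Module.finrank F W ≠ 0 := fun h => by
      have hW0 : W = ⊥ := Submodule.finrank_eq_zero.1 h
      have hT1 : T = 1 := sub_eq_zero.1 (LinearMap.range_eq_bot.1 hW0)
      have : T' = 1 := actHom_inj Q (by rw [← hT, hT1, map_one])
      rw [this, orderOf_one] at hT'o
      exact hr.ne_one hT'o.symm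
    have hle := Submodule.finrank_le W
    rw [hdim] at hle
    obtain ⟨c, hc⟩ := hdvd
    rcases c with _ | _ | c
    · omega
    · omega
    · exfalso; nlinarith
  have hW'3 : Module.finrank F W' = 3 := by
    have h := Submodule.finrank_add_eq_of_isCompl hC
    omega
  -- the centraliser of T on W
  haveI : Finite V := Module.finite_of_finite F
  haveI : Finite (Module.End F W) := Finite.of_injective _ DFunLike.coe_injective
  let R := Subalgebra.centralizer F ({TW} : Set (Module.End F W))
  have hirr : ∀ X : Submodule F W, (∀ x ∈ X, TW x ∈ X) → X = ⊥ ∨ X = ⊤ := fun X hX => by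
    by_contra hcon
    push Not at hcon
    have hd : 2 * k ∣ Module.finrank F X := dvd_finrank hr (hqdef ▸ hord2) (TW.restrict hX)
      (LinearMap.ext fun x => Subtype.ext (by rw [Module.End.pow_restrict, LinearMap.restrict_coe_apply, hTWr]; rfl))
      (fun x hx => Subtype.ext (hTWfix x (congrArg Subtype.val hx)))
    have h1 : Module.finrank F X ≠ 0 := fun h => hcon.1 (Submodule.finrank_eq_zero.1 h)
    have h3 : Module.finrank F X < Module.finrank F W := Submodule.finrank_lt hcon.2
    have := Nat.le_of_dvd (Nat.pos_of_ne_zero h1) hd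
    omega
  haveI : Nontrivial W := Module.nontrivial_of_finrank_pos (R := F) (by omega)
  have hinjR : ∀ c : R, c ≠ 0 → Function.Injective (c : Module.End F W) := by
    intro c hc
    rcases hirr (LinearMap.ker (c : Module.End F W)) (fun x hx => by
      rw [LinearMap.mem_ker] at hx ⊢
      have hh := congrArg (fun f : Module.End F W => f x) ((Subalgebra.mem_centralizer_iff F).1 c.2 TW rfl)
      simp only [Module.End.mul_apply] at hh
      rw [← hh, hx, map_zero]) with h | h
    · exact LinearMap.ker_eq_bot.1 h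
    · exact absurd (Subtype.ext (LinearMap.ker_eq_top.1 h)) hc
  haveI : NoZeroDivisors R := ⟨fun {a b} h => by
    by_contra hcon
    push Not at hcon
    refine hcon.2 (Subtype.ext (LinearMap.ext fun x => hinjR a hcon.1 ?_))
    have := congrArg (fun c : R => (c : Module.End F W) x) h
    simpa using this⟩
  haveI : IsDomain R := NoZeroDivisors.to_isDomain R
  haveI : Finite R := inferInstance
  have hfield : IsField R := Finite.isDomain_to_isField R
  letI : CommRing R := { (inferInstance : Ring R) with mul_comm := hfield.mul_comm }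
  haveI : IsDomain R := NoZeroDivisors.to_isDomain R
  haveI : Module.Finite F R := Module.Finite.of_finite
  have hcardR : Nat.card Rˣ + 1 = q ^ (2 * k) := by
    obtain ⟨v0, hv0⟩ := exists_ne (0 : W)
    have hle : Nat.card R ≤ q ^ (2 * k) := by
      rw [hqdef, ← hW2k, ← Nat.card_eq_fintype_card, ← Module.natCard_eq_pow_finrank]
      refine Nat.card_le_card_of_injective (fun c : R => (c : Module.End F W) v0) fun a b hab => ?_
      by_contra hne
      have h := hinjR (a - b) (sub_ne_zero.2 hne) (a₁ := v0) (a₂ := 0) (by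
        simp only [AddSubgroupClass.coe_sub, LinearMap.sub_apply, map_zero]
        exact sub_eq_zero.2 hab)
      exact hv0 h
    letI : Field R := hfield.toField
    have hunits : Nat.card Rˣ = Nat.card R - 1 := Nat.card_units R
    haveI := Fintype.ofFinite R
    have hpow : Nat.card R = q ^ Module.finrank F R := by
      rw [hqdef, Nat.card_eq_fintype_card, Module.card_eq_pow_finrank (K := F) (V := R)]
    obtain ⟨tu, htu⟩ : ∃ tu : Rˣ, ((tu : R) : Module.End F W) = TW := by
      have hmem : TW ∈ R := (Subalgebra.mem_centralizer_iff F).2 fun g hg => by rw [Set.mem_singleton_iff.1 hg]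
      have hpow' : (⟨TW, hmem⟩ : R) ^ r = 1 := Subtype.ext (by simpa using hTWr)
      exact ⟨(IsUnit.of_pow_eq_one hpow' hr.ne_zero).unit, rfl⟩
    have htuo : orderOf tu = r := orderOf_eq_prime (Units.ext (Subtype.ext (by simpa [htu] using hTWr))) (fun h => by
      obtain ⟨x, hx⟩ := exists_ne (0 : W)
      exact hx (hTWfix x (by rw [← htu, h]; rfl)))
    have hd : r ∣ q ^ Module.finrank F R - 1 := by
      rw [← hpow, ← hunits, ← htuo]; exact orderOf_dvd_natCard tu
    have hd2 : 2 * k ∣ Module.finrank F R := by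
      rw [← hord2]
      refine orderOf_dvd_of_pow_eq_one ?_
      rw [← ZMod.natCast_eq_zero_iff, Nat.cast_sub (Nat.one_le_pow _ _ (by omega)), sub_eq_zero, Nat.cast_pow,
        Nat.cast_one] at hd
      exact hd
    have hpos : 0 < Module.finrank F R := Module.finrank_pos
    have hge : q ^ (2 * k) ≤ Nat.card R := hpow ▸ Nat.pow_le_pow_right (by omega) (Nat.le_of_dvd hpos hd2)
    have : 1 ≤ q ^ (2 * k) := Nat.one_le_pow _ _ (by omega)
    omega
  -- the parts on W
  have hmemR : ∀ A : Module.End F V, A * T = T * A → ∀ hA : (∀ x ∈ W, A x ∈ W), A.restrict hA ∈ R := by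
    intro A hA hA'
    refine (Subalgebra.mem_centralizer_iff F).2 fun g hg => ?_
    rw [Set.mem_singleton_iff.1 hg]
    exact LinearMap.ext fun x => Subtype.ext (congrArg (fun f : Module.End F V => f (x : V)) hA.symm)
  let sR : R := ⟨S.restrict hSW, hmemR S hST hSW⟩
  let uR : R := ⟨U.restrict hUW, hmemR U hUT hUW⟩
  have hpow_apply : ∀ (A : Module.End F V) (hA : ∀ x ∈ W, A x ∈ W) (j : ℕ) (x : W),
      ((((A.restrict hA) ^ j) x : W) : V) = (A ^ j) (x : V) := fun A hA j x => by
    rw [Module.End.pow_restrict, LinearMap.restrict_coe_apply]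
  have huR : uR = 1 := by
    haveI : CharP (Module.End F W) p :=
      charP_of_injective_algebraMap (FaithfulSMul.algebraMap_injective F (Module.End F W)) p
    have hup : U.restrict hUW ^ p = 1 := LinearMap.ext fun x => Subtype.ext (by
      rw [hpow_apply, hU, ← map_pow, ← huo, pow_orderOf_eq_one, map_one]; rfl)
    have h : (uR - 1) ^ p = 0 := Subtype.ext (by
      show (U.restrict hUW - 1 : Module.End F W) ^ p = 0
      rw [sub_pow_char_of_commute (p := p) (Commute.one_right _), one_pow, hup, sub_self])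
    exact sub_eq_zero.1 (pow_eq_zero_iff hpp.ne_zero |>.1 h)
  -- on W'
  have hUid : ∀ x ∈ W, U x = x := fun x hx => congrArg (fun c : R => (((c : Module.End F W) ⟨x, hx⟩ : W) : V)) huR
  have hU'1 : U.restrict hUW' ≠ 1 := fun h => by
    have hu1 : u = 1 := actHom_inj Q (by
      rw [← hU, map_one]
      refine LinearMap.ext fun v => ?_
      obtain ⟨a, ha, b, hb, rfl⟩ := Submodule.mem_sup.1 (show v ∈ W ⊔ W' by rw [hC.sup_eq_top]; trivial)
      rw [map_add, hUid a ha, show U b = b from congrArg (fun g : Module.End F W' => ((g ⟨b, hb⟩ : W') : V)) h]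
      rfl)
    rw [hu1, orderOf_one] at huo
    exact hpp.ne_one huo.symm
  obtain ⟨μ, hμ, hSμ⟩ := scalar_of_commute_unipotent hp ((QuadraticMap.polarBilin Q).domRestrict₁₂ W' W')
    (fun a b => polar_comm Q (a : V) (b : V)) (restrict_nondeg_flip Q hndW') hW'3 (S.restrict hSW') (U.restrict hUW')
    (fun a b => hS ▸ hact s (a : V) (b : V)) (fun a b => hU ▸ hact u (a : V) (b : V))
    (LinearMap.ext fun x => Subtype.ext (by
      rw [Module.End.pow_restrict, LinearMap.restrict_coe_apply, hU, ← map_pow, ← huo, pow_orderOf_eq_one, map_one]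
      rfl))
    hU'1 (LinearMap.ext fun x => Subtype.ext (congrArg (fun f : Module.End F V => f (x : V)) hSU))
    (N := N) (LinearMap.ext fun x => Subtype.ext (by
      rw [Module.End.pow_restrict, LinearMap.restrict_coe_apply, hS, ← map_pow, ← hso, pow_orderOf_eq_one, map_one]
      rfl)) hNp
  have hsN : sR ^ N = 1 := Subtype.ext (LinearMap.ext fun x => Subtype.ext (by
    show ((((S.restrict hSW) ^ N) x : W) : V) = (x : V)
    rw [hpow_apply, hS, ← map_pow, ← hso, pow_orderOf_eq_one, map_one]; rfl))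
  have hdetW : LinearMap.det (S.restrict hSW) = 1 := by
    obtain ⟨su, hsu⟩ : ∃ su : Rˣ, (su : R) = sR := ⟨(IsUnit.of_pow_eq_one hsN hNpos.ne').unit, rfl⟩
    haveI : Finite Rˣ := inferInstance
    have hM : Nat.card Rˣ = N * (q ^ k - 1) := by
      have hfac : q ^ (2 * k) - 1 = N * (q ^ k - 1) := by
        rw [hNdef, mul_comm 2 k, pow_mul, ← Nat.sq_sub_sq, one_pow]
      omega
    have hqk : 1 < q ^ k := Nat.one_lt_pow (by omega) hq1
    have hker : (powMonoidHom (q ^ k - 1) : Rˣ →* Rˣ).range = (powMonoidHom N : Rˣ →* Rˣ).ker := by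
      apply Subgroup.eq_of_le_of_card_ge
      · rintro _ ⟨z, rfl⟩
        simp only [MonoidHom.mem_ker, powMonoidHom_apply, ← pow_mul]
        rw [mul_comm, ← hM]
        exact pow_card_eq_one'
      · rw [IsCyclic.card_powMonoidHom_ker, IsCyclic.card_powMonoidHom_range, hM,
          Nat.gcd_eq_right (Dvd.intro_left _ rfl), Nat.gcd_eq_right (Dvd.intro _ rfl),
          Nat.mul_div_cancel _ (by omega : 0 < q ^ k - 1)]
    obtain ⟨z, hz⟩ : su ∈ (powMonoidHom (q ^ k - 1) : Rˣ →* Rˣ).range := by
      rw [hker, MonoidHom.mem_ker]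
      exact Units.ext (by rw [powMonoidHom_apply, Units.val_pow_eq_pow_val, hsu, hsN, Units.val_one])
    have e : S.restrict hSW = (((z : R) : Module.End F W)) ^ (q ^ k - 1) := by
      have h := congrArg (fun w : Rˣ => ((w : R) : Module.End F W)) hz
      simp only [powMonoidHom_apply, Units.val_pow_eq_pow_val, SubmonoidClass.coe_pow, hsu] at h
      exact h.symm
    obtain ⟨c, hc⟩ := Nat.sub_one_dvd_pow_sub_one q k
    rw [e, map_pow, hc, pow_mul]
    have hne : LinearMap.det (((z : R) : Module.End F W)) ≠ 0 :=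
      (((z.isUnit.map R.val).map (LinearMap.det : Module.End F W →* F))).ne_zero
    rw [hqdef, FiniteField.pow_card_sub_one_eq_one _ hne, one_pow]
  have hSid : ∀ x ∈ W', S x = x := by
    intro x hx
    have h := det_of_isCompl hC S hSW hSW'
    have hdS : LinearMap.det S = 1 := hS ▸ det_eq_one_of_commutator Q hsmem
    rw [hdS, hdetW, one_mul, show S.restrict hSW' = μ • LinearMap.id from LinearMap.ext hSμ, LinearMap.det_smul,
      LinearMap.det_id, mul_one, hW'3] at h
    rcases hμ with rfl | rfl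
    · exact (congrArg Subtype.val (hSμ ⟨x, hx⟩)).trans (one_smul F x)
    · exfalso
      norm_num at h
      exact h2 (by linear_combination h)
  have hSpowid : ∀ (j : ℕ), ∀ x ∈ W', (S ^ j) x = x := fun j x hx => by
    induction j with
    | zero => rfl
    | succ j ih => rw [pow_succ', Module.End.mul_apply, ih, hSid x hx]
  have hSo : ∀ j, 0 < j → j < N → sR ^ j ≠ 1 := fun j hj0 hjN h => by
    have hs1 : s ^ j = 1 := actHom_inj Q (by
      rw [map_pow, ← hS, map_one]
      refine LinearMap.ext fun v => ?_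
      obtain ⟨a, ha, b, hb, rfl⟩ := Submodule.mem_sup.1 (show v ∈ W ⊔ W' by rw [hC.sup_eq_top]; trivial)
      rw [map_add, hSpowid j b hb, ← hpow_apply S hSW j ⟨a, ha⟩]
      have := congrArg (fun c : R => (((c : Module.End F W) ⟨a, ha⟩ : W) : V)) h
      simp only [SubmonoidClass.coe_pow] at this
      rw [this]
      rfl)
    exact absurd (Nat.le_of_dvd hj0 (hso ▸ orderOf_dvd_of_pow_eq_one hs1)) (not_le.2 hjN)
  obtain ⟨θ, hθ, hiff⟩ := exists_spin Q hQ (Or.inl (by rw [← hqdef]; rintro rfl; exact absurd hqodd (by decide)))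
  have hθs : ∀ j, θ (s ^ j) = 1 := fun j => ((hiff _).1 (pow_mem hsmem j)).2
  have hagree : ∀ (j : ℕ) (h : qAut Q) (Z : Module.End F W), ((sR ^ j : R) : Module.End F W) = Z →
      (∀ x : W, h.1 (x : V) = (Z x : V)) → (∀ x, (∀ y ∈ W, polar Q x y = 0) → h.1 x = x) → s ^ j = h := by
    intro j h Z hZ hhW hfix
    refine qAut_ext fun v => ?_
    show actHom Q (s ^ j) v = h.1 v
    rw [map_pow, ← hS]
    obtain ⟨a, ha, b, hb, rfl⟩ := Submodule.mem_sup.1 (show v ∈ W ⊔ W' by rw [hC.sup_eq_top]; trivial)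
    rw [map_add, map_add h.1, hSpowid j b hb, hfix b (fun y hy => (horth y hy b hb).2),
      ← hpow_apply S hSW j ⟨a, ha⟩, show h.1 a = (Z ⟨a, ha⟩ : V) from hhW ⟨a, ha⟩, ← hZ]
    rfl
  rcases Nat.even_or_odd k with hke | hko
  · -- minus one forces a square discriminant
    have hNeven : 2 ∣ N := by
      obtain ⟨c, hc⟩ := hqodd.pow (n := k)
      exact ⟨c + 1, by omega⟩
    obtain ⟨j, hj⟩ := hNeven
    have hneg : sR ^ j = -1 := by
      have hsq : (sR ^ j) * (sR ^ j) = 1 := by rw [← pow_add, ← two_mul, ← hj, hsN]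
      exact (mul_self_eq_one_iff.1 hsq).resolve_left (hSo j (by omega) (by omega))
    obtain ⟨e, h, hne, heo, hhW, hfix, hhθ⟩ := exists_neg_part Q θ hθ h2 W hndW
    have hsj : s ^ j = h := hagree j h (-1) (by rw [hneg]; rfl)
      (fun x => by rw [hhW x x.2]; rfl) hfix
    have hsquare : IsSquare (∏ i, Q (e i : V)) := sqSign_eq_one.1 (by rw [← hhθ, ← hsj, hθs])
    let σ : Fin (Module.finrank F W) ≃ (Fin k ⊕ Fin k) :=
      (finCongr (show Module.finrank F W = k + k by omega)).trans finSumFinEquiv.symm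
    let e' := e.reindex σ
    let D : QuadraticForm F (Fin k ⊕ Fin k → F) := Q.comp (W.subtype ∘ₗ e'.equivFun.symm.toLinearMap)
    have hD : ∀ v, D v = Q ((e'.equivFun.symm v : W) : V) := fun v => rfl
    have hsingle : ∀ i, e'.equivFun.symm (Pi.single i 1) = e' i := fun i => by
      rw [LinearEquiv.symm_apply_eq, Module.Basis.equivFun_apply, Module.Basis.repr_self]
      funext l
      simp [Finsupp.single_apply, Pi.single_apply, eq_comm]
    have hgram : polarGram D = Matrix.diagonal fun i => 2 * Q (e' i : V) := by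
      refine Matrix.ext fun i l => ?_
      have hp' : ∀ a b, polar D a b = polar Q ((e'.equivFun.symm a : W) : V) ((e'.equivFun.symm b : W) : V) :=
        fun a b => by simp only [polar, hD, map_add, Submodule.coe_add]
      show polar D (Pi.single i 1) (Pi.single l 1) = _
      rw [hp', hsingle, hsingle]
      rcases eq_or_ne i l with rfl | hil
      · rw [Matrix.diagonal_apply_eq, quad_polar_self]
      · rw [Matrix.diagonal_apply_ne _ hil, Module.Basis.reindex_apply, Module.Basis.reindex_apply]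
        exact heo _ _ fun h => hil (σ.symm.injective h)
    have hDn : PolarNondeg D := fun a ha => by
      have h0 : ((e'.equivFun.symm a : W) : V) = 0 := hndW _ (Submodule.coe_mem _) fun b hb => by
        have h := ha (e'.equivFun ⟨b, hb⟩)
        simp only [polar, hD, map_add, Submodule.coe_add, LinearEquiv.symm_apply_apply] at h ⊢
        exact h
      exact e'.equivFun.symm.map_eq_zero_iff.1 (Subtype.ext h0)
    obtain ⟨g, hg⟩ := (isometry_iff_isSquare h2 D (qPlus k F) hDn (polarNondeg_qPlus k)).2 (by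
      have e2 : ∏ i, Q (e' i : V) = ∏ i, Q (e i : V) :=
        Fintype.prod_equiv σ.symm _ _ fun i => by rw [Module.Basis.reindex_apply]
      rw [hgram, Matrix.det_diagonal, det_polarGram_qPlus, hke.neg_one_pow, mul_one, Finset.prod_mul_distrib,
        Finset.prod_const, Finset.card_univ, Fintype.card_sum, Fintype.card_fin, e2]
      exact (IsSquare.mul ⟨(2 : F) ^ k, by rw [← pow_add]⟩ hsquare))
    obtain ⟨φ, hφ⟩ : ∃ φ : (Fin k ⊕ Fin k → F) ≃ₗ[F] W, φ = g.symm.trans e'.equivFun.symm := ⟨_, rfl⟩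
    have hφQ : ∀ v, Q ((φ v : W) : V) = qPlus k F v := fun v => by
      rw [hφ, LinearEquiv.trans_apply, ← hD, ← hg, LinearEquiv.apply_symm_apply]
    have hTWbij : Function.Bijective TW := by
      refine Finite.injective_iff_bijective.1 fun a b h => ?_
      have h' : ∀ z, (TW ^ (r - 1)) (TW z) = z := fun z => by
        rw [← Module.End.mul_apply, ← pow_succ, Nat.sub_add_cancel hr.one_le, hTWr, Module.End.one_apply]
      rw [← h' a, h, h']
    let τl := φ.trans ((LinearEquiv.ofBijective TW hTWbij).trans φ.symm)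
    have hτmem : τl ∈ qAut (qPlus k F) := fun v => by
      rw [← hφQ, ← hφQ, LinearEquiv.trans_apply, LinearEquiv.trans_apply, LinearEquiv.apply_symm_apply]
      show Q (T ((φ v : W) : V)) = _
      rw [hT]
      exact hQact T' _
    obtain ⟨τ, hτ⟩ : ∃ τ : qAut (qPlus k F), τ = ⟨τl, hτmem⟩ := ⟨_, rfl⟩
    have hτpow : ∀ (j : ℕ) v, (τ ^ j).1 v = φ.symm ((TW ^ j) (φ v)) := fun j v => by
      induction j with
      | zero => exact (φ.symm_apply_apply v).symm
      | succ j ih =>
        rw [pow_succ', qAut_mul_apply, ih, hτ, pow_succ', Module.End.mul_apply]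
        show φ.symm (TW (φ (φ.symm _))) = _
        rw [LinearEquiv.apply_symm_apply]
    have hτo : orderOf τ = r := by
      refine orderOf_eq_prime (qAut_ext fun v => ?_) fun h => ?_
      · rw [hτpow, hTWr]; exact φ.symm_apply_apply v
      · obtain ⟨x, hx⟩ := exists_ne (0 : W)
        refine hx (hTWfix x ?_)
        have h1 := hτpow 1 (φ.symm x)
        rw [pow_one, pow_one, h, LinearEquiv.apply_symm_apply] at h1
        exact φ.symm.injective h1.symm
    haveI : Finite (qAut (qPlus k F)) := Finite.of_injective (fun g => ⇑g.1) fun a b h => qAut_ext fun v => congrFun h v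
    have hdvd : r ∣ Nat.card (qAut (qPlus k F)) := hτo ▸ orderOf_dvd_natCard τ
    obtain ⟨k', rfl⟩ : ∃ k', k = k' + 1 := ⟨k - 1, by omega⟩
    rw [card_qAut_qPlus, card_qAut_plus, ← hqdef] at hdvd
    rcases hr.dvd_mul.1 hdvd with h | h
    · rcases hr.dvd_mul.1 h with h | h
      · rcases hr.dvd_mul.1 h with h | h
        · exact hr2 ((Nat.prime_dvd_prime_iff_eq hr Nat.prime_two).1 h)
        · have hrq := hr.dvd_of_dvd_pow h
          exact hrp ((CharP.cast_eq_zero_iff F p r).2 (by
            rw [hqdef, hf] at hrq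
            exact ((Nat.prime_dvd_prime_iff_eq hr hpp).1 (hr.dvd_of_dvd_pow hrq)) ▸ dvd_refl p))
      · exact hrmin (k' + 1) (by omega) (by omega) h
    · obtain ⟨i, hi, h⟩ := (Prime.dvd_finsetProd_iff hr.prime _).1 h
      rw [Finset.mem_range] at hi
      exact hrmin (2 * (i + 1)) (by omega) (by omega) h
  · -- a torus element of order q + 1
    obtain ⟨j, hj⟩ : q + 1 ∣ N := hNdef ▸ (by simpa using hko.nat_add_dvd_pow_add_pow q 1)
    have hjpos : 0 < j := by
      rcases Nat.eq_zero_or_pos j with h | h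
      · rw [h, mul_zero] at hj; omega
      · exact h
    obtain ⟨ζ, hζ⟩ : ∃ ζ : R, ζ = sR ^ j := ⟨_, rfl⟩
    have hζq : ζ ^ (q + 1) = 1 := by rw [hζ, ← pow_mul, mul_comm, ← hj, hsN]
    have hζo : ∀ i, 0 < i → i < q + 1 → ζ ^ i ≠ 1 := fun i hi hiq h => by
      rw [hζ, ← pow_mul] at h
      refine hSo (j * i) (Nat.mul_pos hjpos hi) ?_ h
      rw [hj, mul_comm]
      exact Nat.mul_lt_mul_of_pos_right hiq hjpos
    have hζζ : ζ * ζ ^ q = 1 := by rw [← pow_succ']; exact hζq
    haveI : CharP R p := charP_of_injective_algebraMap (algebraMap F R).injective p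
    have hfrob : ∀ x y : R, (x + y) ^ q = x ^ q + y ^ q := fun x y => by
      rw [hqdef, hf]; exact add_pow_char_pow (p := p) ..
    have hfix : ∀ x : R, x ^ q = x → ∃ c : F, algebraMap F R c = x := fun x hx => by
      rcases eq_or_ne x 0 with rfl | hx0
      · exact ⟨0, map_zero _⟩
      letI : Field R := hfield.toField
      refine CfsgLib.PrimeGraphPSL.exists_eq_algebraMap (F := F) ?_
      have e : x ^ (Fintype.card F - 1) * x = 1 * x := by
        rw [← pow_succ, Nat.sub_add_cancel Fintype.card_pos, one_mul, ← hqdef, hx]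
      exact mul_right_cancel₀ hx0 e
    obtain ⟨a, ha⟩ : ∃ a : F, algebraMap F R a = ζ + ζ ^ q := by
      refine hfix _ ?_
      rw [hfrob, ← pow_mul, add_comm]
      congr 1
      have e : ζ * (ζ ^ q * ζ ^ (q * q)) = ζ * (1 : R) := by
        rw [← pow_add, mul_one, ← pow_succ', show q + q * q + 1 = (q + 1) * q + 1 by ring, pow_succ, pow_mul, hζq,
          one_pow, one_mul]
      rw [← mul_assoc, hζζ, one_mul, mul_one] at e
      exact e
    have hζeq : ζ * ζ = algebraMap F R a * ζ - 1 := by rw [ha, add_mul, mul_comm (ζ ^ q), hζζ, add_sub_cancel_right]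
    have hna : ¬ IsSquare (a * a - 4) := by
      rintro ⟨d, hd⟩
      have hd' : (algebraMap F R a) * (algebraMap F R a) - 4 = algebraMap F R d * algebraMap F R d := by
        rw [← map_mul, ← map_mul, ← hd, map_sub, map_mul, map_ofNat]
      have e : (2 * ζ - algebraMap F R a) * (2 * ζ - algebraMap F R a) = algebraMap F R d * algebraMap F R d := by
        linear_combination 4 * hζeq + hd'
      have hzF : ∃ c : F, algebraMap F R c = ζ := by
        have hc : ∀ c : F, 2 * ζ - algebraMap F R a = algebraMap F R c → algebraMap F R ((a + c) / 2) = ζ := fun c hc => by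
          have h2R : (2 : R) = algebraMap F R 2 := (map_ofNat _ 2).symm
          refine mul_left_cancel₀ (show (2 : R) ≠ 0 by rw [h2R]; exact (map_ne_zero_iff _ (algebraMap F R).injective).2 h2) ?_
          conv_lhs => rw [h2R, ← map_mul, mul_div_cancel₀ _ h2, map_add, ← hc]
          ring
        rcases mul_self_eq_mul_self_iff.1 e with h | h
        · exact ⟨_, hc d h⟩
        · exact ⟨_, hc (-d) (by rw [map_neg]; exact h)⟩
      obtain ⟨c, hc⟩ := hzF
      have hzq : ζ ^ q = ζ := by rw [← hc, ← map_pow, hqdef, FiniteField.pow_card]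
      exact hζo 2 two_pos (by omega) (by rw [pow_two]; nth_rewrite 2 [← hzq]; exact hζζ)
    have hns : ¬ IsSquare (2 + a) := by
      rintro ⟨c, hc⟩
      have hc' : algebraMap F R c * algebraMap F R c = 2 + algebraMap F R a := by
        rw [← map_mul, ← hc, map_add, map_ofNat]
      have e : (1 + ζ) * (1 + ζ) = algebraMap F R c * algebraMap F R c * ζ := by rw [hc']; linear_combination hζeq
      have hc0 : c ≠ 0 := fun h => by
        rw [h, map_zero, mul_zero, zero_mul] at e
        have : ζ = -1 := eq_neg_of_add_eq_zero_right (mul_self_eq_zero.1 e)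
        exact hζo 2 two_pos (by omega) (by rw [this]; ring)
      obtain ⟨η, hη⟩ : ∃ η : R, η = algebraMap F R c⁻¹ * (1 + ζ) := ⟨_, rfl⟩
      have hcc : algebraMap F R c⁻¹ * algebraMap F R c = 1 := by rw [← map_mul, inv_mul_cancel₀ hc0, map_one]
      have hη2 : η * η = ζ := by
        rw [hη]
        linear_combination (algebraMap F R c⁻¹ * algebraMap F R c⁻¹) * e +
          (ζ * (algebraMap F R c⁻¹ * algebraMap F R c) + ζ) * hcc
      have hηq : η ^ q * ζ = η := by
        rw [hη, mul_pow, ← map_pow, hqdef, FiniteField.pow_card, ← hqdef, hfrob, one_pow, mul_assoc, add_mul, one_mul,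
          mul_comm (ζ ^ q), hζζ, add_comm ζ 1]
      have hη1 : η ^ (q + 1) = 1 := by
        have hζ0 : ζ ≠ 0 := fun h => by rw [h, zero_mul] at hζζ; exact zero_ne_one hζζ
        refine mul_right_cancel₀ hζ0 ?_
        rw [one_mul, pow_succ, mul_assoc, mul_comm η ζ, ← mul_assoc, hηq, hη2]
      obtain ⟨m, hm⟩ : ∃ m, q + 1 = 2 * m := by obtain ⟨c', hc''⟩ := hqodd; exact ⟨c' + 1, by omega⟩
      exact hζo m (by omega) (by omega) (by rw [← hη2, ← pow_two, ← pow_mul, ← hm, hη1])
    let Z : Module.End F V := (S ^ j)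
    have hZW : ∀ x ∈ W, Z x ∈ W := fun x hx => by
      have := ((S.restrict hSW) ^ j) ⟨x, hx⟩ |>.2
      rwa [hpow_apply] at this
    have hquad : ∀ x ∈ W, Z (Z x) = a • Z x - x := fun x hx => by
      have h := congrArg (fun c : R => (((c : Module.End F W) ⟨x, hx⟩ : W) : V)) hζeq
      simp only [Subalgebra.coe_sub, Subalgebra.coe_mul, Subalgebra.coe_one, Subalgebra.coe_algebraMap,
        Module.End.mul_apply, LinearMap.sub_apply, Module.End.one_apply, AddSubgroupClass.coe_sub,
        Module.algebraMap_end_apply, SetLike.val_smul] at h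
      have hz : ∀ w : W, (((ζ : Module.End F W) w : W) : V) = Z (w : V) := fun w => by
        rw [hζ, SubmonoidClass.coe_pow]; exact hpow_apply S hSW j w
      rw [hz, hz] at h
      exact h
    obtain ⟨j', h, hd, hhW, hhfix, hhθ⟩ := exists_quadratic_part Q θ hθ h2 hna Z
      (fun x => by
        show Q ((S ^ j) x) = Q x
        rw [hS, ← map_pow]; exact hQact _ x)
      (Module.finrank F W) W rfl hZW hquad hndW
    obtain rfl : j' = k := by omega
    have hsj : s ^ j = h := hagree j h ((sR ^ j : R) : Module.End F W) rfl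
      (fun x => by rw [hhW x x.2, SubmonoidClass.coe_pow]; exact (hpow_apply S hSW j x).symm) hhfix
    have hsq : IsSquare ((2 + a) ^ j') := sqSign_eq_one.1 (by rw [← hhθ, ← hsj, hθs])
    obtain ⟨m, rfl⟩ := hko
    rw [pow_succ] at hsq
    have h0 : (2 + a) ≠ 0 := fun h => hns ⟨0, by rw [h, mul_zero]⟩
    refine hns ?_
    have h1 := hsq.mul (show IsSquare (((2 + a) ^ m)⁻¹ * ((2 + a) ^ m)⁻¹) from ⟨_, rfl⟩)
    rwa [two_mul m, pow_add,
      show (2 + a) ^ m * (2 + a) ^ m * (2 + a) * (((2 + a) ^ m)⁻¹ * ((2 + a) ^ m)⁻¹) = 2 + a by field_simp] at h1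

end CfsgLib.Classical.SpecBC
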