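/-
An element of order `p (q ^ k + 1)` of the projective symplectic group in dimension `2k + 2`.
-/
import Cfsg.Agent.Lib.Classical.SpSemisimpleClasses
import Cfsg.Agent.Lib.Classical.SpCenter
import Cfsg.Agent.Lib.Classical.SpSplit
import Cfsg.Agent.Lib.PrimeGraphPSL.HalfTorus

set_option autoImplicit false

namespace CfsgLib.Classical.SpecBC

open Matrix Polynomial CfsgLib.Classical

universe u

variable {F : Type u} [Field F] [Fintype F]

theorem exists_sp_torus {k : ℕ} (hk : 2 ≤ k) (hodd : Odd (Fintype.card F)) :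
    ∃ g : ↥(Matrix.symplecticGroup (Fin k) F), orderOf g = Fintype.card F ^ k + 1 := by
  classical
  obtain ⟨p, hch⟩ := CharP.exists F
  obtain ⟨f, hpp, hf⟩ := FiniteField.card F p
  haveI := Fact.mk hpp
  obtain ⟨q, hqdef⟩ : ∃ q, q = Fintype.card F := ⟨_, rfl⟩
  rw [← hqdef] at hodd ⊢
  have hq1 : 1 < q := hqdef ▸ Fintype.one_lt_card
  haveI : NeZero (2 * k) := ⟨by omega⟩
  let L := FiniteField.Extension F p (2 * k)
  haveI : Finite L := inferInstance
  haveI := Fintype.ofFinite L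
  have hLc : Fintype.card L = q ^ (2 * k) := by
    rw [← Nat.card_eq_fintype_card, FiniteField.natCard_extension, Nat.card_eq_fintype_card, hqdef]
  obtain ⟨N, hN⟩ : ∃ N, N = q ^ k + 1 := ⟨_, rfl⟩
  have hqk : 1 < q ^ k := Nat.one_lt_pow (by omega) hq1
  have hfac : q ^ (2 * k) - 1 = N * (q ^ k - 1) := by
    rw [hN, mul_comm 2 k, pow_mul, ← Nat.sq_sub_sq, one_pow]
  obtain ⟨gen, hgen⟩ := IsCyclic.exists_ofOrder_eq_natCard (α := Lˣ)
  rw [Nat.card_units, Nat.card_eq_fintype_card, hLc, hfac] at hgen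
  obtain ⟨w, hw⟩ : ∃ w : L, orderOf w = N := ⟨((gen ^ (q ^ k - 1) : Lˣ) : L), by
    rw [orderOf_units, orderOf_pow_of_dvd (by omega) (hgen ▸ dvd_mul_left _ _), hgen,
      Nat.mul_div_cancel _ (by omega)]⟩
  have hwN : w ^ N = 1 := hw ▸ pow_orderOf_eq_one w
  have hint : IsIntegral F w := IsIntegral.of_finite F w
  obtain ⟨P, hPdef⟩ : ∃ P, P = minpoly F w := ⟨_, rfl⟩
  have hP : P.Monic := hPdef ▸ minpoly.monic hint
  have hPi : Irreducible P := hPdef ▸ minpoly.irreducible hint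
  haveI := Fact.mk hPi
  haveI : Module.Finite F (AdjoinRoot P) := (AdjoinRoot.powerBasis' hP).finite
  haveI : Finite (AdjoinRoot P) := Module.finite_of_finite F
  haveI := Fintype.ofFinite (AdjoinRoot P)
  let φ : AdjoinRoot P →ₐ[F] L := AdjoinRoot.liftAlgHom P (Algebra.ofId F L) w (by rw [hPdef]; exact minpoly.aeval F w)
  have hφr : φ (AdjoinRoot.root P) = w := AdjoinRoot.liftAlgHom_root _ _ _ _
  have hro : orderOf (AdjoinRoot.root P) = N := by
    rw [← orderOf_injective φ.toRingHom.toMonoidHom φ.toRingHom.injective, ← hw]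
    exact congrArg orderOf hφr
  have hd : P.natDegree = 2 * k := by
    obtain ⟨r, hr, hrdvd, hrmin⟩ := CfsgLib.PrimeGraphPSL.exists_primitive (n := 2 * k) (by omega) hodd hq1
    have hrN : r ∣ N := by
      rw [hfac] at hrdvd
      exact (hr.dvd_mul.1 hrdvd).resolve_right (hrmin k (by omega) (by omega))
    have hcard : N ∣ q ^ P.natDegree - 1 := by
      rw [← hro]
      refine orderOf_dvd_of_pow_eq_one ?_
      have hne : AdjoinRoot.root P ≠ 0 := fun h => by
        rw [h, orderOf_eq_zero_iff'.2 (fun n hn => by rw [zero_pow hn.ne']; exact zero_ne_one)] at hro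
        omega
      have h := FiniteField.pow_card_sub_one_eq_one (AdjoinRoot.root P) hne
      rwa [Module.card_eq_pow_finrank (K := F), (AdjoinRoot.powerBasis' hP).finrank,
        show (AdjoinRoot.powerBasis' hP).dim = P.natDegree from rfl, ← hqdef] at h
    have hle : P.natDegree ≤ 2 * k := by
      rw [hPdef]
      exact (minpoly.natDegree_le w).trans_eq (FiniteField.finrank_extension F p (2 * k))
    rcases hle.lt_or_eq with h | h
    · exact absurd (hrN.trans hcard) (hrmin _ hPi.natDegree_pos h)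
    · exact h
  have hw0 : w ≠ 0 := fun h => by rw [h, zero_pow (by omega)] at hwN; exact zero_ne_one hwN
  have hinv : w⁻¹ = w ^ q ^ k := by
    refine inv_eq_of_mul_eq_one_right ?_
    rw [← pow_succ', ← hN, hwN]
  have hPinv : aeval w⁻¹ P = 0 := by
    rw [hinv, hqdef, show w ^ Fintype.card F ^ k = ((FiniteField.frobeniusAlgHom F L) ^ k) w by
      rw [AlgHom.coe_pow]; exact (congrFun (FiniteField.coe_frobeniusAlgHom F L ▸ pow_iterate (Fintype.card F) k) w).symm,
      aeval_algHom_apply, hPdef, minpoly.aeval, map_zero]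
  have hP00 : P.coeff 0 ≠ 0 := hPdef ▸ minpoly.coeff_zero_ne_zero hint hw0
  have hrevw : aeval w P.reverse = 0 := by
    letI : Invertible w⁻¹ := invertibleOfNonzero (inv_ne_zero hw0)
    have h := (eval₂_reverse_eq_zero_iff (algebraMap F L) w⁻¹ P).2 hPinv
    rwa [invOf_eq_inv, inv_inv] at h
  have hrev0 : P.reverse = C (P.coeff 0) * P := by
    obtain ⟨R, hR⟩ : P ∣ P.reverse := by rw [hPdef] at hrevw ⊢; exact minpoly.dvd F w hrevw
    have hdr : P.reverse.natDegree = P.natDegree := by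
      rw [reverse_natDegree, natTrailingDegree_eq_zero.2 (Or.inr hP00), Nat.sub_zero]
    have hR0 : R ≠ 0 := fun h => hP.ne_zero (reverse_eq_zero.1 (by rw [hR, h, mul_zero]))
    have hRd : R.natDegree = 0 := by
      rw [hR, hP.natDegree_mul' hR0] at hdr
      omega
    have hlead := congrArg (fun T : F[X] => T.coeff P.natDegree) hR
    simp only [coeff_reverse, revAt_le le_rfl, Nat.sub_self] at hlead
    rw [eq_C_of_natDegree_eq_zero hRd, mul_comm, coeff_C_mul, hP.coeff_natDegree, mul_one] at hlead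
    rw [hR, eq_C_of_natDegree_eq_zero hRd, ← hlead, mul_comm]
  have h01 : P.coeff 0 = 1 := by
    have h1 : P.eval 1 ≠ 0 := fun h => by
      have hdvd : X - C 1 ∣ P := dvd_iff_isRoot.2 h
      have := natDegree_eq_of_degree_eq (degree_eq_degree_of_associated ((irreducible_X_sub_C (1 : F)).associated_of_dvd hPi hdvd))
      rw [natDegree_X_sub_C] at this
      omega
    have h2 : P.reverse.eval 1 = P.eval 1 := by
      letI : Invertible (1 : F) := invertibleOne
      rw [eval, eval, ← eval₂_reverse_mul_pow (RingHom.id F) (1 : F) P, invOf_one, one_pow, mul_one]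
    rw [hrev0, eval_mul, eval_C] at h2
    exact mul_right_cancel₀ h1 (h2.trans (one_mul _).symm)
  rw [h01, map_one, one_mul] at hrev0
  obtain ⟨g, hg⟩ := SpSemisimple.exists_sp_charpoly (by omega) hP hd h01 hrev0
  refine ⟨g, ?_⟩
  haveI : Nonempty (Fin k ⊕ Fin k) := ⟨Sum.inl ⟨0, by omega⟩⟩
  obtain ⟨M, hMdef⟩ : ∃ M, M = (g : Matrix (Fin k ⊕ Fin k) (Fin k ⊕ Fin k) F) := ⟨_, rfl⟩
  have hmin : minpoly F M = P :=
    (minpoly.eq_of_irreducible_of_monic hPi (by rw [← hg, ← hMdef]; exact Matrix.aeval_self_charpoly _) hP).symm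
  rw [← orderOf_injective (Matrix.symplecticGroup (Fin k) F).subtype Subtype.val_injective, ← hN, ← hro,
    orderOf_eq_orderOf_iff]
  intro j
  rw [show (Matrix.symplecticGroup (Fin k) F).subtype g = M from hMdef.symm]
  have h1 : aeval M (X ^ j - 1 : F[X]) = M ^ j - 1 := by simp
  have h2 : aeval (AdjoinRoot.root P) (X ^ j - 1 : F[X]) = AdjoinRoot.root P ^ j - 1 := by simp
  rw [← sub_eq_zero, ← h1, ← sub_eq_zero (a := AdjoinRoot.root P ^ j), ← h2, ← minpoly.dvd_iff, hmin,
    AdjoinRoot.aeval_eq, AdjoinRoot.mk_eq_zero]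

theorem exists_sp_prod {k : ℕ} (g : ↥(Matrix.symplecticGroup (Fin k) F)) (v : Fin 1 ⊕ Fin 1 → F) (hv : v ≠ 0)
    (hcop : (orderOf g).Coprime (ringChar F)) :
    ∃ φ : ℕ → ↥(Matrix.symplecticGroup (Fin (k + 1)) F), (∀ j, φ j = φ 1 ^ j) ∧
      (φ 1 ^ (orderOf g * ringChar F) = 1) ∧
      ∀ j, φ j ∈ Subgroup.center ↥(Matrix.symplecticGroup (Fin (k + 1)) F) → orderOf g * ringChar F ∣ j := by
  classical
  obtain ⟨p, hch⟩ := CharP.exists F
  have hpr : ringChar F = p := ringChar.eq F p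
  obtain ⟨f, hpp, -⟩ := FiniteField.card F p
  rw [hpr]
  let W : Submodule F (Fin (k + 1) ⊕ Fin (k + 1) → F) :=
    Submodule.span F {Pi.single (Sum.inl 0) 1, Pi.single (Sum.inr 0) 1}
  have hWk : Module.finrank F W = 2 * 1 := by
    have hli : LinearIndependent F ![(Pi.single (Sum.inl 0) 1 : Fin (k + 1) ⊕ Fin (k + 1) → F), Pi.single (Sum.inr 0) 1] :=
      LinearIndependent.pair_iff.2 fun s t h => ⟨by simpa using congrFun h (Sum.inl 0), by simpa using congrFun h (Sum.inr 0)⟩
    have := finrank_span_eq_card hli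
    rwa [Matrix.range_cons, Matrix.range_cons, Matrix.range_empty, Set.union_empty, Set.singleton_union,
      Fintype.card_fin] at this
  have hW : ∀ u ∈ W, (∀ w ∈ W, Cfsg.sympForm (k + 1) F u w = 0) → u = 0 := by
    intro u hu h
    obtain ⟨s, t, rfl⟩ := Submodule.mem_span_pair.1 hu
    have h1 := h _ (Submodule.subset_span (Set.mem_insert (Pi.single (Sum.inl 0) 1) _))
    have h2 := h _ (Submodule.subset_span (Set.mem_insert_of_mem _ (Set.mem_singleton (Pi.single (Sum.inr 0) 1))))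
    rw [sympForm_single_inl] at h1
    rw [sympForm_single_inr] at h2
    simp at h1 h2
    simp [h1, h2]
  obtain ⟨T, hT, -⟩ := exists_sp_split 1 W hWk hW
  obtain ⟨u, hu⟩ : ∃ u : ↥(Matrix.symplecticGroup (Fin 1) F), u = spT v 1 := ⟨_, rfl⟩
  have hk1 : k + 1 - 1 = k := by omega
  revert T
  rw [hk1]
  intro T hT
  let fl : ℕ → Module.End F ((Fin 1 ⊕ Fin 1 → F) × (Fin k ⊕ Fin k → F)) := fun j =>
    LinearMap.prodMap (Matrix.toLin' (u ^ j).1) (Matrix.toLin' (g ^ j).1)
  have hex : ∀ j, ∃ φ : ↥(Matrix.symplecticGroup (Fin (k + 1)) F), ∀ p', φ.1 *ᵥ T p' = T (fl j p') := fun j => by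
    obtain ⟨φ, hφ⟩ := spMk_exists (T.toLinearMap ∘ₗ fl j ∘ₗ T.symm.toLinearMap) (fun a b => by
      obtain ⟨a, rfl⟩ := T.surjective a
      obtain ⟨b, rfl⟩ := T.surjective b
      simp only [LinearMap.comp_apply, LinearEquiv.coe_coe, LinearEquiv.symm_apply_apply]
      rw [hT, hT]
      show Cfsg.sympForm 1 F ((u ^ j).1 *ᵥ a.1) ((u ^ j).1 *ᵥ b.1) + Cfsg.sympForm k F ((g ^ j).1 *ᵥ a.2) ((g ^ j).1 *ᵥ b.2) = _
      rw [sp_form, sp_form])
    exact ⟨φ, fun p' => by rw [hφ]; simp⟩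
  choose φ hφ using hex
  have hext : ∀ (a b : ↥(Matrix.symplecticGroup (Fin (k + 1)) F)), (∀ p', a.1 *ᵥ T p' = b.1 *ᵥ T p') → a = b :=
    fun a b h => sp_ext fun w => by obtain ⟨w, rfl⟩ := T.surjective w; exact h w
  have hfl : ∀ j p', fl j p' = ((u ^ j).1 *ᵥ p'.1, (g ^ j).1 *ᵥ p'.2) := fun j p' => rfl
  have hpow : ∀ j, φ j = φ 1 ^ j := fun j => by
    induction j with
    | zero =>
      refine hext _ _ fun p' => ?_
      rw [hφ, hfl, pow_zero, pow_zero, pow_zero, OneMemClass.coe_one, OneMemClass.coe_one, one_mulVec, one_mulVec,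
        OneMemClass.coe_one, one_mulVec]
    | succ j ih =>
      refine hext _ _ fun p' => ?_
      rw [pow_succ', ← ih, Submonoid.coe_mul, ← mulVec_mulVec, hφ, hφ, hφ, hfl, hfl, hfl, pow_one, pow_one, pow_succ',
        pow_succ', Submonoid.coe_mul, Submonoid.coe_mul, ← mulVec_mulVec, ← mulVec_mulVec]
  have hupow : ∀ j : ℕ, ∀ x, (u ^ j).1 *ᵥ x = x + ((j : F) * Cfsg.sympForm 1 F x v) • v := fun j x => by
    have h : u ^ j = spT v (j : F) := by
      induction j with
      | zero => rw [pow_zero, Nat.cast_zero, spT_zero]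
      | succ j ih => rw [pow_succ, ih, hu, spT_mul, Nat.cast_succ]
    rw [h, spT_apply]
  refine ⟨φ, hpow, ?_, fun j hj => ?_⟩
  · rw [← hpow]
    refine hext _ _ fun p' => ?_
    rw [hφ, hfl, hupow, Nat.cast_mul, CharP.cast_eq_zero F p, mul_zero, zero_mul, zero_smul, add_zero, pow_mul g,
      pow_orderOf_eq_one, one_pow, OneMemClass.coe_one, one_mulVec, OneMemClass.coe_one, one_mulVec]
  · obtain ⟨c, hc, hcj⟩ : ∃ c : F, (c = 1 ∨ c = -1) ∧ ∀ w, (φ j).1 *ᵥ w = c • w := by
      rcases (mem_center_sp_iff _).1 hj with h | h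
      · exact ⟨1, Or.inl rfl, fun w => by rw [h, OneMemClass.coe_one, one_mulVec, one_smul]⟩
      · exact ⟨-1, Or.inr rfl, fun w => by rw [h, spNegOne_apply, neg_one_smul]⟩
    have hcomp : ∀ p', fl j p' = c • p' := fun p' => T.injective (by rw [map_smul, ← hφ, hcj])
    have hsu : ∀ x, (u ^ j).1 *ᵥ x = c • x := fun x => congrArg Prod.fst (hcomp (x, 0))
    have hc1 : c = 1 := by
      have h := hsu v
      rw [hupow, sympForm_self, mul_zero, zero_smul, add_zero] at h
      exact (smul_left_injective F hv (h.symm.trans (one_smul F v).symm))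
    have hjp : p ∣ j := by
      obtain ⟨w, hw⟩ := exists_sympForm_ne_zero hv
      have h := hsu w
      rw [hupow, hc1, one_smul, add_eq_left, smul_eq_zero] at h
      have hwv : Cfsg.sympForm 1 F w v ≠ 0 := by rw [sympForm_swap, neg_ne_zero]; exact hw
      exact (CharP.cast_eq_zero_iff F p j).1 ((mul_eq_zero.1 (h.resolve_right hv)).resolve_right hwv)
    have hgj : g ^ j = 1 := sp_ext fun x => by
      rw [OneMemClass.coe_one, one_mulVec]
      exact (congrArg Prod.snd (hcomp (0, x))).trans (by rw [hc1, one_smul])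
    exact Nat.Coprime.mul_dvd_of_dvd_of_dvd (hpr ▸ hcop) (orderOf_dvd_of_pow_eq_one hgj) hjp

theorem exists_psp_element {k : ℕ} (hk : 2 ≤ k) (hodd : Odd (Fintype.card F)) :
    ∃ x : Cfsg.PSp (k + 1) F, orderOf x = ringChar F * (Fintype.card F ^ k + 1) := by
  classical
  obtain ⟨g, hg⟩ := exists_sp_torus (F := F) hk hodd
  obtain ⟨p, hch⟩ := CharP.exists F
  have hpr : ringChar F = p := ringChar.eq F p
  obtain ⟨f, hpp, hf⟩ := FiniteField.card F p
  have hcop : (orderOf g).Coprime (ringChar F) := by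
    rw [hg, hpr, Nat.coprime_comm, hpp.coprime_iff_not_dvd, hf, ← pow_mul]
    intro h
    exact hpp.not_dvd_one ((Nat.dvd_add_right (dvd_pow_self p (Nat.mul_ne_zero f.pos.ne' (by omega)))).1 h)
  obtain ⟨φ, hφ, h1, hc⟩ := exists_sp_prod g (Pi.single (Sum.inl 0) 1) (by simp) hcop
  refine ⟨QuotientGroup.mk (φ 1), ?_⟩
  rw [← hg, mul_comm]
  refine Nat.dvd_antisymm (orderOf_dvd_of_pow_eq_one ?_) (hc _ ?_)
  · rw [← QuotientGroup.mk_pow, h1, QuotientGroup.mk_one]
  · rw [hφ, ← QuotientGroup.eq_one_iff, QuotientGroup.mk_pow, pow_orderOf_eq_one]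

end CfsgLib.Classical.SpecBC
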