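/-
The automorphism group of the Suzuki 2-groups `A(n, θ)` with `θ² = 2`.
-/
import Mathlib
import Cfsg.Prelude.Def_Solvable
import Cfsg.Prelude.Def_Transfer
import Cfsg.Agent.Lib.Suzuki.FieldEndo

set_option autoImplicit false

namespace CfsgLib.Classical.SuzukiSylowAut

variable {F : Type*} [Field F] [Fintype F] [CharP F 2]

/-- The automorphism group of a finite field of characteristic two is finite. -/
noncomputable local instance fintypeRingAut : Fintype (F ≃+* F) :=
  haveI : Finite (F ≃+* F) := Finite.of_injective (fun σ => (σ : F → F)) DFunLike.coe_injective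
  Fintype.ofFinite _

theorem coeff_unique {u v : (F ≃+* F) → F} (h : ∀ x, ∑ σ, u σ * σ x = ∑ σ, v σ * σ x) : u = v := by
  funext σ
  exact sub_eq_zero.1 (Fintype.linearIndependent_iff.1 (CfsgLib.Suzuki.FieldEndo.linearIndependent_auto F)
    (fun σ => u σ - v σ) (funext fun y => by simp [sub_mul, Finset.sum_apply, h y]) σ)

theorem coeff_eq_zero₂ {u : (F ≃+* F) → (F ≃+* F) → F} (h : ∀ a b, ∑ σ, ∑ ρ, u σ ρ * (σ a * ρ b) = 0) :
    ∀ σ ρ, u σ ρ = 0 := by
  intro σ ρ
  have h1 : ∀ a, (fun ρ => ∑ σ, u σ ρ * σ a) = fun _ => 0 := fun a => coeff_unique fun b => by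
    simp only [Finset.sum_mul, zero_mul, Finset.sum_const_zero]
    rw [Finset.sum_comm, ← h a b]
    exact Finset.sum_congr rfl fun _ _ => Finset.sum_congr rfl fun _ _ => by ring
  have h2 : (fun σ => u σ ρ) = fun _ => 0 := coeff_unique fun a => by
    simpa using congrFun (h1 a) ρ
  exact congrFun h2 σ

theorem card_ringAut {n : ℕ} (hn : Fintype.card F = 2 ^ n) : Nat.card (F ≃+* F) = n := by
  letI : Algebra (ZMod 2) F := ZMod.algebra F 2
  have h := Module.card_eq_pow_finrank (K := ZMod 2) (V := F)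
  rw [ZMod.card, hn] at h
  rw [Nat.pow_right_injective le_rfl h, ← IsGalois.card_aut_eq_finrank (ZMod 2) F]
  exact Nat.card_congr
    { toFun := fun σ => AlgEquiv.ofRingEquiv (f := σ) fun c =>
        DFunLike.congr_fun (RingHom.ext_zmod ((σ : F →+* F).comp (algebraMap (ZMod 2) F))
          (algebraMap (ZMod 2) F)) c
      invFun := fun σ => σ.toRingEquiv
      left_inv := fun _ => RingEquiv.ext fun _ => rfl
      right_inv := fun _ => AlgEquiv.ext fun _ => rfl }

theorem card_additive {n : ℕ} (hn : Fintype.card F = 2 ^ n) : Nat.card (F →+ F) = 2 ^ (n ^ 2) := by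
  let Φ : ((F ≃+* F) → F) → (F →+ F) := fun c => AddMonoidHom.mk' (fun x => ∑ σ, c σ * σ x)
    fun x y => by simp [mul_add, Finset.sum_add_distrib]
  have hb : Function.Bijective Φ := ⟨fun u v h => coeff_unique fun x => DFunLike.congr_fun h x, fun f => by
    obtain ⟨c, hc⟩ := CfsgLib.Suzuki.FieldEndo.exists_combination F f
    exact ⟨c, AddMonoidHom.ext fun x => (hc x).symm⟩⟩
  rw [← Nat.card_eq_of_bijective Φ hb, Nat.card_fun, card_ringAut hn, Nat.card_eq_fintype_card, hn, ← pow_mul, pow_two]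

variable (θ : F ≃+* F)

theorem theta_comm (k : ℕ) (hk : ∀ a, θ a = a ^ k) (σ : F ≃+* F) (a : F) : σ (θ a) = θ (σ a) := by
  rw [hk, hk, map_pow]

theorem q_injective (hθ2 : ∀ a, θ (θ a) = a ^ 2) : Function.Injective fun a => a * θ a := by
  intro a b h
  simp only at h
  rcases eq_or_ne b 0 with rfl | hb
  · rw [map_zero, mul_zero] at h
    rcases mul_eq_zero.1 h with h | h
    · exact h
    · exact (map_eq_zero θ).1 h
  have hb' : θ b ≠ 0 := (map_ne_zero θ).2 hb
  obtain ⟨c, rfl⟩ : ∃ c, a = c * b := ⟨a / b, (div_mul_cancel₀ a hb).symm⟩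
  have h1 : c * θ c = 1 := by
    rw [map_mul] at h
    exact mul_right_cancel₀ (mul_ne_zero hb hb') (by linear_combination h)
  have hc : θ c = c⁻¹ := eq_inv_of_mul_eq_one_right h1
  have h2 : c ^ 2 = c := by rw [← hθ2, hc, map_inv₀, hc, inv_inv]
  have hc0 : c ≠ 0 := left_ne_zero_of_mul_eq_one h1
  rw [show c = 1 from mul_left_cancel₀ hc0 (by rw [mul_one, ← pow_two, h2]), one_mul]

/-- An additive map intertwining `a ↦ a θ(a)` with an additive map is semilinear of rank one. -/
theorem semilinear_of_norm (hcomm : ∀ (σ : F ≃+* F) a, σ (θ a) = θ (σ a))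
    (hθ2 : ∀ a, θ (θ a) = a ^ 2) (hθ4 : ∃ a : F, a ^ 4 ≠ a) (A B : F →+ F) (hA : A ≠ 0)
    (hAB : ∀ a, A a * θ (A a) = B (a * θ a)) : ∃ (c : F) (σ : F ≃+* F), c ≠ 0 ∧ ∀ a, A a = c * σ a := by
  classical
  obtain ⟨x, hx⟩ := CfsgLib.Suzuki.FieldEndo.exists_combination F A
  obtain ⟨d, hd⟩ := CfsgLib.Suzuki.FieldEndo.exists_combination F B
  have hA' : ∀ a, θ (A a) = ∑ σ : F ≃+* F, θ (x (σ.trans θ.symm)) * σ a := by
    intro a
    rw [hx, map_sum]
    refine Fintype.sum_equiv
      ⟨fun σ => σ.trans θ, fun σ => σ.trans θ.symm, fun σ => RingEquiv.ext fun a => by simp,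
        fun σ => RingEquiv.ext fun a => by simp⟩ _ _ fun σ => ?_
    simp only [Equiv.coe_fn_mk, map_mul, RingEquiv.trans_apply]
    congr 3
    exact RingEquiv.ext fun a => by simp
  obtain ⟨y, hy⟩ : ∃ y : (F ≃+* F) → F, y = fun σ => θ (x (σ.trans θ.symm)) := ⟨_, rfl⟩
  let w : (F ≃+* F) → (F ≃+* F) → F := fun σ ρ => x σ * y ρ + if ρ = θ.trans σ then d σ else 0
  have hw : ∀ a b, ∑ σ, ∑ ρ, w σ ρ * (σ a * ρ b) = A a * θ (A b) + B (a * θ b) := by
    intro a b
    simp only [w, add_mul, Finset.sum_add_distrib, ite_mul, zero_mul, Finset.sum_ite_eq', Finset.mem_univ, if_true]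
    congr 1
    · rw [hx, hA', Finset.sum_mul_sum]
      exact Finset.sum_congr rfl fun _ _ => Finset.sum_congr rfl fun _ _ => by rw [hy]; ring
    · rw [hd]
      exact Finset.sum_congr rfl fun σ _ => by rw [map_mul, RingEquiv.trans_apply]
  have h2 : (2 : F) = 0 := CharTwo.two_eq_zero
  have hsym : ∀ σ ρ, w σ ρ + w ρ σ = 0 := coeff_eq_zero₂ fun a b => by
    have e : ∑ σ, ∑ ρ, w ρ σ * (σ a * ρ b) = ∑ σ, ∑ ρ, w σ ρ * (σ b * ρ a) := by
      rw [Finset.sum_comm]
      exact Finset.sum_congr rfl fun _ _ => Finset.sum_congr rfl fun _ _ => by ring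
    simp only [add_mul, Finset.sum_add_distrib, e, hw]
    have h1 := hAB (a + b)
    have ha := hAB a
    have hb := hAB b
    simp only [map_add, mul_add, add_mul] at h1
    linear_combination h1 - ha - hb + (B (a * θ b) + B (b * θ a)) * h2
  have hdiag : ∀ σ, w σ σ = 0 := by
    have key : ∀ a, ∑ σ, w σ σ * (σ a * σ a) = 0 := by
      intro a
      have h0 := hw a a
      rw [hAB, CharTwo.add_self_eq_zero, ← Fintype.sum_prod_type',
        ← Finset.sum_filter_add_sum_filter_not Finset.univ (fun p : (F ≃+* F) × (F ≃+* F) => p.1 = p.2)] at h0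
      have hoff : ∑ p ∈ Finset.univ.filter (fun p : (F ≃+* F) × (F ≃+* F) => ¬ p.1 = p.2),
          w p.1 p.2 * (p.1 a * p.2 a) = 0 :=
        Finset.sum_involution (fun p _ => (p.2, p.1))
          (fun p _ => by linear_combination (p.1 a * p.2 a) * hsym p.1 p.2)
          (fun p hp _ h => (Finset.mem_filter.1 hp).2 (congrArg Prod.fst h).symm)
          (fun p hp => by simpa [eq_comm] using hp) (fun p _ => rfl)
      rw [hoff, add_zero] at h0
      rw [← h0]
      refine Finset.sum_nbij (fun σ => (σ, σ)) (by simp) (by intro s _ t _ h; exact congrArg Prod.fst h) ?_ (fun σ _ => rfl)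
      intro p hp
      simp at hp
      exact ⟨p.1, by simp, Prod.ext rfl hp⟩
    intro σ
    let sq : (F ≃+* F) ≃ (F ≃+* F) :=
      ⟨fun σ => σ.trans (θ.trans θ), fun σ => σ.trans (θ.trans θ).symm,
        fun σ => RingEquiv.ext fun a => by simp, fun σ => RingEquiv.ext fun a => by simp⟩
    have h := coeff_unique (F := F) (u := fun τ => w (sq.symm τ) (sq.symm τ)) (v := fun _ => 0) fun a => by
      simp only [zero_mul, Finset.sum_const_zero]
      refine (Equiv.sum_comp sq _).symm.trans ?_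
      simp only [Equiv.symm_apply_apply]
      rw [← key a]
      exact Finset.sum_congr rfl fun σ _ => by simp [sq, hθ2, pow_two]
    simpa using congrFun h (sq σ)
  obtain ⟨i, hi⟩ : ∃ i, x i ≠ 0 := by
    by_contra h
    push_neg at h
    exact hA (AddMonoidHom.ext fun a => by simp [hx, h])
  have hθne : ∀ i : F ≃+* F, θ.trans i ≠ i := by
    intro i h
    obtain ⟨a, ha⟩ := hθ4
    have h1 : ∀ a, θ a = a := fun a => i.injective (RingEquiv.congr_fun h a)
    have h3 : a ^ 2 = a := by rw [← hθ2, h1, h1]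
    exact ha (by rw [show a ^ 4 = (a ^ 2) ^ 2 by ring, h3, h3])
  have hyi : y i = 0 := by
    have := hdiag i
    simp only [w, if_neg (hθne i).symm, add_zero] at this
    exact (mul_eq_zero.1 this).resolve_left hi
  have hN : ∀ i j, x i ≠ 0 → y i = 0 → x j ≠ 0 → j = i ∨ ∀ a, θ (θ (j a)) = i a := by
    intro i j hi hyi hj
    have hyl : y (j.trans θ) ≠ 0 := by
      rw [hy]
      simpa [show (j.trans θ).trans θ.symm = j from RingEquiv.ext fun a => by simp] using hj
    by_contra hc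
    push_neg at hc
    obtain ⟨hji, a, ha⟩ := hc
    have h := hsym i (j.trans θ)
    simp only [w, hyi, mul_zero, add_zero] at h
    rw [if_neg (fun h => hji (RingEquiv.ext fun a => θ.injective (by
        rw [← RingEquiv.trans_apply j θ, h, RingEquiv.trans_apply, hcomm]))),
      if_neg (fun h => ha (by
        rw [show i a = θ.trans (j.trans θ) a from RingEquiv.congr_fun h a]
        simp [hcomm])), add_zero, add_zero] at h
    exact mul_ne_zero hi hyl (by simpa using h)
  have hyall : ∀ j, x j ≠ 0 → y j = 0 := fun j hj => by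
    have := hdiag j
    simp only [w, if_neg (hθne j).symm, add_zero] at this
    exact (mul_eq_zero.1 this).resolve_left hj
  have huniq : ∀ j, j ≠ i → x j = 0 := by
    intro j hji
    by_contra hj
    have h1 := (hN i j hi hyi hj).resolve_left hji
    have h2 := (hN j i hj (hyall j hj) hi).resolve_left (Ne.symm hji)
    obtain ⟨a, ha⟩ := hθ4
    refine ha (j.injective ?_)
    have := h2 a
    rw [← h1, hθ2, hθ2, ← pow_mul] at this
    rw [map_pow]; exact this
  refine ⟨x i, i, hi, fun a => ?_⟩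
  rw [hx, Finset.sum_eq_single i (fun j _ hj => by rw [huniq j hj, zero_mul]) (by simp)]

variable {S : Type*} [Group S]

/-- The automorphism group of the Suzuki 2-group with coordinates `e`. -/
theorem aut_structure [Finite S] {m : ℕ} (hm : 1 ≤ m) (hF : Fintype.card F = 2 ^ (2 * m + 1))
    (hθ : ∀ a, θ a = a ^ 2 ^ (m + 1)) (e : F × F ≃ S)
    (hmul : ∀ a b a' b', e (a, b) * e (a', b') = e (a + a', b + b' + a * θ a')) :
    Cfsg.IsElementaryAbelian 2 (Cfsg.pCore 2 (MulAut S)) ∧
      Nat.card ↥(Cfsg.pCore 2 (MulAut S)) = 2 ^ ((2 * m + 1) ^ 2) ∧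
      Nat.card (MulAut S) = 2 ^ ((2 * m + 1) ^ 2) * ((2 * m + 1) * (2 ^ (2 * m + 1) - 1)) := by
  classical
  have hθ2 : ∀ a, θ (θ a) = a ^ 2 := fun a => by
    rw [hθ, hθ, ← pow_mul, ← pow_add, show m + 1 + (m + 1) = 2 * m + 1 + 1 by omega, pow_succ 2, pow_mul, ← hF,
      FiniteField.pow_card]
  have hθ4 : ∃ a : F, a ^ 4 ≠ a := by
    by_contra h
    push_neg at h
    have hle : Fintype.card F ≤ 4 := by
      have hsub : (Finset.univ : Finset F).val ≤ (Polynomial.X ^ 4 - Polynomial.X : Polynomial F).roots :=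
        (Multiset.le_iff_subset Finset.univ.nodup).2 fun a _ => by
          rw [Polynomial.mem_roots (FiniteField.X_pow_card_sub_X_ne_zero F (by norm_num))]
          simp [h a]
      have h1 := (Multiset.card_le_card hsub).trans (Polynomial.card_roots' _)
      rwa [FiniteField.X_pow_card_sub_X_natDegree_eq F (by norm_num), Finset.card_val, Finset.card_univ] at h1
    rw [hF] at hle
    have : 2 ^ 3 ≤ 2 ^ (2 * m + 1) := Nat.pow_le_pow_right two_pos (by omega)
    omega
  have hcomm := theta_comm θ _ hθ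
  have hq := q_injective θ hθ2
  have hqs : Function.Surjective fun a => a * θ a := Finite.injective_iff_surjective.1 hq
  have he1 : e (0, 0) = 1 := by
    have := hmul 0 0 0 0
    simp at this
    exact this
  have hsq : ∀ a b, e (a, b) * e (a, b) = e (0, a * θ a) := fun a b => by
    rw [hmul, CharTwo.add_self_eq_zero, CharTwo.add_self_eq_zero, zero_add]
  let fst : S → F := fun s => (e.symm s).1
  let snd : S → F := fun s => (e.symm s).2
  have hes : ∀ s, e (fst s, snd s) = s := fun s => e.apply_symm_apply s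
  have hfe : ∀ a b, fst (e (a, b)) = a := fun a b => by simp [fst]
  have hfm : ∀ s t, fst (s * t) = fst s + fst t := fun s t => by
    conv_lhs => rw [← hes s, ← hes t, hmul, hfe]
  have hinv : ∀ s, s * s = 1 ↔ fst s = 0 := fun s => by
    conv_lhs => rw [← hes s, hsq, ← he1, e.apply_eq_iff_eq, Prod.mk.injEq]
    exact ⟨fun h => hq (by simpa using h.2), fun h => ⟨rfl, by rw [h, zero_mul]⟩⟩
  have hZ : ∀ (φ : MulAut S) b, fst (φ (e (0, b))) = 0 := fun φ b => by
    rw [← hinv, ← map_mul, (hinv _).2 (hfe 0 b), map_one]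
  have hfst : ∀ (φ : MulAut S) a b, fst (φ (e (a, b))) = fst (φ (e (a, 0))) := fun φ a b => by
    rw [show e (a, b) = e (a, 0) * e (0, b) by rw [hmul]; simp, map_mul, hfm, hZ, add_zero]
  let A : MulAut S → F → F := fun φ a => fst (φ (e (a, 0)))
  have hAadd : ∀ φ a a', A φ (a + a') = A φ a + A φ a' := fun φ a a' => by
    show fst _ = fst _ + fst _
    rw [← hfm, ← map_mul, hmul, hfst φ (a + a') (0 + 0 + a * θ a')]
  have hAmul : ∀ φ ψ a, A (φ * ψ) a = A φ (A ψ a) := fun φ ψ a => by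
    show fst (φ (ψ (e (a, 0)))) = _
    conv_lhs => rw [← hes (ψ (e (a, 0))), hfst]
  have hA1 : ∀ a, A 1 a = a := fun a => hfe a 0
  let Pm : MulAut S →* Equiv.Perm F := MonoidHom.mk'
    (fun φ => ⟨A φ, A φ⁻¹, fun a => by rw [← hAmul, inv_mul_cancel, hA1], fun a => by rw [← hAmul, mul_inv_cancel, hA1]⟩)
    fun φ ψ => Equiv.ext fun a => hAmul φ ψ a
  have hB : ∀ φ : MulAut S, ∃ B : F →+ F, ∀ b, φ (e (0, b)) = e (0, B b) := by
    intro φ
    have h : ∀ b, φ (e (0, b)) = e (0, snd (φ (e (0, b)))) := fun b => by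
      conv_lhs => rw [← hes (φ (e (0, b))), hZ φ b]
    refine ⟨AddMonoidHom.mk' (fun b => snd (φ (e (0, b)))) fun b b' => ?_, h⟩
    obtain ⟨u, hu⟩ : ∃ u, φ (e (0, b)) = e (0, u) := ⟨_, h b⟩
    obtain ⟨u', hu'⟩ : ∃ u, φ (e (0, b')) = e (0, u) := ⟨_, h b'⟩
    show snd _ = _
    rw [show e (0, b + b') = e (0, b) * e (0, b') by rw [hmul]; simp, map_mul, hu, hu', hmul]
    simp [snd]
  have hAB : ∀ φ : MulAut S, ∀ B : F →+ F, (∀ b, φ (e (0, b)) = e (0, B b)) → ∀ a, A φ a * θ (A φ a) = B (a * θ a) := by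
    intro φ B hB' a
    have h := hB' (a * θ a)
    rw [← hsq a 0, map_mul, ← hes (φ (e (a, 0))), hsq, e.apply_eq_iff_eq, Prod.mk.injEq] at h
    exact h.2
  -- automorphisms from coordinates
  have hmk : ∀ (T T' : F → F → S), (∀ a b a' b', T a b * T a' b' = T (a + a') (b + b' + a * θ a')) →
      Function.Injective (fun p : F × F => T p.1 p.2) → ∃ φ : MulAut S, ∀ a b, φ (e (a, b)) = T a b := by
    intro T _ hT hTi
    let f : S →* S := MonoidHom.mk' (fun s => T (fst s) (snd s)) fun s t => by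
      show T _ _ = T _ _ * T _ _
      rw [hT]
      have h := hmul (fst s) (snd s) (fst t) (snd t)
      rw [hes, hes] at h
      rw [show fst (s * t) = _ from congrArg Prod.fst (e.symm_apply_eq.2 h),
        show snd (s * t) = _ from congrArg Prod.snd (e.symm_apply_eq.2 h)]
    refine ⟨MulEquiv.ofBijective f (Finite.injective_iff_bijective.1 fun s t h =>
      e.symm.injective (hTi h)), fun a b => ?_⟩
    show T _ _ = _
    simp [fst, snd]
  -- the kernel
  have hker : ∀ φ : MulAut S, φ ∈ Pm.ker ↔ ∀ a, A φ a = a := fun φ =>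
    ⟨fun h a => Equiv.congr_fun (MonoidHom.mem_ker.1 h) a, fun h => MonoidHom.mem_ker.2 (Equiv.ext h)⟩
  have hkerform : ∀ φ ∈ Pm.ker, ∃ f : F →+ F, ∀ a b, φ (e (a, b)) = e (a, b + f a) := by
    intro φ hφ
    obtain ⟨B, hB'⟩ := hB φ
    have hB1 : ∀ b, B b = b := fun b => by
      obtain ⟨a, rfl⟩ := hqs b
      rw [← hAB φ B hB' a, (hker φ).1 hφ]
    obtain ⟨g, h0⟩ : ∃ g : F → F, ∀ a, φ (e (a, 0)) = e (a, g a) := ⟨fun a => snd (φ (e (a, 0))), fun a => by
      conv_lhs => rw [← hes (φ (e (a, 0))), show fst (φ (e (a, 0))) = a from (hker φ).1 hφ a]⟩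
    have hform : ∀ a b, φ (e (a, b)) = e (a, b + g a) := fun a b => by
      rw [show e (a, b) = e (a, 0) * e (0, b) by rw [hmul]; simp, map_mul, h0, hB', hB1, hmul]
      simp [add_comm]
    refine ⟨AddMonoidHom.mk' g fun a a' => ?_, hform⟩
    have h := congrArg φ (hmul a 0 a' 0)
    rw [map_mul, h0, h0, hmul, hform, e.apply_eq_iff_eq, Prod.mk.injEq] at h
    linear_combination -h.2
  choose Fk hFk using hkerform
  have hext : ∀ φ ψ : MulAut S, (∀ a b, φ (e (a, b)) = ψ (e (a, b))) → φ = ψ := fun φ ψ h =>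
    MulEquiv.ext fun s => by rw [← hes s, h]
  have hreal : ∀ f : F →+ F, ∃ φ : MulAut S, ∀ a b, φ (e (a, b)) = e (a, b + f a) := fun f =>
    hmk (fun a b => e (a, b + f a)) (fun _ _ => 1) (fun a b a' b' => by rw [hmul, map_add]; congr 2; ring)
      (fun p r h => by
        have := e.injective h
        simp only [Prod.mk.injEq] at this
        exact Prod.ext this.1 (by linear_combination this.2 + congrArg f this.1 * (-1 : F)))
  choose Rl hRl using hreal
  have hRlmem : ∀ f, Rl f ∈ Pm.ker := fun f => (hker _).2 fun a => by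
    show fst _ = a
    rw [hRl, hfe]
  have hbij : Function.Bijective (fun φ : Pm.ker => Fk φ.1 φ.2) := by
    refine ⟨fun φ ψ h => Subtype.ext (hext _ _ fun a b => ?_), fun f => ⟨⟨Rl f, hRlmem f⟩, AddMonoidHom.ext fun a => ?_⟩⟩
    · simp only at h
      rw [hFk φ.1 φ.2, hFk ψ.1 ψ.2, h]
    · have h := (hFk _ (hRlmem f) a 0).symm.trans (hRl f a 0)
      rw [e.apply_eq_iff_eq, Prod.mk.injEq, zero_add, zero_add] at h
      exact h.2
  have hcardK : Nat.card Pm.ker = 2 ^ ((2 * m + 1) ^ 2) := (Nat.card_eq_of_bijective _ hbij).trans (card_additive hF)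
  have hKel : Cfsg.IsElementaryAbelian 2 Pm.ker := by
    refine ⟨⟨⟨fun φ ψ => Subtype.ext (hext _ _ fun a b => ?_)⟩⟩, fun φ hφ => hext _ _ fun a b => ?_⟩
    · show φ.1 (ψ.1 (e (a, b))) = ψ.1 (φ.1 (e (a, b)))
      rw [hFk φ.1 φ.2, hFk ψ.1 ψ.2, hFk ψ.1 ψ.2, hFk φ.1 φ.2]
      congr 2
      ring
    · rw [pow_two]
      show φ (φ (e (a, b))) = e (a, b)
      rw [hFk φ hφ, hFk φ hφ, add_assoc, CharTwo.add_self_eq_zero, add_zero]
  -- the image
  let Ψ : Fˣ × (F ≃+* F) → Equiv.Perm F := fun p => p.2.toEquiv.trans (Equiv.mulLeft₀ (p.1 : F) p.1.ne_zero)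
  have hΨi : Function.Injective Ψ := by
    rintro ⟨c, σ⟩ ⟨c', σ'⟩ h
    have h1 := Equiv.congr_fun h 1
    simp [Ψ] at h1
    obtain rfl := Units.ext h1
    refine Prod.ext rfl (RingEquiv.ext fun a => ?_)
    have := Equiv.congr_fun h a
    simpa [Ψ] using this
  have hrange : (Pm.range : Set (Equiv.Perm F)) = Set.range Ψ := by
    ext π
    constructor
    · rintro ⟨φ, rfl⟩
      obtain ⟨B, hB'⟩ := hB φ
      obtain ⟨c, σ, hc, hcs⟩ := semilinear_of_norm θ hcomm hθ2 hθ4 (AddMonoidHom.mk' (A φ) (hAadd φ)) B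
        (fun h => one_ne_zero ((Pm φ).injective (a₁ := (1 : F)) (a₂ := 0) (by
          show A φ 1 = A φ 0
          rw [show A φ 1 = 0 from DFunLike.congr_fun h 1, show A φ 0 = 0 from DFunLike.congr_fun h 0])))
        (hAB φ B hB')
      exact ⟨(Units.mk0 c hc, σ), Equiv.ext fun a => (hcs a).symm⟩
    · rintro ⟨⟨c, σ⟩, rfl⟩
      obtain ⟨φ, hφ⟩ := hmk (fun a b => e ((c : F) * σ a, (c : F) * θ c * σ b)) (fun _ _ => 1)
        (fun a b a' b' => by
          rw [hmul]
          simp only [map_add, map_mul, hcomm]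
          congr 2 <;> ring)
        (fun p r h => by
          have := e.injective h
          simp only [Prod.mk.injEq] at this
          exact Prod.ext (σ.injective (mul_left_cancel₀ c.ne_zero this.1))
            (σ.injective (mul_left_cancel₀ (mul_ne_zero c.ne_zero ((map_ne_zero θ).2 c.ne_zero)) this.2)))
      refine ⟨φ, Equiv.ext fun a => ?_⟩
      show fst _ = (c : F) * σ a
      rw [hφ, hfe]
  have hcardR : Nat.card Pm.range = (2 * m + 1) * (2 ^ (2 * m + 1) - 1) := by
    rw [← SetLike.coe_sort_coe, Nat.card_congr (Equiv.setCongr hrange), Nat.card_range_of_injective hΨi, Nat.card_prod,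
      Nat.card_units, Nat.card_eq_fintype_card, hF, card_ringAut hF, mul_comm]
  have hcardA : Nat.card (MulAut S) = 2 ^ ((2 * m + 1) ^ 2) * ((2 * m + 1) * (2 ^ (2 * m + 1) - 1)) := by
    rw [← Pm.ker.card_mul_index, Subgroup.index_ker, hcardK, hcardR]
  have hcore : Cfsg.pCore 2 (MulAut S) = Pm.ker := by
    refine le_antisymm (sSup_le ?_) (le_sSup ⟨inferInstance, IsPGroup.of_card hcardK⟩)
    rintro N ⟨-, hN⟩ φ hφ
    haveI := Fact.mk Nat.prime_two
    obtain ⟨j, hj⟩ := hN ⟨φ, hφ⟩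
    have h1 : (Pm φ) ^ 2 ^ j = 1 := by
      rw [← map_pow, show φ ^ 2 ^ j = 1 from congrArg Subtype.val hj, map_one]
    have h2 : orderOf (Pm φ) ∣ (2 * m + 1) * (2 ^ (2 * m + 1) - 1) := by
      rw [← hcardR, show orderOf (Pm φ) = orderOf (⟨Pm φ, φ, rfl⟩ : Pm.range) from (Subgroup.orderOf_coe (⟨Pm φ, φ, rfl⟩ : Pm.range))]
      exact orderOf_dvd_natCard _
    have hodd : Nat.Coprime (2 ^ j) ((2 * m + 1) * (2 ^ (2 * m + 1) - 1)) := by
      refine Nat.Coprime.pow_left _ ((Nat.prime_two.coprime_iff_not_dvd).2 ?_)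
      rw [Nat.prime_two.dvd_mul]
      have : 2 ∣ 2 ^ (2 * m + 1) := dvd_pow_self 2 (by omega)
      have := Nat.two_pow_pos (2 * m + 1)
      omega
    exact MonoidHom.mem_ker.2 (orderOf_eq_one_iff.1
      (Nat.dvd_one.1 (hodd ▸ Nat.dvd_gcd (orderOf_dvd_of_pow_eq_one h1) h2)))
  rw [hcore]
  exact ⟨hKel, hcardK, hcardA⟩

end CfsgLib.Classical.SuzukiSylowAut
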