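/-
The order of the centraliser of a transvection in the general linear group.
-/
import Mathlib

set_option autoImplicit false

namespace CfsgLib.Classical.TransvecCent

open Matrix

variable {F : Type*} [Field F] {m : ℕ}

local notation "N" => m + 2

/-- Rank one square zero matrices are outer products of an orthogonal pair. -/
theorem exists_pair (X : Matrix (Fin N) (Fin N) F) (h1 : X.rank = 1) (h2 : X * X = 0) :
    ∃ v φ : Fin N → F, v ≠ 0 ∧ φ ≠ 0 ∧ φ ⬝ᵥ v = 0 ∧ X = vecMulVec v φ := by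
  obtain ⟨⟨v, hv⟩, hv0, hall⟩ := finrank_eq_one_iff'.1 h1
  have hv0' : v ≠ 0 := fun h => hv0 (Subtype.ext h)
  have hcol : ∀ j, ∃ c : F, c • v = fun i => X i j := by
    intro j
    obtain ⟨c, hc⟩ := hall ⟨X.mulVecLin (Pi.single j 1), LinearMap.mem_range_self _ _⟩
    refine ⟨c, ?_⟩
    have := congrArg Subtype.val hc
    simp at this
    rw [this]
    rfl
  choose φ hφ using hcol
  have hX : X = vecMulVec v φ := by
    ext i j
    rw [vecMulVec_apply]
    have := congrFun (hφ j) i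
    simp at this
    rw [← this, mul_comm]
  have hφ0 : φ ≠ 0 := by
    intro h
    rw [hX, h] at h1
    simp at h1
  refine ⟨v, φ, hv0', hφ0, ?_, hX⟩
  rw [hX, vecMulVec_mul_vecMulVec] at h2
  obtain ⟨i, hi⟩ := Function.ne_iff.1 hv0'
  obtain ⟨j, hj⟩ := Function.ne_iff.1 hφ0
  have := congrFun (congrFun h2 i) j
  simp [vecMulVec_apply] at this hi hj
  tauto

/-- The swap of two coordinates as an invertible matrix. -/
noncomputable def swapGL (a b : Fin N) : GL (Fin N) F :=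
  GeneralLinearGroup.mkOfDetNeZero ((Equiv.swap a b).toPEquiv.toMatrix)
    (by
      show ((Equiv.swap a b).permMatrix F).det ≠ 0
      rw [Matrix.det_permutation]
      rcases Int.units_eq_one_or (Equiv.Perm.sign (Equiv.swap a b)) with e | e <;> simp [e])

/-- A matrix differing from the identity by rank one. -/
noncomputable def oneAddGL (u r : Fin N → F) (h : 1 + r ⬝ᵥ u ≠ 0) : GL (Fin N) F :=
  GeneralLinearGroup.mkOfDetNeZero (1 + vecMulVec u r)
    (by
      rw [vecMulVec_eq Unit, Matrix.det_one_add_replicateCol_mul_replicateRow]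
      exact h)

theorem oneAddGL_mulVec (u r : Fin N → F) (h : 1 + r ⬝ᵥ u ≠ 0) (x : Fin N → F) :
    (oneAddGL u r h).1 *ᵥ x = x + (r ⬝ᵥ x) • u := by
  show (1 + vecMulVec u r) *ᵥ x = _
  rw [Matrix.add_mulVec, Matrix.one_mulVec, Matrix.vecMulVec_mulVec, op_smul_eq_smul]

theorem oneAddGL_vecMul (u r : Fin N → F) (h : 1 + r ⬝ᵥ u ≠ 0) (x : Fin N → F) :
    x ᵥ* (oneAddGL u r h).1 = x + (x ⬝ᵥ u) • r := by
  show x ᵥ* (1 + vecMulVec u r) = _
  rw [Matrix.vecMul_add, Matrix.vecMul_one, Matrix.vecMul_vecMulVec]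

theorem swapGL_mulVec (a b : Fin N) (x : Fin N → F) :
    (swapGL (F := F) a b).1 *ᵥ x = x ∘ Equiv.swap a b :=
  PEquiv.toMatrix_toPEquiv_mulVec _ _

/-- Every orthogonal pair is in the orbit of the standard one. -/
theorem exists_conj (v φ : Fin N → F) (hv : v ≠ 0) (hφ : φ ≠ 0) (horth : φ ⬝ᵥ v = 0) :
    ∃ g : GL (Fin N) F, g.1 * vecMulVec (Pi.single 0 1) (Pi.single 1 1) = vecMulVec v φ * g.1 := by
  obtain ⟨k, hk⟩ := Function.ne_iff.1 hv
  simp only [Pi.zero_apply] at hk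
  let a : GL (Fin N) F := oneAddGL (v - Pi.single k 1) (Pi.single k 1) (by simp [hk]) * swapGL 0 k
  have hav : a.1 *ᵥ Pi.single 0 1 = v := by
    have : (Pi.single 0 1 : Fin N → F) ∘ Equiv.swap 0 k = Pi.single k 1 := by
      funext i
      simp only [Function.comp_apply, Pi.single_apply, Equiv.swap_apply_eq_iff, Equiv.swap_apply_left]
    rw [show a.1 = (oneAddGL (v - Pi.single k 1) (Pi.single k 1) (by simp [hk])).1 * (swapGL 0 k).1 from rfl,
      ← Matrix.mulVec_mulVec, swapGL_mulVec, this, oneAddGL_mulVec]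
    simp
  set ψ := φ ᵥ* a.1 with hψ
  have hψ00 : ψ 0 = 0 := by
    have : ψ ⬝ᵥ Pi.single 0 1 = φ ⬝ᵥ v := by rw [hψ, ← Matrix.dotProduct_mulVec, hav]
    simpa [horth] using this
  obtain ⟨j, hj⟩ : ∃ j, ψ j ≠ 0 := by
    by_contra hcon
    push Not at hcon
    have h : ψ = 0 := funext hcon
    apply hφ
    have h' : φ ᵥ* a.1 = 0 := hψ ▸ h
    have h'' := congrArg (fun z => z ᵥ* (↑a⁻¹ : Matrix (Fin N) (Fin N) F)) h'
    simpa [Matrix.vecMul_vecMul] using h''
  have hj0 : j ≠ 0 := fun h => hj (h ▸ hψ00)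
  let s : GL (Fin N) F := swapGL 1 j
  set χ := ψ ᵥ* s.1 with hχ
  have hχv : χ = ψ ∘ Equiv.swap 1 j := by
    simp [hχ, s, swapGL, PEquiv.vecMul_toMatrix_toPEquiv]
  have hχ1 : χ 1 ≠ 0 := by rw [hχv]; simpa using hj
  have hχ0 : χ 0 = 0 := by
    rw [hχv, Function.comp_apply, Equiv.swap_apply_of_ne_of_ne (by simp) hj0.symm, hψ00]
  let r : Fin N → F := (χ 1)⁻¹ • (Pi.single 1 1 - χ)
  let b : GL (Fin N) F := oneAddGL (Pi.single 1 1) r (by simp [r, mul_sub, hχ1])
  have hb1 : χ ᵥ* b.1 = Pi.single 1 1 := by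
    rw [oneAddGL_vecMul]
    simp [r, smul_smul, hχ1]
  have hb0 : b.1 *ᵥ Pi.single 0 1 = Pi.single 0 1 := by
    rw [oneAddGL_mulVec]
    simp [r, hχ0]
  have hs0 : s.1 *ᵥ Pi.single 0 1 = Pi.single 0 1 := by
    rw [swapGL_mulVec]
    funext i
    simp only [Function.comp_apply, Pi.single_apply, Equiv.swap_apply_eq_iff]
    rw [Equiv.swap_apply_of_ne_of_ne (by simp) hj0.symm]
  refine ⟨a * s * b, ?_⟩
  rw [Matrix.mul_vecMulVec, Matrix.vecMulVec_mul]
  congr 1
  · simp only [Units.val_mul]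
    rw [← Matrix.mulVec_mulVec, ← Matrix.mulVec_mulVec, hb0, hs0, hav]
  · simp only [Units.val_mul]
    rw [← Matrix.vecMul_vecMul, ← Matrix.vecMul_vecMul, ← hψ, ← hχ, hb1]

/-- The rank one square zero matrices. -/
def NilOne (m : ℕ) (F : Type*) [Field F] : Type _ :=
  {X : Matrix (Fin (m + 2)) (Fin (m + 2)) F // X.rank = 1 ∧ X * X = 0}

theorem vecMulVec_mem (v φ : Fin N → F) (hv : v ≠ 0) (hφ : φ ≠ 0) (h : φ ⬝ᵥ v = 0) :
    (vecMulVec v φ).rank = 1 ∧ vecMulVec v φ * vecMulVec v φ = 0 := by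
  refine ⟨le_antisymm (Matrix.rank_vecMulVec_le _ _) ?_, ?_⟩
  · rw [Nat.one_le_iff_ne_zero]
    intro h0
    have hbot : LinearMap.range (vecMulVec v φ).mulVecLin = ⊥ := Submodule.finrank_eq_zero.1 h0
    obtain ⟨i, hi⟩ := Function.ne_iff.1 hv
    obtain ⟨j, hj⟩ := Function.ne_iff.1 hφ
    have := congrFun (LinearMap.congr_fun (LinearMap.range_eq_bot.1 hbot) (Pi.single j 1)) i
    simp [Matrix.vecMulVec_mulVec, Matrix.vecMulVec_apply] at this hi hj
    tauto
  · rw [vecMulVec_mul_vecMulVec, h]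
    ext i j
    simp [vecMulVec_apply]

theorem card_pairs [Fintype F] {q : ℕ} (hF : Fintype.card F = q) :
    Nat.card (Σ φ : {φ : Fin N → F // φ ≠ 0}, {v : Fin N → F // v ≠ 0 ∧ φ.1 ⬝ᵥ v = 0}) =
      (q ^ (m + 2) - 1) * (q ^ (m + 1) - 1) := by
  classical
  rw [Nat.card_sigma]
  have h : ∀ φ : {φ : Fin N → F // φ ≠ 0},
      Nat.card {v : Fin N → F // v ≠ 0 ∧ φ.1 ⬝ᵥ v = 0} = q ^ (m + 1) - 1 := by
    intro φ
    let L : (Fin N → F) →ₗ[F] F :=
      { toFun := fun v => φ.1 ⬝ᵥ v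
        map_add' := dotProduct_add _
        map_smul' := fun c v => dotProduct_smul c _ v }
    have hsurj : LinearMap.range L = ⊤ := by
      rw [LinearMap.range_eq_top]
      intro x
      obtain ⟨j, hj⟩ := Function.ne_iff.1 φ.2
      exact ⟨Pi.single j (x / φ.1 j), by
        simp at hj
        simp [L, mul_div_cancel₀ _ hj]⟩
    have e := LinearMap.finrank_range_add_finrank_ker L
    rw [hsurj, finrank_top, Module.finrank_self, Module.finrank_fin_fun] at e
    have hc : Nat.card (LinearMap.ker L) = q ^ (m + 1) := by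
      rw [Nat.card_eq_fintype_card, Module.card_eq_pow_finrank (K := F), hF]
      congr 1
      omega
    have : ({v : Fin N → F | v ≠ 0 ∧ φ.1 ⬝ᵥ v = 0}) = (LinearMap.ker L : Set (Fin N → F)) \ {0} := by
      ext v
      simp [L, and_comm]
    show ({v : Fin N → F | v ≠ 0 ∧ φ.1 ⬝ᵥ v = 0}).ncard = _
    rw [this, Set.ncard_diff_singleton_of_mem (by simp), ← Nat.card_coe_set_eq]
    exact congrArg (· - 1) hc
  rw [Finset.sum_congr rfl (fun φ _ => h φ), Finset.sum_const, Finset.card_univ, smul_eq_mul,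
    Fintype.card_subtype_compl, Fintype.card_subtype_eq, Fintype.card_fun, hF, Fintype.card_fin]

theorem card_nilOne [Fintype F] {q : ℕ} (hF : Fintype.card F = q) :
    (q - 1) * Nat.card (NilOne m F) = (q ^ (m + 2) - 1) * (q ^ (m + 1) - 1) := by
  classical
  rw [← card_pairs hF, show q - 1 = Nat.card Fˣ by rw [Nat.card_units, Nat.card_eq_fintype_card, hF], ← Nat.card_prod]
  choose V Φ hV hΦ horth hX using fun X : NilOne m F => exists_pair X.1 X.2.1 X.2.2
  refine Nat.card_congr (Equiv.ofBijective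
    (fun z => ⟨⟨(z.1⁻¹ : Fˣ).val • Φ z.2, smul_ne_zero (Units.ne_zero _) (hΦ _)⟩,
      ⟨z.1.val • V z.2, smul_ne_zero (Units.ne_zero _) (hV _), by
        simp [smul_dotProduct, dotProduct_smul, horth]⟩⟩) ⟨?_, ?_⟩)
  · rintro ⟨a, X⟩ ⟨b, Y⟩ h
    have h1 := congrArg (fun z => z.1.1) h
    have h2 := congrArg (fun z => z.2.1) h
    simp only at h1 h2
    have hXY : X = Y := by
      apply Subtype.ext
      calc X.1 = vecMulVec ((a : F) • V X) (((a⁻¹ : Fˣ) : F) • Φ X) := by
            conv_lhs => rw [hX X]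
            ext i j
            simp [vecMulVec_apply]
            field_simp
        _ = vecMulVec ((b : F) • V Y) (((b⁻¹ : Fˣ) : F) • Φ Y) := by rw [h1, h2]
        _ = Y.1 := by
            conv_rhs => rw [hX Y]
            ext i j
            simp [vecMulVec_apply]
            field_simp
    subst hXY
    have : (a : F) = b := smul_left_injective F (hV X) h2
    rw [Units.ext this]
  · rintro ⟨⟨φ, hφ⟩, v, hv, h⟩
    let X : NilOne m F := ⟨vecMulVec v φ, vecMulVec_mem v φ hv hφ h⟩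
    obtain ⟨j, hj⟩ := Function.ne_iff.1 hφ
    obtain ⟨i, hi⟩ := Function.ne_iff.1 (hV X)
    simp only [Pi.zero_apply] at hj hi
    have e : ∀ i j, v i * φ j = V X i * Φ X j := fun i j => by
      simpa [X, vecMulVec_apply] using congrFun (congrFun (hX X) i) j
    have ha : Φ X j / φ j ≠ 0 := by
      apply div_ne_zero _ hj
      intro h0
      obtain ⟨k, hk⟩ := Function.ne_iff.1 hv
      have := e k j
      simp [h0, hj] at this hk
      exact hk this
    have hv' : ∀ k, v k = Φ X j / φ j * V X k := fun k => by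
      field_simp
      linear_combination e k j
    have hφ' : ∀ l, φ l = (Φ X j / φ j)⁻¹ * Φ X l := fun l => by
      have h' := e i l
      rw [hv' i] at h'
      have : (Φ X j / φ j) * φ l = Φ X l := mul_left_cancel₀ hi (by linear_combination h')
      rw [← this, inv_mul_cancel_left₀ ha]
    refine ⟨(Units.mk0 _ ha, X), Sigma.subtype_ext (Subtype.ext ?_) ?_⟩
    · funext l; simpa using (hφ' l).symm
    · funext k; simpa using (hv' k).symm

theorem card_centralizer [Fintype F] {q : ℕ} (hF : Fintype.card F = q) (t : GL (Fin N) F)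
    (h1 : (t.1 - 1).rank = 1) (h2 : (t.1 - 1) * (t.1 - 1) = 0) :
    Nat.card (Subgroup.centralizer ({t} : Set (GL (Fin N) F))) =
      q ^ (2 * m + 1) * (q - 1) * ∏ i : Fin m, (q ^ m - q ^ (i : ℕ)) := by
  classical
  set C := Subgroup.centralizer ({t} : Set (GL (Fin N) F))
  have hconj : ∀ g : GL (Fin N) F, g.1 * (t.1 - 1) * (↑g⁻¹ : Matrix (Fin N) (Fin N) F) = (g * t * g⁻¹).1 - 1 := by
    intro g
    simp [mul_sub, sub_mul]
  have hmemR : ∀ g : GL (Fin N) F, ((g * t * g⁻¹).1 - 1).rank = 1 ∧ ((g * t * g⁻¹).1 - 1) * ((g * t * g⁻¹).1 - 1) = 0 := by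
    intro g
    rw [← hconj]
    constructor
    · rw [Matrix.rank_mul_eq_left_of_isUnit_det _ _ ((Matrix.isUnit_iff_isUnit_det _).1 (Units.isUnit _)),
        Matrix.rank_mul_eq_right_of_isUnit_det _ _ ((Matrix.isUnit_iff_isUnit_det _).1 (Units.isUnit _)), h1]
    · calc _ = g.1 * ((t.1 - 1) * ((↑g⁻¹ : Matrix (Fin N) (Fin N) F) * g.1) * (t.1 - 1)) * (↑g⁻¹ : Matrix (Fin N) (Fin N) F) := by
            simp only [Matrix.mul_assoc]
        _ = 0 := by rw [Units.inv_mul, Matrix.mul_one, h2]; simp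
  let f : GL (Fin N) F ⧸ C → NilOne m F := Quotient.lift (fun g => ⟨(g * t * g⁻¹).1 - 1, hmemR g⟩) (by
    intro a b hab
    replace hab := Subgroup.mem_centralizer_singleton_iff.1 (QuotientGroup.leftRel_apply.1 hab)
    have : a * t * a⁻¹ = b * t * b⁻¹ := by
      calc a * t * a⁻¹ = a * (t * (a⁻¹ * b)) * b⁻¹ := by group
        _ = a * ((a⁻¹ * b) * t) * b⁻¹ := by rw [hab]
        _ = b * t * b⁻¹ := by group
    apply Subtype.ext
    simp only [this])
  have hf : Function.Bijective f := by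
    constructor
    · intro x y h
      induction x using QuotientGroup.induction_on with | _ a =>
      induction y using QuotientGroup.induction_on with | _ b =>
      have h' : a * t * a⁻¹ = b * t * b⁻¹ := Units.ext (sub_left_injective (congrArg Subtype.val h))
      rw [QuotientGroup.eq, Subgroup.mem_centralizer_singleton_iff]
      calc a⁻¹ * b * t = a⁻¹ * (b * t * b⁻¹) * b := by group
        _ = a⁻¹ * (a * t * a⁻¹) * b := by rw [h']
        _ = t * (a⁻¹ * b) := by group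
    · rintro ⟨X, hX1, hX2⟩
      obtain ⟨v, φ, hv, hφ, ho, rfl⟩ := exists_pair X hX1 hX2
      obtain ⟨v', φ', hv', hφ', ho', ht⟩ := exists_pair _ h1 h2
      obtain ⟨g, hg⟩ := exists_conj v φ hv hφ ho
      obtain ⟨g', hg'⟩ := exists_conj v' φ' hv' hφ' ho'
      refine ⟨QuotientGroup.mk (g * g'⁻¹), Subtype.ext ?_⟩
      show ((g * g'⁻¹) * t * (g * g'⁻¹)⁻¹).1 - 1 = vecMulVec v φ
      rw [← hconj, ht, Units.val_mul, _root_.mul_inv_rev, inv_inv, Units.val_mul]
      calc g.1 * (↑g'⁻¹ : Matrix (Fin N) (Fin N) F) * vecMulVec v' φ' * (g'.1 * (↑g⁻¹ : Matrix (Fin N) (Fin N) F))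
          = g.1 * (↑g'⁻¹ : Matrix (Fin N) (Fin N) F) * (vecMulVec v' φ' * g'.1) * (↑g⁻¹ : Matrix (Fin N) (Fin N) F) := by
            simp only [Matrix.mul_assoc]
        _ = g.1 * ((↑g'⁻¹ : Matrix (Fin N) (Fin N) F) * g'.1) * vecMulVec (Pi.single 0 1) (Pi.single 1 1) *
              (↑g⁻¹ : Matrix (Fin N) (Fin N) F) := by
            rw [← hg']; simp only [Matrix.mul_assoc]
        _ = vecMulVec v φ * (g.1 * (↑g⁻¹ : Matrix (Fin N) (Fin N) F)) := by
            rw [Units.inv_mul, Matrix.mul_one, hg, Matrix.mul_assoc]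
        _ = _ := by rw [Units.mul_inv, Matrix.mul_one]
  have hcard := Subgroup.card_eq_card_quotient_mul_card_subgroup C
  rw [Nat.card_congr (Equiv.ofBijective f hf), Matrix.card_GL_field, hF] at hcard
  have hR := card_nilOne (m := m) hF
  have hq : 2 ≤ q := hF ▸ Fintype.one_lt_card
  have hprod : ∏ i : Fin (m + 2), (q ^ (m + 2) - q ^ (i : ℕ)) =
      (q ^ (m + 2) - 1) * (q ^ (m + 1) - 1) * (q ^ (2 * m + 1) * ∏ i : Fin m, (q ^ m - q ^ (i : ℕ))) := by
    rw [Fin.prod_univ_succ, Fin.prod_univ_succ]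
    simp only [Fin.val_zero, pow_zero, Fin.val_succ, zero_add, pow_one]
    have e1 : q ^ (m + 2) - q = q * (q ^ (m + 1) - 1) := by
      rw [Nat.mul_sub, mul_one, ← pow_succ']
    have e2 : ∀ i : Fin m, q ^ (m + 2) - q ^ ((i : ℕ) + 1 + 1) = q ^ 2 * (q ^ m - q ^ (i : ℕ)) := by
      intro i
      rw [Nat.mul_sub, ← pow_add, ← pow_add]
      ring_nf
    rw [e1, Finset.prod_congr rfl (fun i _ => e2 i), Finset.prod_mul_distrib, Finset.prod_const,
      Finset.card_univ, Fintype.card_fin]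
    ring
  rw [hprod] at hcard
  have hpos : 0 < (q ^ (m + 2) - 1) * (q ^ (m + 1) - 1) :=
    Nat.mul_pos (Nat.sub_pos_of_lt (Nat.one_lt_pow (by omega) hq)) (Nat.sub_pos_of_lt (Nat.one_lt_pow (by omega) hq))
  apply Nat.eq_of_mul_eq_mul_left hpos
  calc (q ^ (m + 2) - 1) * (q ^ (m + 1) - 1) * Nat.card C
      = (q - 1) * (Nat.card (NilOne m F) * Nat.card C) := by rw [← hR]; ring
    _ = _ := by rw [← hcard]; ring

end CfsgLib.Classical.TransvecCent
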