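/-
The unitary group of dimension `m` inside the orthogonal group of dimension `2 m`.
-/
import Cfsg.Agent.Lib.Classical.QuadExtension
import Cfsg.Agent.Lib.KnownSimple.POAut.FormClass

set_option autoImplicit false

namespace CfsgLib.Classical.UnitOrth

open CfsgLib.POAut

variable {K F : Type*} [Field K] [Field F] [Algebra F K]

/-- Sum of the norms. -/
noncomputable def normSum (m : ℕ) (v : Fin m → K) : F := ∑ i, Algebra.norm F (v i)

variable [Fintype K] [Fintype F] {q : ℕ} (hK : Fintype.card K = q ^ 2) (hF : Fintype.card F = q)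

include hK hF

theorem norm_eq (x : K) : algebraMap F K (Algebra.norm F x) = x ^ (q + 1) := by
  have h1 : 2 ≤ q := hF ▸ Fintype.one_lt_card
  rw [FiniteField.algebraMap_norm_eq_pow, Nat.card_eq_fintype_card, Nat.card_eq_fintype_card, hK, hF]
  congr 1
  rw [show q ^ 2 - 1 = (q + 1) * (q - 1) by rw [← Nat.sq_sub_sq, one_pow],
    Nat.mul_div_cancel _ (by omega)]

theorem finrank_two : Module.finrank F K = 2 := by
  refine Nat.pow_right_injective (hF ▸ Fintype.one_lt_card : 2 ≤ q) ?_
  show q ^ Module.finrank F K = q ^ 2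
  rw [← hK, Module.card_eq_pow_finrank (K := F) (V := K), hF]

theorem add_pow_q (x y : K) : (x + y) ^ q = x ^ q + y ^ q := by
  obtain ⟨p, hp⟩ := CharP.exists K
  obtain ⟨b, hprime, hKc⟩ := FiniteField.card K p
  haveI : Fact p.Prime := ⟨hprime⟩
  obtain ⟨n, -, hn⟩ := (Nat.dvd_prime_pow hprime).1 (show q ∣ p ^ (b : ℕ) from hKc ▸ hK ▸ dvd_pow_self q two_ne_zero)
  rw [hn, add_pow_char_pow]

theorem smul_pow_q (a : F) (x : K) : (a • x) ^ q = a • x ^ q := by
  rw [Algebra.smul_def, Algebra.smul_def, mul_pow, ← map_pow, ← hF, FiniteField.pow_card]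

theorem normSum_eq (m : ℕ) (v : Fin m → K) :
    algebraMap F K (normSum m v) = Cfsg.hermForm m K q v v := by
  simp only [normSum, map_sum, norm_eq hK hF, Cfsg.hermForm, pow_succ']

theorem herm_add (m : ℕ) (u v : Fin m → K) : Cfsg.hermForm m K q (u + v) (u + v) =
    Cfsg.hermForm m K q u u + Cfsg.hermForm m K q v v + (Cfsg.hermForm m K q u v + Cfsg.hermForm m K q v u) := by
  simp only [Cfsg.hermForm, Pi.add_apply, add_pow_q hK hF, add_mul, mul_add, Finset.sum_add_distrib]
  ring

theorem polar_normSum (m : ℕ) (u v : Fin m → K) :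
    algebraMap F K (QuadraticMap.polar (normSum (F := F) m) u v) =
      Cfsg.hermForm m K q u v + Cfsg.hermForm m K q v u := by
  rw [QuadraticMap.polar, map_sub, map_sub, normSum_eq hK hF, normSum_eq hK hF, normSum_eq hK hF, herm_add hK hF]
  ring

/-- The norm form. -/
noncomputable def normForm (m : ℕ) : QuadraticForm F (Fin m → K) :=
  QuadraticMap.ofPolar (normSum m)
    (fun a v => by
      simp only [normSum, Pi.smul_apply, Algebra.smul_def, map_mul, Algebra.norm_algebraMap, finrank_two hK hF,
        smul_eq_mul, Finset.mul_sum, Algebra.algebraMap_self, RingHom.id_apply]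
      exact Finset.sum_congr rfl fun i _ => by ring)
    (fun u u' v => (algebraMap F K).injective (by
      rw [map_add, polar_normSum hK hF, polar_normSum hK hF, polar_normSum hK hF]
      simp only [Cfsg.hermForm, Pi.add_apply, add_pow_q hK hF, add_mul, mul_add, Finset.sum_add_distrib]
      ring))
    (fun a u v => (algebraMap F K).injective (by
      rw [smul_eq_mul, map_mul, polar_normSum hK hF, polar_normSum hK hF]
      simp only [Cfsg.hermForm, Pi.smul_apply, smul_pow_q hK hF, mul_add, Finset.mul_sum]
      simp only [Algebra.smul_def]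
      exact congrArg₂ (· + ·) (Finset.sum_congr rfl fun i _ => by ring) (Finset.sum_congr rfl fun i _ => by ring)))

theorem normForm_apply (m : ℕ) (v : Fin m → K) : normForm hK hF m v = normSum m v := rfl

theorem exists_trace_ne : ∃ y : K, y ^ q + y ≠ 0 := by
  classical
  by_contra hc
  push Not at hc
  have hfix : ∀ y : K, y ^ q = -y := fun y => eq_neg_of_add_eq_zero_left (hc y)
  have h11 := hfix 1
  rw [one_pow] at h11
  have hq : 2 ≤ q := hF ▸ Fintype.one_lt_card
  have hroot : Finset.univ ⊆ (Polynomial.X ^ q - Polynomial.X : Polynomial K).roots.toFinset := fun y _ => by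
    rw [Multiset.mem_toFinset, Polynomial.mem_roots (FiniteField.X_pow_card_sub_X_ne_zero K (by omega)),
      Polynomial.IsRoot.def]
    simp only [Polynomial.eval_sub, Polynomial.eval_pow, Polynomial.eval_X, hfix]
    linear_combination (-y) * h11
  have h := (Finset.card_le_card hroot).trans ((Multiset.toFinset_card_le _).trans (Polynomial.card_roots' _))
  rw [Finset.card_univ, hK, FiniteField.X_pow_card_sub_X_natDegree_eq K (by omega)] at h
  nlinarith

theorem polarNondeg_normForm (m : ℕ) : PolarNondeg (normForm (F := F) hK hF m) := fun v hv => funext fun i => by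
  classical
  by_contra hi
  have hq : q ≠ 0 := by have := (hF ▸ Fintype.one_lt_card : 1 < q); omega
  obtain ⟨y, hy⟩ := exists_trace_ne hK hF
  refine hy ?_
  have h' : algebraMap F K (QuadraticMap.polar (normSum (F := F) m) v (Pi.single i (((v i)⁻¹ * y) ^ q))) = 0 := by
    have := congrArg (algebraMap F K) (hv (Pi.single i (((v i)⁻¹ * y) ^ q)))
    rwa [map_zero] at this
  rw [polar_normSum hK hF, Cfsg.hermForm, Cfsg.hermForm, Finset.sum_eq_single i (fun j _ hj => by simp [hj, hq]) (by simp),
    Finset.sum_eq_single i (fun j _ hj => by simp [hj]) (by simp), Pi.single_eq_same, ← pow_mul, ← sq, ← hK,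
    FiniteField.pow_card, ← mul_pow, mul_assoc, mul_inv_cancel_left₀ (show v i ≠ 0 from hi)] at h'
  rw [mul_comm y (v i), inv_mul_cancel_left₀ (show v i ≠ 0 from hi), add_comm] at h'
  exact h'

theorem card_norm_fibre {c : F} (hc : c ≠ 0) : Nat.card {x : K // Algebra.norm F x = c} = q + 1 := by
  classical
  have h1 : 2 ≤ q := hF ▸ Fintype.one_lt_card
  let N : Kˣ →* Fˣ := Units.map (Algebra.norm F)
  have hs : Function.Surjective N := FiniteField.unitsMap_norm_surjective F K
  have hk : Nat.card N.ker = q + 1 := by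
    have h := (Subgroup.card_mul_index N.ker)
    rw [Subgroup.index_ker, MonoidHom.range_eq_top.2 hs, Subgroup.card_top, Nat.card_units, Nat.card_units,
      Nat.card_eq_fintype_card (α := F), Nat.card_eq_fintype_card (α := K), hK, hF,
      show q ^ 2 - 1 = (q + 1) * (q - 1) by rw [← Nat.sq_sub_sq, one_pow]] at h
    exact Nat.eq_of_mul_eq_mul_right (by omega) h
  obtain ⟨x₀, hx₀⟩ := hs (Units.mk0 c hc)
  have hx₀' : Algebra.norm F (x₀ : K) = c := congrArg Units.val hx₀
  rw [← hk]
  refine (Nat.card_congr (Equiv.ofBijective (fun y : N.ker => (⟨(x₀ : K) * ((y : Kˣ) : K), by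
    rw [map_mul, hx₀', show Algebra.norm F (((y : Kˣ) : K)) = 1 from congrArg Units.val (MonoidHom.mem_ker.1 y.2), mul_one]⟩ :
      {x : K // Algebra.norm F x = c})) ⟨fun y z h => ?_, ?_⟩)).symm
  · exact Subtype.ext (Units.ext (mul_left_cancel₀ x₀.ne_zero (congrArg Subtype.val h)))
  · rintro ⟨x, hx⟩
    have hx0 : x ≠ 0 := fun h => hc (by rw [← hx, h, Algebra.norm_zero])
    refine ⟨⟨x₀⁻¹ * Units.mk0 x hx0, ?_⟩, Subtype.ext ?_⟩
    · rw [MonoidHom.mem_ker, map_mul, map_inv, inv_mul_eq_one, hx₀]
      exact Units.ext hx.symm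
    · simp

theorem zeros_normForm : ∀ m : ℕ, (zeros (normForm (F := F) hK hF (m + 1)) : ℤ) =
    (q : ℤ) ^ (2 * m + 1) + (-1) ^ (m + 1) * ((q : ℤ) ^ (m + 1) - (q : ℤ) ^ m) := by
  classical
  have step : ∀ m, (zeros (normForm (F := F) hK hF (m + 1)) : ℤ) =
      ((q : ℤ) + 1) * (q : ℤ) ^ (2 * m) - q * zeros (normForm (F := F) hK hF m) := by
    intro m
    have e : {v : Fin (m + 1) → K // normForm (F := F) hK hF (m + 1) v = 0} ≃
        Σ v : Fin m → K, {x : K // Algebra.norm F x = -(normForm (F := F) hK hF m v)} :=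
      { toFun := fun v => ⟨Fin.tail v.1, v.1 0, by
          have := v.2
          simp only [normForm_apply, normSum, Fin.sum_univ_succ] at this ⊢
          simp only [Fin.tail]
          linear_combination this⟩
        invFun := fun p => ⟨Fin.cons p.2.1 p.1, by
          simp only [normForm_apply, normSum, Fin.sum_univ_succ, Fin.cons_zero, Fin.cons_succ]
          rw [p.2.2, normForm_apply, normSum, neg_add_cancel]⟩
        left_inv := fun v => Subtype.ext (Fin.cons_self_tail v.1)
        right_inv := fun ⟨v, x, hx⟩ => Sigma.subtype_ext (Fin.tail_cons (α := fun _ => K) x v) (Fin.cons_zero (α := fun _ => K) x v) }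
    have hfib : ∀ v, Nat.card {x : K // Algebra.norm F x = -(normForm (F := F) hK hF m v)} =
        if normForm (F := F) hK hF m v = 0 then 1 else q + 1 := fun v => by
      split_ifs with h
      · rw [h, neg_zero]
        simp only [Algebra.norm_eq_zero_iff]
        simp
      · exact card_norm_fibre hK hF (neg_ne_zero.2 h)
    have hz : zeros (normForm (F := F) hK hF m) = (Finset.univ.filter fun v => normForm (F := F) hK hF m v = 0).card := by
      rw [zeros, Nat.card_eq_fintype_card, Fintype.card_subtype]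
    rw [zeros, Nat.card_congr e, Nat.card_sigma, Finset.sum_congr rfl fun v _ => hfib v, Finset.sum_ite, hz]
    have hsum := Finset.card_filter_add_card_filter_not (s := (Finset.univ : Finset (Fin m → K)))
      (fun v => normForm (F := F) hK hF m v = 0)
    rw [Finset.card_univ, Fintype.card_fun, Fintype.card_fin, hK, ← pow_mul] at hsum
    push_cast [Finset.sum_const, smul_eq_mul]
    have hsum' : ((Finset.univ.filter fun v => normForm (F := F) hK hF m v = 0).card : ℤ) +
        (Finset.univ.filter fun v => ¬ normForm (F := F) hK hF m v = 0).card = (q : ℤ) ^ (2 * m) := by exact_mod_cast hsum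
    linear_combination ((q : ℤ) + 1) * hsum'
  intro m
  induction m with
  | zero =>
    have h0 : zeros (normForm (F := F) hK hF 0) = 1 :=
      Nat.card_eq_one_iff_unique.2 ⟨⟨fun a b => Subtype.ext (Subsingleton.elim _ _)⟩, ⟨⟨0, map_zero _⟩⟩⟩
    rw [step, h0]
    push_cast
    ring
  | succ m ih => rw [step, ih]; ring

theorem zeros_similar {V W : Type*} [AddCommGroup V] [Module F V] [AddCommGroup W] [Module F W]
    {Q : QuadraticForm F V} {Q' : QuadraticForm F W} (h : Similar Q Q') : zeros Q = zeros Q' := by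
  obtain ⟨c, e, hc, he⟩ := h
  exact Nat.card_congr (e.toEquiv.subtypeEquiv (p := fun v => Q v = 0) (q := fun w => Q' w = 0)
    fun v => by simp [he, hc])

theorem embeds_of_similar {m : ℕ} {ι : Type} [Fintype ι] [DecidableEq ι] {Q' : QuadraticForm F (ι → F)}
    {f : (ι → F) → F} (hf : ⇑Q' = f) (h : Similar (normForm (F := F) hK hF m) Q') :
    ∃ φ : Cfsg.GU m K q →* Cfsg.isometryGroup F f, Function.Injective φ := by
  classical
  subst hf
  obtain ⟨c, e, hc, he⟩ := h
  let L : Cfsg.GU m K q →* Module.End F (ι → F) :=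
    { toFun := fun A => e.toLinearMap ∘ₗ ((Matrix.mulVecLin ((A : GL (Fin m) K) : Matrix (Fin m) (Fin m) K)).restrictScalars F) ∘ₗ e.symm.toLinearMap
      map_one' := LinearMap.ext fun v => by simp
      map_mul' := fun A A' => LinearMap.ext fun v => by simp [Matrix.mulVec_mulVec] }
  let M : Cfsg.GU m K q →* GL ι F := (Units.map (LinearMap.toMatrixAlgEquiv' (R := F) (n := ι)).toMonoidHom).comp L.toHomUnits
  have hM : ∀ A v, ((M A : GL ι F) : Matrix ι ι F).mulVec v = L A v := fun A v => LinearMap.toMatrix'_mulVec _ _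
  refine ⟨M.codRestrict _ fun A u w => ?_, fun A A' hAA => ?_⟩
  · show Q' (((M A : GL ι F) : Matrix ι ι F).mulVec u) = Q' u
    obtain ⟨v, rfl⟩ := e.surjective u
    rw [hM]
    show Q' (e (((A : GL (Fin m) K) : Matrix (Fin m) (Fin m) K).mulVec (e.symm (e v)))) = _
    rw [LinearEquiv.symm_apply_apply, he, he]
    congr 1
    refine (algebraMap F K).injective ?_
    rw [normForm_apply, normForm_apply, normSum_eq hK hF, normSum_eq hK hF]
    exact A.2 v v
  · refine Subtype.ext (Units.ext (Matrix.ext_of_mulVec_single fun i => e.injective ?_))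
    have h := hM A (e (Pi.single i 1))
    rw [show M A = M A' from congrArg Subtype.val hAA, hM] at h
    simpa [L] using h.symm

theorem type_normForm (n : ℕ) (a b : F) (hab : BinAniso a b) :
    (Odd n → Similar (normForm (F := F) hK hF (n + 1)) (qExt (n + 1) (0 : QuadraticForm F (Fin 0 → F)))) ∧
      (Even n → Similar (normForm (F := F) hK hF (n + 1)) (qExt n (qBin a b))) := by
  have hlt : (q : ℤ) ^ n < (q : ℤ) ^ (n + 1) := by
    have : 2 ≤ q := hF ▸ Fintype.one_lt_card
    exact pow_lt_pow_right₀ (by exact_mod_cast (by omega : 1 < q)) (by omega)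
  have hz := zeros_normForm (F := F) hK hF n
  haveI : Module.Finite F (Fin (n + 1) → K) := Module.Finite.of_finite
  have hdim : Module.finrank F (Fin (n + 1) → K) = 2 * (n + 1) := by
    rw [Module.finrank_pi_fintype, Finset.sum_const, finrank_two hK hF, Finset.card_univ, Fintype.card_fin,
      smul_eq_mul, mul_comm]
  rcases similar_even n _ (polarNondeg_normForm (F := F) hK hF (n + 1)) hdim with h | ⟨a', b', hab', h⟩
  · refine ⟨fun _ => h, fun he => ?_⟩
    rw [zeros_similar hK hF h, zeros_plus, hF, pow_succ (-1 : ℤ), he.neg_one_pow] at hz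
    exfalso; linarith
  · refine ⟨fun ho => ?_, fun _ => h.trans (similar_qExt_qBin n hab' hab)⟩
    rw [zeros_similar hK hF h, zeros_minus hab', hF, pow_succ (-1 : ℤ), ho.neg_one_pow] at hz
    exfalso; linarith

end CfsgLib.Classical.UnitOrth
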