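/-
Semisimple classes of the special unitary group: the centraliser in the unitary group has every determinant.
-/
import Cfsg.Agent.Lib.Classical.UnitaryConjugacy
import Cfsg.Agent.Lib.KnownSimple.SemisimpleClasses.Classes

set_option autoImplicit false

namespace CfsgLib.Classical.SUSemisimple

open Matrix Polynomial CfsgLib.Classical

universe u

variable {K : Type u} [Field K]

/-- The polynomial whose roots are `(σ r)⁻¹` for the roots `r`. -/
noncomputable def dualPoly (σ : K →+* K) (P : K[X]) : K[X] := C (σ (P.coeff 0))⁻¹ * (P.map σ).reverse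

variable (σ : K →+* K)

theorem dualPoly_mul (P Q : K[X]) : dualPoly σ (P * Q) = dualPoly σ P * dualPoly σ Q := by
  simp only [dualPoly, mul_coeff_zero, map_mul, Polynomial.map_mul, reverse_mul_of_domain, mul_inv]
  ring

theorem coeff_dualPoly {P : K[X]} {k : ℕ} (hk : k ≤ P.natDegree) :
    (dualPoly σ P).coeff k = (σ (P.coeff 0))⁻¹ * σ (P.coeff (P.natDegree - k)) := by
  rw [dualPoly, coeff_C_mul, coeff_reverse, natDegree_map, revAt_le hk, coeff_map]

theorem natDegree_dualPoly {P : K[X]} (h0 : P.coeff 0 ≠ 0) : (dualPoly σ P).natDegree = P.natDegree := by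
  have h : (P.map σ).coeff 0 ≠ 0 := by rw [coeff_map]; exact (map_ne_zero σ).2 h0
  rw [dualPoly, natDegree_C_mul (inv_ne_zero ((map_ne_zero σ).2 h0)), reverse_natDegree,
    natTrailingDegree_eq_zero.2 (Or.inr h), Nat.sub_zero, natDegree_map]

theorem monic_dualPoly {P : K[X]} (h0 : P.coeff 0 ≠ 0) : (dualPoly σ P).Monic := by
  rw [Monic, leadingCoeff, natDegree_dualPoly σ h0, coeff_dualPoly σ le_rfl, Nat.sub_self,
    inv_mul_cancel₀ ((map_ne_zero σ).2 h0)]

theorem dualPoly_dualPoly (hσ : ∀ a, σ (σ a) = a) {P : K[X]} (hP : P.Monic) (h0 : P.coeff 0 ≠ 0) :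
    dualPoly σ (dualPoly σ P) = P := by
  have hd := natDegree_dualPoly σ h0
  have h00 : (dualPoly σ P).coeff 0 = (σ (P.coeff 0))⁻¹ := by
    rw [coeff_dualPoly σ (Nat.zero_le _), Nat.sub_zero, hP.coeff_natDegree, map_one, mul_one]
  have h00' : (dualPoly σ P).coeff 0 ≠ 0 := by rw [h00]; exact inv_ne_zero ((map_ne_zero σ).2 h0)
  ext k
  rcases le_or_gt k P.natDegree with hk | hk
  · rw [coeff_dualPoly σ (by rw [hd]; exact hk), h00, hd, coeff_dualPoly σ (Nat.sub_le _ _),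
      Nat.sub_sub_self hk, map_inv₀, inv_inv, hσ, map_mul, map_inv₀, hσ, hσ, ← mul_assoc, mul_inv_cancel₀ h0, one_mul]
  · rw [coeff_eq_zero_of_natDegree_lt hk, coeff_eq_zero_of_natDegree_lt]
    rwa [natDegree_dualPoly σ h00', hd]

section Unitary

variable [Fintype K] {q : ℕ} (hK : Fintype.card K = q ^ 2) (hσ : ∀ a, σ a = a ^ q)
include hK

theorem starQ_pow {d : ℕ} (A : Matrix (Fin d) (Fin d) K) (m : ℕ) :
    GUConj.starQ q (A ^ m) = GUConj.starQ q A ^ m := by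
  induction m with
  | zero => rw [pow_zero, pow_zero, GUConj.starQ_one hK]
  | succ m ih => rw [pow_succ, GUConj.starQ_mul hK, ih, pow_succ']

theorem starQ_reindex {k l n : ℕ} (e : Fin k ⊕ Fin l ≃ Fin n) (B₁ : Matrix (Fin k) (Fin k) K)
    (B₂ : Matrix (Fin l) (Fin l) K) :
    GUConj.starQ q (Matrix.reindexAlgEquiv K K e (Matrix.fromBlocks B₁ 0 0 B₂)) =
      Matrix.reindexAlgEquiv K K e (Matrix.fromBlocks (GUConj.starQ q B₁) 0 0 (GUConj.starQ q B₂)) := by
  have hq : q ≠ 0 := by have := two_le_q hK; omega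
  ext i j
  obtain ⟨i, rfl⟩ := e.surjective i
  obtain ⟨j, rfl⟩ := e.surjective j
  rcases i with i | i <;> rcases j with j | j <;> simp [GUConj.starQ, zero_pow hq]

theorem exists_inv_pow {d m : ℕ} {A : Matrix (Fin d) (Fin d) K} (hm : (m : K) ≠ 0) (hA : A ^ m = 1) :
    IsUnit A ∧ IsUnit (GUConj.starQ q A) ∧ (GUConj.starQ q A)⁻¹ ^ m = 1 := by
  have h0 : m ≠ 0 := fun h => hm (by simp [h])
  have h1 : GUConj.starQ q A ^ m = 1 := by rw [← starQ_pow hK, hA, GUConj.starQ_one hK]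
  exact ⟨IsUnit.of_pow_eq_one hA h0, IsUnit.of_pow_eq_one h1 h0, by rw [Matrix.inv_pow', h1, inv_one]⟩

include hσ

theorem charpoly_star_inv {d : ℕ} {A : Matrix (Fin d) (Fin d) K} (hA : IsUnit (GUConj.starQ q A)) :
    (GUConj.starQ q A)⁻¹.charpoly = dualPoly σ A.charpoly := by
  have e : GUConj.starQ q A = (A.map σ)ᵀ := by ext i j; simp [GUConj.starQ, hσ]
  have hc : (GUConj.starQ q A).charpoly = A.charpoly.map σ := by rw [e, charpoly_transpose, charpoly_map]
  have hdet : (GUConj.starQ q A).det = (-1) ^ d * σ (A.charpoly.coeff 0) := by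
    rw [det_eq_sign_charpoly_coeff, hc, coeff_map, Fintype.card_fin]
  rw [charpoly_inv _ hA, ← reverse_charpoly, hc, dualPoly, Ring.inverse_eq_inv', hdet, Fintype.card_fin, mul_inv, ← inv_pow,
    inv_neg, inv_one, map_mul, map_pow C, map_neg C, map_one C, ← mul_assoc, ← pow_add, ← two_mul,
    pow_mul, neg_one_sq, one_pow, one_mul]

theorem dualPoly_charpoly_gu {n : ℕ} {B : Matrix (Fin n) (Fin n) K} (hB : GUConj.starQ q B * B = 1) :
    dualPoly σ B.charpoly = B.charpoly := by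
  have hu : IsUnit (GUConj.starQ q B) := IsUnit.of_mul_eq_one B hB
  rw [← charpoly_star_inv σ hK hσ hu, Matrix.inv_eq_right_inv hB]

/-- A semisimple matrix with self-dual characteristic polynomial is similar to a unitary one. -/
theorem exists_unitary_conj {d m : ℕ} {A : Matrix (Fin d) (Fin d) K} (hm : (m : K) ≠ 0) (hA : A ^ m = 1)
    (hτ : dualPoly σ A.charpoly = A.charpoly) :
    ∃ (B : Matrix (Fin d) (Fin d) K) (T : GL (Fin d) K), GUConj.starQ q B * B = 1 ∧ B ^ m = 1 ∧ B.charpoly = A.charpoly ∧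
      (T : Matrix (Fin d) (Fin d) K) * A = B * T := by
  obtain ⟨hu, hus, hinv⟩ := exists_inv_pow hK hm hA
  obtain ⟨Au, rfl⟩ := hu
  obtain ⟨P, hP⟩ := CfsgLib.SSClasses.exists_conj_of_charpoly hm hA hinv (by rw [charpoly_star_inv σ hK hσ hus, hτ])
  obtain ⟨B, hB⟩ := (GUConj.exists_conj_mem_gu_iff hK Au).2 ⟨P, hP⟩
  obtain ⟨T, hT⟩ := isConj_iff.1 hB
  refine ⟨(B : GL (Fin d) K), T, (GUConj.mem_gu_iff_starQ hK _).1 B.2, ?_, ?_, ?_⟩
  · have h1 : Au ^ m = 1 := Units.ext (by rw [Units.val_pow_eq_pow_val, hA, Units.val_one])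
    rw [← Units.val_pow_eq_pow_val, ← hT, conj_pow, h1, mul_one, mul_inv_cancel, Units.val_one]
  · rw [← hT, Units.val_mul, Units.val_mul, Matrix.coe_units_inv, Matrix.charpoly_units_conj]
  · rw [← Units.val_mul, ← Units.val_mul, ← hT, inv_mul_cancel_right]

omit hσ in
/-- A polynomial in a unitary matrix twisted by its adjoint is a unitary element of the centraliser. -/
theorem exists_twist {d : ℕ} {B : Matrix (Fin d) (Fin d) K} (hB : GUConj.starQ q B * B = 1) (Q : K[X])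
    (hW : IsUnit (aeval B Q)) :
    ∃ z : Matrix (Fin d) (Fin d) K, GUConj.starQ q z * z = 1 ∧ z * B = B * z ∧
      z.det = (aeval B Q).det / (aeval B Q).det ^ q := by
  obtain ⟨W, hWdef⟩ : ∃ W, W = aeval B Q := ⟨_, rfl⟩
  rw [← hWdef] at hW ⊢
  have hWmem : W ∈ InvolNorm.Gen K B := ⟨Q, hWdef.symm⟩
  have hBW : B * W = W * B := InvolNorm.commute_gen rfl hWmem
  have hB' : B * GUConj.starQ q B = 1 := mul_eq_one_comm.1 hB
  have hsWB : GUConj.starQ q W * B = B * GUConj.starQ q W := by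
    have h1 : GUConj.starQ q W * GUConj.starQ q B = GUConj.starQ q B * GUConj.starQ q W := by
      rw [← GUConj.starQ_mul hK, hBW, GUConj.starQ_mul hK]
    calc GUConj.starQ q W * B = B * (GUConj.starQ q B * GUConj.starQ q W) * B := by rw [← mul_assoc B, hB', one_mul]
      _ = B * GUConj.starQ q W * (GUConj.starQ q B * B) := by rw [← h1]; simp only [mul_assoc]
      _ = B * GUConj.starQ q W := by rw [hB, mul_one]
  have hsWW : GUConj.starQ q W * W = W * GUConj.starQ q W := InvolNorm.commute_gen hsWB hWmem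
  obtain ⟨Wi, hWi⟩ : ∃ Wi, W * Wi = 1 := hW.exists_right_inv
  have hs : GUConj.starQ q Wi * GUConj.starQ q W = 1 := by rw [← GUConj.starQ_mul hK, hWi, GUConj.starQ_one hK]
  have hsi : GUConj.starQ q W * GUConj.starQ q Wi = 1 := mul_eq_one_comm.1 hs
  have hdet : (GUConj.starQ q W).det = W.det ^ q := by
    obtain ⟨σ', hσ', -, -⟩ := exists_qPow hK
    rw [show GUConj.starQ q W = (W.map σ')ᵀ by ext i j; simp [GUConj.starQ, hσ'], det_transpose, ← hσ', RingHom.map_det]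
    rfl
  refine ⟨W * GUConj.starQ q Wi, ?_, ?_, ?_⟩
  · rw [GUConj.starQ_mul hK, GUConj.starQ_starQ hK]
    calc Wi * GUConj.starQ q W * (W * GUConj.starQ q Wi) = Wi * (GUConj.starQ q W * W) * GUConj.starQ q Wi := by
          simp only [mul_assoc]
      _ = Wi * W * (GUConj.starQ q W * GUConj.starQ q Wi) := by rw [hsWW]; simp only [mul_assoc]
      _ = 1 := by rw [mul_eq_one_comm.1 hWi, hsi, one_mul]
  · have h1 : GUConj.starQ q Wi * B = B * GUConj.starQ q Wi := by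
      calc GUConj.starQ q Wi * B = GUConj.starQ q Wi * (B * GUConj.starQ q W) * GUConj.starQ q Wi := by
            rw [mul_assoc, mul_assoc, hsi, mul_one]
        _ = B * GUConj.starQ q Wi := by rw [← hsWB, ← mul_assoc, hs, one_mul]
    rw [mul_assoc, h1, ← mul_assoc, ← hBW, mul_assoc]
  · have h2 := congrArg Matrix.det hsi
    rw [det_mul, hdet, det_one] at h2
    rw [det_mul, eq_inv_of_mul_eq_one_right h2, div_eq_mul_inv]

/-- A self-dual factor carrying every determinant. -/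
theorem exists_factor {P : K[X]} (hP : P.Monic) (h0 : P.coeff 0 ≠ 0) (hPd : 0 < P.natDegree)
    (hτ : dualPoly σ P = P) :
    ∃ (d : ℕ) (A : Matrix (Fin d) (Fin d) K) (m : ℕ), (m : K) ≠ 0 ∧ A ^ m = 1 ∧ A.charpoly ∣ P ∧
      dualPoly σ A.charpoly = A.charpoly ∧ ∀ a : K, a ≠ 0 → ∃ Q : K[X], (aeval A Q).det = a := by
  classical
  have hσσ : ∀ a, σ (σ a) = a := fun a => by rw [hσ, hσ, pow_q_q hK]
  obtain ⟨f, hfm, hf, hfd⟩ := exists_monic_irreducible_factor P
    (fun hu => by have := natDegree_eq_zero_of_isUnit hu; omega)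
  have hf0 : f.coeff 0 ≠ 0 := fun e => h0 (by obtain ⟨R, rfl⟩ := hfd; rw [mul_coeff_zero, e, zero_mul])
  haveI : Fact (Irreducible f) := ⟨hf⟩
  set pb := AdjoinRoot.powerBasis hf.ne_zero with hpb
  haveI : Module.Finite K (AdjoinRoot f) := pb.finite
  haveI : Finite (AdjoinRoot f) := Module.finite_of_finite K
  haveI := Fintype.ofFinite (AdjoinRoot f)
  obtain ⟨C₀, hC₀⟩ : ∃ C₀, C₀ = Algebra.leftMulMatrix pb.basis pb.gen := ⟨_, rfl⟩
  have hC : C₀.charpoly = f := by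
    rw [hC₀, charpoly_leftMulMatrix]
    exact (minpoly.eq_of_irreducible_of_monic hf (by simp [pb]) hfm).symm
  have hgen : pb.gen ≠ 0 := by
    intro e
    have h2 := congrArg (Polynomial.aeval pb.gen) (X_mul_divX_add f).symm
    rw [show aeval pb.gen f = 0 by simp [pb], e, map_add, map_mul, aeval_X, zero_mul, zero_add, aeval_C] at h2
    exact hf0 ((map_eq_zero (algebraMap K (AdjoinRoot f))).1 h2.symm)
  obtain ⟨m, hmdef⟩ : ∃ m, m = Fintype.card (AdjoinRoot f) - 1 := ⟨_, rfl⟩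
  have hCm : C₀ ^ m = 1 := by
    rw [hC₀, ← map_pow, hmdef, FiniteField.pow_card_sub_one_eq_one _ hgen, map_one]
  have hm : (m : K) ≠ 0 := by
    rw [hmdef, Nat.cast_sub Fintype.card_pos, Nat.cast_one, Module.card_eq_pow_finrank (K := K),
      Nat.cast_pow, FiniteField.cast_card_eq_zero, zero_pow (Module.finrank_pos).ne', zero_sub]
    exact neg_ne_zero.2 one_ne_zero
  have hev : ∀ Q : K[X], (aeval C₀ Q).det = Algebra.norm K (AdjoinRoot.mk f Q) := fun Q => by
    rw [Algebra.norm_eq_matrix_det pb.basis, ← AdjoinRoot.aeval_eq, hC₀, aeval_algHom_apply]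
    rfl
  by_cases hcase : dualPoly σ f = f
  · refine ⟨pb.dim, C₀, m, hm, hCm, by rw [hC]; exact hfd, by rw [hC]; exact hcase, fun a ha => ?_⟩
    obtain ⟨k, hk⟩ := FiniteField.norm_surjective K (AdjoinRoot f) a
    obtain ⟨Q, hQ⟩ := AdjoinRoot.mk_surjective k
    exact ⟨Q, by rw [hev, hQ, hk]⟩
  obtain ⟨-, hus, hinv⟩ := exists_inv_pow hK hm hCm
  obtain ⟨C₁, hC₁⟩ : ∃ C₁, C₁ = (GUConj.starQ q C₀)⁻¹ := ⟨_, rfl⟩
  have hC1 : C₁.charpoly = dualPoly σ f := by rw [hC₁, charpoly_star_inv σ hK hσ hus, hC]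
  let e : Fin pb.dim ⊕ Fin pb.dim ≃ Fin (pb.dim + pb.dim) := finSumFinEquiv
  have hcp : (Matrix.reindexAlgEquiv K K e (Matrix.fromBlocks C₀ 0 0 C₁)).charpoly = f * dualPoly σ f := by
    rw [Matrix.reindexAlgEquiv_apply, Matrix.charpoly_reindex, Matrix.charpoly_fromBlocks_zero₁₂, hC, hC1]
  have hnd : ¬ f ∣ dualPoly σ f := fun h => hcase
    (eq_of_monic_of_dvd_of_natDegree_le hfm (monic_dualPoly σ hf0) h (by rw [natDegree_dualPoly σ hf0]))
  refine ⟨_, Matrix.reindexAlgEquiv K K e (Matrix.fromBlocks C₀ 0 0 C₁), m, hm, ?_, ?_, ?_, fun a ha => ?_⟩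
  · rw [← map_pow, Matrix.fromBlocks_diagonal_pow, hCm, hC₁, hinv, Matrix.fromBlocks_one, map_one]
  · rw [hcp]
    refine ((hf.coprime_iff_not_dvd).2 hnd).mul_dvd hfd ?_
    obtain ⟨R, hR⟩ := hfd
    exact ⟨dualPoly σ R, by rw [← dualPoly_mul, ← hR, hτ]⟩
  · rw [hcp, dualPoly_mul, dualPoly_dualPoly σ hσσ hfm hf0, mul_comm]
  · obtain ⟨k, hk⟩ := FiniteField.norm_surjective K (AdjoinRoot f) a
    have ht : AdjoinRoot.mk f (dualPoly σ f) ≠ 0 := fun h => hnd (AdjoinRoot.mk_eq_zero.1 h)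
    obtain ⟨w, hw⟩ := AdjoinRoot.mk_surjective ((k - 1) / AdjoinRoot.mk f (dualPoly σ f))
    refine ⟨1 + dualPoly σ f * w, ?_⟩
    have h1 : aeval C₁ (1 + dualPoly σ f * w) = 1 := by
      rw [map_add, map_one, map_mul, ← hC1, Matrix.aeval_self_charpoly, zero_mul, add_zero]
    have h2 : AdjoinRoot.mk f (1 + dualPoly σ f * w) = k := by
      rw [map_add, map_one, map_mul, hw, mul_div_cancel₀ _ ht, add_sub_cancel]
    have hblk : ∀ Q : K[X], aeval (Matrix.reindexAlgEquiv K K e (Matrix.fromBlocks C₀ 0 0 C₁)) Q =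
        Matrix.reindexAlgEquiv K K e (Matrix.fromBlocks (aeval C₀ Q) 0 0 (aeval C₁ Q)) := fun Q => by
      induction Q using Polynomial.induction_on' with
      | add P Q hP hQ => rw [map_add, map_add, map_add, hP, hQ, ← map_add, Matrix.fromBlocks_add, add_zero]
      | monomial j c =>
        simp only [aeval_monomial, ← Algebra.smul_def]
        rw [← map_pow, ← map_smul, Matrix.fromBlocks_diagonal_pow, Matrix.fromBlocks_smul]
        simp only [smul_zero]
    rw [hblk, Matrix.det_reindexAlgEquiv, Matrix.det_fromBlocks_zero₁₂, hev, h2, hk, h1, det_one, mul_one]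

/-- The centraliser of a semisimple unitary element has every unitary determinant. -/
theorem exists_gu_commute_det {n : ℕ} (hn : 0 < n) {g : GL (Fin n) K} (hg : g ∈ Cfsg.GU n K q) {m : ℕ}
    (hm : (m : K) ≠ 0) (hgm : g ^ m = 1) {a : K} (ha : a ≠ 0) :
    ∃ z ∈ Cfsg.GU n K q, z * g = g * z ∧ (z : Matrix (Fin n) (Fin n) K).det = a / a ^ q := by
  classical
  obtain ⟨G, hG⟩ : ∃ G, G = (g : Matrix (Fin n) (Fin n) K) := ⟨_, rfl⟩
  have hGs : GUConj.starQ q G * G = 1 := hG ▸ (GUConj.mem_gu_iff_starQ hK _).1 hg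
  obtain ⟨P, hPdef⟩ : ∃ P, P = G.charpoly := ⟨_, rfl⟩
  have hP : P.Monic := hPdef ▸ G.charpoly_monic
  have hPd : P.natDegree = n := by rw [hPdef, charpoly_natDegree_eq_dim, Fintype.card_fin]
  have h0 : P.coeff 0 ≠ 0 := hPdef ▸ hG ▸ CfsgLib.SSClasses.coeff_zero_ne_zero g
  have hτ : dualPoly σ P = P := hPdef ▸ dualPoly_charpoly_gu σ hK hσ hGs
  obtain ⟨d, A, m₁, hm₁, hA, ⟨P₂, hdvd⟩, hτ₁, hdet⟩ := exists_factor σ hK hσ hP h0 (by omega) hτ
  obtain ⟨B₁, T, hB₁, hB₁m, hB₁c, hT⟩ := exists_unitary_conj σ hK hσ hm₁ hA hτ₁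
  have hP₂ : P₂.Monic := A.charpoly_monic.of_mul_monic_left (hdvd ▸ hP)
  have hP₂0 : P₂.coeff 0 ≠ 0 := fun e => h0 (by rw [hdvd, mul_coeff_zero, e, mul_zero])
  have hτ₂ : dualPoly σ P₂ = P₂ := by
    refine mul_left_cancel₀ A.charpoly_monic.ne_zero ?_
    conv_lhs => rw [← hτ₁]
    rw [← dualPoly_mul, ← hdvd, hτ, hdvd]
  have hdl : d + P₂.natDegree = n := by
    rw [← hPd, hdvd, A.charpoly_monic.natDegree_mul hP₂, charpoly_natDegree_eq_dim, Fintype.card_fin]
  obtain ⟨A₂, hA₂, hA₂m⟩ := CfsgLib.SSClasses.exists_matrix_charpoly n P₂.natDegree P₂ hP₂ hP₂0 rfl (by omega)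
  obtain ⟨m₂, hm₂def⟩ : ∃ m₂, m₂ = Fintype.card K ^ n.factorial - 1 := ⟨_, rfl⟩
  rw [← hm₂def] at hA₂m
  have hm₂ : (m₂ : K) ≠ 0 := by
    rw [hm₂def, Nat.cast_sub (Nat.one_le_pow _ _ Fintype.card_pos), Nat.cast_one, Nat.cast_pow,
      FiniteField.cast_card_eq_zero, zero_pow n.factorial_ne_zero, zero_sub]
    exact neg_ne_zero.2 one_ne_zero
  obtain ⟨B₂, -, hB₂, hB₂m, hB₂c, -⟩ := exists_unitary_conj σ hK hσ hm₂ hA₂m (by rw [hA₂, hτ₂])
  let e : Fin d ⊕ Fin P₂.natDegree ≃ Fin n := finSumFinEquiv.trans (finCongr hdl)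
  obtain ⟨M, hMdef⟩ : ∃ M, M = Matrix.reindexAlgEquiv K K e (Matrix.fromBlocks B₁ 0 0 B₂) := ⟨_, rfl⟩
  have hMs : GUConj.starQ q M * M = 1 := by
    rw [hMdef, starQ_reindex hK, ← map_mul, Matrix.fromBlocks_multiply]
    simp only [Matrix.mul_zero, Matrix.zero_mul, add_zero, zero_add]
    rw [hB₁, hB₂, Matrix.fromBlocks_one, map_one]
  have hMc : M.charpoly = G.charpoly := by
    rw [hMdef, Matrix.reindexAlgEquiv_apply, Matrix.charpoly_reindex, Matrix.charpoly_fromBlocks_zero₁₂, hB₁c, hB₂c,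
      hA₂, ← hdvd, hPdef]
  have hMm : M ^ (m₁ * m₂) = 1 := by
    rw [hMdef, ← map_pow, Matrix.fromBlocks_diagonal_pow, pow_mul, hB₁m, one_pow, mul_comm m₁, pow_mul, hB₂m,
      one_pow, Matrix.fromBlocks_one, map_one]
  have hGm : G ^ m = 1 := by rw [hG, ← Units.val_pow_eq_pow_val, hgm, Units.val_one]
  obtain ⟨R, hR⟩ := CfsgLib.SSClasses.exists_conj_of_charpoly (m := m * (m₁ * m₂))
    (by rw [Nat.cast_mul, Nat.cast_mul]; exact mul_ne_zero hm (mul_ne_zero hm₁ hm₂))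
    (A := M) (B := G) (by rw [mul_comm, pow_mul, hMm, one_pow]) (by rw [pow_mul, hGm, one_pow]) hMc
  obtain ⟨Mu, rfl⟩ : IsUnit M := IsUnit.of_mul_eq_one_right _ hMs
  obtain ⟨c, hc⟩ := isConj_iff.1 ((GUConj.isConj_iff_gl hK ⟨Mu, (GUConj.mem_gu_iff_starQ hK _).2 hMs⟩ ⟨g, hg⟩).2
    (isConj_iff.2 ⟨R, mul_inv_eq_iff_eq_mul.2 (Units.ext (by rw [Units.val_mul, Units.val_mul, ← hG]; exact hR))⟩))
  obtain ⟨Q, hQ⟩ := hdet a ha
  have hev : (aeval B₁ Q).det = a := by
    have h1 : ∀ Q : K[X], (T : Matrix (Fin d) (Fin d) K) * aeval A Q = aeval B₁ Q * T := fun Q => by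
      induction Q using Polynomial.induction_on' with
      | add P Q hP hQ => rw [map_add, map_add, mul_add, add_mul, hP, hQ]
      | monomial j k =>
        have hj : SemiconjBy (T : Matrix (Fin d) (Fin d) K) (A ^ j) (B₁ ^ j) := (show SemiconjBy (T : Matrix (Fin d) (Fin d) K) A B₁ from hT).pow_right j
        rw [aeval_monomial, aeval_monomial, ← mul_assoc, ← Algebra.commutes, mul_assoc, hj.eq, ← mul_assoc]
    have h2 := congrArg Matrix.det (h1 Q)
    rw [det_mul, det_mul, hQ, mul_comm] at h2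
    exact (mul_right_cancel₀ (Matrix.GeneralLinearGroup.det T).ne_zero h2).symm
  obtain ⟨z₁, hz₁, hz₁B, hz₁d⟩ := exists_twist hK hB₁ Q
    ((Matrix.isUnit_iff_isUnit_det _).2 (by rw [hev]; exact ha.isUnit))
  obtain ⟨Z, hZdef⟩ : ∃ Z, Z = Matrix.reindexAlgEquiv K K e (Matrix.fromBlocks z₁ 0 0 1) := ⟨_, rfl⟩
  have hZs : GUConj.starQ q Z * Z = 1 := by
    rw [hZdef, starQ_reindex hK, ← map_mul, Matrix.fromBlocks_multiply]
    simp only [Matrix.mul_zero, Matrix.zero_mul, add_zero, zero_add]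
    rw [hz₁, GUConj.starQ_one hK, mul_one, Matrix.fromBlocks_one, map_one]
  have hZM : Z * Mu = Mu * Z := by
    rw [hMdef, hZdef, ← map_mul, ← map_mul, Matrix.fromBlocks_multiply, Matrix.fromBlocks_multiply]
    simp only [Matrix.mul_zero, Matrix.zero_mul, add_zero, zero_add, mul_one, one_mul, hz₁B]
  obtain ⟨Zu, rfl⟩ : IsUnit Z := IsUnit.of_mul_eq_one_right _ hZs
  have hc' : (c : GL (Fin n) K) * Mu * (c : GL (Fin n) K)⁻¹ = g := congrArg Subtype.val hc
  refine ⟨(c : GL (Fin n) K) * Zu * (c : GL (Fin n) K)⁻¹,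
    mul_mem (mul_mem c.2 ((GUConj.mem_gu_iff_starQ hK _).2 hZs)) (inv_mem c.2), ?_, ?_⟩
  · have h1 : Zu * Mu = Mu * Zu := Units.ext hZM
    rw [← hc']
    exact congrArg (fun x => (MulAut.conj (c : GL (Fin n) K)) x) h1 |>.trans (map_mul _ _ _) |> fun h => by
      simpa only [map_mul, MulAut.conj_apply] using h
  · rw [Units.val_mul, Units.val_mul, Matrix.det_units_conj, hZdef, Matrix.det_reindexAlgEquiv,
      Matrix.det_fromBlocks_zero₁₂, det_one, mul_one, hz₁d, hev]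

end Unitary

end CfsgLib.Classical.SUSemisimple
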