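/-
Classes of elements of order prime to the characteristic in the special unitary group.
-/
import Cfsg.Agent.Lib.Classical.UnitarySemisimple
import Cfsg.Agent.Lib.Chev.Twist.Words

set_option autoImplicit false

namespace CfsgLib.Classical.SUSemisimple

open Matrix Polynomial CfsgLib.Classical

universe u

variable {K : Type u} [Field K] [Fintype K] {q : ℕ} (hK : Fintype.card K = q ^ 2) (p : ℕ) [Fact p.Prime] [CharP K p]
include hK

theorem su_mem_gu {n : ℕ} (g : ↥(Cfsg.SU n K q)) :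
    Matrix.SpecialLinearGroup.toGL (g : Matrix.SpecialLinearGroup (Fin n) K) ∈ Cfsg.GU n K q := g.2

/-- Semisimple classes of `SU_n` are determined by the characteristic polynomial. -/
theorem su_isConj {n : ℕ} (g h : ↥(Cfsg.SU n K q)) (hg : (orderOf g).Coprime p) (hh : (orderOf h).Coprime p)
    (hc : ((g : Matrix.SpecialLinearGroup (Fin n) K) : Matrix (Fin n) (Fin n) K).charpoly =
      ((h : Matrix.SpecialLinearGroup (Fin n) K) : Matrix (Fin n) (Fin n) K).charpoly) : IsConj g h := by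
  classical
  rcases Nat.eq_zero_or_pos n with hn | hn
  · subst hn
    exact (Subsingleton.elim g h) ▸ IsConj.refl g
  obtain ⟨σ, hσ, -, hne⟩ := exists_qPow hK
  have hσσ : ∀ a, σ (σ a) = a := fun a => by rw [hσ, hσ, pow_q_q hK]
  let f : ↥(Cfsg.SU n K q) →* GL (Fin n) K := Matrix.SpecialLinearGroup.toGL.comp (Cfsg.SU n K q).subtype
  have hord : ∀ x : ↥(Cfsg.SU n K q), (orderOf x).Coprime p → (orderOf (f x)).Coprime p := fun x hx =>
    hx.coprime_dvd_left (orderOf_map_dvd f x)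
  have hGL : IsConj (f g) (f h) := CfsgLib.SSClasses.gl_isConj p _ _ (hord g hg) (hord h hh) hc
  obtain ⟨c, hc'⟩ := isConj_iff.1 ((GUConj.isConj_iff_gl hK ⟨f g, su_mem_gu hK g⟩ ⟨f h, su_mem_gu hK h⟩).2 hGL)
  have hcg : (c : GL (Fin n) K) * f g * (c : GL (Fin n) K)⁻¹ = f h := congrArg Subtype.val hc'
  obtain ⟨e, he⟩ : ∃ e, e = ((c : GL (Fin n) K) : Matrix (Fin n) (Fin n) K).det := ⟨_, rfl⟩
  have hee : σ e * e = 1 := by
    have h1 := congrArg Matrix.det ((GUConj.mem_gu_iff_starQ hK _).1 c.2)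
    rw [det_mul, det_one, show GUConj.starQ q ((c : GL (Fin n) K) : Matrix (Fin n) (Fin n) K) =
      (((c : GL (Fin n) K) : Matrix (Fin n) (Fin n) K).map σ)ᵀ by ext i j; simp [GUConj.starQ, hσ], det_transpose] at h1
    rw [he, RingHom.map_det]
    exact h1
  obtain ⟨a, ha, hat⟩ := InvolNorm.exists_unit_twist σ hσσ (fun M hM _ => by
    obtain ⟨k, hk⟩ : ∃ k, σ k ≠ k := by
      by_contra hcon
      push Not at hcon
      exact hne (RingHom.ext hcon)
    exact ⟨k, fun hmem => hM.ne_top (Ideal.eq_top_of_isUnit_mem _ hmem (sub_ne_zero.2 (Ne.symm hk)).isUnit)⟩)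
    (u := e) (by rw [mul_comm]; exact hee)
  have hord1 : f g ^ orderOf g = 1 := by rw [← map_pow, pow_orderOf_eq_one, map_one]
  obtain ⟨z, hz, hzg, hzd⟩ := exists_gu_commute_det σ hK hσ hn (su_mem_gu hK g)
    (CfsgLib.SSClasses.natCast_ne_zero_of_coprime (F := K) p hg) hord1 (inv_ne_zero ha.ne_zero)
  have hzd' : ((z : GL (Fin n) K) : Matrix (Fin n) (Fin n) K).det = e⁻¹ := by
    rw [hzd, ← hσ, map_inv₀, div_eq_mul_inv, inv_inv]
    have h1 : e * σ a = a := hat
    rw [← eq_inv_mul_iff_mul_eq₀ (fun h0 : e = 0 => by simp [h0] at hee)] at h1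
    rw [h1, mul_comm, mul_assoc, mul_inv_cancel₀ ha.ne_zero, mul_one]
  have hw : (((c : GL (Fin n) K) * z : GL (Fin n) K) : Matrix (Fin n) (Fin n) K).det = 1 := by
    rw [Units.val_mul, det_mul, hzd', ← he, mul_inv_cancel₀ (fun h0 : e = 0 => by simp [h0] at hee)]
  obtain ⟨w, hwdef⟩ : ∃ w : Matrix.SpecialLinearGroup (Fin n) K, w = ⟨_, hw⟩ := ⟨_, rfl⟩
  have hwGL : Matrix.SpecialLinearGroup.toGL w = (c : GL (Fin n) K) * z := Units.ext (by rw [hwdef]; rfl)
  have hwmem : w ∈ Cfsg.SU n K q := by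
    show Matrix.SpecialLinearGroup.toGL w ∈ Cfsg.GU n K q
    rw [hwGL]
    exact mul_mem c.2 hz
  have hfin : f ⟨w, hwmem⟩ * f g * (f ⟨w, hwmem⟩)⁻¹ = f h := by
    show Matrix.SpecialLinearGroup.toGL w * f g * (Matrix.SpecialLinearGroup.toGL w)⁻¹ = f h
    rw [hwGL, _root_.mul_inv_rev, ← hcg]
    calc (c : GL (Fin n) K) * z * f g * (z⁻¹ * (c : GL (Fin n) K)⁻¹)
        = (c : GL (Fin n) K) * (z * f g) * z⁻¹ * (c : GL (Fin n) K)⁻¹ := by simp only [mul_assoc]
      _ = _ := by
        rw [show z * f g = f g * z from hzg]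
        simp only [mul_assoc, mul_inv_cancel_left]
  have hinj : Function.Injective f := fun x y hxy => Subtype.ext (Subtype.ext
    (congrArg (fun u : GL (Fin n) K => (u : Matrix (Fin n) (Fin n) K)) hxy))
  exact isConj_iff.2 ⟨⟨w, hwmem⟩, hinj (by rw [map_mul, map_mul, map_inv]; exact hfin)⟩

/-- Fixed tuples of the twisted reversal. -/
theorem card_twisted_palindrome {σ : K →+* K} (hσ : ∀ a, σ a = a ^ q) {c : K} (hc : c * σ c = 1) : ∀ m : ℕ,
    Nat.card {v : Fin m → K // ∀ i, v i = c * σ (v i.rev)} = q ^ m := by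
  classical
  have hσσ : ∀ a, σ (σ a) = a := fun a => by rw [hσ, hσ, pow_q_q hK]
  intro m
  induction m using Nat.twoStepInduction with
  | zero => simp
  | one =>
    obtain ⟨a, ha, hat⟩ := InvolNorm.exists_unit_twist σ hσσ (fun M hM _ => by
      obtain ⟨k, hk⟩ := GUConj.exists_pow_ne hK
      exact ⟨k, fun hmem => hM.ne_top (Ideal.eq_top_of_isUnit_mem _ hmem
        (sub_ne_zero.2 (by rw [hσ]; exact Ne.symm hk)).isUnit)⟩) hc
    have ha0 : a ≠ 0 := ha.ne_zero
    have hσa : σ a ≠ 0 := (map_ne_zero σ).2 ha0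
    rw [pow_one]
    conv_rhs => rw [← CfsgLib.Chev.card_field_fix (K := K) (two_le_q hK) hK]
    refine Nat.card_congr ⟨fun v => ⟨v.1 0 / a, ?_⟩, fun t => ⟨fun _ => a * t.1, fun i => ?_⟩, fun v => Subtype.ext
      (funext fun i => ?_), fun t => Subtype.ext ?_⟩
    · have h := v.2 0
      rw [Subsingleton.elim (Fin.rev (0 : Fin 1)) 0] at h
      rw [← hσ, map_div₀, div_eq_div_iff hσa ha0]
      conv_rhs => rw [h]
      linear_combination -(σ (v.1 0)) * hat
    · rw [map_mul, ← mul_assoc, hat, hσ, t.2]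
    · show a * (v.1 0 / a) = v.1 i
      rw [Subsingleton.elim i 0, mul_div_cancel₀ _ ha0]
    · show a * t.1 / a = t.1
      rw [mul_div_cancel_left₀ _ ha0]
  | more m ih _ =>
    have e : {v : Fin (m + 2) → K // ∀ i, v i = c * σ (v i.rev)} ≃
        K × {v : Fin m → K // ∀ i, v i = c * σ (v i.rev)} :=
      { toFun := fun v => (v.1 0, ⟨fun i => v.1 i.castSucc.succ, fun i => by
          show v.1 i.castSucc.succ = c * σ (v.1 i.rev.castSucc.succ)
          rw [← show Fin.rev i.castSucc.succ = i.rev.castSucc.succ from by ext; simp; omega]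
          exact v.2 _⟩)
        invFun := fun x => ⟨Fin.cons x.1 (Fin.snoc x.2.1 (c * σ x.1)), fun i => by
          refine Fin.cases ?_ (fun i => ?_) i
          · rw [Fin.rev_zero, show Fin.last (m + 1) = (Fin.last m).succ from rfl, Fin.cons_succ, Fin.snoc_last,
              Fin.cons_zero, map_mul, hσσ, ← mul_assoc, hc, one_mul]
          · refine Fin.lastCases ?_ (fun i => ?_) i
            · rw [Fin.cons_succ, Fin.snoc_last, show Fin.rev (Fin.last m).succ = 0 from by ext; simp, Fin.cons_zero]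
            · rw [show Fin.rev i.castSucc.succ = i.rev.castSucc.succ from by ext; simp; omega, Fin.cons_succ,
                Fin.cons_succ, Fin.snoc_castSucc, Fin.snoc_castSucc, ← x.2.2 i]⟩
        left_inv := fun v => Subtype.ext (funext fun i => by
          show (Fin.cons (v.1 0) (Fin.snoc (fun j : Fin m => v.1 j.castSucc.succ) (c * σ (v.1 0))) : Fin (m + 2) → K) i = v.1 i
          refine Fin.cases ?_ (fun i => ?_) i
          · exact Fin.cons_zero _ _
          · refine Fin.lastCases ?_ (fun i => ?_) i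
            · rw [Fin.cons_succ, Fin.snoc_last, v.2 (Fin.last m).succ,
                show Fin.rev (Fin.last m).succ = 0 from by ext; simp]
            · rw [Fin.cons_succ, Fin.snoc_castSucc])
        right_inv := fun x => Prod.ext (by dsimp only; exact Fin.cons_zero _ _) (Subtype.ext (funext fun i => by
          dsimp only
          simp only [Fin.cons_succ, Fin.snoc_castSucc])) }
    rw [Nat.card_congr e, Nat.card_prod, ih, Nat.card_eq_fintype_card, hK]
    ring

theorem su_card_classes {k : ℕ} :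
    Nat.card {c : ConjClasses ↥(Cfsg.SU (k + 1) K q) //
      ∃ g : ↥(Cfsg.SU (k + 1) K q), ConjClasses.mk g = c ∧ (orderOf g).Coprime p} = q ^ k := by
  classical
  obtain ⟨σ, hσ, -, -⟩ := exists_qPow hK
  obtain ⟨c, hcdef⟩ : ∃ c : K, c = (-1) ^ (k + 1) := ⟨_, rfl⟩
  have hcc : c * σ c = 1 := by rw [hcdef, map_pow, map_neg, map_one, ← mul_pow]; simp
  have hσc : (σ c)⁻¹ = c := by rw [inv_eq_of_mul_eq_one_left hcc]
  let S := {P : K[X] // P.Monic ∧ P.natDegree = k + 1 ∧ P.coeff 0 = c ∧ dualPoly σ P = P}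
  have e1 : Nat.card {C : ConjClasses ↥(Cfsg.SU (k + 1) K q) //
      ∃ g : ↥(Cfsg.SU (k + 1) K q), ConjClasses.mk g = C ∧ (orderOf g).Coprime p} = Nat.card S := by
    refine Nat.card_congr (Equiv.ofBijective
      (fun C => ⟨((C.2.choose : Matrix.SpecialLinearGroup (Fin (k + 1)) K) : Matrix (Fin (k + 1)) (Fin (k + 1)) K).charpoly,
        Matrix.charpoly_monic _, by rw [Matrix.charpoly_natDegree_eq_dim, Fintype.card_fin],
        hcdef.symm ▸ CfsgLib.SSClasses.coeff_zero_sl _,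
        dualPoly_charpoly_gu σ hK hσ ((GUConj.mem_gu_iff_starQ hK _).1 (su_mem_gu hK C.2.choose))⟩)
      ⟨fun C D hCD => Subtype.ext ?_, ?_⟩)
    · have h := congrArg Subtype.val hCD
      rw [← C.2.choose_spec.1, ← D.2.choose_spec.1, ConjClasses.mk_eq_mk_iff_isConj]
      exact su_isConj hK p _ _ C.2.choose_spec.2 D.2.choose_spec.2 h
    · rintro ⟨P, hP, hd, hP0, hτ⟩
      obtain ⟨A, hA, hAm⟩ := CfsgLib.SSClasses.exists_matrix_charpoly (k + 1) (k + 1) P hP
        (by rw [hP0, hcdef]; exact pow_ne_zero _ (neg_ne_zero.2 one_ne_zero)) hd le_rfl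
      have hcop := CfsgLib.SSClasses.pow_sub_one_coprime (F := K) p (Nat.factorial_pos (k + 1))
      obtain ⟨B, T, hB, hBm, hBc, -⟩ := exists_unitary_conj σ hK hσ
        (CfsgLib.SSClasses.natCast_ne_zero_of_coprime (F := K) p hcop) hAm (by rw [hA, hτ])
      have hdet : B.det = 1 := by
        rw [Matrix.det_eq_sign_charpoly_coeff, hBc, hA, hP0, hcdef, Fintype.card_fin, ← mul_pow]; simp
      obtain ⟨Bu, hBu⟩ : ∃ Bu : GL (Fin (k + 1)) K, (Bu : Matrix (Fin (k + 1)) (Fin (k + 1)) K) = B :=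
        ⟨Matrix.SpecialLinearGroup.toGL ⟨B, hdet⟩, rfl⟩
      have hmem : (⟨B, hdet⟩ : Matrix.SpecialLinearGroup (Fin (k + 1)) K) ∈ Cfsg.SU (k + 1) K q := by
        show Matrix.SpecialLinearGroup.toGL ⟨B, hdet⟩ ∈ Cfsg.GU (k + 1) K q
        exact (GUConj.mem_gu_iff_starQ hK _).2 hB
      have hg : (orderOf (⟨_, hmem⟩ : ↥(Cfsg.SU (k + 1) K q))).Coprime p :=
        hcop.coprime_dvd_left (orderOf_dvd_of_pow_eq_one (Subtype.ext (Subtype.ext (by
          rw [SubmonoidClass.coe_pow, Matrix.SpecialLinearGroup.coe_pow]; exact hBm))))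
      refine ⟨⟨ConjClasses.mk ⟨_, hmem⟩, _, rfl, hg⟩, Subtype.ext ?_⟩
      have hex : ∃ g' : ↥(Cfsg.SU (k + 1) K q), ConjClasses.mk g' = ConjClasses.mk ⟨_, hmem⟩ ∧ (orderOf g').Coprime p :=
        ⟨_, rfl, hg⟩
      obtain ⟨u, hu⟩ := isConj_iff.1 (ConjClasses.mk_eq_mk_iff_isConj.1 hex.choose_spec.1)
      show ((hex.choose : Matrix.SpecialLinearGroup (Fin (k + 1)) K) : Matrix (Fin (k + 1)) (Fin (k + 1)) K).charpoly = P
      have h2 := congrArg (fun x : ↥(Cfsg.SU (k + 1) K q) =>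
        ((Matrix.SpecialLinearGroup.toGL (x : Matrix.SpecialLinearGroup (Fin (k + 1)) K) : GL (Fin (k + 1)) K) :
          Matrix (Fin (k + 1)) (Fin (k + 1)) K).charpoly) hu
      simp only [Subgroup.coe_mul, Subgroup.coe_inv, map_mul, map_inv, Units.val_mul, Matrix.coe_units_inv] at h2
      rw [Matrix.charpoly_units_conj] at h2
      exact h2.trans (hBc.trans hA)
  rw [e1, ← card_twisted_palindrome hK hσ hcc k]
  have hkey : ∀ P : K[X], P.natDegree = k + 1 → P.coeff 0 = c → ∀ j ≤ k + 1,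
      (dualPoly σ P).coeff j = c * σ (P.coeff (k + 1 - j)) := fun P hd h0 j hj => by
    rw [coeff_dualPoly σ (by omega), hd, h0, hσc]
  refine Nat.card_congr (Equiv.ofBijective (fun P => ⟨fun i => P.1.coeff (i + 1), fun i => ?_⟩) ⟨?_, ?_⟩)
  · obtain ⟨P, hP, hd, h0, hτ⟩ := P
    show P.coeff (i + 1) = _
    conv_lhs => rw [← hτ]
    rw [hkey P hd h0 _ (by omega)]
    congr 3
    simp only [Fin.val_rev]
    omega
  · rintro ⟨P, hP, hd, h0, hτ⟩ ⟨P', hP', hd', h0', hτ'⟩ h
    refine Subtype.ext (Polynomial.ext fun j => ?_)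
    show P.coeff j = P'.coeff j
    have h' := congrArg Subtype.val h
    rcases j with _ | j
    · rw [h0, h0']
    rcases lt_trichotomy j k with hj | hj | hj
    · exact congrFun h' ⟨j, hj⟩
    · subst hj
      exact (hd ▸ hP.coeff_natDegree).trans (hd' ▸ hP'.coeff_natDegree).symm
    · rw [coeff_eq_zero_of_natDegree_lt (p := P) (by omega), coeff_eq_zero_of_natDegree_lt (p := P') (by omega)]
  · rintro ⟨v, hv⟩
    obtain ⟨P, hPdef⟩ : ∃ P : K[X], P = X ^ (k + 1) + (C c + ∑ i : Fin k, C (v i) * X ^ ((i : ℕ) + 1)) := ⟨_, rfl⟩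
    have hlow : (C c + ∑ i : Fin k, C (v i) * X ^ ((i : ℕ) + 1)).degree < ((k + 1 : ℕ) : WithBot ℕ) := by
      refine (degree_lt_iff_coeff_zero _ _).2 fun j hj => ?_
      rw [coeff_add, coeff_C, if_neg (by omega), zero_add, finsetSum_coeff]
      refine Finset.sum_eq_zero fun i _ => ?_
      rw [coeff_C_mul_X_pow, if_neg (by omega)]
    have hmon : P.Monic := hPdef ▸ monic_X_pow_add hlow
    have hd : P.natDegree = k + 1 := by
      rw [hPdef]
      refine natDegree_eq_of_degree_eq_some ?_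
      rw [degree_add_eq_left_of_degree_lt (by rw [degree_X_pow]; exact hlow), degree_X_pow]
    have hcoef : ∀ i : Fin k, P.coeff ((i : ℕ) + 1) = v i := fun i => by
      rw [hPdef, coeff_add, coeff_X_pow, if_neg (by omega), zero_add, coeff_add, coeff_C, if_neg (by omega), zero_add,
        finsetSum_coeff, Finset.sum_eq_single i]
      · rw [coeff_C_mul_X_pow, if_pos rfl]
      · intro b _ hb
        rw [coeff_C_mul_X_pow, if_neg (fun h => hb (Fin.ext (by omega)))]
      · simp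
    have h0 : P.coeff 0 = c := by
      rw [hPdef, coeff_add, coeff_X_pow, if_neg (by omega), zero_add, coeff_add, coeff_C, if_pos rfl, finsetSum_coeff,
        Finset.sum_eq_zero (fun i _ => by rw [coeff_C_mul_X_pow, if_neg (by omega)]), add_zero]
    have hτ : dualPoly σ P = P := by
      refine Polynomial.ext fun j => ?_
      rcases le_or_gt j (k + 1) with hj | hj
      · rw [hkey P hd h0 j hj]
        rcases j with _ | j
        · rw [Nat.sub_zero, ← hd, hmon.coeff_natDegree, map_one, mul_one, h0]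
        rcases Nat.lt_or_ge j k with hjk | hjk
        · rw [show k + 1 - (j + 1) = ((Fin.rev (⟨j, hjk⟩ : Fin k)) : ℕ) + 1 by simp [Fin.val_rev]; omega, hcoef,
            ← hv ⟨j, hjk⟩, ← hcoef]
        · obtain rfl : j = k := by omega
          rw [Nat.sub_self, h0, ← hd, hmon.coeff_natDegree, hcc]
      · rw [coeff_eq_zero_of_natDegree_lt (p := P) (by omega), coeff_eq_zero_of_natDegree_lt]
        rw [natDegree_dualPoly σ (by rw [h0]; exact left_ne_zero_of_mul_eq_one hcc)]
        omega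
    exact ⟨⟨P, hmon, hd, h0, hτ⟩, Subtype.ext (funext fun i => hcoef i)⟩

end CfsgLib.Classical.SUSemisimple
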